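import Mathlib

set_option autoImplicit false

namespace Cfsg.Agent.Helper65

/-- In a nilpotent group, two elements of coprime orders commute. -/
theorem commute_of_coprime_orderOf (G : Type*) [Group G] [Group.IsNilpotent G] :
    ∀ x y : G, (orderOf x).Coprime (orderOf y) → Commute x y := by
  refine Group.nilpotent_center_quotient_ind
    (P := fun G _ _ => ∀ x y : G, (orderOf x).Coprime (orderOf y) → Commute x y) G ?_ ?_
  · intro G _ _ x y _; exact Subsingleton.elim _ _
  · intro G _ _ ih x y hxy
    let π := QuotientGroup.mk' (Subgroup.center G)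
    have hco : (orderOf (π x)).Coprime (orderOf (π y)) :=
      Nat.Coprime.coprime_dvd_left (orderOf_map_dvd π x)
        (Nat.Coprime.coprime_dvd_right (orderOf_map_dvd π y) hxy)
    have hcomm := ih (π x) (π y) hco
    -- z = x * y * x⁻¹ * y⁻¹ is central
    set z := x * y * x⁻¹ * y⁻¹ with hz
    have hzc : z ∈ Subgroup.center G := by
      rw [← QuotientGroup.eq_one_iff, hz]
      have h1 : ((x * y * x⁻¹ * y⁻¹ : G) : G ⧸ Subgroup.center G) = π x * π y * (π x)⁻¹ * (π y)⁻¹ := by
        simp [π]
      rw [h1, hcomm.eq]; group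
    have hzcomm : ∀ g : G, g * z = z * g := fun g => Subgroup.mem_center_iff.mp hzc g
    -- x * y * x⁻¹ = z * y
    have h1 : x * y * x⁻¹ = z * y := by rw [hz]; group
    have h2 : y * x⁻¹ * y⁻¹ = x⁻¹ * z := by rw [hz]; group
    -- z ^ orderOf y = 1
    have hzy : z ^ orderOf y = 1 := by
      have h3 : (x * y * x⁻¹) ^ orderOf y = 1 := by
        rw [conj_pow, pow_orderOf_eq_one]; group
      rw [h1, (show Commute z y from (hzcomm y).symm).mul_pow, pow_orderOf_eq_one, mul_one] at h3
      exact h3
    have hzx : z ^ orderOf x = 1 := by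
      have h3 : (y * x⁻¹ * y⁻¹) ^ orderOf x = 1 := by
        rw [conj_pow, inv_pow, pow_orderOf_eq_one]; group
      rw [h2, (show Commute x⁻¹ z from (hzcomm x⁻¹)).mul_pow, inv_pow, pow_orderOf_eq_one, inv_one,
        one_mul] at h3
      exact h3
    have hz1 : z = 1 := by
      have h4 : orderOf z ∣ Nat.gcd (orderOf x) (orderOf y) :=
        Nat.dvd_gcd (orderOf_dvd_of_pow_eq_one hzx) (orderOf_dvd_of_pow_eq_one hzy)
      rw [hxy.gcd_eq_one, Nat.dvd_one] at h4
      exact orderOf_eq_one_iff.mp h4
    have : x * y = y * x := by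
      have h5 : x * y * x⁻¹ * y⁻¹ = 1 := hz1
      calc x * y = (x * y * x⁻¹ * y⁻¹) * (y * x) := by group
        _ = y * x := by rw [h5, one_mul]
    exact this

/-- In a finite nilpotent group, the order of every element divides the largest element order. -/
theorem orderOf_dvd_of_max {G : Type*} [Group G] [Finite G] [Group.IsNilpotent G] (a : G)
    (hmax : ∀ x : G, orderOf x ≤ orderOf a) (x : G) : orderOf x ∣ orderOf a := by
  have hapos : 0 < orderOf a := orderOf_pos a
  have hxpos : 0 < orderOf x := orderOf_pos x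
  rw [← Nat.factorization_prime_le_iff_dvd hxpos.ne' hapos.ne']
  intro q hq
  by_contra hlt
  push Not at hlt
  set i := (orderOf a).factorization q with hi
  set j := (orderOf x).factorization q with hj
  -- x' of order q^j, a' of order (orderOf a)/q^i
  have hqj : q ^ j ∣ orderOf x := Nat.ordProj_dvd _ _
  have hqi : q ^ i ∣ orderOf a := Nat.ordProj_dvd _ _
  set x' := x ^ (orderOf x / q ^ j) with hx'
  set a' := a ^ (q ^ i) with ha'
  have hx'ord : orderOf x' = q ^ j := by
    rw [hx', orderOf_pow, Nat.gcd_eq_right (Nat.div_dvd_of_dvd hqj)]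
    exact Nat.div_div_self hqj hxpos.ne'
  have ha'ord : orderOf a' = orderOf a / q ^ i := by
    rw [ha', orderOf_pow, Nat.gcd_eq_right hqi]
  have hcop : (orderOf a').Coprime (orderOf x') := by
    rw [ha'ord, hx'ord]
    apply Nat.Coprime.pow_right
    exact (Nat.coprime_ordCompl hq hapos.ne').symm
  have hcomm : Commute a' x' := commute_of_coprime_orderOf G a' x' hcop
  have hord := hcomm.orderOf_mul_eq_mul_orderOf_of_coprime hcop
  have hle := hmax (a' * x')
  rw [hord, ha'ord, hx'ord] at hle
  have h1 : orderOf a = orderOf a / q ^ i * q ^ i := (Nat.div_mul_cancel hqi).symm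
  have h2 : q ^ i < q ^ j := Nat.pow_lt_pow_right hq.one_lt hlt
  have h3 : 0 < orderOf a / q ^ i := Nat.div_pos (Nat.le_of_dvd hapos hqi) (pow_pos hq.pos i)
  have h4 : orderOf a / q ^ i * q ^ i < orderOf a / q ^ i * q ^ j :=
    Nat.mul_lt_mul_of_pos_left h2 h3
  omega

end Cfsg.Agent.Helper65
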