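import Mathlib
import Cfsg.Agent.Helper65.Nilpotent

set_option autoImplicit false

namespace Cfsg.Agent.Helper65

open scoped Pointwise

variable {G : Type*} [Group G]

/-- A cover: a finite set of proper subgroups whose union is the whole group. -/
def IsCover (𝓐 : Finset (Subgroup G)) : Prop :=
  (∀ A ∈ 𝓐, A ≠ ⊤) ∧ (∀ g : G, ∃ A ∈ 𝓐, g ∈ A)

/-- A minimal cover: a cover of least cardinality. -/
def IsMinCover (𝓐 : Finset (Subgroup G)) : Prop :=
  IsCover 𝓐 ∧ ∀ 𝓑 : Finset (Subgroup G), IsCover 𝓑 → 𝓐.card ≤ 𝓑.card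

/-- In a minimal cover two distinct members generate the whole group: a subgroup containing two
distinct members is everything. -/
theorem IsMinCover.eq_top_of_le {𝓐 : Finset (Subgroup G)} (h : IsMinCover 𝓐) {A B M : Subgroup G}
    (hA : A ∈ 𝓐) (hB : B ∈ 𝓐) (hAB : A ≠ B) (hAM : A ≤ M) (hBM : B ≤ M) : M = ⊤ := by
  classical
  by_contra hM
  let 𝓑 : Finset (Subgroup G) := insert M ((𝓐.erase A).erase B)
  have hcov : IsCover 𝓑 := by
    refine ⟨?_, ?_⟩
    · intro C hC
      rcases Finset.mem_insert.mp hC with rfl | hC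
      · exact hM
      · exact h.1.1 C (Finset.mem_of_mem_erase (Finset.mem_of_mem_erase hC))
    · intro g
      obtain ⟨C, hC, hgC⟩ := h.1.2 g
      by_cases hCA : C = A
      · exact ⟨M, Finset.mem_insert_self _ _, hAM (hCA ▸ hgC)⟩
      by_cases hCB : C = B
      · exact ⟨M, Finset.mem_insert_self _ _, hBM (hCB ▸ hgC)⟩
      · refine ⟨C, Finset.mem_insert_of_mem ?_, hgC⟩
        exact Finset.mem_erase.mpr ⟨hCB, Finset.mem_erase.mpr ⟨hCA, hC⟩⟩
  have hcard : 𝓑.card < 𝓐.card := by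
    have h1 : 𝓑.card ≤ ((𝓐.erase A).erase B).card + 1 := Finset.card_insert_le _ _
    have hB' : B ∈ 𝓐.erase A := Finset.mem_erase.mpr ⟨Ne.symm hAB, hB⟩
    have h2 : ((𝓐.erase A).erase B).card = (𝓐.erase A).card - 1 := Finset.card_erase_of_mem hB'
    have h3 : (𝓐.erase A).card = 𝓐.card - 1 := Finset.card_erase_of_mem hA
    have h4 : 0 < (𝓐.erase A).card := Finset.card_pos.mpr ⟨B, hB'⟩
    have h5 : 0 < 𝓐.card := Finset.card_pos.mpr ⟨A, hA⟩
    omega
  exact absurd (h.2 𝓑 hcov) (not_le.mpr hcard)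

theorem IsMinCover.eq_of_le {𝓐 : Finset (Subgroup G)} (h : IsMinCover 𝓐) {A B M : Subgroup G}
    (hA : A ∈ 𝓐) (hB : B ∈ 𝓐) (hAM : A ≤ M) (hBM : B ≤ M) (hM : M ≠ ⊤) : A = B := by
  by_contra hAB
  exact hM (h.eq_top_of_le hA hB hAB hAM hBM)

/-- Decomposition of an element of finite order into commuting `p`- and `p'`-parts, both powers
of the element. -/
theorem exists_pow_decomp (g : G) (hg : 0 < orderOf g) (p : ℕ) [hp : Fact p.Prime] :
    ∃ k l : ℕ, g ^ k * g ^ l = g ∧ (∃ j : ℕ, orderOf (g ^ k) = p ^ j) ∧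
      (orderOf (g ^ l)).Coprime p := by
  set n := orderOf g with hn
  set a := n.factorization p with ha
  set m := n / p ^ a with hm
  have hpa : p ^ a ∣ n := Nat.ordProj_dvd n p
  have hnm : n = p ^ a * m := (Nat.mul_div_cancel' hpa).symm
  have hcop : Nat.Coprime (p ^ a) m := by
    apply Nat.Coprime.pow_left
    exact Nat.coprime_ordCompl hp.out hg.ne'
  -- CRT
  obtain ⟨k, hk1, hk2⟩ := Nat.chineseRemainder hcop 1 0
  obtain ⟨l, hl1, hl2⟩ := Nat.chineseRemainder hcop 0 1
  have hmk : m ∣ k := (Nat.modEq_zero_iff_dvd).mp hk2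
  have hpl : p ^ a ∣ l := (Nat.modEq_zero_iff_dvd).mp hl1
  refine ⟨k, l, ?_, ?_, ?_⟩
  · rw [← pow_add]
    conv_rhs => rw [← pow_one g]
    rw [pow_eq_pow_iff_modEq, ← hn, hnm]
    rw [← Nat.modEq_and_modEq_iff_modEq_mul hcop]
    constructor
    · have := hk1.add hl1
      simpa using this
    · have := hk2.add hl2
      simpa using this
  · have h1 : (g ^ k) ^ (p ^ a) = 1 := by
      rw [← pow_mul]
      apply orderOf_dvd_iff_pow_eq_one.mp
      rw [← hn, hnm, mul_comm]
      exact Nat.mul_dvd_mul_right hmk _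
    obtain ⟨j, -, hj⟩ := (Nat.dvd_prime_pow hp.out).mp (orderOf_dvd_of_pow_eq_one h1)
    exact ⟨j, hj⟩
  · have h1 : (g ^ l) ^ m = 1 := by
      rw [← pow_mul]
      apply orderOf_dvd_iff_pow_eq_one.mp
      rw [← hn, hnm]
      exact Nat.mul_dvd_mul_right hpl _
    have h2 : orderOf (g ^ l) ∣ m := orderOf_dvd_of_pow_eq_one h1
    have h3 : Nat.Coprime m p := by
      rw [Nat.coprime_comm]
      exact Nat.coprime_ordCompl hp.out hg.ne'
    exact Nat.Coprime.coprime_dvd_left h2 h3

section SylowFacts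

variable [Finite G] {p : ℕ} [hp : Fact p.Prime]

theorem mem_smul_sylow_iff (P : Sylow p G) (g u : G) :
    u ∈ ((g • P : Sylow p G) : Subgroup G) ↔ g⁻¹ * u * g ∈ (P : Subgroup G) := by
  rw [Sylow.coe_subgroup_smul, Subgroup.mem_pointwise_smul_iff_inv_smul_mem]
  simp [MulAut.smul_def]

/-- If a Sylow `p`-subgroup is abelian then any two elements of a `p`-subgroup commute. -/
theorem commute_of_isPGroup (P : Sylow p G) (hab : IsMulCommutative ↥(P : Subgroup G))
    (H : Subgroup G) (hH : IsPGroup p ↥H) {u v : G} (hu : u ∈ H) (hv : v ∈ H) : Commute u v := by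
  obtain ⟨R, hR⟩ := hH.exists_le_sylow
  obtain ⟨g, hg⟩ := MulAction.exists_smul_eq G P R
  have hu' : g⁻¹ * u * g ∈ (P : Subgroup G) := by
    rw [← mem_smul_sylow_iff, hg]; exact hR hu
  have hv' : g⁻¹ * v * g ∈ (P : Subgroup G) := by
    rw [← mem_smul_sylow_iff, hg]; exact hR hv
  have h1 : (g⁻¹ * u * g) * (g⁻¹ * v * g) = (g⁻¹ * v * g) * (g⁻¹ * u * g) :=
    setLike_mul_comm hu' hv'
  have h2 : g⁻¹ * (u * v) * g = g⁻¹ * (v * u) * g := by
    calc g⁻¹ * (u * v) * g = (g⁻¹ * u * g) * (g⁻¹ * v * g) := by group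
      _ = (g⁻¹ * v * g) * (g⁻¹ * u * g) := h1
      _ = g⁻¹ * (v * u) * g := by group
  have h3 : u * v = v * u := by
    have := congrArg (fun w => g * w * g⁻¹) h2
    simpa [mul_assoc] using this
  exact h3

/-- An element of `p`-power order normalizing a Sylow `p`-subgroup lies in it. -/
theorem mem_sylow_of_mem_normalizer (P : Sylow p G) (u : G) (hu : ∃ j : ℕ, orderOf u = p ^ j)
    (hn : u ∈ Subgroup.normalizer ((P : Subgroup G) : Set G)) : u ∈ (P : Subgroup G) := by
  obtain ⟨j, hj⟩ := hu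
  have hz : IsPGroup p ↥(Subgroup.zpowers u) := IsPGroup.of_card (n := j) (by rw [Nat.card_zpowers, hj])
  have h1 := IsPGroup.to_sup_of_normal_right' hz P.isPGroup' (Subgroup.zpowers_le.mpr hn)
  have h2 := P.is_maximal' h1 le_sup_right
  rw [← h2]
  exact (le_sup_left : Subgroup.zpowers u ≤ _) (Subgroup.mem_zpowers u)

/-- In a nilpotent subgroup `A` of a finite group the elements of `p`-power order lie in a
common `p`-subgroup. -/
theorem exists_pSubgroup_of_nilpotent (A : Subgroup G) (hA : Group.IsNilpotent ↥A) :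
    ∃ H : Subgroup G, IsPGroup p ↥H ∧ ∀ x ∈ A, (∃ j : ℕ, orderOf x = p ^ j) → x ∈ H := by
  obtain ⟨Q⟩ : Nonempty (Sylow p ↥A) := inferInstance
  refine ⟨(Q : Subgroup ↥A).map A.subtype, Q.isPGroup'.map _, ?_⟩
  rintro x hx ⟨j, hj⟩
  have hQn : (Q : Subgroup ↥A).Normal := inferInstance
  have hmem : (⟨x, hx⟩ : ↥A) ∈ (Q : Subgroup ↥A) := by
    apply mem_sylow_of_mem_normalizer Q ⟨x, hx⟩ ⟨j, by rw [Subgroup.orderOf_mk]; exact hj⟩
    rw [Subgroup.normalizer_eq_top_iff.mpr hQn]
    trivial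
  exact ⟨⟨x, hx⟩, hmem, rfl⟩

/-- If a Sylow `p`-subgroup of `G` is abelian and `A` is a nilpotent subgroup, every element of `A`
commutes with every element of `p`-power order of `A`. -/
theorem commute_of_mem_nilpotent (P : Sylow p G) (hab : IsMulCommutative ↥(P : Subgroup G))
    (A : Subgroup G) (hA : Group.IsNilpotent ↥A) {x a : G} (hx : x ∈ A)
    (hxp : ∃ j : ℕ, orderOf x = p ^ j) (ha : a ∈ A) : Commute a x := by
  obtain ⟨H, hH, hHmem⟩ := exists_pSubgroup_of_nilpotent (p := p) A hA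
  obtain ⟨k, l, hkl, hk, hl⟩ := exists_pow_decomp a (orderOf_pos a) p
  have hxH : x ∈ H := hHmem x hx hxp
  have hakH : a ^ k ∈ H := hHmem _ (A.pow_mem ha k) hk
  have h1 : Commute (a ^ k) x := commute_of_isPGroup P hab H hH hakH hxH
  have h2 : Commute (a ^ l) x := by
    have hcop : (orderOf (⟨a ^ l, A.pow_mem ha l⟩ : ↥A)).Coprime (orderOf (⟨x, hx⟩ : ↥A)) := by
      rw [Subgroup.orderOf_mk, Subgroup.orderOf_mk]
      obtain ⟨j, hj⟩ := hxp
      rw [hj]
      exact Nat.Coprime.pow_right j hl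
    have := commute_of_coprime_orderOf ↥A _ _ hcop
    have h3 := congrArg Subtype.val this.eq
    exact h3
  rw [← hkl]
  exact h1.mul_left h2

end SylowFacts

section CoverSylow

variable [Finite G] {p : ℕ} [hp : Fact p.Prime] {𝓐 : Finset (Subgroup G)}

/-- Two members of a nilpotent minimal cover of a centerless group sharing a nontrivial
`p`-element (for an abelian Sylow `p`-subgroup) are equal. -/
theorem IsMinCover.eq_of_mem_of_mem (h : IsMinCover 𝓐) (hnil : ∀ A ∈ 𝓐, Group.IsNilpotent ↥A)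
    (hZ : Subgroup.center G = ⊥) (P : Sylow p G) (hab : IsMulCommutative ↥(P : Subgroup G))
    {A B : Subgroup G} (hA : A ∈ 𝓐) (hB : B ∈ 𝓐) {x : G} (hx1 : x ≠ 1)
    (hxp : ∃ j : ℕ, orderOf x = p ^ j) (hxA : x ∈ A) (hxB : x ∈ B) : A = B := by
  apply h.eq_of_le hA hB (M := Subgroup.centralizer {x})
  · intro a ha
    rw [Subgroup.mem_centralizer_iff]
    intro y hy
    rw [Set.mem_singleton_iff] at hy
    subst hy
    exact (commute_of_mem_nilpotent P hab A (hnil A hA) hxA hxp ha).eq.symm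
  · intro a ha
    rw [Subgroup.mem_centralizer_iff]
    intro y hy
    rw [Set.mem_singleton_iff] at hy
    subst hy
    exact (commute_of_mem_nilpotent P hab B (hnil B hB) hxB hxp ha).eq.symm
  · intro htop
    rw [Subgroup.centralizer_eq_top_iff_subset] at htop
    have : x ∈ Subgroup.center G := htop (Set.mem_singleton x)
    rw [hZ, Subgroup.mem_bot] at this
    exact hx1 this

/-- The Sylow subgroups handled by the argument: abelian, nontrivial, and cyclic or of exponent
larger than `p`. -/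
def GoodSylow (P : Sylow p G) : Prop :=
  IsMulCommutative ↥(P : Subgroup G) ∧ (P : Subgroup G) ≠ ⊥ ∧
    ((∃ x : G, (P : Subgroup G) = Subgroup.zpowers x) ∨ ∃ x ∈ (P : Subgroup G), x ^ p ≠ 1)

theorem orderOf_of_mem_sylow (P : Sylow p G) {x : G} (hx : x ∈ (P : Subgroup G)) :
    ∃ j : ℕ, orderOf x = p ^ j := by
  obtain ⟨j, hj⟩ := (IsPGroup.iff_orderOf.mp P.isPGroup') ⟨x, hx⟩
  exact ⟨j, by rw [← hj, Subgroup.orderOf_mk]⟩

theorem GoodSylow.smul {P : Sylow p G} (hP : GoodSylow P) (g : G) : GoodSylow (g • P) := by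
  obtain ⟨hab, hne, hc⟩ := hP
  refine ⟨?_, ?_, ?_⟩
  · refine IsMulCommutative.of_setLike_mul_comm ?_
    intro u hu v hv
    rw [mem_smul_sylow_iff] at hu hv
    have h1 : (g⁻¹ * u * g) * (g⁻¹ * v * g) = (g⁻¹ * v * g) * (g⁻¹ * u * g) :=
      setLike_mul_comm hu hv
    have h2 : g⁻¹ * (u * v) * g = g⁻¹ * (v * u) * g := by
      calc g⁻¹ * (u * v) * g = (g⁻¹ * u * g) * (g⁻¹ * v * g) := by group
        _ = (g⁻¹ * v * g) * (g⁻¹ * u * g) := h1
        _ = g⁻¹ * (v * u) * g := by group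
    have := congrArg (fun w => g * w * g⁻¹) h2
    simpa [mul_assoc] using this
  · intro hbot
    apply hne
    rw [eq_bot_iff]
    intro x hx
    have h1 : g * x * g⁻¹ ∈ ((g • P : Sylow p G) : Subgroup G) := by
      rw [mem_smul_sylow_iff]
      simpa [mul_assoc] using hx
    rw [hbot, Subgroup.mem_bot] at h1
    rw [Subgroup.mem_bot]
    have := congrArg (fun w => g⁻¹ * w * g) h1
    simpa [mul_assoc] using this
  · rcases hc with ⟨x, hx⟩ | ⟨x, hxP, hxp⟩
    · left
      refine ⟨g * x * g⁻¹, ?_⟩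
      ext u
      rw [mem_smul_sylow_iff, hx, Subgroup.mem_zpowers_iff, Subgroup.mem_zpowers_iff]
      constructor
      · rintro ⟨k, hk⟩
        refine ⟨k, ?_⟩
        rw [conj_zpow, hk]; group
      · rintro ⟨k, hk⟩
        refine ⟨k, ?_⟩
        rw [← hk, conj_zpow]; group
    · right
      refine ⟨g * x * g⁻¹, ?_, ?_⟩
      · rw [mem_smul_sylow_iff]
        simpa [mul_assoc] using hxP
      · rw [conj_pow]
        intro h1
        apply hxp
        have := congrArg (fun w => g⁻¹ * w * g) h1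
        simpa [mul_assoc] using this

/-- Some member of the cover contains the whole Sylow subgroup. -/
theorem IsMinCover.exists_sylow_le (h : IsMinCover 𝓐) (hnil : ∀ A ∈ 𝓐, Group.IsNilpotent ↥A)
    (hZ : Subgroup.center G = ⊥) {P : Sylow p G} (hP : GoodSylow P) :
    ∃ A ∈ 𝓐, (P : Subgroup G) ≤ A := by
  obtain ⟨hab, hne, hc⟩ := hP
  rcases hc with ⟨x, hx⟩ | ⟨x, hxP, hxp⟩
  · obtain ⟨A, hA, hxA⟩ := h.1.2 x
    exact ⟨A, hA, hx ▸ Subgroup.zpowers_le.mpr hxA⟩
  · obtain ⟨A, hA, hxA⟩ := h.1.2 x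
    refine ⟨A, hA, ?_⟩
    have hzA : x ^ p ∈ A := A.pow_mem hxA p
    have hzP : x ^ p ∈ (P : Subgroup G) := Subgroup.pow_mem _ hxP p
    have hzord := orderOf_of_mem_sylow P hzP
    -- step 1
    have step1 : ∀ y ∈ (P : Subgroup G), y ^ p = 1 → y ∈ A := by
      intro y hyP hyp
      obtain ⟨B, hB, hxyB⟩ := h.1.2 (x * y)
      have hcomm : Commute x y := setLike_mul_comm hxP hyP
      have h1 : (x * y) ^ p = x ^ p := by rw [hcomm.mul_pow, hyp, mul_one]
      have hzB : x ^ p ∈ B := h1 ▸ B.pow_mem hxyB p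
      have hAB : A = B := h.eq_of_mem_of_mem hnil hZ P hab hA hB hxp hzord hzA hzB
      have : x⁻¹ * (x * y) ∈ A := A.mul_mem (A.inv_mem hxA) (hAB ▸ hxyB)
      simpa using this
    intro y hyP
    by_cases hy1 : y = 1
    · rw [hy1]; exact A.one_mem
    obtain ⟨j, hj⟩ := orderOf_of_mem_sylow P hyP
    have hj1 : 1 ≤ j := by
      by_contra hj0
      push Not at hj0
      have : j = 0 := by omega
      rw [this, pow_zero, orderOf_eq_one_iff] at hj
      exact hy1 hj
    set w := y ^ (p ^ (j - 1)) with hw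
    have hwP : w ∈ (P : Subgroup G) := Subgroup.pow_mem _ hyP _
    have hwp : w ^ p = 1 := by
      rw [hw, ← pow_mul, ← pow_succ, Nat.sub_add_cancel hj1, ← hj]
      exact pow_orderOf_eq_one y
    have hw1 : w ≠ 1 := by
      rw [hw]
      apply pow_ne_one_of_lt_orderOf (pow_pos hp.out.pos _).ne'
      rw [hj]
      exact Nat.pow_lt_pow_right hp.out.one_lt (by omega)
    have hwA : w ∈ A := step1 w hwP hwp
    obtain ⟨B, hB, hyB⟩ := h.1.2 y
    have hwB : w ∈ B := B.pow_mem hyB _
    have hAB : A = B :=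
      h.eq_of_mem_of_mem hnil hZ P hab hA hB hw1 (orderOf_of_mem_sylow P hwP) hwA hwB
    exact hAB ▸ hyB

/-- A member of the cover containing an abelian nontrivial Sylow subgroup is its centralizer. -/
theorem IsMinCover.eq_centralizer (h : IsMinCover 𝓐) (hnil : ∀ A ∈ 𝓐, Group.IsNilpotent ↥A)
    (hZ : Subgroup.center G = ⊥) {P : Sylow p G} (hab : IsMulCommutative ↥(P : Subgroup G))
    (hne : (P : Subgroup G) ≠ ⊥) {A : Subgroup G} (hA : A ∈ 𝓐) (hPA : (P : Subgroup G) ≤ A) :
    A = Subgroup.centralizer ((P : Subgroup G) : Set G) := by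
  apply le_antisymm
  · intro a ha
    rw [Subgroup.mem_centralizer_iff]
    intro y hy
    exact (commute_of_mem_nilpotent P hab A (hnil A hA) (hPA hy)
      (orderOf_of_mem_sylow P hy) ha).eq.symm
  · intro c hc
    obtain ⟨x, hx1⟩ := (Subgroup.ne_bot_iff_exists_ne_one.mp hne)
    have hx1' : (x : G) ≠ 1 := fun h0 => hx1 (Subtype.ext h0)
    have hxord := orderOf_of_mem_sylow P x.2
    obtain ⟨k, l, hkl, hk, hl⟩ := exists_pow_decomp c (orderOf_pos c) p
    have hcc : ∀ t : ℕ, c ^ t ∈ Subgroup.centralizer ((P : Subgroup G) : Set G) :=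
      fun t => Subgroup.pow_mem _ hc t
    -- the p-part lies in P
    have hkP : c ^ k ∈ (P : Subgroup G) := by
      apply mem_sylow_of_mem_normalizer P _ hk
      exact Subgroup.centralizer_le_normalizer _ (hcc k)
    -- the p'-part lies in A
    have hcomm : Commute (x : G) (c ^ l) := by
      have := (Subgroup.mem_centralizer_iff.mp (hcc l)) x x.2
      exact this
    have hcop : (orderOf (x : G)).Coprime (orderOf (c ^ l)) := by
      obtain ⟨j, hj⟩ := hxord
      rw [hj]
      exact (Nat.Coprime.pow_right j hl).symm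
    obtain ⟨B, hB, hxvB⟩ := h.1.2 ((x : G) * c ^ l)
    -- x is a power of x * c^l
    obtain ⟨t, ht2, ht1⟩ := Nat.chineseRemainder hcop 1 0
    have hxpow : ((x : G) * c ^ l) ^ t = x := by
      rw [hcomm.mul_pow]
      have e1 : (x : G) ^ t = x := by
        conv_rhs => rw [← pow_one (x : G)]
        rw [pow_eq_pow_iff_modEq]; exact ht2
      have e2 : (c ^ l) ^ t = 1 := by
        rw [← pow_zero (c ^ l), pow_eq_pow_iff_modEq]; exact ht1
      rw [e1, e2, mul_one]
    have hxB : (x : G) ∈ B := hxpow ▸ B.pow_mem hxvB t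
    have hAB : A = B := h.eq_of_mem_of_mem hnil hZ P hab hA hB hx1' hxord (hPA x.2) hxB
    have hlA : c ^ l ∈ A := by
      have : (x : G)⁻¹ * ((x : G) * c ^ l) ∈ A := A.mul_mem (A.inv_mem (hPA x.2)) (hAB ▸ hxvB)
      simpa using this
    rw [← hkl]
    exact A.mul_mem (hPA hkP) hlA

theorem IsMinCover.centralizer_mem (h : IsMinCover 𝓐) (hnil : ∀ A ∈ 𝓐, Group.IsNilpotent ↥A)
    (hZ : Subgroup.center G = ⊥) {P : Sylow p G} (hP : GoodSylow P) :
    Subgroup.centralizer ((P : Subgroup G) : Set G) ∈ 𝓐 := by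
  obtain ⟨A, hA, hPA⟩ := h.exists_sylow_le hnil hZ hP
  rw [← h.eq_centralizer hnil hZ hP.1 hP.2.1 hA hPA]
  exact hA

theorem mem_centralizer_smul_sylow_iff (P : Sylow p G) (g c : G) :
    c ∈ Subgroup.centralizer (((g • P : Sylow p G) : Subgroup G) : Set G) ↔
      g⁻¹ * c * g ∈ Subgroup.centralizer ((P : Subgroup G) : Set G) := by
  rw [Subgroup.mem_centralizer_iff, Subgroup.mem_centralizer_iff]
  constructor
  · intro hc y hy
    have hy' : y ∈ (P : Subgroup G) := hy
    have h1 : g * y * g⁻¹ ∈ ((g • P : Sylow p G) : Subgroup G) := by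
      rw [mem_smul_sylow_iff]; simpa [mul_assoc] using hy'
    have h2 := hc _ h1
    have h3 := congrArg (fun w => g⁻¹ * w * g) h2
    simpa [mul_assoc] using h3
  · intro hc u hu
    have h1 : g⁻¹ * u * g ∈ (P : Subgroup G) := (mem_smul_sylow_iff P g u).mp hu
    have h2 := hc _ h1
    have h3 := congrArg (fun w => g * w * g⁻¹) h2
    simpa [mul_assoc] using h3

/-- If the centralizers of `P` and `g • P` coincide (`P` abelian) then `g` normalizes `P`. -/
theorem mem_normalizer_of_centralizer_eq (P : Sylow p G) (g : G)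
    (hab' : IsMulCommutative ↥((g • P : Sylow p G) : Subgroup G))
    (heq : Subgroup.centralizer (((g • P : Sylow p G) : Subgroup G) : Set G) =
      Subgroup.centralizer ((P : Subgroup G) : Set G)) :
    g ∈ Subgroup.normalizer ((P : Subgroup G) : Set G) := by
  have hle : ((g • P : Sylow p G) : Subgroup G) ≤ (P : Subgroup G) := by
    intro u hu
    apply mem_sylow_of_mem_normalizer P u (orderOf_of_mem_sylow _ hu)
    apply Subgroup.centralizer_le_normalizer _
    rw [← heq]
    exact Subgroup.le_centralizer _ hu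
  have h1 := (g • P).is_maximal' P.isPGroup' hle
  have h2 : g • P = P := (Sylow.ext h1).symm
  exact Sylow.smul_eq_iff_mem_normalizer.mp h2

/-- Every proper subgroup containing the centralizer of a good Sylow subgroup normalizes it. -/
theorem IsMinCover.le_normalizer (h : IsMinCover 𝓐) (hnil : ∀ A ∈ 𝓐, Group.IsNilpotent ↥A)
    (hZ : Subgroup.center G = ⊥) {P : Sylow p G} (hP : GoodSylow P) {M : Subgroup G} (hM : M ≠ ⊤)
    (hCM : Subgroup.centralizer ((P : Subgroup G) : Set G) ≤ M) :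
    M ≤ Subgroup.normalizer ((P : Subgroup G) : Set G) := by
  intro m hm
  have hA := h.centralizer_mem hnil hZ hP
  have hA' := h.centralizer_mem hnil hZ (hP.smul m)
  have hle' : Subgroup.centralizer (((m • P : Sylow p G) : Subgroup G) : Set G) ≤ M := by
    intro c hc
    rw [mem_centralizer_smul_sylow_iff] at hc
    have h1 := hCM hc
    have h2 : m * (m⁻¹ * c * m) * m⁻¹ ∈ M := M.mul_mem (M.mul_mem hm h1) (M.inv_mem hm)
    simpa [mul_assoc] using h2
  have heq := h.eq_of_le hA' hA hle' hCM hM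
  exact mem_normalizer_of_centralizer_eq P m (hP.smul m).1 heq

/-- The normalizer of a good non-normal Sylow subgroup is a maximal subgroup, the only one
containing the centralizer. -/
theorem IsMinCover.isCoatom_normalizer (h : IsMinCover 𝓐) (hnil : ∀ A ∈ 𝓐, Group.IsNilpotent ↥A)
    (hZ : Subgroup.center G = ⊥) {P : Sylow p G} (hP : GoodSylow P)
    (hnn : ¬ (P : Subgroup G).Normal) :
    IsCoatom (Subgroup.normalizer ((P : Subgroup G) : Set G)) := by
  have hNtop : Subgroup.normalizer ((P : Subgroup G) : Set G) ≠ ⊤ := by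
    intro htop
    exact hnn (Subgroup.normalizer_eq_top_iff.mp htop)
  refine ⟨hNtop, ?_⟩
  intro K hK
  by_contra hKtop
  have hCK : Subgroup.centralizer ((P : Subgroup G) : Set G) ≤ K :=
    le_trans (Subgroup.centralizer_le_normalizer _) hK.le
  exact absurd (h.le_normalizer hnil hZ hP hKtop hCK) (not_le_of_gt hK)

theorem IsMinCover.eq_normalizer_of_isCoatom (h : IsMinCover 𝓐)
    (hnil : ∀ A ∈ 𝓐, Group.IsNilpotent ↥A)
    (hZ : Subgroup.center G = ⊥) {P : Sylow p G} (hP : GoodSylow P)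
    (hnn : ¬ (P : Subgroup G).Normal) (M : Subgroup G) (hM : IsCoatom M)
    (hCM : Subgroup.centralizer ((P : Subgroup G) : Set G) ≤ M) :
    M = Subgroup.normalizer ((P : Subgroup G) : Set G) := by
  have hle := h.le_normalizer hnil hZ hP hM.1 hCM
  have hN := h.isCoatom_normalizer hnil hZ hP hnn
  rcases eq_or_lt_of_le hle with heq | hlt
  · exact heq
  · exact absurd (hM.2 _ hlt) hN.1

theorem goodSylow_of_isCyclic {P : Sylow p G} (hc : IsCyclic ↥(P : Subgroup G))
    (hne : (P : Subgroup G) ≠ ⊥) : GoodSylow P := by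
  obtain ⟨g, hg⟩ := hc.exists_generator
  have hPz : (P : Subgroup G) = Subgroup.zpowers (g : G) := by
    ext u
    constructor
    · intro hu
      obtain ⟨k, hk⟩ := Subgroup.mem_zpowers_iff.mp (hg ⟨u, hu⟩)
      rw [Subgroup.mem_zpowers_iff]
      refine ⟨k, ?_⟩
      have := congrArg Subtype.val hk
      simpa using this
    · intro hu
      obtain ⟨k, hk⟩ := Subgroup.mem_zpowers_iff.mp hu
      rw [← hk]
      exact Subgroup.zpow_mem _ g.2 k
  refine ⟨?_, hne, Or.inl ⟨g, hPz⟩⟩
  rw [hPz]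
  infer_instance

theorem goodSylow_of_exists {P : Sylow p G} (hab : IsMulCommutative ↥(P : Subgroup G))
    (hne : (P : Subgroup G) ≠ ⊥) (hex : ∃ x ∈ (P : Subgroup G), x ^ p ≠ 1) : GoodSylow P :=
  ⟨hab, hne, Or.inr hex⟩

/-- The normalizer of a good non-normal Sylow subgroup meets its conjugates (by elements
outside) in `p'`-groups. -/
theorem IsMinCover.not_dvd_card_inf (h : IsMinCover 𝓐) (hnil : ∀ A ∈ 𝓐, Group.IsNilpotent ↥A)
    (hZ : Subgroup.center G = ⊥) {P : Sylow p G} (hP : GoodSylow P) (g : G)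
    (hg : g ∉ Subgroup.normalizer ((P : Subgroup G) : Set G)) :
    ¬ p ∣ Nat.card ↥(Subgroup.normalizer ((P : Subgroup G) : Set G) ⊓
          (Subgroup.normalizer ((P : Subgroup G) : Set G)).map (MulAut.conj g).toMonoidHom) := by
  intro hdvd
  obtain ⟨z, hz⟩ := exists_prime_orderOf_dvd_card' p hdvd
  have hz' : orderOf (z : G) = p := by rw [Subgroup.orderOf_coe]; exact hz
  have hzN : (z : G) ∈ Subgroup.normalizer ((P : Subgroup G) : Set G) := z.2.1
  obtain ⟨y, hyN, hyz⟩ := z.2.2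
  have hyz' : g * y * g⁻¹ = (z : G) := by simpa using hyz
  have hzP : (z : G) ∈ (P : Subgroup G) :=
    mem_sylow_of_mem_normalizer P _ ⟨1, by rw [hz', pow_one]⟩ hzN
  have hyord : orderOf y = p := by
    rw [← hz', ← hyz']
    have := MulEquiv.orderOf_eq (MulAut.conj g) y
    rw [MulAut.conj_apply] at this
    exact this.symm
  have hyP : y ∈ (P : Subgroup G) :=
    mem_sylow_of_mem_normalizer P _ ⟨1, by rw [hyord, pow_one]⟩ hyN
  have hzP' : (z : G) ∈ ((g • P : Sylow p G) : Subgroup G) := by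
    rw [mem_smul_sylow_iff, ← hyz']
    simpa [mul_assoc] using hyP
  have hz1 : (z : G) ≠ 1 := by
    intro h1
    rw [h1, orderOf_one] at hz'
    exact hp.out.one_lt.ne hz'
  have hA := h.centralizer_mem hnil hZ hP
  have hA' := h.centralizer_mem hnil hZ (hP.smul g)
  have hle : Subgroup.centralizer ((P : Subgroup G) : Set G) ≤ Subgroup.centralizer {(z : G)} :=
    Subgroup.centralizer_le (Set.singleton_subset_iff.mpr hzP)
  have hle' : Subgroup.centralizer (((g • P : Sylow p G) : Subgroup G) : Set G) ≤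
      Subgroup.centralizer {(z : G)} :=
    Subgroup.centralizer_le (Set.singleton_subset_iff.mpr hzP')
  have htop : Subgroup.centralizer {(z : G)} ≠ ⊤ := by
    intro htop
    rw [Subgroup.centralizer_eq_top_iff_subset] at htop
    have : (z : G) ∈ Subgroup.center G := htop (Set.mem_singleton _)
    rw [hZ, Subgroup.mem_bot] at this
    exact hz1 this
  have heq := h.eq_of_le hA' hA hle' hle htop
  exact hg (mem_normalizer_of_centralizer_eq P g (hP.smul g).1 heq)

theorem not_dvd_index_subgroupOf (P : Sylow p G) (A : Subgroup G) (hPA : (P : Subgroup G) ≤ A) :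
    ¬ p ∣ ((P : Subgroup G).subgroupOf A).index := by
  intro hdvd
  have h1 : (P : Subgroup G).relIndex A * A.index = (P : Subgroup G).index :=
    Subgroup.relIndex_mul_index hPA
  have h2 : p ∣ (P : Subgroup G).index := by
    rw [← h1]
    exact Dvd.dvd.mul_right hdvd _
  exact P.not_dvd_index h2

end CoverSylow

end Cfsg.Agent.Helper65
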