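import Cfsg.Agent.Helper65.Metacyclic2

/-!
# Metacyclic `p`-groups, `p` odd: derived subgroups of subgroups

A subgroup `L` of index `p ^ u` in a metacyclic `p`-group `G` (`p` odd) with `|G'| = p ^ n` has
`|L'| = p ^ (n - u)` (truncated subtraction).  Hence `L` is abelian iff `|L| ≤ |G : G'|`.
-/

set_option autoImplicit false

namespace Cfsg.Agent.Helper65

open Subgroup

theorem isMetacyclic_subgroup {G : Type*} [Group G] (hmc : Cfsg.IsMetacyclic G) (M : Subgroup G) :
    Cfsg.IsMetacyclic M := by
  obtain ⟨N, hN, hcN, hcQ⟩ := hmc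
  let φ : M →* G ⧸ N := (QuotientGroup.mk' N).comp M.subtype
  refine ⟨φ.ker, inferInstance, ?_, ?_⟩
  · have hmem : ∀ x : φ.ker, ((x : M) : G) ∈ N := by
      intro x
      have h1 := x.2
      rw [MonoidHom.mem_ker] at h1
      exact (QuotientGroup.eq_one_iff _).mp h1
    let ψ : φ.ker →* N :=
      { toFun := fun x => ⟨((x : M) : G), hmem x⟩
        map_one' := rfl
        map_mul' := fun x y => rfl }
    refine isCyclic_of_injective ψ ?_
    intro x y hxy
    apply Subtype.ext
    apply Subtype.ext
    exact congrArg (fun z : N => (z : G)) hxy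
  · exact isCyclic_of_injective (QuotientGroup.kerLift φ) (QuotientGroup.kerLift_injective φ)

theorem card_commutator_subtype {G : Type*} [Group G] (H : Subgroup G) :
    Nat.card (commutator H) = Nat.card (⁅H, H⁆ : Subgroup G) := by
  rw [← Subgroup.map_subtype_commutator, Subgroup.card_map_of_injective H.subtype_injective]

theorem isMulCommutative_iff_card_commutator {G : Type*} [Group G] (H : Subgroup G) :
    IsMulCommutative H ↔ Nat.card (commutator H) = 1 := by
  rw [card_commutator_subtype, Subgroup.card_eq_one, Subgroup.commutator_self_eq_bot_iff]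

theorem card_commutator_subgroupOf {G : Type*} [Group G] {L K : Subgroup G} (hLK : L ≤ K) :
    Nat.card (commutator (L.subgroupOf K)) = Nat.card (commutator L) := by
  rw [card_commutator_subtype, card_commutator_subtype,
    ← Subgroup.card_map_of_injective K.subtype_injective, Subgroup.map_commutator,
    Subgroup.map_subgroupOf_eq_of_le hLK]

theorem card_commutator_top {G : Type*} [Group G] :
    Nat.card (commutator (⊤ : Subgroup G)) = Nat.card (commutator G) := by
  rw [card_commutator_subtype, ← commutator_def]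

section Main

variable {G : Type*} [Group G] [Finite G] {p : ℕ} [hp : Fact p.Prime]

theorem normal_of_index_eq_p (hG : IsPGroup p G) {M : Subgroup G} (hM : M.index = p) : M.Normal := by
  obtain ⟨k, hk⟩ := IsPGroup.iff_card.mp hG
  have hk0 : k ≠ 0 := by
    rintro rfl
    have h1 : M.index ∣ 1 := by rw [← pow_zero p, ← hk]; exact Subgroup.index_dvd_card _
    rw [hM, Nat.dvd_one] at h1
    exact hp.out.ne_one h1
  apply Subgroup.normal_of_index_eq_minFac_card
  rw [hk, hp.out.pow_minFac hk0, hM]

/-- a subgroup of index `p` in a non-abelian metacyclic `p`-group has derived subgroup of order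
`|G'| / p`. -/
theorem card_commutator_of_index_p (hp2 : p ≠ 2) (hG : IsPGroup p G) (hmc : Cfsg.IsMetacyclic G)
    {n : ℕ} (hGn : Nat.card (commutator G) = p ^ n) (hn : n ≠ 0) (M : Subgroup G) (hM : M.index = p) :
    Nat.card (commutator M) = p ^ (n - 1) := by
  have hpp : p.Prime := hp.out
  have hMp : IsPGroup p M := hG.to_subgroup M
  have hMmc : Cfsg.IsMetacyclic M := isMetacyclic_subgroup hmc M
  obtain ⟨n', hn'⟩ : ∃ n', Nat.card (commutator M) = p ^ n' :=
    IsPGroup.iff_card.mp (hMp.to_subgroup _)
  have hMn : M.Normal := normal_of_index_eq_p hG hM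
  have hZG := closure_pow_eq_center hp2 hG hmc hGn
  have hZM : center G ≤ M := by
    rw [← hZG, Subgroup.closure_le]
    rintro _ ⟨y, rfl⟩
    have h1 : y ^ p ^ n = (y ^ p ^ (n - 1)) ^ p := by
      rw [← pow_mul, ← pow_succ, Nat.sub_add_cancel (Nat.one_le_iff_ne_zero.mpr hn)]
    rw [SetLike.mem_coe, h1]
    have h2 := M.pow_index_mem (y ^ p ^ (n - 1))
    rwa [hM] at h2
  have hidxM : (center M).index = p ^ (2 * n') := by
    rw [index_center_of_isMetacyclic hp2 hMp hMmc, hn', ← pow_mul, mul_comm]
  have hidxG : (center G).index = p ^ (2 * n) := by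
    rw [index_center_of_isMetacyclic hp2 hG hmc, hGn, ← pow_mul, mul_comm]
  -- Part 1: n' < n
  have h1 : n' < n := by
    by_contra hcon
    rw [not_lt] at hcon
    have heq : center M = (center G).subgroupOf M := by
      apply le_antisymm
      · rw [← closure_pow_eq_center hp2 hMp hMmc hn', Subgroup.closure_le]
        rintro _ ⟨y, rfl⟩
        rw [SetLike.mem_coe, Subgroup.mem_subgroupOf, ← hZG]
        apply Subgroup.subset_closure
        refine ⟨(y : G) ^ p ^ (n' - n), ?_⟩
        rw [Subgroup.coe_pow, ← pow_mul, ← pow_add, Nat.sub_add_cancel hcon]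
      · intro x hx
        rw [Subgroup.mem_subgroupOf, Subgroup.mem_center_iff] at hx
        rw [Subgroup.mem_center_iff]
        intro g
        apply Subtype.ext
        exact hx g
    have h2 : (center G).relIndex M * M.index = (center G).index :=
      Subgroup.relIndex_mul_index hZM
    rw [Subgroup.relIndex, ← heq, hidxM, hM, hidxG, ← pow_succ] at h2
    have h3 := Nat.pow_right_injective hpp.two_le h2
    omega
  -- Part 2: n - 1 ≤ n'
  have h2 : n - 1 ≤ n' := by
    have hs : n - 1 ≤ n := Nat.sub_le _ _
    have hW := index_closure_pow hp2 hG hmc hGn hs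
    have hle : (center M).map M.subtype ≤ closure {x : G | ∃ y : G, y ^ p ^ (n - 1) = x} := by
      rintro _ ⟨x, hx, rfl⟩
      rw [mem_closure_pow_iff hp2 hG hmc hGn hs]
      have hMC : M ≤ centralizer ({(M.subtype x : G)} : Set G) := by
        intro m hm
        rw [Subgroup.mem_centralizer_singleton_iff]
        have := (Subgroup.mem_center_iff.mp hx) ⟨m, hm⟩
        exact congrArg Subtype.val this
      have h3 := Subgroup.index_dvd_of_le hMC
      rw [hM] at h3
      have h4 : n - (n - 1) = 1 := by omega
      rw [h4, pow_one]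
      exact Nat.le_of_dvd hpp.pos h3
    have h3 := Subgroup.index_dvd_of_le hle
    rw [hW, Subgroup.index_map_subtype, hidxM, hM, ← pow_succ,
      Nat.pow_dvd_pow_iff_le_right hpp.one_lt] at h3
    omega
  rw [hn']
  congr 1
  omega

/-- **Derived subgroups of subgroups**: if `|G'| = p ^ n` and `|G : L| = p ^ u` then
`|L'| = p ^ (n - u)`. -/
theorem card_commutator_subgroup (hp2 : p ≠ 2) (hG : IsPGroup p G) (hmc : Cfsg.IsMetacyclic G)
    {n : ℕ} (hGn : Nat.card (commutator G) = p ^ n) :
    ∀ (u : ℕ) (L : Subgroup G), L.index = p ^ u → Nat.card (commutator L) = p ^ (n - u) := by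
  have hpp : p.Prime := hp.out
  intro u
  induction u with
  | zero =>
    intro L hL
    rw [pow_zero, Subgroup.index_eq_one] at hL
    subst hL
    rw [card_commutator_top, hGn, Nat.sub_zero]
  | succ u ih =>
    intro L hL
    obtain ⟨k, hk⟩ := IsPGroup.iff_card.mp hG
    have hcL := Subgroup.card_mul_index L
    rw [hL, hk] at hcL
    have hku : u + 1 ≤ k := by
      have : p ^ (u + 1) ∣ p ^ k := ⟨_, by rw [← hcL, mul_comm]⟩
      exact (Nat.pow_dvd_pow_iff_le_right hpp.one_lt).mp this
    have hLcard : Nat.card L = p ^ (k - (u + 1)) := by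
      apply Nat.eq_of_mul_eq_mul_right (pow_pos hpp.pos (u + 1))
      rw [hcL, ← pow_add, Nat.sub_add_cancel hku]
    have hdvd : p ^ (k - (u + 1) + 1) ∣ Nat.card G := by
      rw [hk]; exact pow_dvd_pow p (by omega)
    obtain ⟨K, hKcard, hLK⟩ := Sylow.exists_subgroup_card_pow_succ hdvd hLcard
    have hKidx : K.index = p ^ u := by
      have h1 := Subgroup.card_mul_index K
      rw [hKcard, hk] at h1
      apply Nat.eq_of_mul_eq_mul_left (pow_pos hpp.pos (k - (u + 1) + 1))
      rw [h1, ← pow_add]
      congr 1
      omega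
    have hK := ih K hKidx
    rcases Nat.eq_zero_or_pos (n - u) with h0 | h0
    · -- K is abelian, so is L
      rw [h0, pow_zero, ← isMulCommutative_iff_card_commutator] at hK
      have h1 : n - (u + 1) = 0 := by omega
      rw [h1, pow_zero, ← isMulCommutative_iff_card_commutator]
      have h2 : IsMulCommutative (L.subgroupOf K) := by
        constructor; constructor
        intro x y
        have := hK.is_comm.comm ⟨x.1.1, x.1.2⟩ ⟨y.1.1, y.1.2⟩
        apply Subtype.ext
        exact this
      constructor; constructor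
      intro x y
      have h3 := h2.is_comm.comm ⟨⟨x.1, hLK x.2⟩, x.2⟩ ⟨⟨y.1, hLK y.2⟩, y.2⟩
      apply Subtype.ext
      exact congrArg (fun z : L.subgroupOf K => ((z : K) : G)) h3
    · have hrel : (L.subgroupOf K).index = p := by
        have h1 := Subgroup.relIndex_mul_index hLK
        rw [hL, hKidx, pow_succ, mul_comm] at h1
        exact Nat.eq_of_mul_eq_mul_left (pow_pos hpp.pos u) h1
      have h1 := card_commutator_of_index_p hp2 (hG.to_subgroup K) (isMetacyclic_subgroup hmc K) hK
        (by omega) (L.subgroupOf K) hrel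
      rw [card_commutator_subgroupOf hLK] at h1
      rw [h1]
      congr 1

/-- exponents: `|G'| = p ^ n`, `|G : L| = p ^ u`, `|L'| = p ^ (n - u)`. -/
theorem exists_exponents (hp2 : p ≠ 2) (hG : IsPGroup p G) (hmc : Cfsg.IsMetacyclic G)
    (L : Subgroup G) : ∃ n u : ℕ, Nat.card (commutator G) = p ^ n ∧ L.index = p ^ u ∧
      Nat.card (commutator L) = p ^ (n - u) := by
  obtain ⟨n, hn⟩ : ∃ n, Nat.card (commutator G) = p ^ n :=
    IsPGroup.iff_card.mp (hG.to_subgroup _)
  obtain ⟨k, hk⟩ := IsPGroup.iff_card.mp hG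
  have hdvd : L.index ∣ p ^ k := by rw [← hk]; exact Subgroup.index_dvd_card _
  obtain ⟨u, -, hu⟩ := (Nat.dvd_prime_pow hp.out).mp hdvd
  exact ⟨n, u, hn, hu, card_commutator_subgroup hp2 hG hmc hn u L hu⟩

/-- **Abelian subgroups by order**: `L` is abelian iff `|L| ≤ |G : G'|`. -/
theorem isMulCommutative_iff_card_le (hp2 : p ≠ 2) (hG : IsPGroup p G) (hmc : Cfsg.IsMetacyclic G)
    (L : Subgroup G) : IsMulCommutative L ↔ Nat.card L ≤ (commutator G).index := by
  have hpp : p.Prime := hp.out
  obtain ⟨n, u, hn, hu, hL⟩ := exists_exponents hp2 hG hmc L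
  rw [isMulCommutative_iff_card_commutator, hL]
  have h1 := Subgroup.card_mul_index L
  have h2 := Subgroup.card_mul_index (commutator G)
  rw [hu] at h1
  rw [hn] at h2
  have hidx : 0 < (commutator G).index := Nat.pos_of_ne_zero Subgroup.index_ne_zero_of_finite
  have h3 : Nat.card L * p ^ u = p ^ n * (commutator G).index := by rw [h1, h2]
  constructor
  · intro h
    have h4 : n - u = 0 := by
      by_contra hne
      have : 1 < p ^ (n - u) := Nat.one_lt_pow hne hpp.one_lt
      omega
    have h5 : p ^ n ≤ p ^ u := Nat.pow_le_pow_right hpp.pos (by omega)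
    have h6 : Nat.card L * p ^ u ≤ (commutator G).index * p ^ u := by
      rw [h3, mul_comm]; exact Nat.mul_le_mul_left _ h5
    exact Nat.le_of_mul_le_mul_right h6 (pow_pos hpp.pos u)
  · intro h
    by_contra hne
    have h4 : u < n := by
      by_contra hle
      have : n - u = 0 := by omega
      rw [this, pow_zero] at hne
      exact hne rfl
    have h5 : p ^ u < p ^ n := Nat.pow_lt_pow_right hpp.one_lt h4
    have h6 : Nat.card L * p ^ u < p ^ n * (commutator G).index := by
      calc Nat.card L * p ^ u ≤ (commutator G).index * p ^ u := Nat.mul_le_mul_right _ h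
        _ < (commutator G).index * p ^ n := Nat.mul_lt_mul_of_pos_left h5 hidx
        _ = p ^ n * (commutator G).index := mul_comm _ _
    omega

/-- **Maximal abelian subgroups**: `L` is maximal abelian iff `|L| = |G : G'|`. -/
theorem maximal_isMulCommutative_iff (hp2 : p ≠ 2) (hG : IsPGroup p G) (hmc : Cfsg.IsMetacyclic G)
    (L : Subgroup G) : Maximal (fun K : Subgroup G => IsMulCommutative K) L ↔
      Nat.card L = (commutator G).index := by
  have hpp : p.Prime := hp.out
  constructor
  · intro hmax
    have hle := (isMulCommutative_iff_card_le hp2 hG hmc L).mp hmax.prop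
    by_contra hne
    have hlt : Nat.card L < (commutator G).index := lt_of_le_of_ne hle hne
    obtain ⟨l, hl⟩ := IsPGroup.iff_card.mp (hG.to_subgroup L)
    obtain ⟨k, hk⟩ := IsPGroup.iff_card.mp hG
    have hdvd : (commutator G).index ∣ p ^ k := by rw [← hk]; exact Subgroup.index_dvd_card _
    obtain ⟨j, hjk, hj⟩ := (Nat.dvd_prime_pow hpp).mp hdvd
    rw [hl, hj] at hlt
    have hlj : l < j := (Nat.pow_lt_pow_iff_right hpp.one_lt).mp hlt
    have hdvd2 : p ^ (l + 1) ∣ Nat.card G := by
      rw [hk]; exact pow_dvd_pow p (by omega)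
    obtain ⟨K, hKcard, hLK⟩ := Sylow.exists_subgroup_card_pow_succ hdvd2 hl
    have hKc : IsMulCommutative K := by
      rw [isMulCommutative_iff_card_le hp2 hG hmc K, hKcard, hj]
      exact Nat.pow_le_pow_right hpp.pos hlj
    have hKL := hmax.le_of_ge hKc hLK
    have h1 := Subgroup.card_le_of_le hKL
    rw [hKcard, hl] at h1
    have h2 : p ^ l < p ^ (l + 1) := Nat.pow_lt_pow_right hpp.one_lt (Nat.lt_succ_self l)
    omega
  · intro hcard
    refine ⟨(isMulCommutative_iff_card_le hp2 hG hmc L).mpr hcard.le, ?_⟩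
    intro K hK hLK
    have h1 := (isMulCommutative_iff_card_le hp2 hG hmc K).mp hK
    rw [← hcard] at h1
    exact (Subgroup.eq_of_le_of_card_ge hLK h1).ge

end Main

end Cfsg.Agent.Helper65
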