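import Mathlib
import Cfsg.Agent.Helper1.HKK.Basic

/-!
# (K1) for helper1 (S3779): the expansion lemma
-/

set_option autoImplicit false

open Cfsg.Agent.Helper1.HKK

namespace Cfsg.Agent.Helper65.HKK

variable {L : Type*} [LieRing L] {n : ℕ}

/-- (K1) expansion lemma. -/
theorem lie_grcl_mem_closure (M N : ZMod n → AddSubgroup L) (hM : IsGradedFam M)
    (hNM : ∀ d, N d ≤ M d)
    (i : ℕ) {d : ZMod n} {a : L} (ha : GrCl (above N i) d a) {ρ : ZMod n} {y : L} (hy : y ∈ M ρ) :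
    ⁅y, a⁆ ∈ AddSubgroup.closure {z : L | ∃ (ρ' e : ZMod n) (y' g : L),
      ρ' + e = ρ + d ∧ i < e.val ∧ g ∈ N e ∧ y' ∈ M ρ' ∧ z = ⁅y', g⁆} := by
  have hsub : ∀ d, above N i d ⊆ M d := fun d x hx => hNM d (above_subset N i d hx)
  induction ha generalizing ρ y with
  | base hx =>
    exact AddSubgroup.subset_closure ⟨ρ, _, y, _, rfl, hx.1, hx.2, hy, rfl⟩
  | zero d =>
    rw [lie_zero]
    exact AddSubgroup.zero_mem _
  | add _ _ ih1 ih2 =>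
    rw [lie_add]
    exact AddSubgroup.add_mem _ (ih1 hy) (ih2 hy)
  | neg _ ih =>
    rw [lie_neg]
    exact AddSubgroup.neg_mem _ (ih hy)
  | @lie d1 d2 a1 a2 h1 h2 ih1 ih2 =>
    have ha1 : a1 ∈ M d1 := GrCl.mem_of_le hM hsub h1
    have ha2 : a2 ∈ M d2 := GrCl.mem_of_le hM hsub h2
    have hy1 : ⁅y, a1⁆ ∈ M (ρ + d1) := hM.lie_mem hy ha1
    have hy2 : ⁅y, a2⁆ ∈ M (ρ + d2) := hM.lie_mem hy ha2
    have e : ⁅y, ⁅a1, a2⁆⁆ = ⁅⁅y, a1⁆, a2⁆ - ⁅⁅y, a2⁆, a1⁆ := by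
      rw [leibniz_lie y a1 a2, ← lie_skew a1 ⁅y, a2⁆, sub_eq_add_neg]
    rw [e]
    have k1 := ih2 hy1
    have k2 := ih1 hy2
    have e1 : ρ + d1 + d2 = ρ + (d1 + d2) := add_assoc _ _ _
    have e2 : ρ + d2 + d1 = ρ + (d1 + d2) := by rw [add_assoc, add_comm d2 d1]
    rw [e1] at k1
    rw [e2] at k2
    exact AddSubgroup.sub_mem _ k1 k2

end Cfsg.Agent.Helper65.HKK
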