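import Mathlib
import Cfsg.Agent.Helper1.HKK.Basic

/-!
# (B4) for helper1 (S3779): the case `p = 3`
-/

set_option autoImplicit false

open Cfsg.Agent.Helper1.HKK

namespace Cfsg.Agent.Helper65.HKK

variable {L : Type*} [LieRing L]

theorem zmod3_cases : ∀ da db dc : ZMod 3, da + db ≠ 0 → da + db + dc ≠ 0 →
    ¬ (da + dc = 0 ∧ db + dc = 0) → da = 0 ∨ db = 0 ∨ dc = 0 := by
  decide

/-- triple brackets of homogeneous elements vanish for a `ZMod 3`-graded family. -/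
theorem lie_lie_eq_zero_three (M : ZMod 3 → AddSubgroup L) (hM : IsGradedFam M)
    {da db dc : ZMod 3} {a b c : L} (ha : a ∈ M da) (hb : b ∈ M db) (hc : c ∈ M dc) :
    ⁅⁅a, b⁆, c⁆ = 0 := by
  have h0 : ∀ x ∈ M 0, x = 0 := by
    intro x hx
    rw [hM.zero_eq] at hx
    exact (AddSubgroup.mem_bot).mp hx
  by_cases h1 : da + db = 0
  · have hab : ⁅a, b⁆ ∈ M (da + db) := hM.lie_mem ha hb
    rw [h1] at hab
    rw [h0 _ hab, zero_lie]
  by_cases h2 : da + db + dc = 0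
  · have habc : ⁅⁅a, b⁆, c⁆ ∈ M (da + db + dc) := hM.lie_mem (hM.lie_mem ha hb) hc
    rw [h2] at habc
    exact h0 _ habc
  by_cases h3 : da + dc = 0 ∧ db + dc = 0
  · have hac : ⁅a, c⁆ ∈ M (da + dc) := hM.lie_mem ha hc
    have hbc : ⁅b, c⁆ ∈ M (db + dc) := hM.lie_mem hb hc
    rw [h3.1] at hac
    rw [h3.2] at hbc
    rw [lie_lie, h0 _ hac, h0 _ hbc, lie_zero, lie_zero, sub_zero]
  rcases zmod3_cases da db dc h1 h2 h3 with h | h | h
  · rw [h] at ha
    rw [h0 _ ha, zero_lie, zero_lie]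
  · rw [h] at hb
    rw [h0 _ hb, lie_zero, zero_lie]
  · rw [h] at hc
    rw [h0 _ hc, lie_zero]

/-- (B4) the case `p = 3`. -/
theorem lcf_two_eq_bot_three (M : ZMod 3 → AddSubgroup L) (hM : IsGradedFam M) :
    ∀ d, lcf M 2 d = ⊥ := by
  intro d
  rw [eq_bot_iff]
  show lcfStep M (lcf M 1) d ≤ ⊥
  rw [lcfStep_le_iff]
  intro i j x c _ hx hc
  rw [AddSubgroup.mem_bot]
  have key : ∀ w ∈ lcfStep M M i, ⁅w, c⁆ = 0 := by
    intro w hw
    unfold lcfStep at hw
    induction hw using AddSubgroup.closure_induction with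
    | mem z hz =>
      obtain ⟨i1, i2, a, b, _, ha, hb, rfl⟩ := hz
      exact lie_lie_eq_zero_three M hM ha hb hc
    | zero => rw [zero_lie]
    | add u v _ _ hu hv => rw [add_lie, hu, hv, add_zero]
    | neg u _ hu => rw [neg_lie, hu, neg_zero]
  exact key x hx

end Cfsg.Agent.Helper65.HKK
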