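import Mathlib
import Cfsg.Prelude.Def_OddOrderLocal

/-!
# Metacyclic `p`-groups, `p` odd

Coordinates `a`, `b`, `r` for a finite metacyclic `p`-group (`MCData`): `b * a * b⁻¹ = a ^ r`,
`r ≡ 1 [MOD p]` and every element is `a ^ i * b ^ j`.  The derived subgroup is generated by
`a ^ (r - 1)` and the centre has index `|G'| ^ 2` when `p` is odd.
-/

set_option autoImplicit false

namespace Cfsg.Agent.Helper65

open Subgroup Finset

/-! ### Geometric sums -/

/-- `gs r j = 1 + r + ⋯ + r ^ (j - 1)`. -/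
def gs (r j : ℕ) : ℕ := ∑ t ∈ range j, r ^ t

theorem gs_zero (r : ℕ) : gs r 0 = 0 := by simp [gs]

theorem gs_succ (r j : ℕ) : gs r (j + 1) = gs r j + r ^ j := by simp [gs, sum_range_succ]

theorem gs_one (r : ℕ) : gs r 1 = 1 := by simp [gs]

theorem gs_succ' (r j : ℕ) : gs r (j + 1) = 1 + r * gs r j := by
  unfold gs
  rw [sum_range_succ', mul_sum, pow_zero, add_comm]
  congr 1
  apply sum_congr rfl
  intro t _
  rw [pow_succ']

theorem gs_one_left (j : ℕ) : gs 1 j = j := by simp [gs]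

theorem gs_ne_zero {r j : ℕ} (hj : j ≠ 0) : gs r j ≠ 0 := by
  obtain ⟨k, rfl⟩ := Nat.exists_eq_succ_of_ne_zero hj
  rw [Nat.succ_eq_add_one, gs_succ']
  omega

theorem pow_eq_gs (r j : ℕ) (hr : 1 ≤ r) : r ^ j = 1 + (r - 1) * gs r j := by
  obtain ⟨s, rfl⟩ : ∃ s, r = s + 1 := ⟨r - 1, by omega⟩
  induction j with
  | zero => simp [gs_zero]
  | succ j ih =>
    rw [gs_succ, mul_add, ← add_assoc, ← ih]
    simp only [Nat.add_sub_cancel]
    ring

theorem gs_add (r j l : ℕ) : gs r (j + l) = gs r j + r ^ j * gs r l := by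
  induction l with
  | zero => simp [gs_zero]
  | succ l ih => rw [← add_assoc, gs_succ, ih, gs_succ, pow_add]; ring

theorem padicValNat_gs {p : ℕ} [hp : Fact p.Prime] (hp2 : p ≠ 2) {r : ℕ} (hr : r % p = 1) {j : ℕ}
    (hj : j ≠ 0) : padicValNat p (gs r j) = padicValNat p j := by
  have hodd : Odd p := hp.out.odd_of_ne_two hp2
  have hr1 : 1 ≤ r := by
    rcases Nat.eq_zero_or_pos r with h | h
    · subst h; simp at hr
    · exact h
  rcases eq_or_lt_of_le hr1 with h1 | h1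
  · subst h1; simp [gs_one_left]
  · have hdvd : p ∣ r - 1 := by
      have : r % p = 1 % p := by rw [hr, Nat.one_mod_eq_one.mpr hp.out.ne_one]
      exact (Nat.modEq_iff_dvd' hr1).mp this.symm
    have hnd : ¬ p ∣ r := by
      intro h
      have := Nat.mod_eq_zero_of_dvd h
      omega
    have key := padicValNat.pow_sub_pow hodd h1 hdvd hnd hj
    rw [one_pow] at key
    have h2 : r ^ j - 1 = (r - 1) * gs r j := by rw [pow_eq_gs r j hr1]; simp
    rw [h2, padicValNat.mul (by omega) (gs_ne_zero hj)] at key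
    omega

theorem pow_dvd_gs_iff {p : ℕ} [hp : Fact p.Prime] (hp2 : p ≠ 2) {r : ℕ} (hr : r % p = 1)
    (N j : ℕ) : p ^ N ∣ gs r j ↔ p ^ N ∣ j := by
  rcases eq_or_ne j 0 with rfl | hj
  · simp [gs_zero]
  · rw [padicValNat_dvd_iff_le (gs_ne_zero hj), padicValNat_dvd_iff_le hj, padicValNat_gs hp2 hr hj]

/-! ### Conjugation acting as a power map -/

section Conj

variable {G : Type*} [Group G]

theorem conj_pow_eq {a x : G} {r : ℕ} (h : x * a * x⁻¹ = a ^ r) (i : ℕ) :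
    x * a ^ i * x⁻¹ = a ^ (r * i) := by
  rw [← conj_pow, h, ← pow_mul]

theorem pow_conj_eq {a x : G} {r : ℕ} (h : x * a * x⁻¹ = a ^ r) (k : ℕ) :
    x ^ k * a * (x ^ k)⁻¹ = a ^ (r ^ k) := by
  induction k with
  | zero => simp
  | succ k ih =>
    have : x ^ (k + 1) * a * (x ^ (k + 1))⁻¹ = x ^ k * (x * a * x⁻¹) * (x ^ k)⁻¹ := by
      rw [pow_succ]; group
    rw [this, h, ← conj_pow, ih, ← pow_mul, pow_succ]

/-- if `y` acts on `d = [y, z]` as the `ρ`-th power then `[y ^ e, z] = d ^ (1 + ρ + ⋯ + ρ ^ (e - 1))`. -/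
theorem comm_pow_eq {y z d : G} {ρ : ℕ} (hd : y * z * y⁻¹ * z⁻¹ = d) (hρ : y * d * y⁻¹ = d ^ ρ)
    (e : ℕ) : y ^ e * z * (y ^ e)⁻¹ * z⁻¹ = d ^ gs ρ e := by
  induction e with
  | zero => simp [gs_zero]
  | succ e ih =>
    have : y ^ (e + 1) * z * (y ^ (e + 1))⁻¹ * z⁻¹ =
        y * (y ^ e * z * (y ^ e)⁻¹ * z⁻¹) * y⁻¹ * (y * z * y⁻¹ * z⁻¹) := by
      rw [pow_succ']; group
    rw [this, ih, hd, ← conj_pow, hρ, ← pow_mul, gs_succ', add_comm, pow_add, pow_one]

theorem mod_eq_one_of_conj {p : ℕ} [hp : Fact p.Prime] (hG : IsPGroup p G) {y d : G} {ρ : ℕ}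
    (hd : d ≠ 1) (h : y * d * y⁻¹ = d ^ ρ) : ρ % p = 1 := by
  obtain ⟨k, hk⟩ := hG y
  have h1 := pow_conj_eq h (p ^ k)
  rw [hk] at h1
  simp only [one_mul, inv_one, mul_one] at h1
  have h2 : d ^ 1 = d ^ (ρ ^ p ^ k) := by rw [pow_one]; exact h1
  rw [pow_eq_pow_iff_modEq] at h2
  obtain ⟨t, ht⟩ := (IsPGroup.iff_orderOf.mp hG) d
  have ht0 : t ≠ 0 := by
    rintro rfl
    rw [pow_zero, orderOf_eq_one_iff] at ht
    exact hd ht
  have hpd : p ∣ orderOf d := by rw [ht]; exact dvd_pow_self p ht0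
  have h3 : 1 ≡ ρ ^ p ^ k [MOD p] := h2.of_dvd hpd
  have h4 : ((1 : ℕ) : ZMod p) = ((ρ ^ p ^ k : ℕ) : ZMod p) :=
    (ZMod.natCast_eq_natCast_iff _ _ _).mpr h3
  rw [Nat.cast_pow, ZMod.pow_card_pow] at h4
  have h5 := (ZMod.natCast_eq_natCast_iff _ _ _).mp h4
  have h6 : 1 % p = ρ % p := h5
  rw [Nat.one_mod_eq_one.mpr hp.out.ne_one] at h6
  exact h6.symm

theorem exists_conj_exp [Finite G] {p : ℕ} [hp : Fact p.Prime] (hG : IsPGroup p G) {y d : G}
    (h : y * d * y⁻¹ ∈ zpowers d) : ∃ ρ : ℕ, ρ % p = 1 ∧ y * d * y⁻¹ = d ^ ρ := by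
  rcases eq_or_ne d 1 with rfl | hd
  · exact ⟨1, Nat.one_mod_eq_one.mpr hp.out.ne_one, by simp⟩
  · rw [← mem_powers_iff_mem_zpowers] at h
    obtain ⟨ρ, hρ⟩ := h
    exact ⟨ρ, mod_eq_one_of_conj hG hd hρ.symm, hρ.symm⟩

end Conj

/-! ### Coordinates -/

/-- Coordinates of a metacyclic `p`-group. -/
structure MCData {G : Type*} [Group G] (p : ℕ) (a b : G) (r : ℕ) : Prop where
  mod : r % p = 1
  conj : b * a * b⁻¹ = a ^ r
  gen : ∀ g : G, ∃ i j : ℕ, g = a ^ i * b ^ j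

theorem exists_mcdata {G : Type*} [Group G] [Finite G] {p : ℕ} [hp : Fact p.Prime]
    (hG : IsPGroup p G) (h : Cfsg.IsMetacyclic G) : ∃ (a b : G) (r : ℕ), MCData p a b r := by
  obtain ⟨N, hN, hcN, hcQ⟩ := h
  obtain ⟨a₀, ha₀⟩ := hcN.exists_generator
  obtain ⟨q, hq⟩ := hcQ.exists_generator
  obtain ⟨b, rfl⟩ := QuotientGroup.mk_surjective q
  have hNa : ∀ x ∈ N, x ∈ zpowers (a₀ : G) := by
    intro x hx
    obtain ⟨k, hk⟩ := Subgroup.mem_zpowers_iff.mp (ha₀ ⟨x, hx⟩)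
    refine Subgroup.mem_zpowers_iff.mpr ⟨k, ?_⟩
    have := congrArg Subtype.val hk
    simpa using this
  have hconj : b * a₀ * b⁻¹ ∈ zpowers (a₀ : G) := hNa _ (hN.conj_mem _ a₀.2 b)
  obtain ⟨r, hr, hconj'⟩ := exists_conj_exp hG hconj
  refine ⟨a₀, b, r, hr, hconj', ?_⟩
  intro g
  have h1 := hq (QuotientGroup.mk g)
  rw [← mem_powers_iff_mem_zpowers] at h1
  obtain ⟨j, hj⟩ := h1
  have h2 : g * (b ^ j)⁻¹ ∈ N := by
    have h3 : (b ^ j)⁻¹ * g ∈ N := by
      rw [← QuotientGroup.eq]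
      simpa using hj
    exact hN.mem_comm h3
  have h4 := hNa _ h2
  rw [← mem_powers_iff_mem_zpowers] at h4
  obtain ⟨i, hi⟩ := h4
  refine ⟨i, j, ?_⟩
  have hi' : (a₀ : G) ^ i = g * (b ^ j)⁻¹ := hi
  rw [hi']
  group

namespace MCData

variable {G : Type*} [Group G] {p : ℕ} {a b : G} {r : ℕ}

theorem one_le (h : MCData p a b r) : 1 ≤ r := by
  rcases Nat.eq_zero_or_pos r with h0 | h0
  · have := h.mod
    subst h0
    simp at this
  · exact h0

theorem pow_mod [hp : Fact p.Prime] (h : MCData p a b r) (j : ℕ) : r ^ j % p = 1 := by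
  rw [Nat.pow_mod, h.mod, one_pow, Nat.one_mod_eq_one.mpr hp.out.ne_one]

/-- every element acts on `⟨a⟩` as a power `≡ 1 [MOD p]`. -/
theorem conj_gen [hp : Fact p.Prime] (h : MCData p a b r) (g : G) :
    ∃ t : ℕ, t % p = 1 ∧ g * a * g⁻¹ = a ^ t := by
  obtain ⟨i, j, rfl⟩ := h.gen g
  refine ⟨r ^ j, h.pow_mod j, ?_⟩
  have h1 := pow_conj_eq h.conj j
  have : a ^ i * b ^ j * a * (a ^ i * b ^ j)⁻¹ = a ^ i * (b ^ j * a * (b ^ j)⁻¹) * (a ^ i)⁻¹ := by
    group
  rw [this, h1, mul_inv_eq_iff_eq_mul, ← pow_add, ← pow_add, add_comm]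

/-- `[b, a] = a ^ (r - 1)`. -/
theorem comm_ba (h : MCData p a b r) : b * a * b⁻¹ * a⁻¹ = a ^ (r - 1) := by
  rw [h.conj, mul_inv_eq_iff_eq_mul, ← pow_succ, Nat.sub_add_cancel h.one_le]

theorem conj_c (h : MCData p a b r) : b * a ^ (r - 1) * b⁻¹ = (a ^ (r - 1)) ^ r := by
  rw [conj_pow_eq h.conj, ← pow_mul, mul_comm]

theorem conj_c_gen [hp : Fact p.Prime] (h : MCData p a b r) (g : G) :
    ∃ t : ℕ, t % p = 1 ∧ g * a ^ (r - 1) * g⁻¹ = (a ^ (r - 1)) ^ t := by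
  obtain ⟨t, ht, hc⟩ := h.conj_gen g
  exact ⟨t, ht, by rw [conj_pow_eq hc, ← pow_mul, mul_comm]⟩

theorem normal_zpowers_a [hp : Fact p.Prime] (h : MCData p a b r) : (zpowers a).Normal := by
  refine ⟨fun x hx g => ?_⟩
  obtain ⟨k, rfl⟩ := Subgroup.mem_zpowers_iff.mp hx
  obtain ⟨t, -, hc⟩ := h.conj_gen g
  have : g * a ^ k * g⁻¹ = (g * a * g⁻¹) ^ k := by simp
  rw [this, hc]
  exact Subgroup.zpow_mem _ (Subgroup.pow_mem _ (Subgroup.mem_zpowers a) _) _

theorem normal_zpowers_c [hp : Fact p.Prime] (h : MCData p a b r) :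
    (zpowers (a ^ (r - 1))).Normal := by
  refine ⟨fun x hx g => ?_⟩
  obtain ⟨k, rfl⟩ := Subgroup.mem_zpowers_iff.mp hx
  obtain ⟨t, -, hc⟩ := h.conj_c_gen g
  have : g * (a ^ (r - 1)) ^ k * g⁻¹ = (g * a ^ (r - 1) * g⁻¹) ^ k := by simp
  rw [this, hc]
  exact Subgroup.zpow_mem _ (Subgroup.pow_mem _ (Subgroup.mem_zpowers _) _) _

theorem c_mem_zpowers_a : a ^ (r - 1) ∈ zpowers a := Subgroup.pow_mem _ (Subgroup.mem_zpowers a) _

/-- the derived subgroup is generated by `a ^ (r - 1)`. -/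
theorem commutator_eq [hp : Fact p.Prime] (h : MCData p a b r) :
    commutator G = zpowers (a ^ (r - 1)) := by
  apply le_antisymm
  · rw [commutator_def, Subgroup.commutator_le]
    intro g₁ _ g₂ _
    have hn := h.normal_zpowers_c
    rw [← QuotientGroup.eq_one_iff, ← QuotientGroup.mk'_apply, map_commutatorElement,
      commutatorElement_eq_one_iff_commute]
    have hab : Commute (QuotientGroup.mk' (zpowers (a ^ (r - 1))) a)
        (QuotientGroup.mk' (zpowers (a ^ (r - 1))) b) := by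
      have h1 : QuotientGroup.mk' (zpowers (a ^ (r - 1))) (b * a * b⁻¹ * a⁻¹) = 1 := by
        rw [QuotientGroup.mk'_apply, QuotientGroup.eq_one_iff, h.comm_ba]
        exact Subgroup.mem_zpowers _
      rw [map_mul, map_mul, map_mul, map_inv, map_inv, mul_inv_eq_one, mul_inv_eq_iff_eq_mul] at h1
      exact h1.symm
    obtain ⟨i, j, rfl⟩ := h.gen g₁
    obtain ⟨k, l, rfl⟩ := h.gen g₂
    simp only [map_mul, map_pow]
    exact (((Commute.refl _).pow_pow i k).mul_right (hab.pow_pow i l)).mul_left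
      ((hab.symm.pow_pow j k).mul_right ((Commute.refl _).pow_pow j l))
  · rw [zpowers_le, ← h.comm_ba, commutator_def, ← commutatorElement_def]
    exact Subgroup.commutator_mem_commutator (Subgroup.mem_top b) (Subgroup.mem_top a)

theorem comm_mem [hp : Fact p.Prime] (h : MCData p a b r) (x y : G) :
    x * y * x⁻¹ * y⁻¹ ∈ zpowers (a ^ (r - 1)) := by
  rw [← h.commutator_eq, commutator_def, ← commutatorElement_def]
  exact Subgroup.commutator_mem_commutator (Subgroup.mem_top x) (Subgroup.mem_top y)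

/-- `[b ^ j, a] = c ^ (1 + r + ⋯ + r ^ (j - 1))`. -/
theorem comm_b_pow (h : MCData p a b r) (j : ℕ) :
    b ^ j * a * (b ^ j)⁻¹ * a⁻¹ = (a ^ (r - 1)) ^ gs r j :=
  comm_pow_eq h.comm_ba h.conj_c j

/-- `[b, a ^ i] = c ^ i`. -/
theorem comm_a_pow (h : MCData p a b r) (i : ℕ) :
    b * a ^ i * b⁻¹ * (a ^ i)⁻¹ = (a ^ (r - 1)) ^ i := by
  rw [conj_pow_eq h.conj, mul_inv_eq_iff_eq_mul, ← pow_mul, ← pow_add]
  congr 1
  have := h.one_le
  obtain ⟨s, rfl⟩ : ∃ s, r = s + 1 := ⟨r - 1, by omega⟩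
  simp only [Nat.add_sub_cancel]
  ring

theorem mem_center_of_commute (h : MCData p a b r) {g : G} (ha : Commute g a) (hb : Commute g b) :
    g ∈ center G := by
  rw [Subgroup.mem_center_iff]
  intro x
  obtain ⟨i, j, rfl⟩ := h.gen x
  exact (((ha.pow_right i).mul_right (hb.pow_right j)).eq).symm

/-- `b ^ e` centralizes `a` iff `|c|` divides `e` (for `p` odd). -/
theorem b_pow_commute_iff [hp : Fact p.Prime] (hp2 : p ≠ 2) (h : MCData p a b r) {n : ℕ}
    (hn : orderOf (a ^ (r - 1)) = p ^ n) (e : ℕ) : Commute (b ^ e) a ↔ p ^ n ∣ e := by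
  rw [← pow_dvd_gs_iff hp2 h.mod, ← hn, orderOf_dvd_iff_pow_eq_one, ← h.comm_b_pow,
    mul_inv_eq_one, mul_inv_eq_iff_eq_mul]
  exact Iff.rfl

/-- `a ^ i` centralizes `b` iff `|c|` divides `i`. -/
theorem a_pow_commute_iff (h : MCData p a b r) (i : ℕ) :
    Commute (a ^ i) b ↔ orderOf (a ^ (r - 1)) ∣ i := by
  rw [orderOf_dvd_iff_pow_eq_one, ← h.comm_a_pow, mul_inv_eq_one, mul_inv_eq_iff_eq_mul]
  exact ⟨fun h => h.symm.eq, fun h => (show b * a ^ i = a ^ i * b from h).symm⟩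

theorem exists_orderOf_c [hp : Fact p.Prime] (hG : IsPGroup p G) (a : G) (r : ℕ) :
    ∃ n, orderOf (a ^ (r - 1)) = p ^ n := (IsPGroup.iff_orderOf.mp hG) _

/-- the centralizer of `a` is normal -/
theorem normal_centralizer_a [hp : Fact p.Prime] (h : MCData p a b r) :
    (centralizer ({a} : Set G)).Normal := by
  refine ⟨fun x hx g => ?_⟩
  rw [Subgroup.mem_centralizer_singleton_iff] at hx ⊢
  obtain ⟨t, -, ht⟩ := h.conj_gen g⁻¹
  rw [inv_inv] at ht
  have h1 : Commute x (a ^ t) := (show Commute x a from hx).pow_right t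
  have h2 : Commute (g * x * g⁻¹) (g * a ^ t * g⁻¹) := (Commute.conj_iff g).mpr h1
  have h3 : g * a ^ t * g⁻¹ = a := by rw [← ht]; group
  rw [h3] at h2
  exact h2.eq

/-- the centralizer of `a` has index `|G'|` -/
theorem index_centralizer_a [Finite G] [hp : Fact p.Prime] (hp2 : p ≠ 2) (h : MCData p a b r) {n : ℕ}
    (hn : orderOf (a ^ (r - 1)) = p ^ n) : (centralizer ({a} : Set G)).index = p ^ n := by
  have hKn := h.normal_centralizer_a
  set K := centralizer ({a} : Set G) with hK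
  have haK : a ∈ K := by rw [hK, Subgroup.mem_centralizer_singleton_iff]
  have hgen : ∀ q : G ⧸ K, q ∈ zpowers (QuotientGroup.mk b : G ⧸ K) := by
    intro q
    obtain ⟨g, rfl⟩ := QuotientGroup.mk_surjective q
    obtain ⟨i, j, rfl⟩ := h.gen g
    have h1 : (QuotientGroup.mk (a ^ i * b ^ j) : G ⧸ K) = (QuotientGroup.mk b : G ⧸ K) ^ j := by
      rw [QuotientGroup.mk_mul, (QuotientGroup.eq_one_iff (a ^ i)).mpr (Subgroup.pow_mem _ haK i),
        one_mul, QuotientGroup.mk_pow]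
    rw [h1]
    exact Subgroup.pow_mem _ (Subgroup.mem_zpowers _) _
  rw [Subgroup.index_eq_card, ← orderOf_eq_card_of_forall_mem_zpowers hgen]
  apply Nat.dvd_antisymm
  · rw [orderOf_dvd_iff_pow_eq_one, ← QuotientGroup.mk_pow, QuotientGroup.eq_one_iff]
    exact Subgroup.mem_centralizer_singleton_iff.mpr
      (((h.b_pow_commute_iff hp2 hn (p ^ n)).mpr dvd_rfl).eq)
  · rw [← h.b_pow_commute_iff hp2 hn]
    have h1 : (QuotientGroup.mk b : G ⧸ K) ^ orderOf (QuotientGroup.mk b : G ⧸ K) = 1 :=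
      pow_orderOf_eq_one _
    rw [← QuotientGroup.mk_pow, QuotientGroup.eq_one_iff] at h1
    exact Subgroup.mem_centralizer_singleton_iff.mp h1

/-- the centre has index `|G'|` in the centralizer of `a`. -/
theorem relIndex_center [Finite G] [hp : Fact p.Prime] (h : MCData p a b r) :
    (center G).relIndex (centralizer ({a} : Set G)) = orderOf (a ^ (r - 1)) := by
  set K := centralizer ({a} : Set G) with hK
  have hcomm : ∀ x ∈ K, ∀ z ∈ zpowers a, Commute x z := by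
    intro x hx z hz
    obtain ⟨k, rfl⟩ := Subgroup.mem_zpowers_iff.mp hz
    rw [hK, Subgroup.mem_centralizer_singleton_iff] at hx
    exact (show Commute x a from hx).zpow_right k
  have hmem : ∀ x : G, x * b * x⁻¹ * b⁻¹ ∈ zpowers a := fun x =>
    (zpowers_le.mpr c_mem_zpowers_a) (h.comm_mem x b)
  have hab : ∀ z ∈ zpowers a, ∀ w ∈ zpowers a, Commute z w := by
    intro z hz w hw
    obtain ⟨k, rfl⟩ := Subgroup.mem_zpowers_iff.mp hz
    obtain ⟨l, rfl⟩ := Subgroup.mem_zpowers_iff.mp hw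
    exact (Commute.refl a).zpow_zpow k l
  obtain ⟨ψ, hψ⟩ : ∃ ψ : K →* G, ∀ x : K, ψ x = (x : G) * b * (x : G)⁻¹ * b⁻¹ := by
    refine ⟨MonoidHom.mk' (fun x : K => (x : G) * b * (x : G)⁻¹ * b⁻¹) ?_, fun x => rfl⟩
    intro x y
    have h1 : ((x * y : K) : G) * b * ((x * y : K) : G)⁻¹ * b⁻¹ =
        ((x : G) * ((y : G) * b * (y : G)⁻¹ * b⁻¹) * (x : G)⁻¹) * ((x : G) * b * (x : G)⁻¹ * b⁻¹) := by
      rw [Subgroup.coe_mul]; group
    rw [h1]
    have h2 : (x : G) * ((y : G) * b * (y : G)⁻¹ * b⁻¹) * (x : G)⁻¹ = (y : G) * b * (y : G)⁻¹ * b⁻¹ := by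
      rw [mul_inv_eq_iff_eq_mul]
      exact (hcomm x x.2 _ (hmem y)).eq
    rw [h2]
    exact (hab _ (hmem y) _ (hmem x)).eq
  have hker : (center G).subgroupOf K = ψ.ker := by
    ext x
    rw [Subgroup.mem_subgroupOf, MonoidHom.mem_ker, hψ, mul_inv_eq_one, mul_inv_eq_iff_eq_mul]
    constructor
    · intro hx
      exact ((Subgroup.mem_center_iff.mp hx) b).symm
    · intro hx
      have hxK : (x : G) * a = a * (x : G) := Subgroup.mem_centralizer_singleton_iff.mp x.2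
      exact h.mem_center_of_commute hxK hx
  have hrange : ψ.range = zpowers (a ^ (r - 1)) := by
    apply le_antisymm
    · rintro _ ⟨x, rfl⟩
      rw [hψ]
      exact h.comm_mem _ _
    · rw [zpowers_le]
      have haK : a ∈ K := by rw [hK, Subgroup.mem_centralizer_singleton_iff]
      have h1 : ψ ⟨a, haK⟩ = (a ^ (r - 1))⁻¹ := by
        rw [hψ, ← h.comm_ba]; group
      have h2 : (a ^ (r - 1))⁻¹ ∈ ψ.range := ⟨_, h1⟩
      simpa using Subgroup.inv_mem _ h2
  rw [Subgroup.relIndex, hker, Subgroup.index_ker, hrange, Nat.card_zpowers]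

/-- **The centre of a metacyclic `p`-group (`p` odd) has index `|G'| ^ 2`.** -/
theorem index_center [Finite G] [hp : Fact p.Prime] (hp2 : p ≠ 2) (hG : IsPGroup p G)
    (h : MCData p a b r) : (center G).index = Nat.card (commutator G) ^ 2 := by
  obtain ⟨n, hn⟩ := exists_orderOf_c hG a r
  rw [h.commutator_eq, Nat.card_zpowers, ← Subgroup.relIndex_mul_index
    (Subgroup.center_le_centralizer ({a} : Set G)), h.relIndex_center, h.index_centralizer_a hp2 hn,
    hn, sq]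

end MCData

/-- **The centre of a metacyclic `p`-group (`p` odd) has index `|G'| ^ 2`.** -/
theorem index_center_of_isMetacyclic {G : Type*} [Group G] [Finite G] {p : ℕ} [hp : Fact p.Prime]
    (hp2 : p ≠ 2) (hG : IsPGroup p G) (hmc : Cfsg.IsMetacyclic G) :
    (center G).index = Nat.card (commutator G) ^ 2 := by
  obtain ⟨a, b, r, h⟩ := exists_mcdata hG hmc
  exact h.index_center hp2 hG

end Cfsg.Agent.Helper65
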