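import Mathlib
import Cfsg.Agent.Helper62.S6.Defs

/-!
# S3333 (helper62), piece (R2a): Cauchy + Sylow conjugacy inside `M`.
-/

set_option autoImplicit false
open Cfsg

namespace Cfsg.Agent.Helper65.S6

open Cfsg.Agent.Helper62.S6 Cfsg.Agent.Helper62.D8

universe u

variable {G : Type u} [Group G] [Finite G]
variable {S : Subgroup G} {x y t f : G}

/-- (R2a) Cauchy + Sylow: a subgroup `K` of order divisible by 3, contained in and normalized by
`M ≥ S`, meets `S` nontrivially. -/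
theorem exists_mem_inf (h : Cfg S x y t f) (M : Subgroup G) (hSM : S ≤ M) (K : Subgroup G)
    (hKM : K ≤ M) (hMK : M ≤ Subgroup.normalizer (K : Set G)) (h3 : 3 ∣ Nat.card K) :
    ∃ v ∈ K, v ∈ S ∧ v ≠ 1 := by
  obtain ⟨P, hP⟩ := h.syl
  have : Fact (Nat.Prime 3) := ⟨by norm_num⟩
  have hPM : (P : Subgroup G) ≤ M := hP ▸ hSM
  obtain ⟨k, hk⟩ := exists_prime_orderOf_dvd_card' 3 h3
  obtain ⟨kM, hkMdef⟩ : ∃ kM : M, kM = ⟨k.1, hKM k.2⟩ := ⟨_, rfl⟩
  have hkMval : (kM : G) = (k : G) := by rw [hkMdef]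
  have hk3 : orderOf (k : G) = 3 := by rw [Subgroup.orderOf_coe]; exact hk
  have hkM : orderOf kM = 3 := by
    rw [← Subgroup.orderOf_coe, hkMval]; exact hk3
  have hpg : IsPGroup 3 (Subgroup.zpowers kM) :=
    IsPGroup.of_card (n := 1) (by rw [Nat.card_zpowers, hkM]; norm_num)
  obtain ⟨Q, hQ⟩ := hpg.exists_le_sylow
  obtain ⟨m, hm⟩ := MulAction.exists_smul_eq M Q (P.subtype hPM)
  have hkQ : kM ∈ (Q : Subgroup M) := hQ (Subgroup.mem_zpowers kM)
  have hmem : m * kM * m⁻¹ ∈ ((P.subtype hPM : Sylow 3 M) : Subgroup M) := by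
    rw [← hm, Sylow.coe_subgroup_smul]
    have := Subgroup.smul_mem_pointwise_smul kM (MulAut.conj m) (Q : Subgroup M) hkQ
    simpa [MulAut.smul_def] using this
  rw [Sylow.coe_subtype, Subgroup.mem_subgroupOf] at hmem
  refine ⟨(m : G) * (k : G) * (m : G)⁻¹, ?_, ?_, ?_⟩
  · exact (Subgroup.mem_normalizer_iff.mp (hMK m.2) (k : G)).mp k.2
  · rw [hP]
    simpa [hkMval] using hmem
  · intro hc
    have : (k : G) = 1 := by
      have := congrArg (fun z => (m : G)⁻¹ * z * (m : G)) hc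
      simpa [mul_assoc] using this
    rw [this, orderOf_one] at hk3
    omega

end Cfsg.Agent.Helper65.S6
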