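import Mathlib
import Cfsg.Agent.Helper62.S6.Defs

/-!
# S3333 (helper62), piece (R3): the Frattini argument `G = K N_G(S)` for `S ≤ K ⊴ G`.
-/

set_option autoImplicit false
open Cfsg

namespace Cfsg.Agent.Helper65.S6

open Cfsg.Agent.Helper62.S6 Cfsg.Agent.Helper62.D8

universe u

variable {G : Type u} [Group G] [Finite G]
variable {S : Subgroup G} {x y t f : G}

/-- (R3) Frattini. -/
theorem frattini8 (h : Cfg S x y t f) (K : Subgroup G) [K.Normal] (hSK : S ≤ K) (g : G) :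
    ∃ k ∈ K, ∃ n ∈ Subgroup.normalizer (S : Set G), g = k * n := by
  obtain ⟨P, hP⟩ := h.syl
  have : Fact (Nat.Prime 3) := ⟨by norm_num⟩
  have hPK : (P : Subgroup G) ≤ K := hP ▸ hSK
  have htop : Subgroup.normalizer ((P : Subgroup G) : Set G) ⊔ K = ⊤ :=
    Sylow.normalizer_sup_eq_top' P hPK
  have hg : g ∈ K ⊔ Subgroup.normalizer ((P : Subgroup G) : Set G) := by
    rw [sup_comm, htop]; exact Subgroup.mem_top g
  rw [← SetLike.mem_coe, Subgroup.normal_mul] at hg
  obtain ⟨k, hk, n, hn, hkn⟩ := Set.mem_mul.mp hg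
  exact ⟨k, hk, n, by rw [hP]; exact hn, hkn.symm⟩

end Cfsg.Agent.Helper65.S6
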