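import Mathlib
import Cfsg.Agent.Helper63.PGroup
import Cfsg.Agent.Helper14.QuatSylow

set_option autoImplicit false

namespace Cfsg.Agent.Helper65

universe u

/-- A group of order `p^m`, `m ≥ 2`, has nilpotency class at most `m - 1`. -/
theorem nilpotencyClass_le_of_card (p : ℕ) [hp : Fact p.Prime] : ∀ (m : ℕ) (G : Type u) [Group G] [Finite G],
    Nat.card G = p ^ m → 2 ≤ m → Group.nilpotencyClass G ≤ m - 1 := by
  intro m
  induction m using Nat.strong_induction_on with
  | _ m ih =>
    intro G _ _ hcard hm
    have hpG : IsPGroup p G := IsPGroup.of_card hcard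
    have hnil : Group.IsNilpotent G := hpG.isNilpotent
    have hnt : Nontrivial G := by
      rw [← Finite.one_lt_card_iff_nontrivial, hcard]
      exact Nat.one_lt_pow (by omega) hp.out.one_lt
    have hZ := hpG.bot_lt_center
    have hcl := Group.nilpotencyClass_eq_quotient_center_plus_one (G := G)
    -- order of the quotient
    obtain ⟨j, hj⟩ := IsPGroup.iff_card.mp (hpG.to_subgroup (Subgroup.center G))
    have hj0 : j ≠ 0 := by
      rintro rfl
      rw [pow_zero, Subgroup.card_eq_one] at hj
      exact hZ.ne' hj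
    have hjm : j ≤ m := by
      have := Subgroup.card_subgroup_dvd_card (Subgroup.center G)
      rw [hj, hcard] at this
      exact (Nat.pow_dvd_pow_iff_le_right hp.out.one_lt).mp this
    have hq : Nat.card (G ⧸ Subgroup.center G) = p ^ (m - j) := by
      have h1 := Subgroup.card_eq_card_quotient_mul_card_subgroup (Subgroup.center G)
      rw [hcard, hj] at h1
      have h2 : p ^ m = p ^ (m - j) * p ^ j := by rw [← pow_add, Nat.sub_add_cancel hjm]
      rw [h2] at h1
      exact (Nat.eq_of_mul_eq_mul_right (pow_pos hp.out.pos j) h1).symm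
    rcases Nat.lt_or_ge (m - j) 2 with hlt | hge
    · -- quotient of order 1 or p: cyclic, so G commutative
      have hcyc : IsCyclic (G ⧸ Subgroup.center G) := by
        interval_cases hmj : (m - j)
        · have : Subsingleton (G ⧸ Subgroup.center G) :=
            (Nat.card_eq_one_iff_unique.mp (by simpa using hq)).1
          infer_instance
        · exact isCyclic_of_prime_card (p := p) (by simpa using hq)
      have hcomm : IsMulCommutative G :=
        MonoidHom.isMulCommutative_of_isCyclic_of_ker_le_center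
          (QuotientGroup.mk' (Subgroup.center G)) (by rw [QuotientGroup.ker_mk'])
      have := Group.IsNilpotent.nilpotencyClass_le_one_iff.mpr hcomm
      omega
    · have hlt : m - j < m := by omega
      have := ih (m - j) hlt (G ⧸ Subgroup.center G) hq hge
      omega

/-- In a non-abelian group of order `p^n` and class at least `n-1`, the centre has order `p`. -/
theorem card_center_of_maxClass {G : Type u} [Group G] [Finite G] {p : ℕ} [hp : Fact p.Prime] {n : ℕ}
    (hcard : Nat.card G = p ^ n) (hna : ¬ IsMulCommutative G)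
    (hcl : n - 1 ≤ Group.nilpotencyClass G) : Nat.card (Subgroup.center G) = p := by
  have hpG : IsPGroup p G := IsPGroup.of_card hcard
  have hnil : Group.IsNilpotent G := hpG.isNilpotent
  have hnt : Nontrivial G := by
    by_contra hcon
    rw [not_nontrivial_iff_subsingleton] at hcon
    exact hna ⟨⟨fun a b => Subsingleton.elim _ _⟩⟩
  have hZ := hpG.bot_lt_center
  obtain ⟨j, hj⟩ := IsPGroup.iff_card.mp (hpG.to_subgroup (Subgroup.center G))
  have hj0 : j ≠ 0 := by
    rintro rfl
    rw [pow_zero, Subgroup.card_eq_one] at hj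
    exact hZ.ne' hj
  have hjn : j ≤ n := by
    have := Subgroup.card_subgroup_dvd_card (Subgroup.center G)
    rw [hj, hcard] at this
    exact (Nat.pow_dvd_pow_iff_le_right hp.out.one_lt).mp this
  have hq : Nat.card (G ⧸ Subgroup.center G) = p ^ (n - j) := by
    have h1 := Subgroup.card_eq_card_quotient_mul_card_subgroup (Subgroup.center G)
    rw [hcard, hj] at h1
    have h2 : p ^ n = p ^ (n - j) * p ^ j := by rw [← pow_add, Nat.sub_add_cancel hjn]
    rw [h2] at h1
    exact (Nat.eq_of_mul_eq_mul_right (pow_pos hp.out.pos j) h1).symm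
  have hclq := Group.nilpotencyClass_quotient_center (G := G)
  rcases Nat.lt_or_ge (n - j) 2 with hlt | hge
  · exfalso
    have hcyc : IsCyclic (G ⧸ Subgroup.center G) := by
      interval_cases hmj : (n - j)
      · have : Subsingleton (G ⧸ Subgroup.center G) :=
          (Nat.card_eq_one_iff_unique.mp (by simpa using hq)).1
        infer_instance
      · exact isCyclic_of_prime_card (p := p) (by simpa using hq)
    exact hna (MonoidHom.isMulCommutative_of_isCyclic_of_ker_le_center
      (QuotientGroup.mk' (Subgroup.center G)) (by rw [QuotientGroup.ker_mk']))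
  · have := nilpotencyClass_le_of_card p (n - j) (G ⧸ Subgroup.center G) hq hge
    have hj1 : j = 1 := by omega
    rw [hj, hj1, pow_one]

/-- The central quotient of a group of order `p^(n+1)` and class at least `n` (with `n ≥ 3`) has order
`p^n` and class at least `n-1`. -/
theorem quotient_center_of_maxClass {G : Type u} [Group G] [Finite G] {p : ℕ} [hp : Fact p.Prime] {n : ℕ}
    (hcard : Nat.card G = p ^ (n + 1)) (hna : ¬ IsMulCommutative G)
    (hcl : n ≤ Group.nilpotencyClass G) :
    Nat.card (G ⧸ Subgroup.center G) = p ^ n ∧ n - 1 ≤ Group.nilpotencyClass (G ⧸ Subgroup.center G) := by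
  have hZ := card_center_of_maxClass hcard hna (by simpa using hcl)
  constructor
  · have h1 := Subgroup.card_eq_card_quotient_mul_card_subgroup (Subgroup.center G)
    rw [hcard, hZ, pow_succ] at h1
    exact (Nat.eq_of_mul_eq_mul_right hp.out.pos h1).symm
  · rw [Group.nilpotencyClass_quotient_center]
    omega

/-- If no element has order `p^2`, every element of `p`-power order has order dividing `p`. -/
theorem pow_prime_eq_one_of_no_orderOf_sq {G : Type*} [Group G] [Finite G] {p : ℕ}
    (hno : ∀ x : G, orderOf x ≠ p ^ 2) (y : G) (k : ℕ) (hy : orderOf y = p ^ k) : y ^ p = 1 := by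
  by_cases hk : k ≤ 1
  · have : orderOf y ∣ p := by
      rw [hy]
      calc p ^ k ∣ p ^ 1 := pow_dvd_pow p hk
        _ = p := pow_one p
    exact orderOf_dvd_iff_pow_eq_one.mp this
  · exfalso
    push Not at hk
    have hdvd : p ^ 2 ∣ orderOf y := by
      rw [hy]
      exact pow_dvd_pow p hk
    exact hno _ (orderOf_pow_orderOf_div (orderOf_pos y).ne' hdvd)

/-- A group of exponent two is commutative. -/
theorem isMulCommutative_of_sq_eq_one {G : Type*} [Group G] (h : ∀ a : G, a ^ 2 = 1) :
    IsMulCommutative G := by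
  refine ⟨⟨fun a b => ?_⟩⟩
  have ha' : a⁻¹ = a := by
    rw [inv_eq_iff_mul_eq_one, ← pow_two]; exact h a
  have hb' : b⁻¹ = b := by
    rw [inv_eq_iff_mul_eq_one, ← pow_two]; exact h b
  have hab' : (a * b)⁻¹ = a * b := by
    rw [inv_eq_iff_mul_eq_one, ← pow_two]; exact h (a * b)
  calc a * b = (a * b)⁻¹ := hab'.symm
    _ = b⁻¹ * a⁻¹ := mul_inv_rev _ _
    _ = b * a := by rw [ha', hb']

/-- A `2`-group of order `2^n`, `n ≥ 3`, of class at least `n-1` has an element of order `2^(n-1)`. -/
theorem exists_orderOf_of_maxClass : ∀ (n : ℕ), 3 ≤ n → ∀ (G : Type u) [Group G] [Finite G],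
    Nat.card G = 2 ^ n → n - 1 ≤ Group.nilpotencyClass G → ∃ c : G, orderOf c = 2 ^ (n - 1) := by
  have h2 : Fact (Nat.Prime 2) := ⟨Nat.prime_two⟩
  intro n hn
  induction n, hn using Nat.le_induction with
  | base =>
    intro G _ _ hcard hcl
    have hpG : IsPGroup 2 G := IsPGroup.of_card hcard
    have hnil : Group.IsNilpotent G := hpG.isNilpotent
    by_contra hcon
    push Not at hcon
    have hno : ∀ x : G, orderOf x ≠ 2 ^ 2 := fun x hx => hcon x (by simpa using hx)
    have hexp : ∀ a : G, a ^ 2 = 1 := by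
      intro a
      obtain ⟨k, hk⟩ := (IsPGroup.iff_orderOf.mp hpG) a
      exact pow_prime_eq_one_of_no_orderOf_sq hno a k hk
    have hcomm := isMulCommutative_of_sq_eq_one hexp
    have := Group.IsNilpotent.nilpotencyClass_le_one_iff.mpr hcomm
    omega
  | succ n hn ih =>
    intro G _ _ hcard hcl
    have hcl' : n ≤ Group.nilpotencyClass G := by simpa using hcl
    have hpG : IsPGroup 2 G := IsPGroup.of_card hcard
    have hnil : Group.IsNilpotent G := hpG.isNilpotent
    have hna : ¬ IsMulCommutative G := by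
      intro hcomm
      have := Group.IsNilpotent.nilpotencyClass_le_one_iff.mpr hcomm
      omega
    obtain ⟨hq, hclq⟩ := quotient_center_of_maxClass hcard hna hcl'
    have hZcard : Nat.card (Subgroup.center G) = 2 := card_center_of_maxClass hcard hna (by simpa using hcl')
    obtain ⟨cb, hcb⟩ := ih (G ⧸ Subgroup.center G) hq hclq
    obtain ⟨c, rfl⟩ := QuotientGroup.mk_surjective cb
    set π := QuotientGroup.mk' (Subgroup.center G) with hπ
    have hπc : orderOf (π c) = 2 ^ (n - 1) := hcb
    have hZsq : ∀ u ∈ Subgroup.center G, u ^ 2 = 1 := by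
      intro u hu
      have := pow_card_eq_one' (G := Subgroup.center G) (x := ⟨u, hu⟩)
      rw [hZcard] at this
      exact congrArg Subtype.val this
    have hker : ∀ x : G, π x = 1 → x ∈ Subgroup.center G := by
      intro x hx
      rw [hπ, QuotientGroup.mk'_apply, QuotientGroup.eq_one_iff] at hx
      exact hx
    have h1 : c ^ (2 ^ (n - 1)) ∈ Subgroup.center G := by
      apply hker
      rw [map_pow, ← hπc, pow_orderOf_eq_one]
    refine ⟨c, ?_⟩
    have hcn : c ^ (2 ^ n) = 1 := by
      have : 2 ^ n = 2 ^ (n - 1) * 2 := by rw [← pow_succ, Nat.sub_add_cancel (by omega)]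
      rw [this, pow_mul]
      exact hZsq _ h1
    by_cases hc1 : c ^ (2 ^ (n - 1)) = 1
    · exfalso
      have hco : orderOf c = 2 ^ (n - 1) := by
        apply Nat.dvd_antisymm (orderOf_dvd_of_pow_eq_one hc1)
        rw [← hπc]
        exact orderOf_map_dvd π c
      -- zpowers c meets the centre trivially
      have hcz : ∀ w ∈ Subgroup.zpowers c, w ∈ Subgroup.center G → w = 1 := by
        intro w hw hwZ
        obtain ⟨k, rfl⟩ := Subgroup.mem_zpowers_iff.mp hw
        have h3 : (π c) ^ k = 1 := by
          rw [← map_zpow]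
          rw [hπ, QuotientGroup.mk'_apply, QuotientGroup.eq_one_iff]
          exact hwZ
        have h4 : (orderOf (π c) : ℤ) ∣ k := orderOf_dvd_iff_zpow_eq_one.mpr h3
        rw [hπc, ← hco] at h4
        exact orderOf_dvd_iff_zpow_eq_one.mp h4
      -- zpowers (π c) has index 2, hence is normal
      have hidx : (Subgroup.zpowers (π c)).index = 2 := by
        have h5 := Subgroup.card_mul_index (Subgroup.zpowers (π c))
        rw [Nat.card_zpowers, hπc, hq] at h5
        have h6 : 2 ^ n = 2 ^ (n - 1) * 2 := by rw [← pow_succ, Nat.sub_add_cancel (by omega)]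
        rw [h6] at h5
        exact Nat.eq_of_mul_eq_mul_left (pow_pos (by norm_num) _) h5
      have hnorm : (Subgroup.zpowers (π c)).Normal := Subgroup.normal_of_index_eq_two hidx
      have hsq : ∀ x : G, π x ∈ Subgroup.zpowers (π c) → x ^ 2 ∈ Subgroup.zpowers c := by
        intro x hx
        obtain ⟨k, hk⟩ := Subgroup.mem_zpowers_iff.mp hx
        have hu : x * (c ^ k)⁻¹ ∈ Subgroup.center G := by
          apply hker
          rw [map_mul, map_inv, map_zpow, hk, mul_inv_cancel]
        have hu2 := hZsq _ hu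
        have hcomm : x * (c ^ k)⁻¹ * c ^ k = c ^ k * (x * (c ^ k)⁻¹) :=
          (Subgroup.mem_center_iff.mp hu (c ^ k)).symm
        have hx2 : x ^ 2 = (c ^ k) ^ 2 := by
          have hxe : x = x * (c ^ k)⁻¹ * c ^ k := by group
          calc x ^ 2 = (x * (c ^ k)⁻¹ * c ^ k) ^ 2 := by rw [← hxe]
            _ = (x * (c ^ k)⁻¹) ^ 2 * (c ^ k) ^ 2 := (show Commute (x * (c ^ k)⁻¹) (c ^ k) from hcomm).mul_pow 2
            _ = (c ^ k) ^ 2 := by rw [hu2, one_mul]
        rw [hx2]
        exact Subgroup.pow_mem _ (Subgroup.zpow_mem _ (Subgroup.mem_zpowers c) k) 2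
      set Sq : Set G := {y | ∃ x : G, π x ∈ Subgroup.zpowers (π c) ∧ y = x ^ 2} with hSq
      have hSle : Subgroup.normalClosure Sq ≤ Subgroup.zpowers c := by
        unfold Subgroup.normalClosure
        rw [Subgroup.closure_le]
        intro y hy
        obtain ⟨a, ⟨x, hx, rfl⟩, hconj⟩ := Group.mem_conjugatesOfSet_iff.mp hy
        obtain ⟨g, rfl⟩ := isConj_iff.mp hconj
        have : g * x ^ 2 * g⁻¹ = (g * x * g⁻¹) ^ 2 := by rw [conj_pow]
        rw [this]
        apply hsq
        rw [map_mul, map_mul, map_inv]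
        exact hnorm.conj_mem _ hx _
      have hc2 : c ^ 2 ∈ Subgroup.normalClosure Sq :=
        Subgroup.subset_normalClosure ⟨c, Subgroup.mem_zpowers _, rfl⟩
      have hc2ne : c ^ 2 ≠ 1 := by
        intro h
        have h7 := orderOf_dvd_of_pow_eq_one h
        rw [hco] at h7
        have h8 : 2 ^ 2 ≤ 2 ^ (n - 1) := Nat.pow_le_pow_right (by norm_num) (by omega)
        have := Nat.le_of_dvd (by norm_num) h7
        omega
      have hSne : Subgroup.normalClosure Sq ≠ ⊥ := by
        intro h
        rw [h, Subgroup.mem_bot] at hc2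
        exact hc2ne hc2
      have hmeet := Cfsg.Agent.Helper63.normal_inf_center_ne_bot hpG (Subgroup.normalClosure Sq) hSne
      apply hmeet
      rw [eq_bot_iff]
      intro w hw
      rw [Subgroup.mem_bot]
      exact hcz w (hSle (Subgroup.mem_inf.mp hw).1) (Subgroup.mem_inf.mp hw).2
    · have hdvd : orderOf c ∣ 2 ^ n := orderOf_dvd_of_pow_eq_one hcn
      obtain ⟨k, hk, hko⟩ := (Nat.dvd_prime_pow Nat.prime_two).mp hdvd
      have hkn : k = n := by
        by_contra hne
        have hk' : k ≤ n - 1 := by omega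
        apply hc1
        apply orderOf_dvd_iff_pow_eq_one.mp
        rw [hko]
        exact pow_dvd_pow 2 hk'
      rw [hko, hkn]
      simp

/-- In a non-abelian `2`-group with centre of order two and a cyclic subgroup of index two, every
non-cyclic subgroup contains its centralizer. -/
theorem centralizer_le_of_cyclic_index_two {G : Type u} [Group G] [Finite G] {n : ℕ}
    (hcard : Nat.card G = 2 ^ n) (hna : ¬ IsMulCommutative G)
    (hZ : Nat.card (Subgroup.center G) = 2) (c : G) (hidx : (Subgroup.zpowers c).index = 2)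
    (H : Subgroup G) (hH : ¬ IsCyclic ↥H) : Subgroup.centralizer (H : Set G) ≤ H := by
  have h2 : Fact (Nat.Prime 2) := ⟨Nat.prime_two⟩
  have hpG : IsPGroup 2 G := IsPGroup.of_card hcard
  set C := Subgroup.zpowers c with hC
  have hCn : C.Normal := Subgroup.normal_of_index_eq_two hidx
  have hCcomm : ∀ x ∈ C, ∀ y ∈ C, x * y = y * x := fun x hx y hy => setLike_mul_comm hx hy
  -- two elements outside C differ by an element of C
  have hout : ∀ a b : G, a ∉ C → b ∉ C → a * b⁻¹ ∈ C := by
    intro a b ha hb
    rw [Subgroup.mul_mem_iff_of_index_two hidx]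
    constructor
    · intro h; exact absurd h ha
    · intro h; exact absurd (by simpa using C.inv_mem h) hb
  -- (1) centre inside C
  have hZC : Subgroup.center G ≤ C := by
    by_contra hcon
    obtain ⟨z, hz, hzC⟩ := SetLike.not_le_iff_exists.mp hcon
    apply hna
    have hdecomp : ∀ a : G, ∃ a' ∈ C, ∃ u ∈ Subgroup.center G, a = a' * u := by
      intro a
      by_cases ha : a ∈ C
      · exact ⟨a, ha, 1, Subgroup.one_mem _, by simp⟩
      · exact ⟨a * z⁻¹, hout a z ha hzC, z, hz, by group⟩
    refine ⟨⟨fun a b => ?_⟩⟩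
    obtain ⟨a', ha', u, hu, rfl⟩ := hdecomp a
    obtain ⟨b', hb', v, hv, rfl⟩ := hdecomp b
    have hu' := Subgroup.mem_center_iff.mp hu
    have hv' := Subgroup.mem_center_iff.mp hv
    have hab := hCcomm a' ha' b' hb'
    calc a' * u * (b' * v) = a' * (u * b') * v := by group
      _ = a' * (b' * u) * v := by rw [hu' b']
      _ = (a' * b') * (u * v) := by group
      _ = (b' * a') * (v * u) := by rw [hab, hu' v]
      _ = b' * (a' * v) * u := by group
      _ = b' * (v * a') * u := by rw [hv' a']
      _ = b' * v * (a' * u) := by group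
  -- (2)
  have hbC : ∀ b : G, b ∉ C → ∀ y ∈ C, y * b = b * y → y ∈ Subgroup.center G := by
    intro b hb y hy hyb
    rw [Subgroup.mem_center_iff]
    intro g
    by_cases hg : g ∈ C
    · exact hCcomm g hg y hy
    · have h1 := hout g b hg hb
      have h3 := hCcomm (g * b⁻¹) h1 y hy
      calc g * y = (g * b⁻¹) * (b * y) := by group
        _ = (g * b⁻¹) * (y * b) := by rw [hyb]
        _ = ((g * b⁻¹) * y) * b := by group
        _ = (y * (g * b⁻¹)) * b := by rw [h3]
        _ = y * g := by group
  -- (3)
  have hK4 : ∀ b : G, b ∉ C → Nat.card ↥(Subgroup.centralizer ({b} : Set G)) ≤ 4 := by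
    intro b hb
    set K := Subgroup.centralizer ({b} : Set G) with hK
    have h1 : C.relIndex K ∣ 2 := hidx ▸ Subgroup.relIndex_dvd_index_of_normal C K
    have h1' : C.relIndex K ≤ 2 := Nat.le_of_dvd (by norm_num) h1
    have h3 : Nat.card ↥(C.subgroupOf K) * (C.subgroupOf K).index = Nat.card ↥K :=
      Subgroup.card_mul_index (C.subgroupOf K)
    have h4 : Nat.card ↥(C.subgroupOf K) ≤ 2 := by
      rw [← hZ]
      have hmem : ∀ k : ↥(C.subgroupOf K), ((k : ↥K) : G) ∈ Subgroup.center G := by
        intro k
        have hkC : ((k : ↥K) : G) ∈ C := Subgroup.mem_subgroupOf.mp k.2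
        have hkK : ((k : ↥K) : G) ∈ Subgroup.centralizer ({b} : Set G) := (k : ↥K).2
        rw [Subgroup.mem_centralizer_singleton_iff] at hkK
        exact hbC b hb _ hkC hkK
      apply Nat.card_le_card_of_injective
        (fun k : ↥(C.subgroupOf K) => (⟨((k : ↥K) : G), hmem k⟩ : ↥(Subgroup.center G)))
      intro k1 k2 h
      have h5 : ((k1 : ↥K) : G) = ((k2 : ↥K) : G) := by
        have := congrArg Subtype.val h
        exact this
      exact Subtype.ext (Subtype.ext h5)
    have h5 : (C.subgroupOf K).index = C.relIndex K := rfl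
    rw [h5] at h3
    calc Nat.card ↥K = Nat.card ↥(C.subgroupOf K) * C.relIndex K := h3.symm
      _ ≤ 2 * 2 := Nat.mul_le_mul h4 h1'
  -- (4)
  obtain ⟨b, hbH, hbC'⟩ : ∃ b ∈ H, b ∉ C := by
    by_contra hcon
    push Not at hcon
    have hle : H ≤ C := fun h hh => hcon h hh
    exact hH (Subgroup.isCyclic_of_le hle)
  -- (5)
  have hDne : H ⊓ C ≠ ⊥ := by
    intro hbot
    apply hH
    have hle : H ≤ Subgroup.zpowers b := by
      intro h hh
      by_cases hhC : h ∈ C
      · have : h ∈ H ⊓ C := Subgroup.mem_inf.mpr ⟨hh, hhC⟩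
        rw [hbot, Subgroup.mem_bot] at this
        rw [this]
        exact Subgroup.one_mem _
      · have h1 := hout h b hhC hbC'
        have : h * b⁻¹ ∈ H ⊓ C := Subgroup.mem_inf.mpr ⟨H.mul_mem hh (H.inv_mem hbH), h1⟩
        rw [hbot, Subgroup.mem_bot] at this
        have hhb : h = b := by
          calc h = (h * b⁻¹) * b := by group
            _ = b := by rw [this, one_mul]
        rw [hhb]
        exact Subgroup.mem_zpowers b
    exact Subgroup.isCyclic_of_le hle
  have hZH : Subgroup.center G ≤ H := by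
    have hdvd : Nat.card ↥(Subgroup.center G) ∣ Nat.card ↥(H ⊓ C) := by
      rw [hZ]
      obtain ⟨j, hj⟩ := IsPGroup.iff_card.mp (hpG.to_subgroup (H ⊓ C))
      rcases Nat.eq_zero_or_pos j with rfl | hjpos
      · exact absurd (Subgroup.card_eq_one.mp (by simpa using hj)) hDne
      · rw [hj]
        exact dvd_pow_self 2 hjpos.ne'
    have := Cfsg.Agent.Helper14.le_of_card_dvd_of_isCyclic C (Subgroup.center G) (H ⊓ C) hZC inf_le_right hdvd
    exact this.trans inf_le_left
  -- (6)
  set K := Subgroup.centralizer ({b} : Set G) with hK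
  have hbK : b ∈ K := by
    rw [hK, Subgroup.mem_centralizer_singleton_iff]
  have hZE : Subgroup.center G ≤ K ⊓ H := le_inf (Subgroup.center_le_centralizer _) hZH
  have hbE : b ∈ K ⊓ H := Subgroup.mem_inf.mpr ⟨hbK, hbH⟩
  have hbZ : b ∉ Subgroup.center G := fun h => hbC' (hZC h)
  have hlt : Nat.card ↥(Subgroup.center G) < Nat.card ↥(K ⊓ H) := by
    by_contra hle
    push Not at hle
    have := Subgroup.eq_of_le_of_card_ge hZE hle
    exact hbZ (this ▸ hbE)
  have hE4 : 4 ≤ Nat.card ↥(K ⊓ H) := by
    obtain ⟨j, hj⟩ := IsPGroup.iff_card.mp (hpG.to_subgroup (K ⊓ H))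
    rw [hZ, hj] at hlt
    rw [hj]
    have hj2 : 2 ≤ j := by
      by_contra hcon
      push Not at hcon
      have : 2 ^ j ≤ 2 ^ 1 := Nat.pow_le_pow_right (by norm_num) (by omega)
      omega
    calc 4 = 2 ^ 2 := by norm_num
      _ ≤ 2 ^ j := Nat.pow_le_pow_right (by norm_num) hj2
  have hEK : K ⊓ H = K :=
    Subgroup.eq_of_le_of_card_ge inf_le_left ((hK4 b hbC').trans hE4)
  have hKH : K ≤ H := hEK ▸ inf_le_right
  -- (7)
  intro x hx
  apply hKH
  rw [hK, Subgroup.mem_centralizer_singleton_iff]
  exact (Subgroup.mem_centralizer_iff.mp hx b hbH).symm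

/-- A finite `2`-group with two involutions generating different subgroups has a non-cyclic
subgroup of order four. -/
theorem exists_four_not_isCyclic {G : Type u} [Group G] [Finite G] (hpG : IsPGroup 2 G) (x y : G)
    (hx : orderOf x = 2) (hy : orderOf y = 2) (hxy : y ∉ Subgroup.zpowers x) :
    ∃ V : Subgroup G, Nat.card ↥V = 4 ∧ ¬ IsCyclic ↥V := by
  have h2 : Fact (Nat.Prime 2) := ⟨Nat.prime_two⟩
  have hnt : Nontrivial G := ⟨⟨x, 1, fun h => by rw [h, orderOf_one] at hx; omega⟩⟩
  have hcnt := hpG.center_nontrivial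
  have hcdvd : 2 ∣ Nat.card ↥(Subgroup.center G) := by
    obtain ⟨j, hj⟩ := IsPGroup.iff_card.mp (hpG.to_subgroup (Subgroup.center G))
    rcases Nat.eq_zero_or_pos j with rfl | hjpos
    · exfalso
      have h1 : Nat.card ↥(Subgroup.center G) = 1 := by simpa using hj
      have := (Nat.card_eq_one_iff_unique.mp h1).1
      exact not_subsingleton _ this
    · rw [hj]
      exact dvd_pow_self 2 hjpos.ne'
  obtain ⟨z', hz'⟩ := exists_prime_orderOf_dvd_card' 2 hcdvd
  set z : G := (z' : G) with hzdef
  have hz : orderOf z = 2 := by rw [hzdef, Subgroup.orderOf_coe]; exact hz'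
  have hzc : z ∈ Subgroup.center G := z'.2
  -- pick an involution t outside zpowers z
  obtain ⟨t, ht, htz⟩ : ∃ t : G, orderOf t = 2 ∧ t ∉ Subgroup.zpowers z := by
    by_cases hxz : x ∈ Subgroup.zpowers z
    · refine ⟨y, hy, fun hyz => hxy ?_⟩
      have h1 : Subgroup.zpowers x ≤ Subgroup.zpowers z := (Subgroup.zpowers_le).mpr hxz
      have h3 : Subgroup.zpowers x = Subgroup.zpowers z := by
        apply Subgroup.eq_of_le_of_card_ge h1
        rw [Nat.card_zpowers, Nat.card_zpowers, hx, hz]
      rw [h3]
      exact hyz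
    · exact ⟨x, hx, hxz⟩
  have hcomm : z * t = t * z := (Subgroup.mem_center_iff.mp hzc t).symm
  set W : Subgroup G := Subgroup.closure {z, t} with hW
  have hWc : IsMulCommutative ↥W := by
    apply Subgroup.isMulCommutative_closure
    intro a ha b hb
    rcases ha with rfl | rfl <;> rcases hb with rfl | rfl
    · rfl
    · exact hcomm
    · exact hcomm.symm
    · rfl
  have hWexp : ∀ w ∈ W, w ^ 2 = 1 := by
    intro w hw
    induction hw using Subgroup.closure_induction with
    | mem a ha =>
      rcases ha with rfl | rfl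
      · rw [← hz]; exact pow_orderOf_eq_one _
      · rw [← ht]; exact pow_orderOf_eq_one _
    | one => simp
    | mul a b ha hb iha ihb =>
      have hab : a * b = b * a := setLike_mul_comm ha hb
      rw [(show Commute a b from hab).mul_pow, iha, ihb, one_mul]
    | inv a ha iha => rw [inv_pow, iha, inv_one]
  have hWp : IsPGroup 2 ↥W := hpG.to_subgroup W
  obtain ⟨j, hj⟩ := IsPGroup.iff_card.mp hWp
  have hzW : Subgroup.zpowers z ≤ W :=
    (Subgroup.zpowers_le).mpr (Subgroup.subset_closure (Set.mem_insert _ _))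
  have htW : t ∈ W := Subgroup.subset_closure (Set.mem_insert_of_mem _ rfl)
  have hlt : Nat.card ↥(Subgroup.zpowers z) < Nat.card ↥W := by
    by_contra hle
    push Not at hle
    have := Subgroup.eq_of_le_of_card_ge hzW hle
    exact htz (this ▸ htW)
  rw [Nat.card_zpowers, hz, hj] at hlt
  have hj2 : 2 ≤ j := by
    by_contra hcon
    push Not at hcon
    have : 2 ^ j ≤ 2 ^ 1 := Nat.pow_le_pow_right (by norm_num) (by omega)
    omega
  have hdvd4 : 2 ^ 2 ∣ Nat.card ↥W := by
    rw [hj]
    exact pow_dvd_pow 2 hj2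
  obtain ⟨V', hV'⟩ := Sylow.exists_subgroup_card_pow_prime 2 hdvd4
  refine ⟨V'.map W.subtype, ?_, ?_⟩
  · rw [Subgroup.card_map_of_injective W.subtype_injective, hV']
    norm_num
  · intro hcyc
    have hcard : Nat.card ↥(V'.map W.subtype) = 4 := by
      rw [Subgroup.card_map_of_injective W.subtype_injective, hV']
      norm_num
    have h1 : Monoid.exponent ↥(V'.map W.subtype) = Nat.card ↥(V'.map W.subtype) :=
      IsCyclic.exponent_eq_card
    have h3 : Monoid.exponent ↥(V'.map W.subtype) ∣ 2 := by
      apply Monoid.exponent_dvd_of_forall_pow_eq_one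
      intro v
      apply Subtype.ext
      obtain ⟨w, -, hw⟩ := Subgroup.mem_map.mp v.2
      have := hWexp _ w.2
      rw [Subgroup.coe_pow, ← hw]
      simpa using this
    rw [h1, hcard] at h3
    omega

end Cfsg.Agent.Helper65
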