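import Cfsg.Agent.Helper44.OrthOddA

/-!
# (C2a) of #8823 for helper13's S5977/S5978: two nondegenerate forms of the same odd dimension
over a finite field are similar
-/

set_option autoImplicit false

namespace Cfsg.Agent.Helper65.QFEC2a

open Matrix Cfsg QuadraticMap Polynomial
open Cfsg.Agent.Helper44 Cfsg.Agent.Helper44.QType

universe u

/-- (C2a) two nondegenerate forms of the same odd dimension over a finite field are similar -/
theorem exists_similarity_pair {L : Type*} [Field L] [Fintype L] {n m : ℕ} (hn : n = 2 * m + 1)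
    (Q₁ Q₂ : QuadraticForm L (Fin n → L)) (h₁ : (polarBilin Q₁).Nondegenerate)
    (h₂ : (polarBilin Q₂).Nondegenerate) :
    ∃ (c : L) (γ : (Fin n → L) ≃ₗ[L] (Fin n → L)), c ≠ 0 ∧ ∀ x, Q₂ (γ x) = c * Q₁ x := by
  have hV : Module.finrank L (Fin n → L) = 2 * m + 1 := by
    rw [Module.finrank_fin_fun, hn]
  obtain ⟨a₁, g₁, ha₁, hg₁⟩ := exists_similarity_odd Q₁ hV (fun x hx => h₁.1 x hx)
  obtain ⟨a₂, g₂, ha₂, hg₂⟩ := exists_similarity_odd Q₂ hV (fun x hx => h₂.1 x hx)
  refine ⟨a₂ / a₁, g₁.trans g₂.symm, div_ne_zero ha₂ ha₁, ?_⟩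
  intro x
  rw [← hg₂, ← hg₁, LinearEquiv.trans_apply, LinearEquiv.apply_symm_apply]
  field_simp

end Cfsg.Agent.Helper65.QFEC2a
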