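import Cfsg.Agent.Helper44.QuadUniv
import Cfsg.Agent.Helper44.SpinorMain
import Cfsg.Agent.Helper45.OmegaParity
import Cfsg.Prelude.Def_GeometricClasses

/-!
# (INV2) of #8823 for helper13's S5977/S5978: a non-scalar involution of determinant one of an
even-dimensional orthogonal space fixes vectors of every nonzero norm
-/

set_option autoImplicit false

namespace Cfsg.Agent.Helper65.QFEINV2

open Matrix Cfsg Cfsg.Geo QuadraticMap Polynomial
open Cfsg.Agent.Helper44 Cfsg.Agent.Helper44.QType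

universe u

variable {F : Type u} [Field F] {ι : Type} [Fintype ι] [DecidableEq ι]

theorem two_ne_zero_of_odd [Fintype F] (hodd : Odd (Fintype.card F)) : (2 : F) ≠ 0 := by
  intro h2
  have hchar : ringChar F = 2 := CharP.ringChar_of_prime_eq_zero Nat.prime_two h2
  have := FiniteField.even_card_of_char_two hchar
  rcases hodd with ⟨k, hk⟩
  omega

/-- an isometry preserves the polar form -/
theorem polar_isometry (Q : QuadraticForm F (ι → F)) (g : Cfsg.isometryGroup F ⇑Q)
    (a b : ι → F) :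
    polar ⇑Q ((g.1 : Matrix ι ι F) *ᵥ a) ((g.1 : Matrix ι ι F) *ᵥ b) = polar ⇑Q a b := by
  unfold polar
  rw [← Matrix.mulVec_add, isometryGroup_apply g, isometryGroup_apply g, isometryGroup_apply g]

/-- (INV2) -/
theorem exists_fixed_vec [Fintype F] (hodd : Odd (Fintype.card F))
    (Q : QuadraticForm F (ι → F)) (hQ : (polarBilin Q).Nondegenerate) (x : GL ι F)
    (hx : x ∈ Cfsg.isometryGroup F ⇑Q) (hx2 : x * x = 1) (hdet : (x : Matrix ι ι F).det = 1)
    (hne : ∀ z : F, (x : Matrix ι ι F) ≠ z • (1 : Matrix ι ι F)) {d : ℕ}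
    (hι : Fintype.card ι = 2 * d) (c : F) (hc : c ≠ 0) :
    ∃ u : ι → F, Q u = c ∧ (x : Matrix ι ι F) *ᵥ u = u := by
  classical
  have h2 : (2 : F) ≠ 0 := two_ne_zero_of_odd hodd
  obtain ⟨g, hg⟩ : ∃ g : ↥(Cfsg.isometryGroup F ⇑Q), g = ⟨x, hx⟩ := ⟨_, rfl⟩
  have hgx : (g.1 : Matrix ι ι F) = (x : Matrix ι ι F) := by rw [hg]
  have hxx : ∀ v : ι → F, (x : Matrix ι ι F) *ᵥ ((x : Matrix ι ι F) *ᵥ v) = v := by
    intro v
    rw [Matrix.mulVec_mulVec, ← Units.val_mul, hx2, Units.val_one, Matrix.one_mulVec]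
  -- the number of reflections is even
  obtain ⟨vs, hvs, hprod⟩ := cartan_dieudonne Q h2 hQ g
  have hdetH : detHom ⇑Q g = (-1) ^ vs.length := by
    rw [hprod]
    exact detHom_prod_reflT Q vs hvs
  have hdet1 : detHom ⇑Q g = 1 := by
    apply Units.ext
    show ((g.1 : Matrix ι ι F)).det = 1
    rw [hgx, hdet]
  have hlen : Even vs.length := by
    by_contra hodd'
    rw [Nat.not_even_iff_odd] at hodd'
    rw [hdet1, hodd'.neg_one_pow] at hdetH
    have h3 : ((1 : Fˣ) : F) = ((-1 : Fˣ) : F) := congrArg Units.val hdetH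
    rw [Units.val_one, Units.val_neg, Units.val_one] at h3
    have h4 : (2 : F) = 0 := by
      have : (1 : F) + 1 = 0 := by
        nth_rewrite 1 [h3]
        exact neg_add_cancel 1
      rw [← this]
      norm_num
    exact h2 h4
  -- the fixed space has even dimension
  have hfix : ((Cfsg.Agent.Helper45.OmegaParity.fixD Q g : ℕ) : ZMod 2) = 0 := by
    have h := Cfsg.Agent.Helper45.OmegaParity.fixD_prod Q hQ vs hvs
    rw [← hprod, hι] at h
    rw [h]
    obtain ⟨k, hk⟩ := hlen
    rw [hk]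
    push_cast
    have h2' : ∀ a b : ZMod 2, 2 * a + (b + b) = 0 := by decide
    exact h2' _ _
  have hfix2 : 2 ∣ Cfsg.Agent.Helper45.OmegaParity.fixD Q g := (ZMod.natCast_eq_zero_iff _ _).1 hfix
  obtain ⟨E, hE⟩ : ∃ E : Submodule F (ι → F),
      E = Cfsg.Agent.Helper14.fixSpace (Cfsg.Agent.Helper45.OmegaParity.lin Q g) := ⟨_, rfl⟩
  have hmemE : ∀ v : ι → F, v ∈ E ↔ (x : Matrix ι ι F) *ᵥ v = v := by
    intro v
    rw [hE, Cfsg.Agent.Helper14.mem_fixSpace, Cfsg.Agent.Helper45.OmegaParity.lin_apply, hgx]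
  have hsum : ∀ v : ι → F, v + (x : Matrix ι ι F) *ᵥ v ∈ E := by
    intro v
    rw [hmemE, Matrix.mulVec_add, hxx, add_comm]
  have hfr : Module.finrank F E = Cfsg.Agent.Helper45.OmegaParity.fixD Q g := by
    rw [hE]
    rfl
  have hd2 : 2 ≤ Module.finrank F E := by
    by_contra hlt
    have h0 : Module.finrank F E = 0 := by
      rw [hfr] at hlt ⊢
      omega
    have hbot : E = ⊥ := Submodule.finrank_eq_zero.1 h0
    apply hne (-1)
    apply Matrix.toLin'.injective
    apply LinearMap.ext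
    intro v
    have hv := hsum v
    rw [hbot, Submodule.mem_bot] at hv
    rw [Matrix.toLin'_apply, Matrix.toLin'_apply, Matrix.smul_mulVec, Matrix.one_mulVec,
      neg_one_smul]
    exact eq_neg_of_add_eq_zero_right hv
  -- nondegeneracy on the fixed space
  have hEnd : ∀ u ∈ E, (∀ y ∈ E, polar ⇑Q u y = 0) → u = 0 := by
    intro u hu hy
    apply hQ.1 u
    intro v
    show polar ⇑Q u v = 0
    have h1 : polar ⇑Q u ((x : Matrix ι ι F) *ᵥ v) = polar ⇑Q u v := by
      have h := polar_isometry Q g u v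
      rw [hgx, (hmemE u).1 hu] at h
      exact h
    have h3 := hy _ (hsum v)
    rw [polar_add_right, h1] at h3
    have h4 : (2 : F) * polar ⇑Q u v = 0 := by
      rw [two_mul]
      exact h3
    rcases mul_eq_zero.1 h4 with h | h
    · exact absurd h h2
    · exact h
  obtain ⟨u, huE, hu⟩ := exists_Q_eq_submodule h2 Q E hEnd hd2 c
  exact ⟨u, hu, (hmemE u).1 huE⟩

end Cfsg.Agent.Helper65.QFEINV2
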