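import Mathlib
import Cfsg.Agent.Helper13.Sp4O.Defs

/-!
# (UCONJE) of #10428 for helper13's S2281 (n = 2, q odd): `U_c` conjugates `E(e1, a e2 + b f2, z)`
-/

set_option autoImplicit false

namespace Cfsg.Agent.Helper65.Sp4O

open Matrix Cfsg.Agent.Helper13.Sp4O

variable {F : Type*} [Field F]

theorem UW_mulVec_e1 (c : F) : UW c *ᵥ (e1 : V4 F) = e1 := by
  rw [UW_mulVec]
  simp

theorem UW_mulVec_y (c a b : F) :
    UW c *ᵥ (a • (e2 : V4 F) + b • f2) = (a - c * b) • e2 + b • f2 := by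
  rw [UW_mulVec]
  apply vec_ext <;> simp <;> ring

/-- the matrix form -/
theorem UW_mul_Me (c a b z : F) : UW c * Me a b z = Me (a - c * b) b z * UW c := by
  have hdet : IsUnit (UW c : M4 F).det := SymplecticGroup.symplectic_det (UW_mem c)
  have h := Cfsg.Agent.Helper13.SpE.Emat_conj (UW c) (UW_mem c) (e1 : V4 F)
    (a • (e2 : V4 F) + b • f2) z
  rw [UW_mulVec_e1, UW_mulVec_y] at h
  have h' : UW c * Me a b z * (UW c)⁻¹ = Me (a - c * b) b z := h
  calc UW c * Me a b z = UW c * Me a b z * ((UW c)⁻¹ * UW c) := by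
        rw [Matrix.nonsing_inv_mul _ hdet, Matrix.mul_one]
    _ = (UW c * Me a b z * (UW c)⁻¹) * UW c := by simp only [Matrix.mul_assoc]
    _ = Me (a - c * b) b z * UW c := by rw [h']

/-- (UCONJE) -/
theorem UWS_conj_MeS (c a b z : F) : UWS c * MeS a b z * (UWS c)⁻¹ = MeS (a - c * b) b z := by
  rw [mul_inv_eq_iff_eq_mul]
  apply Subtype.ext
  exact UW_mul_Me c a b z

end Cfsg.Agent.Helper65.Sp4O
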