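import Mathlib
import Cfsg.Agent.Helper5.OmBN.Defs

/-!
# S2549 (helper5), piece (R2-I): a block monomial matrix `n` or `s n` conjugates `X_k` into `B`, kind I.
-/

set_option autoImplicit false
set_option linter.unusedSectionVars false

namespace Cfsg.Agent.Helper65.OmBN

open Matrix Cfsg.Agent.Helper5.OmBN

variable {F : Type*} [Field F] {m : ℕ} {α β : F}

theorem r2i_sandwich {ι : Type*} [Fintype ι] [DecidableEq ι] (A B : Matrix ι ι F) (a b r s : ι) :
    (A * Matrix.single a b (1 : F) * B) r s = A r a * B b s := by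
  rw [Matrix.mul_apply, Finset.sum_eq_single b]
  · rw [Matrix.mul_single_apply_same, mul_one]
  · intro j _ hj
    rw [Matrix.mul_single_apply_of_ne (hbj := hj), zero_mul]
  · intro h; exact absurd (Finset.mem_univ _) h

/-- the entries of the conjugate of a root element -/
theorem r2i_conj_apply (n x : OG m α β) (a b : Fin (2 * m + 2)) (t : F) (hx : mat x = xMat a b t)
    (r s : Fin (2 * m + 2)) :
    mat (n⁻¹ * x * n) r s = (if r = s then 1 else 0) + t * (mat n⁻¹ r a * mat n b s)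
      - t * (mat n⁻¹ r (Fin.rev b) * mat n (Fin.rev a) s) := by
  rw [mat_mul, mat_mul, hx]
  unfold xMat
  rw [Matrix.mul_sub, Matrix.mul_add, Matrix.sub_mul, Matrix.add_mul, Matrix.mul_one, inv_mul_mat,
    Matrix.sub_apply, Matrix.add_apply, Matrix.mul_smul, Matrix.smul_mul, Matrix.mul_smul,
    Matrix.smul_mul, Matrix.smul_apply, Matrix.smul_apply, r2i_sandwich, r2i_sandwich,
    Matrix.one_apply, smul_eq_mul, smul_eq_mul]

theorem r2i_ib_ne_c1 (k : Fin m) (hk : k.val + 1 < m) : ib k ≠ c1 := by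
  intro h
  have := congrArg Fin.val h
  rw [val_ib, val_c1] at this
  omega

theorem r2i_ib_ne_c2 (k : Fin m) (hk : k.val + 1 < m) : ib k ≠ c2 := by
  intro h
  have := congrArg Fin.val h
  rw [val_ib, val_c2] at this
  omega

theorem r2i_rev_ib_ne_c1 (k : Fin m) (hk : k.val + 1 < m) : Fin.rev (ib k) ≠ c1 := by
  intro h
  have := congrArg Fin.val h
  rw [val_rev, val_ib, val_c1] at this
  omega

theorem r2i_rev_ib_ne_c2 (k : Fin m) (hk : k.val + 1 < m) : Fin.rev (ib k) ≠ c2 := by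
  intro h
  have := congrArg Fin.val h
  rw [val_rev, val_ib, val_c2] at this
  omega

theorem r2i_lo_ne_ib (k : Fin m) : lo k ≠ ib k := by
  intro h
  have := congrArg Fin.val h
  rw [val_lo, val_ib] at this
  omega

theorem r2i_perm_apply_inv (π : Equiv.Perm (Fin (2 * m + 2))) (x : Fin (2 * m + 2)) :
    π (π⁻¹ x) = x := π.apply_symm_apply x

theorem r2i_perm_inv_apply (π : Equiv.Perm (Fin (2 * m + 2))) (x : Fin (2 * m + 2)) :
    π⁻¹ (π x) = x := π.symm_apply_apply x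

/-- the inverse of a permutation fixing the middle sends outer positions to outer positions -/
theorem r2i_pos_inv_ne (π : Equiv.Perm (Fin (2 * m + 2))) (hπ1 : π c1 = c1) (hπ2 : π c2 = c2)
    (y : Fin (2 * m + 2)) (h1 : y ≠ c1) (h2 : y ≠ c2) : pos (π⁻¹ y) ≠ m := by
  intro h
  rcases (pos_eq_m_iff _).1 h with h' | h'
  · apply h1
    rw [← r2i_perm_apply_inv π y, h', hπ1]
  · apply h2
    rw [← r2i_perm_apply_inv π y, h', hπ2]

section core

variable (n : OG m α β) (π : Equiv.Perm (Fin (2 * m + 2))) (hπ1 : π c1 = c1) (hπ2 : π c2 = c2)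
  (hπ : ∀ r s : Fin (2 * m + 2), pos r ≠ pos (π s) → mat n r s = 0)
  (hπ' : ∀ r s : Fin (2 * m + 2), pos r ≠ pos (π⁻¹ s) → mat n⁻¹ r s = 0)

include hπ1 hπ2 hπ in
theorem r2i_inv_perm_rev (y : Fin (2 * m + 2)) : π⁻¹ (Fin.rev y) = Fin.rev (π⁻¹ y) := by
  apply π.injective
  rw [mono_perm_rev n π hπ1 hπ2 hπ, r2i_perm_apply_inv, r2i_perm_apply_inv]

include hπ1 hπ2 hπ hπ' in
/-- the product `n⁻¹ r a * n b s` vanishes unless `(pos r, pos s) = (pos (π⁻¹ a), pos (π⁻¹ b))` -/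
theorem r2i_term (a b : Fin (2 * m + 2)) (hb1 : b ≠ c1) (hb2 : b ≠ c2) (r s : Fin (2 * m + 2))
    (h : ¬ (pos r = pos (π⁻¹ a) ∧ pos s = pos (π⁻¹ b))) : mat n⁻¹ r a * mat n b s = 0 := by
  by_cases h1 : pos r = pos (π⁻¹ a)
  · by_cases h2 : pos b = pos (π s)
    · exfalso
      apply h
      refine ⟨h1, ?_⟩
      have e : π s = b := eq_of_pos_eq (π s) b h2.symm hb1 hb2
      rw [← e, r2i_perm_inv_apply]
    · rw [hπ b s h2, mul_zero]
  · rw [hπ' r a h1, zero_mul]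

include hπ1 hπ2 hπ hπ' in
/-- the core: if `π⁻¹` keeps the order of the blocks of `lo k`, `ib k`, then `n⁻¹ X_k n ⊆ B` -/
theorem r2i_core (k : Fin m) (hk : k.val + 1 < m)
    (H : pos (π⁻¹ (lo k)) < pos (π⁻¹ (ib k))) :
    ∀ x ∈ Xset α β k, n⁻¹ * x * n ∈ Bsub m α β := by
  intro x hx
  rcases hx with ⟨_, t, hx⟩ | ⟨hk', _⟩
  swap
  · omega
  have hent := r2i_conj_apply n x (lo k) (ib k) t hx
  have hrl : Fin.rev (lo k) ≠ c1 := by rw [rev_lo]; exact hi_ne_c1 k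
  have hrl2 : Fin.rev (lo k) ≠ c2 := by rw [rev_lo]; exact hi_ne_c2 k
  -- the middle rows
  have hmid : ∀ r s : Fin (2 * m + 2), pos r = m →
      mat (n⁻¹ * x * n) r s = if r = s then 1 else 0 := by
    intro r s hr
    rw [hent, r2i_term n π hπ1 hπ2 hπ hπ' (lo k) (ib k) (r2i_ib_ne_c1 k hk) (r2i_ib_ne_c2 k hk) r s,
      r2i_term n π hπ1 hπ2 hπ hπ' (Fin.rev (ib k)) (Fin.rev (lo k)) hrl hrl2 r s]
    · ring
    · rintro ⟨e, -⟩
      rw [hr] at e
      exact r2i_pos_inv_ne π hπ1 hπ2 _ (r2i_rev_ib_ne_c1 k hk) (r2i_rev_ib_ne_c2 k hk) e.symm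
    · rintro ⟨e, -⟩
      rw [hr] at e
      exact r2i_pos_inv_ne π hπ1 hπ2 _ (lo_ne_c1 k) (lo_ne_c2 k) e.symm
  rw [mem_Bsub_iff]
  refine ⟨fun r s hsr => ?_, ?_, ?_⟩
  · have hne : r ≠ s := fun h => by rw [h] at hsr; exact lt_irrefl _ hsr
    rw [hent, if_neg hne,
      r2i_term n π hπ1 hπ2 hπ hπ' (lo k) (ib k) (r2i_ib_ne_c1 k hk) (r2i_ib_ne_c2 k hk) r s,
      r2i_term n π hπ1 hπ2 hπ hπ' (Fin.rev (ib k)) (Fin.rev (lo k)) hrl hrl2 r s]
    · ring
    · rintro ⟨e1, e2⟩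
      rw [e1, e2, r2i_inv_perm_rev n π hπ1 hπ2 hπ, r2i_inv_perm_rev n π hπ1 hπ2 hπ,
        pos_rev_lt_iff] at hsr
      exact lt_asymm H hsr
    · rintro ⟨e1, e2⟩
      rw [e1, e2] at hsr
      exact lt_asymm H hsr
  · rw [hmid c1 c2 pos_c1, hmid c2 c1 pos_c2, if_neg c1_ne_c2, if_neg c1_ne_c2.symm, mul_zero]
  · rw [hmid c2 c2 pos_c2, hmid c1 c1 pos_c1, hmid c2 c1 pos_c2, if_pos rfl, if_pos rfl,
      if_neg c1_ne_c2.symm, mul_zero, add_zero]

end core

theorem r2i_sPerm_c1 (k : Fin m) (hk : k.val + 1 < m) : sPerm k (c1 : Fin (2 * m + 2)) = c1 := by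
  apply Fin.ext
  rw [val_sPerm k hk, val_c1]
  split_ifs <;> omega

theorem r2i_sPerm_c2 (k : Fin m) (hk : k.val + 1 < m) : sPerm k (c2 : Fin (2 * m + 2)) = c2 := by
  apply Fin.ext
  rw [val_sPerm k hk, val_c2]
  split_ifs <;> omega

theorem r2i_sPerm_lo (k : Fin m) (hk : k.val + 1 < m) : sPerm k (lo k) = ib k := by
  apply Fin.ext
  rw [val_sPerm k hk, val_lo, val_ib, if_pos rfl]

theorem r2i_sPerm_ib (k : Fin m) (hk : k.val + 1 < m) : sPerm k (ib k) = lo k := by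
  apply Fin.ext
  rw [val_sPerm k hk, val_lo, val_ib]
  split_ifs <;> omega

theorem r2i_sPerm_inv (k : Fin m) (hk : k.val + 1 < m) : (sPerm k)⁻¹ = sPerm k := by
  ext j
  rw [Equiv.Perm.inv_def]
  have : (sPerm k).symm j = sPerm k j := by
    rw [Equiv.symm_apply_eq, sPerm_sPerm k hk]
  rw [this]

theorem r2i_pMat_mul_apply (σ : Equiv.Perm (Fin (2 * m + 2)))
    (A : Matrix (Fin (2 * m + 2)) (Fin (2 * m + 2)) F) (r s : Fin (2 * m + 2)) :
    ((pMat σ : Matrix _ _ F) * A) r s = A (σ⁻¹ r) s := by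
  rw [Matrix.mul_apply, Finset.sum_eq_single (σ⁻¹ r)]
  · rw [pMat_apply, r2i_perm_apply_inv, if_pos rfl, one_mul]
  · intro j _ hj
    rw [pMat_apply, if_neg, zero_mul]
    intro h
    apply hj
    rw [h, r2i_perm_inv_apply]
  · intro h; exact absurd (Finset.mem_univ _) h

theorem r2i_mul_pMat_apply (σ : Equiv.Perm (Fin (2 * m + 2)))
    (A : Matrix (Fin (2 * m + 2)) (Fin (2 * m + 2)) F) (r s : Fin (2 * m + 2)) :
    (A * (pMat σ : Matrix _ _ F)) r s = A r (σ s) := by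
  rw [Matrix.mul_apply, Finset.sum_eq_single (σ s)]
  · rw [pMat_apply, if_pos rfl, mul_one]
  · intro j _ hj
    rw [pMat_apply, if_neg hj, mul_zero]
  · intro h; exact absurd (Finset.mem_univ _) h

/-- (R2-I) a block monomial matrix `n` or `s n` conjugates `X_k` into `B`, kind I -/
theorem conj_Xset_dichotomy_I (k : Fin m) (hk : k.val + 1 < m) (s : OG m α β)
    (hs : mat s = sMat α k) (n : OG m α β) (hn : n ∈ Mono1 m α β) :
    (∀ x ∈ Xset α β k, n⁻¹ * x * n ∈ Bsub m α β) ∨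
      (∀ x ∈ Xset α β k, (s * n)⁻¹ * x * (s * n) ∈ Bsub m α β) := by
  obtain ⟨π, hπ1, hπ2, hπ, hπ'⟩ := (mem_Mono1_iff n).1 hn
  rw [sMat_of_lt α k hk] at hs
  have hne : pos (π⁻¹ (lo k)) ≠ pos (π⁻¹ (ib k)) := by
    intro h
    have h1 : π⁻¹ (ib k) ≠ c1 := by
      intro h'
      apply r2i_ib_ne_c1 k hk
      rw [← r2i_perm_apply_inv π (ib k), h', hπ1]
    have h2 : π⁻¹ (ib k) ≠ c2 := by
      intro h'
      apply r2i_ib_ne_c2 k hk
      rw [← r2i_perm_apply_inv π (ib k), h', hπ2]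
    exact r2i_lo_ne_ib k (π⁻¹.injective (eq_of_pos_eq _ _ h h1 h2))
  rcases lt_or_gt_of_ne hne with h | h
  · left
    exact r2i_core n π hπ1 hπ2 hπ hπ' k hk h
  · right
    have hσσ : sPerm k * sPerm k = 1 := by
      ext j
      rw [Equiv.Perm.mul_apply, sPerm_sPerm k hk, Equiv.Perm.one_apply]
    have hss : s * s = 1 := by
      apply mat_injective
      rw [mat_mul, hs, pMat_mul, hσσ, pMat_one, mat_one]
    have hsinv : s⁻¹ = s := inv_eq_of_mul_eq_one_right hss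
    have hρinv : ∀ y : Fin (2 * m + 2), (sPerm k * π)⁻¹ y = π⁻¹ (sPerm k y) := by
      intro y
      rw [_root_.mul_inv_rev, Equiv.Perm.mul_apply, r2i_sPerm_inv k hk]
    apply r2i_core (s * n) (sPerm k * π)
      (by rw [Equiv.Perm.mul_apply, hπ1, r2i_sPerm_c1 k hk])
      (by rw [Equiv.Perm.mul_apply, hπ2, r2i_sPerm_c2 k hk]) ?_ ?_ k hk
    · rw [hρinv, hρinv, r2i_sPerm_lo k hk, r2i_sPerm_ib k hk]
      exact h
    · intro r s' hrs
      rw [mat_mul, hs, r2i_pMat_mul_apply, r2i_sPerm_inv k hk]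
      apply hπ
      intro h'
      apply hrs
      have := pos_perm_congr (sPerm k) (r2i_sPerm_c1 k hk) (r2i_sPerm_c2 k hk) _ _ h'
      rw [sPerm_sPerm k hk] at this
      exact this
    · intro r s' hrs
      rw [_root_.mul_inv_rev, hsinv, mat_mul, hs, r2i_mul_pMat_apply]
      apply hπ'
      rw [← hρinv]
      exact hrs

end Cfsg.Agent.Helper65.OmBN
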