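import Mathlib
import Cfsg.Agent.Helper5.OmBN.Defs

/-!
# S2549 (helper5), piece (P9): `U` is a `p`-group.
-/

set_option autoImplicit false
set_option linter.unusedSectionVars false

namespace Cfsg.Agent.Helper65.OmBN

open Matrix Cfsg.Agent.Helper5.OmBN

variable {F : Type*} [Field F] {m : ℕ} {α β : F}

theorem p9_pos_le (r : Fin (2 * m + 2)) : pos r ≤ 2 * m + 1 := by
  have := r.2
  unfold pos
  split_ifs <;> omega

/-- powers of a strictly block upper triangular matrix -/
theorem p9_pow_apply_ne_zero (A : Matrix (Fin (2 * m + 2)) (Fin (2 * m + 2)) F)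
    (hA : ∀ r k, A r k ≠ 0 → pos r < pos k) :
    ∀ j : ℕ, ∀ r k, (A ^ j) r k ≠ 0 → pos r + j ≤ pos k := by
  intro j
  induction j with
  | zero =>
    intro r k h
    rw [pow_zero, Matrix.one_apply] at h
    by_cases hrk : r = k
    · rw [hrk]; omega
    · rw [if_neg hrk] at h; exact absurd rfl h
  | succ j ih =>
    intro r k h
    rw [pow_succ, Matrix.mul_apply] at h
    obtain ⟨l, -, hl⟩ := Finset.exists_ne_zero_of_sum_ne_zero h
    have h1 : (A ^ j) r l ≠ 0 := left_ne_zero_of_mul hl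
    have h2 : A l k ≠ 0 := right_ne_zero_of_mul hl
    have := ih r l h1
    have := hA l k h2
    omega

theorem p9_mat_pow (u : OG m α β) (j : ℕ) : mat (u ^ j) = mat u ^ j := by
  induction j with
  | zero => rw [pow_zero, pow_zero, mat_one]
  | succ j ih => rw [pow_succ, pow_succ, mat_mul, ih]

/-- (P9) `U` is a `p`-group -/
theorem Usub_isPGroup (p : ℕ) [Fact p.Prime] [CharP F p] : IsPGroup p (Usub m α β) := by
  have hp : p.Prime := Fact.out
  intro g
  obtain ⟨u, hu⟩ := g
  obtain ⟨hup, hdiag⟩ := (mem_Usub_iff u).1 hu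
  obtain ⟨A, hAdef⟩ : ∃ A : Matrix (Fin (2 * m + 2)) (Fin (2 * m + 2)) F, A = mat u - 1 := ⟨_, rfl⟩
  have hA : ∀ r k, A r k ≠ 0 → pos r < pos k := by
    intro r k h
    by_contra hlt
    apply h
    rw [hAdef, Matrix.sub_apply]
    rcases Nat.lt_or_ge (pos k) (pos r) with h1 | h1
    · have hne : r ≠ k := by
        intro e; rw [e] at h1; exact lt_irrefl _ h1
      rw [hup r k h1, Matrix.one_apply_ne hne, sub_zero]
    · have hrk : pos r = pos k := by omega
      rw [hdiag r k hrk, Matrix.one_apply, sub_self]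
  have hA0 : A ^ (2 * m + 2) = 0 := by
    ext r k
    by_contra h
    have h1 := p9_pow_apply_ne_zero A hA (2 * m + 2) r k h
    have h2 := p9_pos_le k
    omega
  obtain ⟨e, he⟩ : ∃ e : ℕ, 2 * m + 2 ≤ p ^ e := ⟨2 * m + 2, (Nat.lt_pow_self hp.one_lt).le⟩
  have hApe : A ^ (p ^ e) = 0 := by
    rw [← Nat.sub_add_cancel he, pow_add, hA0, mul_zero]
  refine ⟨e, ?_⟩
  apply Subtype.ext
  apply mat_injective
  show mat (u ^ p ^ e) = mat 1
  rw [p9_mat_pow, mat_one]
  have hu1 : mat u = 1 + A := by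
    rw [hAdef]; abel
  rw [hu1, add_pow_char_pow_of_commute p e (Commute.one_left A), one_pow, hApe, add_zero]

end Cfsg.Agent.Helper65.OmBN
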