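import Mathlib
import Cfsg.Agent.Helper5.OmBN.Defs

/-!
# S2549 (helper5), piece (UN): `U` is normal in `B`.
-/

set_option autoImplicit false
set_option linter.unusedSectionVars false

namespace Cfsg.Agent.Helper65.OmBN

open Matrix Cfsg.Agent.Helper5.OmBN

variable {F : Type*} [Field F] {m : ℕ} {α β : F}

/-- (UN) `U` is normal in `B` -/
theorem conj_mem_Usub (b : OG m α β) (hb : b ∈ Bsub m α β) (u : OG m α β) (hu : u ∈ Usub m α β) :
    b⁻¹ * u * b ∈ Usub m α β := by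
  have hbF : b ∈ Bfull m α β := Bsub_le_Bfull hb
  have hbiF : b⁻¹ ∈ Bfull m α β := (Bfull m α β).inv_mem hbF
  have huF : u ∈ Bfull m α β := Bsub_le_Bfull (Usub_le_Bsub hu)
  have h1 : b⁻¹ * u ∈ Bfull m α β := (Bfull m α β).mul_mem hbiF huF
  have h2 : b⁻¹ * u * b ∈ Bfull m α β := (Bfull m α β).mul_mem h1 hbF
  obtain ⟨-, hud⟩ := (mem_Usub_iff u).1 hu
  rw [mem_Usub_iff]
  refine ⟨(mem_Bfull_iff _).1 h2, fun r s hrs => ?_⟩
  by_cases hr : r = c1 ∨ r = c2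
  · have hpr : pos r = m := (pos_eq_m_iff r).2 hr
    have hps : pos s = m := by rw [← hrs, hpr]
    have e1 : mat (b⁻¹ * u) r c1 = mat b⁻¹ r c1 := by
      rw [mul_apply_mid b⁻¹ u hbiF huF r c1 hpr pos_c1, hud c1 c1 rfl, if_pos rfl,
        hud c2 c1 (by rw [pos_c1, pos_c2]), if_neg c1_ne_c2.symm, mul_one, mul_zero, add_zero]
    have e2 : mat (b⁻¹ * u) r c2 = mat b⁻¹ r c2 := by
      rw [mul_apply_mid b⁻¹ u hbiF huF r c2 hpr pos_c2, hud c2 c2 rfl, if_pos rfl,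
        hud c1 c2 (by rw [pos_c1, pos_c2]), if_neg c1_ne_c2, mul_one, mul_zero, zero_add]
    rw [mul_apply_mid (b⁻¹ * u) b h1 hbF r s hpr hps, e1, e2,
      ← mul_apply_mid b⁻¹ b hbiF hbF r s hpr hps, inv_mul_cancel, mat_one, Matrix.one_apply]
  · rw [not_or] at hr
    have hsr : s = r := eq_of_pos_eq s r hrs.symm hr.1 hr.2
    subst hsr
    rw [if_pos rfl, mul_apply_diag (b⁻¹ * u) b h1 hbF s hr.1 hr.2,
      mul_apply_diag b⁻¹ u hbiF huF s hr.1 hr.2, hud s s rfl, if_pos rfl, mul_one,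
      ← mul_apply_diag b⁻¹ b hbiF hbF s hr.1 hr.2, inv_mul_cancel, mat_one, Matrix.one_apply_eq]

end Cfsg.Agent.Helper65.OmBN
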