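import Cfsg.Agent.Helper91.FTC.Spec

/-!
Helper65 for helper91, FastTC (S1690), piece (TRANS): the parent letters make the action transitive.
-/

set_option autoImplicit false

namespace Cfsg.Agent.Helper65.FTC

open Cfsg.Agent.Helper91.FTC

variable {Γ : Type*} [Group Γ]

/-- what a successful parent check says -/
theorem TRANS_chkPar (P : PTab) (pl : ℕ → ℕ) (p : ℕ) (h : chkPar P pl p = true) :
    pl p < P.g ∧ P.t (pl p) p < p := by
  have h' : sel (Nat.blt (pl p) P.g) (Nat.blt (P.t (pl p) p) p) false = true := by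
    have h0 : chkPar P pl p =
        frc (pl p) fun y => sel (Nat.blt y P.g) (Nat.blt (P.t y p) p) false := rfl
    rw [h0, frc_eq] at h
    exact h
  cases h1 : Nat.blt (pl p) P.g with
  | false =>
    rw [h1] at h'
    exact absurd h' (by simp)
  | true =>
    rw [h1] at h'
    have h2 : Nat.blt (P.t (pl p) p) p = true := h'
    rw [Nat.blt_eq] at h1 h2
    exact ⟨h1, h2⟩

/-- (TRANS) the parent letters make the action transitive. -/
theorem exists_word_of_par (P : PTab) (σ : ℕ → Equiv.Perm (Fin P.n))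
    (hσ : ∀ y, y < P.g → (∀ p : Fin P.n, ((σ y p : Fin P.n) : ℕ) = P.t y p) ∧ σ y * σ y = 1)
    (pl : ℕ → ℕ) (hpar : ∀ p, 0 < p → p < P.n → chkPar P pl p = true) (hn : 0 < P.n) :
    ∀ p : Fin P.n, ∃ w : List ℕ, (∀ z ∈ w, z < P.g) ∧ (w.map σ).prod ⟨0, hn⟩ = p := by
  have key : ∀ k : ℕ, ∀ p : Fin P.n, (p : ℕ) = k →
      ∃ w : List ℕ, (∀ z ∈ w, z < P.g) ∧ (w.map σ).prod ⟨0, hn⟩ = p := by
    intro k
    induction k using Nat.strong_induction_on with
    | _ k ih =>
      intro p hpk
      by_cases h0 : (p : ℕ) = 0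
      · refine ⟨[], by simp, ?_⟩
        apply Fin.ext
        simp [h0]
      · have hpos : 0 < (p : ℕ) := Nat.pos_of_ne_zero h0
        obtain ⟨hy, hlt⟩ := TRANS_chkPar P pl p (hpar p hpos p.2)
        obtain ⟨hval, hsq⟩ := hσ (pl p) hy
        have hlt' : ((σ (pl p) p : Fin P.n) : ℕ) < k := by
          rw [hval p, ← hpk]; exact hlt
        obtain ⟨w, hw, hprod⟩ := ih _ hlt' (σ (pl p) p) rfl
        refine ⟨pl p :: w, ?_, ?_⟩
        · intro z hz
          rcases List.mem_cons.mp hz with rfl | hz'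
          · exact hy
          · exact hw z hz'
        · rw [List.map_cons, List.prod_cons, Equiv.Perm.mul_apply, hprod,
            ← Equiv.Perm.mul_apply, hsq, Equiv.Perm.one_apply]
  intro p
  exact key p p rfl

end Cfsg.Agent.Helper65.FTC
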