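import Mathlib
import Cfsg.Agent.Helper15.MixDefs
import Cfsg.Agent.Helper22.Sup

/-!
# (D5) for helper15 (S4017): a subgroup of odd order normalized by an involution is a `p`-group
-/

set_option autoImplicit false

namespace Cfsg.Agent.Helper65.Mix

open Subgroup
open Cfsg.Agent.Helper15.Mix

variable {G : Type*} [Group G] [Finite G] {p a : ℕ}

/-- (D5) a subgroup of odd order normalized by an involution is a `p`-group. -/
theorem isPGroup_of_odd (h : MC G p a) (D : Subgroup G) (hD : Odd (Nat.card D)) {t : G}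
    (ht : orderOf t = 2) (htD : t ∈ normalizer (D : Set G)) : IsPGroup p D := by
  haveI : Fact p.Prime := ⟨h.hp⟩
  by_cases hD1 : D = ⊥
  · subst hD1
    exact IsPGroup.of_bot
  set H : Subgroup G := zpowers t ⊔ D with hH
  have hzt : Nat.card (zpowers t) = 2 := by rw [Nat.card_zpowers, ht]
  have hle : zpowers t ≤ normalizer (D : Set G) := by
    rw [zpowers_le]; exact htD
  have hdvd : Nat.card H ∣ 2 * Nat.card D := by
    have := Cfsg.Agent.Helper22.card_sup_dvd_of_le_normalizer (zpowers t) D hle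
    rwa [hzt] at this
  have h2H : 2 ∣ Nat.card H := by
    rw [← hzt]; exact Subgroup.card_dvd_of_le le_sup_left
  have hDH : Nat.card D ∣ Nat.card H := Subgroup.card_dvd_of_le le_sup_right
  have hD1' : 1 < Nat.card D := by
    rw [Subgroup.one_lt_card_iff_ne_bot]; exact hD1
  have h2D : ¬ 2 ∣ Nat.card D := by
    intro h2
    obtain ⟨m, hm⟩ := hD
    omega
  have hn2 : ¬ IsPGroup 2 H := by
    intro hp2
    haveI : Fact (Nat.Prime 2) := ⟨Nat.prime_two⟩
    obtain ⟨n, hn⟩ := (IsPGroup.iff_card).mp hp2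
    rw [hn] at hDH
    obtain ⟨k, -, hk'⟩ := (Nat.dvd_prime_pow Nat.prime_two).mp hDH
    cases k with
    | zero => rw [hk', pow_zero] at hD1'; exact absurd hD1' (lt_irrefl 1)
    | succ k => exact h2D (by rw [hk', pow_succ]; exact dvd_mul_left 2 _)
  have hHtop : H ≠ ⊤ := by
    intro htop
    rw [htop, Subgroup.card_top] at hdvd
    have h4 : 2 ^ a ∣ Nat.card G := by
      have := Nat.ordProj_dvd (Nat.card G) 2
      rwa [h.hcard] at this
    have h4' : 4 ∣ 2 ^ a := by
      have : (4 : ℕ) = 2 ^ 2 := by norm_num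
      rw [this]; exact pow_dvd_pow 2 h.ha
    have h5 : 4 ∣ 2 * Nat.card D := (h4'.trans h4).trans hdvd
    obtain ⟨m, hm⟩ := hD
    omega
  have hcard : Nat.card D = p ^ (Nat.card D).primeFactorsList.length := by
    apply Nat.eq_prime_pow_of_unique_prime_dvd (by omega)
    intro r hr hrD
    rcases h.f1 H hHtop h2H hn2 r hr (hrD.trans hDH) with h1 | h1
    · exact h1
    · exact absurd (h1 ▸ hrD) h2D
  exact IsPGroup.of_card hcard

end Cfsg.Agent.Helper65.Mix
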