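import Mathlib
import Cfsg.Agent.Helper15.MixDefs

/-!
# Small facts on `MC` and `Cfg` (helper65, for the pieces (C3), (U1) of helper15's S4017)
-/

set_option autoImplicit false

namespace Cfsg.Agent.Helper65.Mix

open Subgroup
open Cfsg.Agent.Helper15.Mix

variable {G : Type*} [Group G] {p a : ℕ} {Q : Subgroup G} {x : G}

theorem mc_two_lt (h : MC G p a) : 2 < p := by
  have h4 : 2 ^ 2 ≤ 2 ^ a := Nat.pow_le_pow_right (by norm_num) h.ha
  have := h.hpa
  omega

theorem mc_p_ne_two (h : MC G p a) : p ≠ 2 := by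
  have := mc_two_lt h
  omega

theorem mc_coprime_two (h : MC G p a) (j : ℕ) : Nat.Coprime 2 (p ^ j) :=
  Nat.Coprime.pow_right j
    ((Nat.coprime_primes Nat.prime_two h.hp).mpr (Ne.symm (mc_p_ne_two h)))

/-- an element which is both a `2`-element and a `p`-element is trivial. -/
theorem mc_eq_one_of_two_pow (h : MC G p a) {g : G} {k : ℕ} (h2 : g ^ 2 ^ k = 1)
    (hg : IsPElt p g) : g = 1 := by
  obtain ⟨j, hj⟩ := hg
  have h1 : orderOf g ∣ 2 ^ k := orderOf_dvd_of_pow_eq_one h2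
  have h3 : Nat.Coprime (2 ^ k) (p ^ j) := Nat.Coprime.pow_left k (mc_coprime_two h j)
  rw [← hj] at h3
  have h4 : orderOf g = 1 := Nat.Coprime.eq_one_of_dvd h3.symm h1
  exact orderOf_eq_one_iff.mp h4

theorem mc_eq_one_of_sq (h : MC G p a) {g : G} (h2 : g * g = 1) (hg : IsPElt p g) : g = 1 :=
  mc_eq_one_of_two_pow h (k := 1) (by rw [pow_one, pow_two]; exact h2) hg

/-- a subgroup containing a nontrivial `p`-element is not a `2`-group. -/
theorem mc_not_isPGroup_two (h : MC G p a) {H : Subgroup G} {g : G} (hg : g ∈ H)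
    (hgp : IsPElt p g) (hg1 : g ≠ 1) : ¬ IsPGroup 2 H := by
  intro h2
  obtain ⟨k, hk⟩ := h2 ⟨g, hg⟩
  have hk' : g ^ 2 ^ k = 1 := by
    have := congrArg Subtype.val hk
    simpa using this
  exact hg1 (mc_eq_one_of_two_pow h hk' hgp)

/-- being a `p`-element from a power equation. -/
theorem isPElt_of_pow_eq_one (hp : p.Prime) {g : G} {k : ℕ} (hk : g ^ p ^ k = 1) : IsPElt p g := by
  obtain ⟨j, -, hj⟩ := (Nat.dvd_prime_pow hp).mp (orderOf_dvd_of_pow_eq_one hk)
  exact ⟨j, hj⟩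

theorem isPElt_of_mem (hp : p.Prime) {H : Subgroup G} (hH : IsPGroup p H) {g : G} (hg : g ∈ H) :
    IsPElt p g := by
  obtain ⟨k, hk⟩ := hH ⟨g, hg⟩
  have hk' : g ^ p ^ k = 1 := by
    have := congrArg Subtype.val hk
    simpa using this
  exact isPElt_of_pow_eq_one hp hk'

theorem isPGroup_zpowers_of_isPElt [Finite G] (hp : p.Prime) {g : G} (hg : IsPElt p g) :
    IsPGroup p (zpowers g) := by
  haveI : Fact p.Prime := ⟨hp⟩
  obtain ⟨j, hj⟩ := hg
  apply IsPGroup.of_card (n := j)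
  rw [Nat.card_zpowers, hj]

/-- a `p`-element normalising a Sylow `p`-subgroup lies in it. -/
theorem mem_sylow_of_isPElt [Finite G] {q : ℕ} [Fact q.Prime] (P : Sylow q G) (g : G)
    (hx : g ∈ normalizer ((P : Subgroup G) : Set G)) (hg : IsPElt q g) :
    g ∈ (P : Subgroup G) := by
  have hz : IsPGroup q (zpowers g) := isPGroup_zpowers_of_isPElt Fact.out hg
  have hle : zpowers g ≤ normalizer ((P : Subgroup G) : Set G) := by
    rw [zpowers_le]; exact hx
  have hsup : IsPGroup q (zpowers g ⊔ (P : Subgroup G) : Subgroup G) :=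
    IsPGroup.to_sup_of_normal_right' hz P.isPGroup' hle
  have := P.is_maximal' hsup le_sup_right
  have h1 : zpowers g ≤ (P : Subgroup G) := by
    rw [← this]; exact le_sup_left
  exact h1 (mem_zpowers g)

theorem cfg_four_le_card (h : Cfg G p a Q x) : 4 ≤ Nat.card Q := by
  rw [h.qcard]
  calc 4 = 2 ^ 2 := by norm_num
    _ ≤ 2 ^ a := Nat.pow_le_pow_right (by norm_num) h.mc.ha

theorem cfg_exists_two_ne [Finite G] (h : Cfg G p a Q x) :
    ∃ u ∈ Q, ∃ v ∈ Q, u ≠ 1 ∧ v ≠ 1 ∧ u ≠ v := by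
  have h4 := cfg_four_le_card h
  have hQ1 : Q ≠ ⊥ := by
    intro hb
    rw [hb, Subgroup.card_bot] at h4
    omega
  obtain ⟨⟨u, hu⟩, hu1⟩ := (Subgroup.ne_bot_iff_exists_ne_one).mp hQ1
  have hu1' : u ≠ 1 := fun h0 => hu1 (Subtype.ext h0)
  have hzle : zpowers u ≤ Q := by
    rw [zpowers_le]; exact hu
  have hzc : Nat.card (zpowers u) ≤ 2 := by
    rw [Nat.card_zpowers]
    have : orderOf u ∣ 2 := orderOf_dvd_of_pow_eq_one (by rw [pow_two]; exact h.qexp u hu)
    exact Nat.le_of_dvd (by norm_num) this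
  have hex : ∃ v ∈ Q, v ∉ zpowers u := by
    by_contra hcon
    push_neg at hcon
    have hle : Q ≤ zpowers u := fun v hv => hcon v hv
    have := Subgroup.card_le_of_le hle
    omega
  obtain ⟨v, hv, hvz⟩ := hex
  refine ⟨u, hu, v, hv, hu1', ?_, ?_⟩
  · rintro rfl
    exact hvz (one_mem _)
  · rintro rfl
    exact hvz (mem_zpowers _)

theorem cfg_x_not_comm [Finite G] (h : Cfg G p a Q x) : ¬ ∀ u ∈ Q, x * u = u * x := by
  intro hc
  obtain ⟨u, hu, v, hv, hu1, hv1, huv⟩ := cfg_exists_two_ne h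
  obtain ⟨k, hk⟩ := h.xtrans u hu v hv hu1 hv1
  apply huv
  have hcu : Commute x u := hc u hu
  have hck : Commute (x ^ k) u := hcu.pow_left k
  rw [← hk, hck.eq, mul_inv_cancel_right]

theorem cfg_x_ne_one [Finite G] (h : Cfg G p a Q x) : x ≠ 1 := by
  rintro rfl
  apply cfg_x_not_comm h
  intro u _
  rw [one_mul, mul_one]

theorem cfg_exists_sylow [Finite G] (h : Cfg G p a Q x) :
    ∃ S : @Sylow 2 G _, (S : Subgroup G) = Q := by
  haveI : Fact (Nat.Prime 2) := ⟨Nat.prime_two⟩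
  exact ⟨Sylow.ofCard Q (by rw [h.qcard, h.mc.hcard]), rfl⟩

theorem cfg_two_dvd_card_of_le [Finite G] (h : Cfg G p a Q x) {E : Subgroup G} (hQE : Q ≤ E) :
    2 ∣ Nat.card E := by
  have h1 : Nat.card Q ∣ Nat.card E := Subgroup.card_dvd_of_le hQE
  rw [h.qcard] at h1
  have ha := h.mc.ha
  exact (dvd_pow_self 2 (by omega)).trans h1

end Cfsg.Agent.Helper65.Mix
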