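import Mathlib
import Cfsg.Agent.Helper15.MixDefs
import Cfsg.Agent.Helper65.MixBasic65
import Cfsg.Agent.Lib.BurnsidePQ
import Cfsg.Agent.Lib.Cores
import Cfsg.Agent.Helper55.SolvCore

/-!
# (C3) for helper15 (S4017): `N(Q)` is a maximal subgroup
-/

set_option autoImplicit false

namespace Cfsg.Agent.Helper65.Mix

open Subgroup
open Cfsg.Agent.Helper15.Mix

variable {G : Type*} [Group G] [Finite G] {p a : ℕ} {Q : Subgroup G} {x : G}

/-- (C3) `N(Q)` is a maximal subgroup. -/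
theorem le_normalizer_of_ge (h : Cfg G p a Q x) (E : Subgroup G)
    (hNE : normalizer (Q : Set G) ≤ E) (hE : E ≠ ⊤) : E ≤ normalizer (Q : Set G) := by
  haveI : Fact p.Prime := ⟨h.mc.hp⟩
  haveI : Fact (Nat.Prime 2) := ⟨Nat.prime_two⟩
  have hQN : Q ≤ normalizer (Q : Set G) := le_normalizer
  have hQE : Q ≤ E := hQN.trans hNE
  have hxE : x ∈ E := hNE h.xN
  have hx1 : x ≠ 1 := cfg_x_ne_one h
  have h2E : 2 ∣ Nat.card E := cfg_two_dvd_card_of_le h hQE
  have hn2 : ¬ IsPGroup 2 E := mc_not_isPGroup_two h.mc hxE h.xp hx1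
  have hpr := h.mc.f1 E hE h2E hn2
  haveI hsol : Group.IsSolvable ↥E :=
    Cfsg.Agent.Lib.isSolvable_of_prime_dvd_card h.mc.hp Nat.prime_two hpr
  by_cases hO2 : Cfsg.pCore 2 ↥E = ⊥
  · exfalso
    -- `O_{p'}(E) = 1`
    have hPP : Cfsg.pPrimeCore p ↥E = ⊥ := by
      have hcop := Cfsg.Agent.Lib.card_pPrimeCore_coprime (G := ↥E) p
      have h2grp : IsPGroup 2 (Cfsg.pPrimeCore p ↥E) := by
        apply IsPGroup.of_card (n := (Nat.card (Cfsg.pPrimeCore p ↥E)).primeFactorsList.length)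
        apply Nat.eq_prime_pow_of_unique_prime_dvd Nat.card_pos.ne'
        intro r hr hrd
        have hrE : r ∣ Nat.card E := hrd.trans (Subgroup.card_subgroup_dvd_card _)
        rcases hpr r hr hrE with h1 | h1
        · exfalso
          subst h1
          have := Nat.Coprime.eq_one_of_dvd hcop.symm hrd
          exact hr.one_lt.ne' this
        · exact h1
      have := Cfsg.Agent.Lib.le_pCore (Cfsg.pPrimeCore_normal p ↥E) h2grp
      rw [hO2] at this
      exact le_bot_iff.mp this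
    have hC := Cfsg.Agent.Helper55.centralizer_pCore_le (G := ↥E) p hPP
    obtain ⟨PE⟩ : Nonempty (Sylow p ↥E) := inferInstance
    have hle : Cfsg.pCore p ↥E ≤ PE := Cfsg.Agent.Lib.pCore_le_sylow PE
    have hPEab : ∀ s ∈ (PE : Subgroup ↥E), ∀ t ∈ (PE : Subgroup ↥E), s * t = t * s := by
      intro s hs t ht
      have hmap : IsPGroup p ((PE : Subgroup ↥E).map E.subtype) := PE.isPGroup'.map E.subtype
      have := h.mc.pab _ hmap s.1 (mem_map_of_mem E.subtype hs) t.1 (mem_map_of_mem E.subtype ht)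
      exact Subtype.ext this
    have hPEle : (PE : Subgroup ↥E) ≤ Cfsg.pCore p ↥E := by
      intro s hs
      apply hC
      rw [mem_centralizer_iff]
      intro t ht
      exact hPEab t (hle ht) s hs
    have hPEeq : Cfsg.pCore p ↥E = PE := le_antisymm hle hPEle
    have hxO : (⟨x, hxE⟩ : ↥E) ∈ Cfsg.pCore p ↥E := by
      have hxp : IsPElt p (⟨x, hxE⟩ : ↥E) := by
        obtain ⟨j, hj⟩ := h.xp
        refine ⟨j, ?_⟩
        rw [← hj]
        exact (Subgroup.orderOf_coe (⟨x, hxE⟩ : ↥E)).symm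
      have hz : IsPGroup p (zpowers (⟨x, hxE⟩ : ↥E)) := isPGroup_zpowers_of_isPElt h.mc.hp hxp
      obtain ⟨P', hP'⟩ := hz.exists_le_sylow
      have h1 : Cfsg.pCore p ↥E ≤ P' := Cfsg.Agent.Lib.pCore_le_sylow P'
      have h2 : (P' : Subgroup ↥E) = PE := PE.is_maximal' P'.isPGroup' (hPEeq ▸ h1)
      rw [hPEeq, ← h2]
      exact hP' (mem_zpowers _)
    apply cfg_x_not_comm h
    intro u hu
    have hcQ : x * u * x⁻¹ * u⁻¹ ∈ Q :=
      Q.mul_mem ((mem_normalizer_iff.mp h.xN u).1 hu) (Q.inv_mem hu)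
    have hc2 := h.qexp _ hcQ
    have hOn : (Cfsg.pCore p ↥E).Normal := Cfsg.pCore_normal p ↥E
    have hcO : (⟨x, hxE⟩ : ↥E) * ((⟨u, hQE hu⟩ : ↥E) * (⟨x, hxE⟩ : ↥E)⁻¹ * (⟨u, hQE hu⟩ : ↥E)⁻¹) ∈
        Cfsg.pCore p ↥E :=
      (Cfsg.pCore p ↥E).mul_mem hxO (hOn.conj_mem _ ((Cfsg.pCore p ↥E).inv_mem hxO) _)
    have hcp : IsPElt p (x * u * x⁻¹ * u⁻¹) := by
      have h1 := isPElt_of_mem h.mc.hp (Cfsg.Agent.Lib.isPGroup_pCore (G := ↥E) p) hcO
      obtain ⟨j, hj⟩ := h1
      refine ⟨j, ?_⟩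
      rw [← hj, ← Subgroup.orderOf_coe]
      congr 1
      show x * u * x⁻¹ * u⁻¹ = x * (u * x⁻¹ * u⁻¹)
      group
    have hc1 := mc_eq_one_of_sq h.mc hc2 hcp
    have : x * u = (x * u * x⁻¹ * u⁻¹) * (u * x) := by group
    rw [this, hc1, one_mul]
  · -- `O_2(E) ≠ 1`: then it equals `Q`
    have hO2n : (Cfsg.pCore 2 ↥E).Normal := Cfsg.pCore_normal 2 ↥E
    have hfac : (Nat.card ↥E).factorization 2 = a := by
      apply le_antisymm
      · have := (Nat.factorization_le_iff_dvd Nat.card_pos.ne' Nat.card_pos.ne').mpr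
          (Subgroup.card_subgroup_dvd_card E) 2
        rwa [h.mc.hcard] at this
      · have h1 : Nat.card Q ∣ Nat.card E := Subgroup.card_dvd_of_le hQE
        rw [h.qcard] at h1
        exact (Nat.Prime.pow_dvd_iff_le_factorization Nat.prime_two Nat.card_pos.ne').mp h1
    have hcardQE : Nat.card (Q.subgroupOf E) = 2 ^ (Nat.card ↥E).factorization 2 := by
      rw [hfac, ← h.qcard]
      exact Nat.card_congr (Subgroup.subgroupOfEquivOfLe hQE).toEquiv
    set QE : Sylow 2 ↥E := Sylow.ofCard (Q.subgroupOf E) hcardQE with hQEdef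
    have hQEcoe : (QE : Subgroup ↥E) = Q.subgroupOf E := rfl
    have hO2le : Cfsg.pCore 2 ↥E ≤ Q.subgroupOf E := by
      rw [← hQEcoe]
      exact Cfsg.Agent.Lib.pCore_le_sylow QE
    obtain ⟨⟨u', hu'⟩, hu'1⟩ := (Subgroup.ne_bot_iff_exists_ne_one).mp hO2
    have huQ : (u' : G) ∈ Q := by
      have := hO2le hu'
      rwa [mem_subgroupOf] at this
    have hu1 : (u' : G) ≠ 1 := by
      intro h0
      apply hu'1
      apply Subtype.ext
      apply Subtype.ext
      exact h0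
    have hQEle : Q.subgroupOf E ≤ Cfsg.pCore 2 ↥E := by
      rintro ⟨v, hvE⟩ hv
      rw [mem_subgroupOf] at hv
      by_cases hv1 : v = 1
      · subst hv1
        exact (Cfsg.pCore 2 ↥E).one_mem
      · obtain ⟨k, hk⟩ := h.xtrans (u' : G) huQ v hv hu1 hv1
        have := hO2n.conj_mem u' hu' ((⟨x, hxE⟩ : ↥E) ^ k)
        have he : (⟨x, hxE⟩ : ↥E) ^ k * u' * ((⟨x, hxE⟩ : ↥E) ^ k)⁻¹ = ⟨v, hvE⟩ := by
          apply Subtype.ext
          simpa using hk
        rwa [he] at this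
    have hQEn : (Q.subgroupOf E).Normal := by
      have : Q.subgroupOf E = Cfsg.pCore 2 ↥E := le_antisymm hQEle hO2le
      rw [this]
      exact hO2n
    intro e he
    have key : ∀ e ∈ E, ∀ g ∈ Q, e * g * e⁻¹ ∈ Q := by
      intro e he g hg
      have h1 : (⟨g, hQE hg⟩ : ↥E) ∈ Q.subgroupOf E := by
        rw [mem_subgroupOf]
        exact hg
      have h2 := hQEn.conj_mem _ h1 ⟨e, he⟩
      rw [mem_subgroupOf] at h2
      simpa using h2
    rw [mem_normalizer_iff]
    intro g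
    constructor
    · intro hg
      exact key e he g hg
    · intro hg
      have := key e⁻¹ (E.inv_mem he) _ hg
      have e2 : e⁻¹ * (e * g * e⁻¹) * e⁻¹⁻¹ = g := by group
      rwa [e2] at this

end Cfsg.Agent.Helper65.Mix
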