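import Mathlib
import Cfsg.Agent.Helper15.MixDefs
import Cfsg.Agent.Helper65.MixBasic65

/-!
# (U1) for helper15 (S4017): uniqueness of the Sylow `p`-subgroup through a `p`-element
commuting with an involution (case `Y = 1`)
-/

set_option autoImplicit false

namespace Cfsg.Agent.Helper65.Mix

open Subgroup
open scoped Pointwise
open Cfsg.Agent.Helper15.Mix

/-- membership in a conjugate Sylow subgroup. -/
theorem conj_mem_smul_sylow2 {G : Type*} [Group G] {q : ℕ} (S : Sylow q G) (g y : G)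
    (hy : y ∈ (S : Subgroup G)) : g * y * g⁻¹ ∈ ((g • S : Sylow q G) : Subgroup G) := by
  rw [Sylow.coe_subgroup_smul, Subgroup.mem_pointwise_smul_iff_inv_smul_mem, MulAut.smul_def,
    MulAut.conj_inv_apply]
  have e : g⁻¹ * (g * y * g⁻¹) * g = y := by group
  rw [e]
  exact hy

/-- a `p`-element normalising a subgroup of order at most `p` centralises it. -/
theorem commute_of_card_le {H : Type*} [Group H] [Finite H] {p : ℕ} [Fact p.Prime]
    (A : Subgroup H) (g : H) (hg : g ∈ normalizer (A : Set H)) (hgp : IsPElt p g)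
    (hA : Nat.card A ≤ p) : ∀ u ∈ A, g * u = u * g := by
  intro u hu
  by_cases hu1 : u = 1
  · subst hu1
    rw [mul_one, one_mul]
  set Z : Subgroup (ConjAct H) := zpowers (ConjAct.toConjAct g) with hZdef
  have hZ : IsPGroup p Z := by
    obtain ⟨j, hj⟩ := hgp
    apply IsPGroup.of_card (n := j)
    rw [Nat.card_zpowers, ← hj]
    exact MulEquiv.orderOf_eq ConjAct.toConjAct g
  have hpow : ∀ k : ℤ, g ^ k ∈ normalizer (A : Set H) := fun k => zpow_mem hg k
  have hsmul : ∀ (k : ℤ) (hc : ConjAct.toConjAct g ^ k ∈ Z),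
      (⟨ConjAct.toConjAct g ^ k, hc⟩ : Z) • u = g ^ k * u * (g ^ k)⁻¹ := by
    intro k hc
    show (ConjAct.toConjAct g ^ k) • u = _
    rw [ConjAct.smul_def, map_zpow, ConjAct.ofConjAct_toConjAct]
  have hsub : MulAction.orbit Z u ⊆ (A : Set H) \ {1} := by
    rintro y ⟨⟨c, hc⟩, rfl⟩
    obtain ⟨k, rfl⟩ := mem_zpowers_iff.mp hc
    show (⟨ConjAct.toConjAct g ^ k, hc⟩ : Z) • u ∈ (A : Set H) \ {1}
    rw [hsmul k hc]
    refine ⟨(mem_normalizer_iff.mp (hpow k) u).1 hu, ?_⟩
    intro h1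
    rw [Set.mem_singleton_iff] at h1
    apply hu1
    have e : u = (g ^ k)⁻¹ * (g ^ k * u * (g ^ k)⁻¹) * g ^ k := by group
    rw [e, h1, mul_one, inv_mul_cancel]
  obtain ⟨n, hn⟩ := hZ.card_orbit u
  have hlt : Nat.card (MulAction.orbit Z u) < p := by
    rw [Nat.card_coe_set_eq]
    have h1 : (MulAction.orbit Z u).ncard ≤ ((A : Set H) \ {1}).ncard :=
      Set.ncard_le_ncard hsub (Set.toFinite _)
    have h2 : ((A : Set H) \ {1}).ncard = (A : Set H).ncard - 1 :=
      Set.ncard_diff_singleton_of_mem A.one_mem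
    have h3 : (A : Set H).ncard = Nat.card A := (Nat.card_coe_set_eq (A : Set H)).symm
    have h4 : 0 < Nat.card A := Nat.card_pos
    omega
  have hn0 : n = 0 := by
    by_contra hne
    have : p ≤ p ^ n := Nat.le_self_pow hne p
    omega
  rw [hn0, pow_zero] at hn
  have hss : Subsingleton (MulAction.orbit Z u) := (Nat.card_eq_one_iff_unique.mp hn).1
  have hmem1 : u ∈ MulAction.orbit Z u := MulAction.mem_orbit_self u
  have hgZ : ConjAct.toConjAct g ^ (1 : ℤ) ∈ Z := zpow_mem (mem_zpowers _) 1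
  have hmem2 : (⟨ConjAct.toConjAct g ^ (1 : ℤ), hgZ⟩ : Z) • u ∈ MulAction.orbit Z u :=
    MulAction.mem_orbit u _
  have heq := congrArg Subtype.val
    (hss.elim (⟨_, hmem2⟩ : MulAction.orbit Z u) (⟨_, hmem1⟩ : MulAction.orbit Z u))
  simp only [] at heq
  rw [hsmul 1 hgZ, zpow_one] at heq
  calc g * u = (g * u * g⁻¹) * g := by group
    _ = u * g := by rw [heq]

variable {G : Type*} [Group G] [Finite G] {p a : ℕ} {Q : Subgroup G} {x : G}

/-- (U1) -/
theorem sylow_unique [Fact p.Prime] (h : Cfg G p a Q x) (hY : Y p Q = ⊥) {w z : G}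
    (hw : IsPElt p w) (hw1 : w ≠ 1) (hz : orderOf z = 2) (hwz : w * z = z * w)
    (P P' : Sylow p G) (hP : w ∈ P) (hP' : w ∈ P') : P = P' := by
  haveI : Fact (Nat.Prime 2) := ⟨Nat.prime_two⟩
  haveI := h.simple
  set E : Subgroup G := centralizer ({w} : Set G) with hEdef
  have hmemE : ∀ g : G, g ∈ E ↔ g * w = w * g := by
    intro g
    rw [hEdef, mem_centralizer_singleton_iff]
  have hwE : w ∈ E := (hmemE w).mpr rfl
  have hzE : z ∈ E := (hmemE z).mpr hwz.symm
  have hE : E ≠ ⊤ := by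
    intro htop
    have hcen : ∀ g : G, g * w = w * g := fun g => (hmemE g).mp (htop ▸ mem_top g)
    have hn : (zpowers w).Normal := by
      constructor
      intro n hn g
      obtain ⟨k, rfl⟩ := mem_zpowers_iff.mp hn
      have hc : Commute g (w ^ k) := (show Commute g w from hcen g).zpow_right k
      rw [hc.eq, mul_inv_cancel_right]
      exact zpow_mem (mem_zpowers w) k
    rcases hn.eq_bot_or_eq_top with h0 | h0
    · exact hw1 (zpowers_eq_bot.mp h0)
    · have hcard : Nat.card G = orderOf w := by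
        rw [← Nat.card_zpowers, h0, card_top]
      obtain ⟨j, hj⟩ := hw
      have h2 : 2 ∣ Nat.card G := by
        rw [← hz]
        exact orderOf_dvd_natCard z
      rw [hcard, hj] at h2
      have := Nat.Coprime.eq_one_of_dvd (mc_coprime_two h.mc j) h2
      omega
  have h2E : 2 ∣ Nat.card E := by
    rw [← hz]
    exact Subgroup.orderOf_dvd_natCard E hzE
  have hn2 : ¬ IsPGroup 2 E := mc_not_isPGroup_two h.mc hwE hw hw1
  have hpr := h.mc.f1 E hE h2E hn2
  obtain ⟨QE⟩ : Nonempty (Sylow 2 ↥E) := inferInstance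
  obtain ⟨S, hS⟩ := cfg_exists_sylow h
  have hQEG : IsPGroup 2 ((QE : Subgroup ↥E).map E.subtype) := QE.isPGroup'.map E.subtype
  obtain ⟨S', hS'⟩ := hQEG.exists_le_sylow
  obtain ⟨c, hc⟩ := MulAction.exists_smul_eq G S' S
  have hconj : ∀ s : ↥E, s ∈ (QE : Subgroup ↥E) → c * (s : G) * c⁻¹ ∈ Q := by
    intro s hs
    rw [← hS, ← hc]
    exact conj_mem_smul_sylow2 S' c s (hS' (mem_map_of_mem E.subtype hs))
  have hQab : ∀ u ∈ Q, ∀ v ∈ Q, u * v = v * u := by
    intro u hu v hv
    have hu' : u⁻¹ = u := inv_eq_of_mul_eq_one_left (h.qexp u hu)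
    have hv' : v⁻¹ = v := inv_eq_of_mul_eq_one_left (h.qexp v hv)
    have h3 : (u * v)⁻¹ = u * v := inv_eq_of_mul_eq_one_left (h.qexp (u * v) (Q.mul_mem hu hv))
    calc u * v = (u * v)⁻¹ := h3.symm
      _ = v⁻¹ * u⁻¹ := mul_inv_rev u v
      _ = v * u := by rw [hv', hu']
  have hQEab : ∀ s ∈ (QE : Subgroup ↥E), ∀ t ∈ (QE : Subgroup ↥E), s * t = t * s := by
    intro s hs t ht
    have := hQab _ (hconj s hs) _ (hconj t ht)
    apply Subtype.ext
    have e1 : c * (s : G) * c⁻¹ * (c * (t : G) * c⁻¹) = c * ((s : G) * t) * c⁻¹ := by group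
    have e2 : c * (t : G) * c⁻¹ * (c * (s : G) * c⁻¹) = c * ((t : G) * s) * c⁻¹ := by group
    rw [e1, e2] at this
    exact mul_left_cancel (mul_right_cancel this)
  have hcardQE : Nat.card (QE : Subgroup ↥E) ≤ p := by
    by_contra hcon
    rw [not_le] at hcon
    let f : ↥(QE : Subgroup ↥E) → ↥Q := fun s => ⟨c * ((s : ↥E) : G) * c⁻¹, hconj s s.2⟩
    have hf : Function.Injective f := by
      intro s t hst
      have h0 : c * ((s : ↥E) : G) * c⁻¹ = c * ((t : ↥E) : G) * c⁻¹ := congrArg Subtype.val hst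
      have h1 : ((s : ↥E) : G) = ((t : ↥E) : G) := mul_left_cancel (mul_right_cancel h0)
      exact Subtype.ext (Subtype.ext h1)
    have hcQ : Nat.card Q ≤ Nat.card (QE : Subgroup ↥E) := by
      rw [h.qcard, ← h.mc.hpa]
      omega
    have hbij := hf.bijective_of_nat_card_le hcQ
    have hcw : c * w * c⁻¹ ∈ centralizer (Q : Set G) := by
      rw [mem_centralizer_iff]
      intro u hu
      obtain ⟨s, hs⟩ := hbij.2 ⟨u, hu⟩
      have hu' : u = c * ((s : ↥E) : G) * c⁻¹ := (congrArg Subtype.val hs).symm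
      have hsw : ((s : ↥E) : G) * w = w * ((s : ↥E) : G) := (hmemE _).mp (s : ↥E).2
      rw [hu']
      calc c * ((s : ↥E) : G) * c⁻¹ * (c * w * c⁻¹) = c * (((s : ↥E) : G) * w) * c⁻¹ := by group
        _ = c * (w * ((s : ↥E) : G)) * c⁻¹ := by rw [hsw]
        _ = c * w * c⁻¹ * (c * ((s : ↥E) : G) * c⁻¹) := by group
    have hcwp : IsPElt p (c * w * c⁻¹) := by
      obtain ⟨j, hj⟩ := hw
      refine ⟨j, ?_⟩
      rw [← hj, ← MulAut.conj_apply, MulEquiv.orderOf_eq]
    have hmemY : c * w * c⁻¹ ∈ Y p Q := Subgroup.subset_closure ⟨hcw, hcwp⟩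
    rw [hY, mem_bot] at hmemY
    apply hw1
    have e : w = c⁻¹ * (c * w * c⁻¹) * c := by group
    rw [e, hmemY, mul_one, inv_mul_cancel]
  have hNC : normalizer ((QE : Subgroup ↥E) : Set ↥E) ≤
      centralizer ((QE : Subgroup ↥E) : Set ↥E) := by
    intro g hg
    have hn0 : orderOf g ≠ 0 := (orderOf_pos g).ne'
    have hndvd : orderOf g ∣ Nat.card E := orderOf_dvd_natCard g
    obtain ⟨r, hr⟩ : ∃ r, r = (orderOf g).factorization 2 := ⟨_, rfl⟩
    obtain ⟨m, hm⟩ : ∃ m, m = orderOf g / 2 ^ r := ⟨_, rfl⟩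
    have hnm : 2 ^ r * m = orderOf g := by
      rw [hm, hr]
      exact Nat.ordProj_mul_ordCompl_eq_self (orderOf g) 2
    have hmcop : Nat.Coprime 2 m := by
      rw [hm, hr]
      exact Nat.coprime_ordCompl Nat.prime_two hn0
    have hm0 : m ≠ 0 := by
      intro h0
      rw [h0, mul_zero] at hnm
      exact hn0 hnm.symm
    have hmp : m = p ^ m.primeFactorsList.length := by
      apply Nat.eq_prime_pow_of_unique_prime_dvd hm0
      intro q hq hqm
      have hqE : q ∣ Nat.card E := (hqm.trans (Dvd.intro_left _ hnm)).trans hndvd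
      rcases hpr q hq hqE with h1 | h1
      · exact h1
      · exfalso
        subst h1
        have := Nat.Coprime.eq_one_of_dvd hmcop hqm
        omega
    have hg2 : g ^ m ∈ (QE : Subgroup ↥E) := by
      apply mem_sylow_of_isPElt QE (g ^ m) (pow_mem hg m)
      apply isPElt_of_pow_eq_one Nat.prime_two (k := r)
      rw [← pow_mul, mul_comm, hnm]
      exact pow_orderOf_eq_one g
    have hgp : IsPElt p (g ^ 2 ^ r) := by
      apply isPElt_of_pow_eq_one h.mc.hp (k := m.primeFactorsList.length)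
      rw [← hmp, ← pow_mul, hnm]
      exact pow_orderOf_eq_one g
    have hgpc := commute_of_card_le (QE : Subgroup ↥E) (g ^ 2 ^ r) (pow_mem hg _) hgp hcardQE
    have hcop : IsCoprime ((m : ℕ) : ℤ) ((2 ^ r : ℕ) : ℤ) :=
      Nat.isCoprime_iff_coprime.mpr (Nat.Coprime.pow_right r hmcop.symm)
    obtain ⟨α, β, hαβ⟩ := hcop
    have hgeq : g = (g ^ m) ^ α * (g ^ 2 ^ r) ^ β := by
      rw [← zpow_natCast g m, ← zpow_natCast g (2 ^ r), ← zpow_mul, ← zpow_mul, ← zpow_add,
        mul_comm _ α, mul_comm _ β, hαβ, zpow_one]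
    rw [hgeq]
    apply mul_mem
    · apply zpow_mem
      rw [mem_centralizer_iff]
      intro t ht
      exact hQEab t ht _ hg2
    · apply zpow_mem
      rw [mem_centralizer_iff]
      intro t ht
      exact (hgpc t ht).symm
  have hnd := MonoidHom.not_dvd_card_ker_transferSylow QE hNC
  obtain ⟨K, hK⟩ : ∃ K : Subgroup ↥E, K = (MonoidHom.transferSylow QE hNC).ker := ⟨_, rfl⟩
  have hKp : ∀ r : ↥E, IsPElt p r → r ∈ K := by
    intro r hr
    rw [hK, MonoidHom.mem_ker]
    obtain ⟨j, hj⟩ := hr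
    have h1 : orderOf (MonoidHom.transferSylow QE hNC r) ∣ p ^ j := by
      rw [← hj]
      exact orderOf_map_dvd _ r
    obtain ⟨k, hk⟩ := QE.isPGroup' (MonoidHom.transferSylow QE hNC r)
    have h2 : orderOf (MonoidHom.transferSylow QE hNC r) ∣ 2 ^ k := orderOf_dvd_of_pow_eq_one hk
    have h3 : Nat.Coprime (orderOf (MonoidHom.transferSylow QE hNC r)) (p ^ j) :=
      Nat.Coprime.coprime_dvd_left h2 (Nat.Coprime.pow_left k (mc_coprime_two h.mc j))
    exact orderOf_eq_one_iff.mp (Nat.Coprime.eq_one_of_dvd h3 h1)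
  have hKpg : IsPGroup p K := by
    apply IsPGroup.of_card (n := (Nat.card K).primeFactorsList.length)
    apply Nat.eq_prime_pow_of_unique_prime_dvd Nat.card_pos.ne'
    intro q hq hqK
    have hqE : q ∣ Nat.card E := hqK.trans (Subgroup.card_subgroup_dvd_card K)
    rcases hpr q hq hqE with h1 | h1
    · exact h1
    · exfalso
      subst h1
      rw [hK] at hqK
      exact hnd hqK
  have hKG : IsPGroup p (K.map E.subtype) := hKpg.map E.subtype
  have hPle : ∀ R : Sylow p G, w ∈ R → (R : Subgroup G) ≤ K.map E.subtype := by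
    intro R hwR s hs
    have hsw : s * w = w * s := h.mc.pab R R.isPGroup' s hs w hwR
    have hsE : s ∈ E := (hmemE s).mpr hsw
    have hsp : IsPElt p (⟨s, hsE⟩ : ↥E) := by
      obtain ⟨j, hj⟩ := isPElt_of_mem h.mc.hp R.isPGroup' hs
      refine ⟨j, ?_⟩
      rw [← hj]
      exact (Subgroup.orderOf_coe (⟨s, hsE⟩ : ↥E)).symm
    exact ⟨⟨s, hsE⟩, hKp _ hsp, rfl⟩
  have h1 := P.is_maximal' hKG (hPle P hP)
  have h2 := P'.is_maximal' hKG (hPle P' hP')
  exact Sylow.ext (h1.symm.trans h2)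

end Cfsg.Agent.Helper65.Mix
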