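import Cfsg.Agent.Helper65.BT97C5core
import Cfsg.Agent.Helper77.BT97C1

/-!
# (C5) of #8209 for helper16's S0997: the block sum, split over `X` and `Y`
-/

set_option autoImplicit false

namespace Cfsg.Agent.Helper65.BT97

open Cfsg Cfsg.Agent.Helper16 Cfsg.Agent.Helper16.DefOne Cfsg.Agent.Helper82.DefOne
  Cfsg.Agent.Helper77.DefOne Cfsg.Agent.Helper16.Brauer43 Cfsg.Agent.Helper54.BT
open scoped ComplexConjugate

universe u

variable {G : Type u} [Group G] [Fintype G] {p : ℕ} [Fact p.Prime]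
  (P : Sylow p G) [Fintype (P : Subgroup G)] (D : L0Data P)

open Classical in
/-- (C5) the block sum, split over `X` and `Y` -/
theorem block_sum_split (hP : Nat.card P = p) (hC : cen P = (P : Subgroup G))
    (Mp : Ideal AlgInt) (hMp : IsPModular p Mp) (B : Set (IrrCharacter G)) (f : ℕ)
    (hY : ∀ ψ ∈ D.Y, charDegree (ψ : G → ℂ) = f) :
    ∑ᶠ χ ∈ principalBlock Mp G ∩ B, cW P D χ =
      ((p : ℤ) - 1) * ∑ᶠ χ ∈ D.X ∩ B, D.ε χ * (charDegree (χ : G → ℂ) : ℤ) +
      -D.δ * ((cen P).relIndex (nor P) : ℤ) * ((f : ℤ) * (Nat.card ↥(D.Y ∩ B) : ℤ)) :=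
  block_sum_split_of P D (principalBlock Mp G) B
    (Cfsg.Agent.Helper77.BT97.XY_subset_principal P D hP hC Mp hMp) f hY

end Cfsg.Agent.Helper65.BT97
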