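import Mathlib

/-!
# (NO) for helper54 (S0998): no element of order `p q` when the Sylow `p`-subgroups of order `p`
are self-centralizing
-/

set_option autoImplicit false
set_option linter.unusedSectionVars false

namespace Cfsg.Agent.Helper65.BT

universe u

variable {G : Type u} [Group G] [Fintype G] {p : ℕ} [Fact p.Prime]
  (P : Sylow p G) [Fintype (P : Subgroup G)]

/-- (NO) no element of order `p q` -/
theorem no_order_mul (hP : Nat.card P = p)
    (hall : ∀ Q : Sylow p G, Subgroup.centralizer ((Q : Subgroup G) : Set G) = (Q : Subgroup G))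
    (q : ℕ) (hq : q.Prime) (g : G) : orderOf g ≠ p * q := by
  intro hord
  have hp := (Fact.out : p.Prime)
  have hh : orderOf (g ^ q) = p := by
    rw [orderOf_pow' g hq.ne_zero, hord, Nat.gcd_mul_left_left]
    exact Nat.mul_div_cancel _ hq.pos
  have hpg : IsPGroup p (Subgroup.zpowers (g ^ q)) := by
    apply IsPGroup.of_card (n := 1)
    rw [Nat.card_zpowers, hh, pow_one]
  obtain ⟨Q, hQ⟩ := hpg.exists_le_sylow
  have hcQ : Nat.card Q = p := by
    rw [Q.card_eq_multiplicity, ← P.card_eq_multiplicity, hP]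
  have heq : Subgroup.zpowers (g ^ q) = (Q : Subgroup G) := by
    apply Subgroup.eq_of_le_of_card_ge hQ
    rw [Nat.card_zpowers, hh]
    exact hcQ.le
  have hgc : g ∈ Subgroup.centralizer ((Q : Subgroup G) : Set G) := by
    rw [← heq, Subgroup.mem_centralizer_iff]
    intro h hh'
    obtain ⟨k, rfl⟩ := Subgroup.mem_zpowers_iff.1 hh'
    exact ((Commute.pow_self g q).zpow_left k).eq
  rw [hall Q] at hgc
  have hdvd : orderOf g ∣ Nat.card (Q : Subgroup G) := Subgroup.orderOf_dvd_natCard _ hgc
  rw [hord, hcQ] at hdvd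
  have h1 : q ∣ 1 := Nat.dvd_of_mul_dvd_mul_left hp.pos (by rwa [mul_one])
  exact hq.one_lt.ne' (Nat.dvd_one.1 h1)

end Cfsg.Agent.Helper65.BT
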