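import Cfsg.Agent.Helper19.E8C.Facts
import Cfsg.Agent.Helper18.BNStruct

/-!
# S5751 piece (CONJ) (helper65 for helper19): `n_{p₄}` shifts the level filtration by at most one step
-/

set_option autoImplicit false

namespace Cfsg.Agent.Helper65.E8C

open Cfsg Cfsg.Lie Cfsg.Agent.Helper18 Cfsg.Agent.Helper19.Poinc Cfsg.Agent.Helper19.E8C

variable {F : Type*} [Field F]

theorem lev_109 : lev 109 = -1 := by
  have h := lev_neg 130 (by rw [nroots_eq]; norm_num)
  rw [lev_simple_three] at h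
  exact h

/-- the two conjugates of a root element of level `≥ 2` by `n_{p₄}` are root elements one level lower at most -/
theorem conj_gen (h31 : NConjHyp chevE8 F) (m : ℕ) (hm : 1 ≤ m) (s : ℕ) (hs : s < chevE8.nroots)
    (hl : ((m + 1 : ℕ) : ℤ) ≤ lev s) (t : F) :
    nB F * xGL chevE8 F s t * (nB F)⁻¹ ∈ UL F m ∧ (nB F)⁻¹ * xGL chevE8 F s t * nB F ∈ UL F m := by
  have h3 : (3 : ℕ) < chevE8.rank := by rw [rank_eq]; norm_num
  have hm' : (1 : ℤ) ≤ (m : ℤ) := by exact_mod_cast hm
  have hl' : (m : ℤ) + 1 ≤ lev s := by exact_mod_cast hl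
  have hs130 : s ≠ 130 := by
    rintro rfl
    rw [lev_simple_three] at hl'
    omega
  have hs109 : s ≠ 109 := by
    rintro rfl
    rw [lev_109] at hl'
    omega
  have hB := lev_reflect_B s hs hs130 hs109
  have hs' : chevE8.reflectRoot 3 s < chevE8.nroots := reflect_lt 3 h3 s hs
  have hlev' : (m : ℤ) ≤ lev (chevE8.reflectRoot 3 s) := by omega
  constructor
  · obtain ⟨η, -, h⟩ := nGL_conj_xGL chevE8 hE8 h31 3 s h3 hs
    have e : nB F * xGL chevE8 F s t * (nB F)⁻¹ = xGL chevE8 F (chevE8.reflectRoot 3 s) ((η : F) * t) := by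
      unfold nB npGL
      rw [h t, mul_inv_cancel_right]
    rw [e]
    exact xGL_mem_UL F _ hs' m hlev' _
  · obtain ⟨η, hη, h⟩ := nGL_conj_xGL chevE8 hE8 h31 3 (chevE8.reflectRoot 3 s) h3 hs'
    rw [reflectRoot_reflectRoot chevE8 hE8 3 s h3 hs] at h
    have hηη : ((η : F)) * ((η : F) * t) = t := by
      rcases hη with rfl | rfl
      · simp
      · simp
    have e : (nB F)⁻¹ * xGL chevE8 F s t * nB F = xGL chevE8 F (chevE8.reflectRoot 3 s) ((η : F) * t) := by
      have h' := h ((η : F) * t)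
      rw [hηη] at h'
      unfold nB npGL
      rw [mul_assoc, ← h', inv_mul_cancel_left]
    rw [e]
    exact xGL_mem_UL F _ hs' m hlev' _

/-! ### (CONJ) -/
theorem conjFact (h31 : NConjHyp chevE8 F) : ConjFact F := by
  intro m hm v hv
  unfold UL at hv
  induction hv using Subgroup.closure_induction with
  | mem x hx =>
    obtain ⟨s, t, hs, hl, rfl⟩ := hx
    exact conj_gen h31 m hm s hs hl t
  | one =>
    constructor
    · rw [mul_one, mul_inv_cancel]; exact Subgroup.one_mem _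
    · rw [mul_one, inv_mul_cancel]; exact Subgroup.one_mem _
  | mul x y _ _ ihx ihy =>
    constructor
    · have e : nB F * (x * y) * (nB F)⁻¹ = (nB F * x * (nB F)⁻¹) * (nB F * y * (nB F)⁻¹) := by group
      rw [e]
      exact Subgroup.mul_mem _ ihx.1 ihy.1
    · have e : (nB F)⁻¹ * (x * y) * nB F = ((nB F)⁻¹ * x * nB F) * ((nB F)⁻¹ * y * nB F) := by group
      rw [e]
      exact Subgroup.mul_mem _ ihx.2 ihy.2
  | inv x _ ih =>
    constructor
    · have e : nB F * x⁻¹ * (nB F)⁻¹ = (nB F * x * (nB F)⁻¹)⁻¹ := by group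
      rw [e]
      exact Subgroup.inv_mem _ ih.1
    · have e : (nB F)⁻¹ * x⁻¹ * nB F = ((nB F)⁻¹ * x * nB F)⁻¹ := by group
      rw [e]
      exact Subgroup.inv_mem _ ih.2

end Cfsg.Agent.Helper65.E8C
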