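import Cfsg.Agent.Helper65.S3S3G3b
import Cfsg.Agent.Helper60.S3S3G3a

/-!
# (G3b) for helper3 (S3805), exact skeleton signature
-/

set_option autoImplicit false

namespace Cfsg.Agent.Helper65.S3S3

universe u

variable {G : Type u} [Group G]

/-- (G3b) local control of products of non-conjugate elements of order 3. -/
theorem lc [Finite G] (T : Sylow 3 G)
    (hcomm : ∀ s ∈ (T : Subgroup G), ∀ t ∈ (T : Subgroup G), s * t = t * s)
    (hloc : ∀ t ∈ (T : Subgroup G), t ≠ 1 →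
      Subgroup.centralizer ({t} : Set G) ≤ Subgroup.normalizer ((T : Subgroup G) : Set G))
    (u v : G) (hu : u ^ 3 = 1) (hv : v ^ 3 = 1) (hu1 : u ≠ 1) (hv1 : v ≠ 1)
    (huv : (u * v) ^ 3 = 1) (hnc : ¬ IsConj u v) :
    ∃ g : G, g * u * g⁻¹ ∈ (T : Subgroup G) ∧ g * v * g⁻¹ ∈ (T : Subgroup G) :=
  lc_of_tri T hcomm hloc u v hu hv hu1 hnc (Cfsg.Agent.Helper60.S3S3.tri333 u v hu hv huv)

end Cfsg.Agent.Helper65.S3S3
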