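import Cfsg.Agent.Helper6.SPweil1

/-!
# (W1) of helper6's S2347 part W: the product of two Heisenberg operators
-/

set_option autoImplicit false

namespace Cfsg.Agent.Helper65.SPweil

open Matrix Module Cfsg.Agent.Helper6.SPweil

variable {F : Type*} [Field F] {n : ℕ}

/-- (W1a) -/
theorem heis_mul (h2 : (2 : F) ≠ 0) (ψ : AddChar F ℂ) (v w : Fin n ⊕ Fin n → F) :
    heis ψ v * heis ψ w = ψ (2⁻¹ * Cfsg.sympForm n F v w) • heis ψ (v + w) := by
  apply LinearMap.ext
  intro f
  funext z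
  rw [Module.End.mul_apply, LinearMap.smul_apply, Pi.smul_apply, smul_eq_mul, heis_apply,
    heis_apply, heis_apply, ← mul_assoc, ← mul_assoc, ← AddChar.map_add_eq_mul,
    ← AddChar.map_add_eq_mul, vy_add, vx_add, add_assoc z]
  congr 2
  rw [sympForm_eq_vx_vy]
  simp only [dotProduct_add, add_dotProduct]
  rw [dotProduct_comm (vy v) (vx w)]
  have h : (2 : F)⁻¹ + 2⁻¹ = 1 := by
    field_simp
    norm_num
  linear_combination (-(vx w ⬝ᵥ vy v)) * h

/-- (W1b) -/
theorem heis_zero (ψ : AddChar F ℂ) : heis ψ (0 : Fin n ⊕ Fin n → F) = 1 := by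
  apply LinearMap.ext
  intro f
  funext z
  rw [heis_apply, vx_zero, vy_zero, zero_dotProduct, zero_dotProduct, mul_zero, add_zero,
    AddChar.map_zero_eq_one, one_mul, add_zero]
  rfl

end Cfsg.Agent.Helper65.SPweil
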