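import Mathlib

/-!
# (G3) for helper6 (S2334/S2335): a family of operators with vanishing off-diagonal traces is small
-/

set_option autoImplicit false

namespace Cfsg.Agent.Helper65.SUrep

open Module

/-- (G3t) the trace-vanishing half of (G3) -/
theorem trace_eq_zero_of_conj {Q : Type*} [Group Q] {N : Type*} [AddCommGroup N]
    [Module ℂ N] [FiniteDimensional ℂ N] (ρ : Q →* Module.End ℂ N) (g w : Q) (z : ℂ) (hz : z ≠ 1)
    (h : ρ (w * g * w⁻¹) = z • ρ g) : LinearMap.trace ℂ N (ρ g) = 0 := by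
  have h1 : LinearMap.trace ℂ N (ρ (w * g * w⁻¹)) = LinearMap.trace ℂ N (ρ g) := by
    rw [ρ.map_mul, ρ.map_mul, LinearMap.trace_mul_comm, ← mul_assoc, ← ρ.map_mul, inv_mul_cancel,
      ρ.map_one, one_mul]
  rw [h, map_smul, smul_eq_mul] at h1
  have h2 : (z - 1) * LinearMap.trace ℂ N (ρ g) = 0 := by linear_combination h1
  rcases mul_eq_zero.1 h2 with h3 | h3
  · exact absurd (sub_eq_zero.1 h3) hz
  · exact h3

/-- (G3) a family of operators with vanishing "off-diagonal" traces is small -/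
theorem card_le_sq_finrank_of_conj {Q : Type*} [Group Q] {N : Type*} [AddCommGroup N]
    [Module ℂ N] [FiniteDimensional ℂ N] [Nontrivial N] (ρ : Q →* Module.End ℂ N)
    {Y : Type*} [Fintype Y] (x : Y → Q)
    (h : ∀ y y', y ≠ y' → ∃ (w : Q) (z : ℂ), z ≠ 1 ∧
      ρ (w * (x y * (x y')⁻¹) * w⁻¹) = z • ρ (x y * (x y')⁻¹)) :
    Fintype.card Y ≤ (finrank ℂ N) ^ 2 := by
  classical
  have hn0 : (finrank ℂ N : ℂ) ≠ 0 := by
    have : 0 < finrank ℂ N := finrank_pos
    exact_mod_cast this.ne'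
  have htr : ∀ y y', y ≠ y' → LinearMap.trace ℂ N (ρ (x y * (x y')⁻¹)) = 0 := by
    intro y y' hne
    obtain ⟨w, z, hz, hw⟩ := h y y' hne
    exact trace_eq_zero_of_conj ρ _ w z hz hw
  have hY : LinearIndependent ℂ (fun y : Y => ρ (x y)) := by
    rw [linearIndependent_iff']
    intro s c hsum y₀ hy₀
    have h1 := congrArg (fun M => LinearMap.trace ℂ N (M * ρ ((x y₀)⁻¹))) hsum
    simp only [Finset.sum_mul, smul_mul_assoc, map_sum, map_smul, zero_mul, map_zero] at h1
    rw [Finset.sum_eq_single y₀] at h1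
    · rw [← ρ.map_mul, mul_inv_cancel, ρ.map_one, LinearMap.trace_one, smul_eq_mul] at h1
      rcases mul_eq_zero.1 h1 with h2 | h2
      · exact h2
      · exact absurd h2 hn0
    · intro y _ hne
      rw [← ρ.map_mul, htr y y₀ hne, smul_zero]
    · intro h2
      exact absurd hy₀ h2
  have h7 := hY.fintype_card_le_finrank
  rw [Module.finrank_linearMap, ← pow_two] at h7
  exact h7

end Cfsg.Agent.Helper65.SUrep
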