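import Cfsg.Agent.Helper43.PsuM.RDefs

/-!
# S2089 block R, round 2, piece (INV) (helper65 for helper43): invariance of the complement `D ⊔ ⁅M, T̂⁆` under an
element commuting with a subtorus.
-/

set_option autoImplicit false

namespace Cfsg.Agent.Helper65.PsuM

open scoped commutatorElement

universe u

section central

variable {Γ G : Type u} [Group Γ] [Group G] [Finite Γ] (τ : Γ →* G) (hτ : Function.Surjective τ)
  (hc : τ.ker ≤ Subgroup.center Γ)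

include hτ hc

/-- (INV) invariance of the complement `C = D ⊔ ⁅M, T̂⁆` under an element `g` that normalises `M` and `D`,
such that `τ g` commutes with a subgroup `H ≤ T`, and `g` centralises the full preimage of a
`T`-invariant subgroup `Y ≤ τ(M)`, provided `τ(M) ≤ τ(D) ⊔ ⁅τ(M), H⁆ ⊔ ⁅Y, T⁆`. -/
theorem conj_mem_comm_comap (M D : Subgroup Γ) (T H Y : Subgroup G) (hDM : D ≤ M)
    (hAM : τ.ker ≤ M) (hH : H ≤ T)
    (hTM : ∀ g : Γ, τ g ∈ T → ∀ x ∈ M, g * x * g⁻¹ ∈ M)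
    (hC : (D ⊔ ⁅M, T.comap τ⁆) ⊓ τ.ker = ⊥)
    (g : Γ) (hgM : ∀ x ∈ M, g * x * g⁻¹ ∈ M) (hgD : ∀ x ∈ D, g * x * g⁻¹ ∈ D)
    (hgH : ∀ h ∈ H, Commute (τ g) h)
    (hY : Y ≤ M.map τ) (hTY : ∀ t ∈ T, ∀ y ∈ Y, t * y * t⁻¹ ∈ Y)
    (hgY : ∀ y : Γ, τ y ∈ Y → Commute g y)
    (hgen : M.map τ ≤ D.map τ ⊔ ⁅M.map τ, H⁆ ⊔ ⁅Y, T⁆) :
    ∀ c ∈ D ⊔ ⁅M, T.comap τ⁆, g * c * g⁻¹ ∈ D ⊔ ⁅M, T.comap τ⁆ := by
  have hYM : Y.comap τ ≤ M := by
    calc Y.comap τ ≤ (M.map τ).comap τ := Subgroup.comap_mono hY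
      _ = M ⊔ τ.ker := Subgroup.comap_map_eq _ _
      _ = M := sup_eq_left.mpr hAM
  -- the smaller description of the complement
  have hC'C : D ⊔ ⁅M, H.comap τ⁆ ⊔ ⁅Y.comap τ, T.comap τ⁆ ≤ D ⊔ ⁅M, T.comap τ⁆ := by
    apply sup_le (sup_le le_sup_left _) _
    · exact le_trans (Subgroup.commutator_mono le_rfl (Subgroup.comap_mono hH)) le_sup_right
    · exact le_trans (Subgroup.commutator_mono hYM le_rfl) le_sup_right
  have hCM : D ⊔ ⁅M, T.comap τ⁆ ≤ M := by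
    apply sup_le hDM
    rw [Subgroup.commutator_le]
    intro m hm t ht
    rw [commutatorElement_def]
    have h1 : t * m⁻¹ * t⁻¹ ∈ M := hTM t ht m⁻¹ (M.inv_mem hm)
    have e : m * t * m⁻¹ * t⁻¹ = m * (t * m⁻¹ * t⁻¹) := by group
    rw [e]
    exact M.mul_mem hm h1
  have hmapC' : M.map τ ≤ (D ⊔ ⁅M, H.comap τ⁆ ⊔ ⁅Y.comap τ, T.comap τ⁆).map τ := by
    rw [Subgroup.map_sup, Subgroup.map_sup, Subgroup.map_commutator, Subgroup.map_commutator,
      Subgroup.map_comap_eq_self_of_surjective hτ, Subgroup.map_comap_eq_self_of_surjective hτ,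
      Subgroup.map_comap_eq_self_of_surjective hτ]
    exact hgen
  have hCC' : D ⊔ ⁅M, T.comap τ⁆ ≤ D ⊔ ⁅M, H.comap τ⁆ ⊔ ⁅Y.comap τ, T.comap τ⁆ := by
    intro c hcC
    have h1 : τ c ∈ (D ⊔ ⁅M, H.comap τ⁆ ⊔ ⁅Y.comap τ, T.comap τ⁆).map τ :=
      hmapC' (Subgroup.mem_map_of_mem τ (hCM hcC))
    obtain ⟨c', hc', hcc'⟩ := h1
    have ha : c'⁻¹ * c ∈ (D ⊔ ⁅M, T.comap τ⁆) ⊓ τ.ker := by
      refine Subgroup.mem_inf.mpr ⟨Subgroup.mul_mem _ (Subgroup.inv_mem _ (hC'C hc')) hcC, ?_⟩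
      rw [MonoidHom.mem_ker, map_mul, map_inv, hcc', inv_mul_cancel]
    rw [hC] at ha
    have h2 : c'⁻¹ * c = 1 := Subgroup.mem_bot.mp ha
    have h3 : c = c' := by
      rw [inv_mul_eq_one] at h2
      exact h2.symm
    rw [h3]
    exact hc'
  -- conjugation by `g`
  have hfC' : (D ⊔ ⁅M, H.comap τ⁆ ⊔ ⁅Y.comap τ, T.comap τ⁆).map (MulAut.conj g).toMonoidHom ≤
      D ⊔ ⁅M, H.comap τ⁆ ⊔ ⁅Y.comap τ, T.comap τ⁆ := by
    rw [Subgroup.map_sup, Subgroup.map_sup]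
    apply sup_le (sup_le _ _) _
    · refine le_trans ?_ (le_trans le_sup_left le_sup_left)
      rintro _ ⟨x, hx, rfl⟩
      exact hgD x hx
    · refine le_trans ?_ (le_trans le_sup_right le_sup_left)
      rw [Subgroup.map_commutator]
      apply Subgroup.commutator_mono
      · rintro _ ⟨x, hx, rfl⟩
        exact hgM x hx
      · rintro _ ⟨x, hx, rfl⟩
        show τ (g * x * g⁻¹) ∈ H
        have hx' : τ x ∈ H := hx
        rw [map_mul, map_mul, map_inv, (hgH (τ x) hx').eq, mul_inv_cancel_right]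
        exact hx'
    · refine le_trans ?_ le_sup_right
      have hsub : ⁅Y.comap τ, T.comap τ⁆ ≤ Y.comap τ := by
        rw [Subgroup.commutator_le]
        intro y hy t ht
        rw [commutatorElement_def]
        show τ (y * t * y⁻¹ * t⁻¹) ∈ Y
        have hy' : τ y ∈ Y := hy
        have ht' : τ t ∈ T := ht
        have h1 : τ t * (τ y)⁻¹ * (τ t)⁻¹ ∈ Y := hTY (τ t) ht' _ (Y.inv_mem hy')
        have e : τ (y * t * y⁻¹ * t⁻¹) = τ y * (τ t * (τ y)⁻¹ * (τ t)⁻¹) := by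
          simp only [map_mul, map_inv, mul_assoc]
        rw [e]
        exact Y.mul_mem hy' h1
      rintro _ ⟨z, hz, rfl⟩
      have hzY : τ z ∈ Y := hsub hz
      have e : (MulAut.conj g).toMonoidHom z = z := by
        show g * z * g⁻¹ = z
        rw [(hgY z hzY).eq, mul_inv_cancel_right]
      rw [e]
      exact hz
  intro c hcC
  have e : g * c * g⁻¹ = (MulAut.conj g).toMonoidHom c := rfl
  rw [e]
  exact hC'C (hfC' (Subgroup.mem_map_of_mem _ (hCC' hcC)))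

end central

end Cfsg.Agent.Helper65.PsuM
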