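import Mathlib
import Cfsg.Agent.Helper25.Bli.Defs

/-!
# S4484 (helper25), piece (L4a), core: the contraction step, with (L1), (L3a) `le_cosAng`,
(L3b) `exists_eq_cosAng` and `cosAng_lt_one` as explicit hypotheses.
-/

set_option autoImplicit false

namespace Cfsg.Agent.Helper65.Bli

open Module Module.End Cfsg.Agent.Helper25.Bli

variable {V : Type*} [NormedAddCommGroup V] [InnerProductSpace ℂ V] [FiniteDimensional ℂ V]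

/-- (L4a) core -/
theorem cosAng_lt_cosAng_map_core
    (HL1 : ∀ (u : V →L[ℂ] V) (_ : ∀ v, ‖u v‖ = ‖v‖) (α : ℂ) (_ : ‖α‖ = 1)
      (_ : ‖u - α • (1 : V →L[ℂ] V)‖ ≤ 1) (w v : V) (_ : u w = α • w) (_ : ‖w‖ = 1)
      (_ : ‖v‖ = 1), (1 + ‖inner ℂ w v‖ ^ 2) / 2 ≤ ‖inner ℂ (u v) v‖)
    (Hle : ∀ (W W' : Submodule ℂ V) (w w' : V) (_ : w ∈ W) (_ : w' ∈ W') (_ : ‖w‖ = 1)
      (_ : ‖w'‖ = 1), ‖inner ℂ w w'‖ ≤ cosAng W W')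
    (Hex : ∀ (W W' : Submodule ℂ V) (_ : W ≠ ⊥) (_ : W' ≠ ⊥),
      ∃ w ∈ W, ∃ w' ∈ W', ‖w‖ = 1 ∧ ‖w'‖ = 1 ∧ ‖inner ℂ w w'‖ = cosAng W W')
    (Hlt : ∀ (W W' : Submodule ℂ V) (_ : W ⊓ W' = ⊥), cosAng W W' < 1)
    (u : unitary (V →L[ℂ] V)) (α : ℂ)
    (h : ‖(u : V →L[ℂ] V) - α • (1 : V →L[ℂ] V)‖ ≤ 1) (W W' : Submodule ℂ V)
    (hW : W ≤ eigenspace ((u : V →L[ℂ] V) : V →ₗ[ℂ] V) α) (hW0 : W ≠ ⊥) (hW'0 : W' ≠ ⊥)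
    (hWW' : W ⊓ W' = ⊥) :
    cosAng W W' < cosAng W' (W'.map ((u : V →L[ℂ] V) : V →ₗ[ℂ] V)) := by
  have hc1 := Hlt W W' hWW'
  obtain ⟨w, hw, w', hw', hw1, hw'1, hc⟩ := Hex W W' hW0 hW'0
  have hu : ∀ v, ‖(u : V →L[ℂ] V) v‖ = ‖v‖ := fun v => Unitary.norm_map u v
  have huw : (u : V →L[ℂ] V) w = α • w := by
    have := mem_eigenspace_iff.mp (hW hw)
    simpa using this
  have hα : ‖α‖ = 1 := by
    have := hu w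
    rw [huw, norm_smul, hw1, mul_one] at this
    exact this
  have h1 := HL1 (u : V →L[ℂ] V) hu α hα h w w' huw hw1 hw'1
  have hmem : (u : V →L[ℂ] V) w' ∈ W'.map ((u : V →L[ℂ] V) : V →ₗ[ℂ] V) :=
    Submodule.mem_map.mpr ⟨w', hw', rfl⟩
  have h2 := Hle W' (W'.map ((u : V →L[ℂ] V) : V →ₗ[ℂ] V)) w' ((u : V →L[ℂ] V) w') hw' hmem hw'1
    (by rw [hu, hw'1])
  rw [norm_inner_symm] at h2
  rw [hc] at h1
  nlinarith [sq_nonneg (1 - cosAng W W')]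

end Cfsg.Agent.Helper65.Bli
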