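import Mathlib
import Cfsg.Agent.Helper25.Bli.Defs

/-!
# S4484 (helper25), piece (L6): Dirichlet's simultaneous approximation on the circle, with sextants.
-/

set_option autoImplicit false

namespace Cfsg.Agent.Helper65.Bli

open Real

/-- the sextant of an angle in `(-π, π]` -/
noncomputable def sextR (θ : ℝ) : Fin 6 :=
  if θ ≤ -(2 * π / 3) then 0 else if θ ≤ -(π / 3) then 1 else if θ ≤ 0 then 2
  else if θ ≤ π / 3 then 3 else if θ ≤ 2 * π / 3 then 4 else 5

theorem sextR_close (a b : ℝ) (ha : -π < a) (ha' : a ≤ π) (hb : -π < b) (hb' : b ≤ π)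
    (h : sextR a = sextR b) : |a - b| ≤ π / 3 := by
  unfold sextR at h
  have hpi := Real.pi_pos
  rw [abs_le]
  split_ifs at h <;>
    first
    | (constructor <;> linarith)
    | (exact absurd h (by decide))

theorem L6_abs_sin_le (x : ℝ) (hx : |x| ≤ π / 6) : |Real.sin x| ≤ 1 / 2 := by
  have hpi := Real.pi_pos
  rw [Real.abs_sin_eq_sin_abs_of_abs_le_pi (by linarith), ← Real.sin_pi_div_six]
  exact Real.sin_le_sin_of_le_of_le_pi_div_two (by linarith [abs_nonneg x]) (by linarith) hx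

theorem L6_exp_close (a b : ℝ) (h : |a - b| ≤ π / 3) :
    ‖Complex.exp (a * Complex.I) - Complex.exp (b * Complex.I)‖ ≤ 1 := by
  have e : Complex.exp (a * Complex.I) - Complex.exp (b * Complex.I) =
      Complex.exp (b * Complex.I) * (Complex.exp (Complex.I * ((a - b : ℝ) : ℂ)) - 1) := by
    rw [mul_sub, mul_one, ← Complex.exp_add]
    congr 2
    push_cast
    ring
  rw [e, norm_mul, Complex.norm_exp_ofReal_mul_I, one_mul, Complex.norm_exp_I_mul_ofReal_sub_one,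
    norm_mul, Real.norm_eq_abs, Real.norm_eq_abs, abs_two]
  have := L6_abs_sin_le ((a - b) / 2) (by rw [abs_div, abs_two]; linarith)
  linarith

theorem L6_unit_close (u v : ℂ) (hu : ‖u‖ = 1) (hv : ‖v‖ = 1)
    (h : sextR (Complex.arg u) = sextR (Complex.arg v)) : ‖v - u‖ ≤ 1 := by
  have eu := Complex.norm_mul_exp_arg_mul_I u
  have ev := Complex.norm_mul_exp_arg_mul_I v
  rw [hu, Complex.ofReal_one, one_mul] at eu
  rw [hv, Complex.ofReal_one, one_mul] at ev
  have hc := sextR_close _ _ (Complex.neg_pi_lt_arg u) (Complex.arg_le_pi u)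
    (Complex.neg_pi_lt_arg v) (Complex.arg_le_pi v) h
  rw [abs_sub_comm] at hc
  rw [← eu, ← ev]
  exact L6_exp_close _ _ hc

/-- (L6) -/
theorem exists_pow_close (S : Finset ℂ) (hS : ∀ z ∈ S, ‖z‖ = 1) :
    ∃ k : ℕ, 1 ≤ k ∧ k ≤ 6 ^ S.card ∧ ∀ z ∈ S, ‖z ^ k - 1‖ ≤ 1 := by
  classical
  obtain ⟨F, hF⟩ : ∃ F : Fin (6 ^ S.card + 1) → (↥S → Fin 6),
      F = fun (i : Fin (6 ^ S.card + 1)) (z : ↥S) => sextR (Complex.arg ((z : ℂ) ^ (i : ℕ))) :=
    ⟨_, rfl⟩
  have hcard : Fintype.card (↥S → Fin 6) < Fintype.card (Fin (6 ^ S.card + 1)) := by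
    rw [Fintype.card_fun, Fintype.card_fin, Fintype.card_fin, Fintype.card_coe]
    exact Nat.lt_succ_self _
  obtain ⟨i, j, hij, hFij⟩ := Fintype.exists_ne_map_eq_of_card_lt F hcard
  wlog hlt : i < j generalizing i j
  · exact this j i hij.symm hFij.symm (lt_of_le_of_ne (not_lt.mp hlt) hij.symm)
  have hlt' : (i : ℕ) < (j : ℕ) := hlt
  have hj := j.2
  refine ⟨(j : ℕ) - (i : ℕ), by omega, by omega, ?_⟩
  intro z hz
  have h1 := congrFun hFij ⟨z, hz⟩
  rw [hF] at h1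
  have h1' : sextR (Complex.arg (z ^ (i : ℕ))) = sextR (Complex.arg (z ^ (j : ℕ))) := h1
  have hz1 := hS z hz
  have hclose := L6_unit_close (z ^ (i : ℕ)) (z ^ (j : ℕ)) (by rw [norm_pow, hz1, one_pow])
    (by rw [norm_pow, hz1, one_pow]) h1'
  have e : z ^ (j : ℕ) - z ^ (i : ℕ) = z ^ (i : ℕ) * (z ^ ((j : ℕ) - (i : ℕ)) - 1) := by
    rw [mul_sub, mul_one, ← pow_add]
    congr 2
    omega
  rw [e, norm_mul, norm_pow, hz1, one_pow, one_mul] at hclose
  exact hclose

end Cfsg.Agent.Helper65.Bli
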