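import Mathlib
import Cfsg.Agent.Helper25.Bli.Defs

/-!
# S4484 (helper25), piece (L7): eigenvalues of a power.
-/

set_option autoImplicit false

namespace Cfsg.Agent.Helper65.Bli

open Module Module.End

/-- (L7) -/
theorem exists_eigenvalue_pow_eq {W : Type*} [AddCommGroup W] [Module ℂ W] [FiniteDimensional ℂ W]
    (f : End ℂ W) (k : ℕ) (hk : 0 < k) (β : ℂ) (hβ : HasEigenvalue (f ^ k) β) :
    ∃ s : ℂ, HasEigenvalue f s ∧ s ^ k = β := by
  rw [hasEigenvalue_iff_mem_spectrum, spectrum.map_pow_of_pos f hk] at hβ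
  obtain ⟨s, hs, hsk⟩ := hβ
  exact ⟨s, hasEigenvalue_iff_mem_spectrum.mpr hs, hsk⟩

end Cfsg.Agent.Helper65.Bli
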