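import Cfsg.Agent.Helper25.FSwan.Defs

/-!
Helper65 for helper25, Fong-Swan farm (S4440), piece (K3): irreducible matrix representations on any
finite index type give members of `IBr` (reindexing along `Fintype.equivFin`).
-/

set_option autoImplicit false
set_option linter.unusedSectionVars false
set_option linter.unusedVariables false

namespace Cfsg.Agent.Helper65.FS

open Cfsg Cfsg.Agent.Helper16 Cfsg.Agent.Helper16.DT Cfsg.Agent.Helper25.FS

universe u

variable {p : ℕ} [Fact p.Prime] {M : Ideal AlgInt} [M.IsMaximal] {G : Type u} [Group G]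

/-- reindexing a matrix representation along an equivalence of index types -/
noncomputable def K3_reindex {K : Type*} [Field K] {ι κ : Type*} [Fintype ι] [DecidableEq ι]
    [Fintype κ] [DecidableEq κ] (e : ι ≃ κ) (ρ : G →* Matrix ι ι K) : G →* Matrix κ κ K where
  toFun g := Matrix.reindex e e (ρ g)
  map_one' := by
    rw [map_one, Matrix.reindex_apply, Matrix.submatrix_one_equiv]
  map_mul' g h := by
    rw [map_mul, Matrix.reindex_apply, Matrix.reindex_apply, Matrix.reindex_apply,
      Matrix.submatrix_mul_equiv]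

theorem K3_reindex_apply {K : Type*} [Field K] {ι κ : Type*} [Fintype ι] [DecidableEq ι]
    [Fintype κ] [DecidableEq κ] (e : ι ≃ κ) (ρ : G →* Matrix ι ι K) (g : G) :
    K3_reindex e ρ g = Matrix.reindex e e (ρ g) := rfl

theorem K3_mulVec {K : Type*} [Field K] {ι κ : Type*} [Fintype ι] [DecidableEq ι]
    [Fintype κ] [DecidableEq κ] (e : ι ≃ κ) (A : Matrix ι ι K) (v : ι → K) :
    (Matrix.reindex e e A).mulVec (v ∘ e.symm) = (A.mulVec v) ∘ e.symm := by
  rw [Matrix.reindex_apply, Matrix.submatrix_mulVec_equiv]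
  congr 2
  funext i
  simp

theorem K3_isIrredMat_reindex {K : Type*} [Field K] {ι κ : Type*} [Fintype ι] [DecidableEq ι]
    [Fintype κ] [DecidableEq κ] (e : ι ≃ κ) (ρ : G →* Matrix ι ι K) (hρ : IsIrredMat ρ) :
    IsIrredMat (K3_reindex e ρ) := by
  obtain ⟨hne, hW⟩ := hρ
  refine ⟨hne.map e, ?_⟩
  intro W' hW'
  let Φ : (ι → K) ≃ₗ[K] (κ → K) := LinearEquiv.funCongrLeft K K e.symm
  have hΦ : ∀ v : ι → K, Φ v = v ∘ e.symm := fun v => rfl
  have hinv : ∀ g, ∀ w ∈ W'.comap Φ.toLinearMap, (ρ g).mulVec w ∈ W'.comap Φ.toLinearMap := by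
    intro g w hw
    rw [Submodule.mem_comap] at hw ⊢
    have h1 := hW' g (Φ w) hw
    have h2 : (K3_reindex e ρ g).mulVec (Φ w) = Φ ((ρ g).mulVec w) := by
      rw [K3_reindex_apply, hΦ, hΦ, K3_mulVec]
    rw [h2] at h1
    exact h1
  rcases hW _ hinv with h | h
  · left
    rw [Submodule.eq_bot_iff]
    intro w' hw'
    have h3 : Φ.symm w' ∈ W'.comap Φ.toLinearMap := by
      rw [Submodule.mem_comap]
      simpa using hw'
    rw [h, Submodule.mem_bot] at h3
    simpa using h3
  · right
    rw [Submodule.eq_top_iff']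
    intro w'
    have h3 : Φ.symm w' ∈ W'.comap Φ.toLinearMap := by
      rw [h]
      exact Submodule.mem_top
    rw [Submodule.mem_comap] at h3
    simpa using h3

theorem K3_brauerChar_reindex {ι κ : Type*} [Fintype ι] [DecidableEq ι] [Fintype κ]
    [DecidableEq κ] (e : ι ≃ κ) (ρ : G →* Matrix ι ι (AlgInt ⧸ M)) :
    brauerChar p M (K3_reindex e ρ) = brauerChar p M ρ := by
  unfold brauerChar
  congr 1
  funext g
  unfold brauerFull bfull
  rw [K3_reindex_apply, Matrix.charpoly_reindex]

/-- (K3) irreducible matrix representations on any finite index type give members of `IBr`: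
reindex along `Fintype.equivFin ι`. -/
theorem brauerChar_mem_IBr_of_isIrredMat {ι : Type*} [Fintype ι] [DecidableEq ι]
    (ρ : G →* Matrix ι ι (AlgInt ⧸ M)) (hρ : IsIrredMat ρ) : brauerChar p M ρ ∈ IBr p M G :=
  ⟨Fintype.card ι, K3_reindex (Fintype.equivFin ι) ρ,
    K3_isIrredMat_reindex (Fintype.equivFin ι) ρ hρ,
    (K3_brauerChar_reindex (Fintype.equivFin ι) ρ).symm⟩

end Cfsg.Agent.Helper65.FS
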