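import Cfsg.Agent.Helper25.FSwan.Defs
import Cfsg.Agent.Helper23.DT_MN4
import Cfsg.Agent.Helper55.DT_IBI

/-!
Helper65 for helper25, Fong-Swan farm (S4440), piece (CON): every irreducible Brauer character is a
constituent of some `χ°`.
-/

set_option autoImplicit false
set_option linter.unusedSectionVars false
set_option linter.unusedVariables false

namespace Cfsg.Agent.Helper65.FS

open Cfsg Cfsg.Agent.Helper16 Cfsg.Agent.Helper16.DT Cfsg.Agent.Helper25.FS

universe u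

variable {p : ℕ} [Fact p.Prime] {M : Ideal AlgInt} [M.IsMaximal] {G : Type u} [Group G]

/-- `IBrIn ⊆ IBr` -/
theorem CON_IBrIn_subset [Fintype G] (B : Set (IrrCharacter G)) {ψ : G → ℂ}
    (h : ψ ∈ IBrIn p M B) : ψ ∈ IBr p M G := by
  obtain ⟨n, ρ, h1, h2, _⟩ := h
  exact ⟨n, ρ, h1, h2⟩

/-- (CON) every irreducible Brauer character is a constituent of some `χ°`. -/
theorem exists_brConst (hpM : (p : AlgInt) ∈ M) [Finite G] {φ : G → ℂ} (hφ : φ ∈ IBr p M G) :
    ∃ χ : IrrCharacter G, BrConst p M φ (χ : G → ℂ) := by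
  classical
  have : Fintype G := Fintype.ofFinite G
  obtain ⟨a, ha⟩ := Cfsg.Agent.Helper23.DT.MN4_E5C hpM hφ
  by_contra hcon
  have hcon' : ∀ χ : IrrCharacter G, ¬ BrConst p M φ (χ : G → ℂ) := fun χ h => hcon ⟨χ, h⟩
  have hli := Cfsg.Agent.Helper55.DT.IBr_linearIndependent (p := p) (M := M) (G := G) hpM
  let x : IBr p M G := ⟨φ, hφ⟩
  let s : Set (IBr p M G) := {ψ | ψ ≠ x}
  have hxs : x ∉ s := fun h => h rfl
  have hnot := hli.notMem_span_image hxs
  apply hnot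
  have hχ : ∀ χ : IrrCharacter G, pRegularPart p (χ : G → ℂ) ∈
      Submodule.span ℂ ((fun ψ : IBr p M G => (ψ : G → ℂ)) '' s) := by
    intro χ
    obtain ⟨l, hl, hsum⟩ := Cfsg.Agent.Helper87.DT.decomposition (p := p) (M := M) hpM χ
    have hlI : ∀ ψ ∈ l, ψ ∈ IBr p M G := fun ψ hψ => CON_IBrIn_subset _ (hl ψ hψ)
    have hφl : φ ∉ l := fun hmem => hcon' χ ⟨l, hlI, hmem, hsum⟩
    rw [hsum]
    apply list_sum_mem
    intro ψ hψ
    apply Submodule.subset_span
    refine ⟨⟨ψ, hlI ψ hψ⟩, ?_, rfl⟩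
    intro heq
    apply hφl
    have h1 : ψ = φ := congrArg Subtype.val heq
    rw [← h1]
    exact hψ
  show φ ∈ Submodule.span ℂ ((fun ψ : IBr p M G => (ψ : G → ℂ)) '' s)
  rw [ha]
  refine finsum_induction _ (Submodule.zero_mem _) (fun _ _ hx hy => Submodule.add_mem _ hx hy) ?_
  intro χ
  exact Submodule.smul_mem _ _ (hχ χ)

end Cfsg.Agent.Helper65.FS
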