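import Cfsg.Agent.Helper65.Metacyclic3
import Cfsg.Agent.Helper63.Frattini
import Cfsg.Agent.Helper47.Frattini

/-!
# Metacyclic `p`-groups, `p` odd: the Frattini subgroup and abelian centralizers
-/

set_option autoImplicit false

namespace Cfsg.Agent.Helper65

open Subgroup

section Main

variable {G : Type*} [Group G] [Finite G] {p : ℕ} [hp : Fact p.Prime]

theorem commutator_le_closure_pow (hG : IsPGroup p G) (hmc : Cfsg.IsMetacyclic G) :
    commutator G ≤ closure {x : G | ∃ y : G, y ^ p ^ 1 = x} := by
  obtain ⟨a, b, r, h⟩ := exists_mcdata hG hmc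
  rw [h.commutator_eq, zpowers_le]
  apply Subgroup.subset_closure
  have h1 : r % p = 1 % p := by rw [h.mod, Nat.one_mod_eq_one.mpr hp.out.ne_one]
  have h2 : p ∣ r - 1 := (Nat.modEq_iff_dvd' h.one_le).mp h1.symm
  obtain ⟨m, hm⟩ := h2
  exact ⟨a ^ m, by rw [pow_one, ← pow_mul, mul_comm, hm]⟩

theorem frattini_eq_closure_pow (hG : IsPGroup p G) (hmc : Cfsg.IsMetacyclic G) :
    frattini G = closure {x : G | ∃ y : G, y ^ p ^ 1 = x} := by
  apply le_antisymm
  · apply Cfsg.Agent.Helper47.frattini_le_of_commutator_pow_mem (p := p)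
    · intro x y
      apply commutator_le_closure_pow hG hmc
      rw [commutator_def]
      exact Subgroup.commutator_mem_commutator (Subgroup.mem_top x) (Subgroup.mem_top y)
    · intro x
      exact Subgroup.subset_closure ⟨x, by rw [pow_one]⟩
  · rw [Subgroup.closure_le]
    rintro _ ⟨y, rfl⟩
    rw [pow_one]
    exact Cfsg.Agent.Helper63.pow_prime_mem_frattini hG y

/-- every class has at most `|G'|` elements. -/
theorem index_centralizer_le (hp2 : p ≠ 2) (hG : IsPGroup p G) (hmc : Cfsg.IsMetacyclic G) {n : ℕ}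
    (hGn : Nat.card (commutator G) = p ^ n) (g : G) :
    (centralizer ({g} : Set G)).index ≤ p ^ n := by
  have h1 := (mem_closure_pow_iff hp2 hG hmc hGn (Nat.zero_le n) g).mp
    (Subgroup.subset_closure ⟨g, by simp⟩)
  simpa using h1

/-- **An element lies outside the Frattini subgroup iff its centralizer is abelian.** -/
theorem not_mem_frattini_iff (hp2 : p ≠ 2) (hG : IsPGroup p G) (hmc : Cfsg.IsMetacyclic G)
    (hna : ¬ IsMulCommutative G) (g : G) :
    g ∉ frattini G ↔ IsMulCommutative (centralizer ({g} : Set G)) := by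
  have hpp : p.Prime := hp.out
  obtain ⟨n, hGn⟩ : ∃ n, Nat.card (commutator G) = p ^ n :=
    IsPGroup.iff_card.mp (hG.to_subgroup _)
  have hn : n ≠ 0 := by
    rintro rfl
    apply hna
    have h1 : IsMulCommutative (⊤ : Subgroup G) := by
      rw [isMulCommutative_iff_card_commutator, card_commutator_top, hGn, pow_zero]
    constructor; constructor
    intro x y
    exact congrArg Subtype.val (h1.is_comm.comm ⟨x, Subgroup.mem_top x⟩ ⟨y, Subgroup.mem_top y⟩)
  have hs : 1 ≤ n := Nat.one_le_iff_ne_zero.mpr hn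
  rw [frattini_eq_closure_pow hG hmc, mem_closure_pow_iff hp2 hG hmc hGn hs,
    isMulCommutative_iff_card_le hp2 hG hmc]
  set C := centralizer ({g} : Set G) with hC
  have hle := index_centralizer_le hp2 hG hmc hGn g
  have E1 := Subgroup.card_mul_index C
  have E4 := Subgroup.card_mul_index (commutator G)
  rw [hGn] at E4
  obtain ⟨k, hk⟩ := IsPGroup.iff_card.mp hG
  have hdvd : C.index ∣ p ^ k := by rw [← hk]; exact Subgroup.index_dvd_card _
  obtain ⟨j, -, hj⟩ := (Nat.dvd_prime_pow hpp).mp hdvd
  rw [← hC] at hle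
  rw [hj] at hle E1 ⊢
  rw [Nat.pow_le_pow_iff_right hpp.one_lt] at hle
  rw [Nat.pow_le_pow_iff_right hpp.one_lt]
  have hDpos : 0 < (commutator G).index := Nat.pos_of_ne_zero Subgroup.index_ne_zero_of_finite
  have hCpos : 0 < Nat.card C := Nat.card_pos
  constructor
  · intro h
    have hjn : j = n := by omega
    subst hjn
    rw [← E4, mul_comm] at E1
    exact (Nat.eq_of_mul_eq_mul_left (pow_pos hpp.pos j) E1).le
  · intro h hcon
    have hlt : p ^ j < p ^ n := Nat.pow_lt_pow_right hpp.one_lt (by omega)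
    have h1 : Nat.card C * p ^ j < p ^ n * (commutator G).index := by
      calc Nat.card C * p ^ j < Nat.card C * p ^ n := Nat.mul_lt_mul_of_pos_left hlt hCpos
        _ ≤ (commutator G).index * p ^ n := Nat.mul_le_mul_right _ h
        _ = p ^ n * (commutator G).index := mul_comm _ _
    omega

end Main

end Cfsg.Agent.Helper65
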