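import Cfsg.Agent.Helper65.Metacyclic2

/-!
# Metacyclic `p`-groups, `p` odd: power formula and factorization
-/

set_option autoImplicit false

namespace Cfsg.Agent.Helper65

open Subgroup

section Tools

variable {G : Type*} [Group G]

/-- `(a ^ i * x) ^ k = a ^ (i * (1 + ρ + ⋯ + ρ ^ (k - 1))) * x ^ k` when `x` acts on `a` as the `ρ`-th
power. -/
theorem mul_pow_eq {a x : G} {ρ : ℕ} (h : x * a * x⁻¹ = a ^ ρ) (i k : ℕ) :
    (a ^ i * x) ^ k = a ^ (i * gs ρ k) * x ^ k := by
  induction k with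
  | zero => simp [gs_zero]
  | succ k ih =>
    have h1 : x ^ k * a ^ i * (x ^ k)⁻¹ = a ^ (ρ ^ k * i) := conj_pow_eq (pow_conj_eq h k) i
    have h2 : x ^ k * a ^ i = a ^ (ρ ^ k * i) * x ^ k := by rw [← h1]; group
    rw [pow_succ, ih, gs_succ, mul_add, pow_add]
    calc a ^ (i * gs ρ k) * x ^ k * (a ^ i * x)
        = a ^ (i * gs ρ k) * (x ^ k * a ^ i) * x := by group
      _ = a ^ (i * gs ρ k) * (a ^ (ρ ^ k * i) * x ^ k) * x := by rw [h2]
      _ = a ^ (i * gs ρ k) * a ^ (i * ρ ^ k) * x ^ (k + 1) := by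
          rw [mul_comm (ρ ^ k) i, pow_succ]; group

theorem mul_pow_mem_iff {a x : G} {ρ : ℕ} (h : x * a * x⁻¹ = a ^ ρ) (i e : ℕ) :
    (a ^ i * x) ^ e ∈ zpowers a ↔ x ^ e ∈ zpowers a := by
  rw [mul_pow_eq h]
  exact Subgroup.mul_mem_cancel_left _ (Subgroup.pow_mem _ (Subgroup.mem_zpowers a) _)

theorem zpowers_pow_eq_of_coprime [Finite G] {x : G} {v : ℕ} (h : (orderOf x).Coprime v) :
    zpowers (x ^ v) = zpowers x := by
  apply Subgroup.eq_of_le_of_card_ge
  · exact zpowers_le.mpr (Subgroup.pow_mem _ (Subgroup.mem_zpowers x) v)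
  · rw [Nat.card_zpowers, Nat.card_zpowers, h.orderOf_pow]

theorem exists_pow_mul_of_padicValNat {p : ℕ} [hp : Fact p.Prime] {N : ℕ} (hN : N ≠ 0) :
    ∃ v, ¬ p ∣ v ∧ N = p ^ padicValNat p N * v := by
  obtain ⟨e, v, hv, hN'⟩ := Nat.exists_eq_pow_mul_and_not_dvd hN p hp.out.ne_one
  have hv0 : v ≠ 0 := by rintro rfl; simp at hv
  have : padicValNat p N = e := by
    rw [hN', padicValNat.mul (pow_ne_zero _ hp.out.ne_zero) hv0, padicValNat.prime_pow,
      padicValNat.eq_zero_of_not_dvd hv, add_zero]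
  exact ⟨v, hv, by rw [this]; exact hN'⟩

theorem zpowers_pow_eq_of_padicValNat_eq [Finite G] {p : ℕ} [hp : Fact p.Prime] (hG : IsPGroup p G)
    (x : G) {N₁ N₂ : ℕ} (h1 : N₁ ≠ 0) (h2 : N₂ ≠ 0) (hv : padicValNat p N₁ = padicValNat p N₂) :
    zpowers (x ^ N₁) = zpowers (x ^ N₂) := by
  obtain ⟨v₁, hv₁, e₁⟩ := exists_pow_mul_of_padicValNat (p := p) h1
  obtain ⟨v₂, hv₂, e₂⟩ := exists_pow_mul_of_padicValNat (p := p) h2
  rw [hv] at e₁
  have key : ∀ v, ¬ p ∣ v → zpowers ((x ^ p ^ padicValNat p N₂) ^ v) = zpowers (x ^ p ^ padicValNat p N₂) := by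
    intro v hv
    apply zpowers_pow_eq_of_coprime
    obtain ⟨j, hj⟩ := (IsPGroup.iff_orderOf.mp hG) (x ^ p ^ padicValNat p N₂)
    rw [hj]
    exact Nat.Coprime.pow_left j ((Nat.Prime.coprime_iff_not_dvd hp.out).mpr hv)
  conv_lhs => rw [e₁, pow_mul]
  conv_rhs => rw [e₂, pow_mul]
  rw [key v₁ hv₁, key v₂ hv₂]

end Tools

namespace MCData

variable {G : Type*} [Group G] {p : ℕ} {a b : G} {r : ℕ}

theorem conj_b_pow (h : MCData p a b r) (f : ℕ) : b ^ f * a * (b ^ f)⁻¹ = a ^ (r ^ f) :=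
  pow_conj_eq h.conj f

/-- the order of `b` modulo `⟨a⟩`. -/
theorem exists_k [Finite G] [hp : Fact p.Prime] (hG : IsPGroup p G) (h : MCData p a b r) :
    ∃ k, (∀ e : ℕ, b ^ e ∈ zpowers a ↔ p ^ k ∣ e) ∧ Nat.card G = orderOf a * p ^ k := by
  have hN := h.normal_zpowers_a
  obtain ⟨k, hk⟩ := (IsPGroup.iff_orderOf.mp (hG.to_quotient (zpowers a)))
    (QuotientGroup.mk b : G ⧸ zpowers a)
  refine ⟨k, ?_, ?_⟩
  · intro e
    rw [← hk, orderOf_dvd_iff_pow_eq_one, ← QuotientGroup.mk_pow, QuotientGroup.eq_one_iff]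
  · have hgen : ∀ q : G ⧸ zpowers a, q ∈ zpowers (QuotientGroup.mk b : G ⧸ zpowers a) := by
      intro q
      obtain ⟨g, rfl⟩ := QuotientGroup.mk_surjective q
      obtain ⟨i, j, rfl⟩ := h.gen g
      have h1 : (QuotientGroup.mk (a ^ i * b ^ j) : G ⧸ zpowers a) =
          (QuotientGroup.mk b : G ⧸ zpowers a) ^ j := by
        rw [QuotientGroup.mk_mul, (QuotientGroup.eq_one_iff (a ^ i)).mpr
          (Subgroup.pow_mem _ (Subgroup.mem_zpowers a) i), one_mul, QuotientGroup.mk_pow]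
      rw [h1]
      exact Subgroup.pow_mem _ (Subgroup.mem_zpowers _) _
    rw [Subgroup.card_eq_card_quotient_mul_card_subgroup (zpowers a),
      ← orderOf_eq_card_of_forall_mem_zpowers hgen, hk, Nat.card_zpowers, mul_comm]

/-- the split case: a complement of `⟨a⟩`. -/
theorem factorization_of_pow_eq_one [Finite G] [hp : Fact p.Prime] {k : ℕ}
    (hcard : Nat.card G = orderOf a * p ^ k) {y : G}
    (hy : ∀ e : ℕ, y ^ e ∈ zpowers a ↔ p ^ k ∣ e) (hyk : y ^ p ^ k = 1) :
    zpowers a ⊓ zpowers y = ⊥ ∧ Nat.card (zpowers a) * Nat.card (zpowers y) = Nat.card G := by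
  have hord : orderOf y = p ^ k := by
    apply orderOf_eq_of_forall_pow
    intro e
    constructor
    · intro he
      rw [← hy, he]
      exact Subgroup.one_mem _
    · rintro ⟨e', rfl⟩
      rw [pow_mul, hyk, one_pow]
  constructor
  · rw [eq_bot_iff]
    intro g hg
    obtain ⟨hg1, hg2⟩ := Subgroup.mem_inf.mp hg
    rw [← mem_powers_iff_mem_zpowers] at hg2
    obtain ⟨e, he⟩ := hg2
    have he' : y ^ e = g := he
    subst he'
    obtain ⟨e', rfl⟩ := (hy e).mp hg1
    rw [Subgroup.mem_bot, pow_mul, hyk, one_pow]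
  · rw [Nat.card_zpowers, Nat.card_zpowers, hord, hcard]

/-- **Factorization**: a metacyclic `p`-group (`p` odd) is a product of two cyclic subgroups with
trivial intersection. -/
theorem exists_factorization [Finite G] [hp : Fact p.Prime] (hp2 : p ≠ 2) (hG : IsPGroup p G)
    (h : MCData p a b r) :
    ∃ A B : Subgroup G, IsCyclic A ∧ IsCyclic B ∧ A ⊓ B = ⊥ ∧
      Nat.card A * Nat.card B = Nat.card G := by
  have hpp : p.Prime := hp.out
  obtain ⟨k, hk, hcard⟩ := h.exists_k hG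
  obtain ⟨m, hm⟩ := (IsPGroup.iff_orderOf.mp hG) a
  by_cases hA : ∃ i : ℕ, (a ^ i * b) ^ p ^ k = 1
  · obtain ⟨i, hi⟩ := hA
    have hy : ∀ e : ℕ, (a ^ i * b) ^ e ∈ zpowers a ↔ p ^ k ∣ e := by
      intro e
      rw [mul_pow_mem_iff h.conj, hk]
    obtain ⟨h1, h2⟩ := factorization_of_pow_eq_one hcard hy hi
    exact ⟨zpowers a, zpowers (a ^ i * b), inferInstance, inferInstance, h1, h2⟩
  · push Not at hA
    -- z = b ^ (p ^ k) = a ^ w
    have hz : b ^ p ^ k ∈ zpowers a := (hk _).mpr dvd_rfl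
    have hapm : a ^ p ^ m = 1 := by rw [← hm, pow_orderOf_eq_one]
    obtain ⟨w, hw0, hw⟩ : ∃ w : ℕ, w ≠ 0 ∧ a ^ w = b ^ p ^ k := by
      rw [← mem_powers_iff_mem_zpowers] at hz
      obtain ⟨w₀, hw₀⟩ := hz
      refine ⟨w₀ + p ^ m, by have := pow_pos hpp.pos m; omega, ?_⟩
      rw [pow_add, hapm, mul_one]
      exact hw₀
    set t := padicValNat p w with ht
    obtain ⟨w', hw', hww'⟩ := exists_pow_mul_of_padicValNat (p := p) hw0
    rw [← ht] at hww'
    -- t < k
    have htk : t < k := by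
      by_contra hcon
      rw [not_lt] at hcon
      have h1 : zpowers (a ^ gs r (p ^ k)) = zpowers (a ^ p ^ k) :=
        zpowers_pow_eq_of_padicValNat_eq hG a (gs_ne_zero (pow_ne_zero _ hpp.ne_zero))
          (pow_ne_zero _ hpp.ne_zero) (padicValNat_gs hp2 h.mod (pow_ne_zero _ hpp.ne_zero))
      have h2 : (b ^ p ^ k)⁻¹ ∈ zpowers (a ^ gs r (p ^ k)) := by
        rw [h1, ← hw]
        apply Subgroup.inv_mem
        have h3 : p ^ k ∣ w := (pow_dvd_pow p hcon).trans pow_padicValNat_dvd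
        obtain ⟨w₁, rfl⟩ := h3
        rw [pow_mul]
        exact Subgroup.pow_mem _ (Subgroup.mem_zpowers _) _
      rw [← mem_powers_iff_mem_zpowers] at h2
      obtain ⟨i, hi⟩ := h2
      apply hA i
      rw [mul_pow_eq h.conj, mul_comm i, pow_mul]
      rw [show (a ^ gs r (p ^ k)) ^ i = (b ^ p ^ k)⁻¹ from hi, inv_mul_cancel]
    -- t < m
    have htm : t < m := by
      by_contra hcon
      rw [not_lt] at hcon
      have h3 : p ^ m ∣ w := (pow_dvd_pow p hcon).trans pow_padicValNat_dvd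
      obtain ⟨w₁, rfl⟩ := h3
      apply hA 0
      rw [pow_zero, one_mul, ← hw, pow_mul, hapm, one_pow]
    -- the new generator
    set f := p ^ (k - t) * (p ^ t - 1) with hf
    have hfpt : f * p ^ t = p ^ k * (p ^ t - 1) := by
      rw [hf, mul_assoc, mul_comm (p ^ t - 1), ← mul_assoc, ← pow_add, Nat.sub_add_cancel htk.le]
    have hconjf := h.conj_b_pow f
    have hρ : r ^ f % p = 1 := h.pow_mod f
    have h1 : zpowers (a ^ gs (r ^ f) (p ^ t)) = zpowers (a ^ w) := by
      apply zpowers_pow_eq_of_padicValNat_eq hG a (gs_ne_zero (pow_ne_zero _ hpp.ne_zero)) hw0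
      rw [padicValNat_gs hp2 hρ (pow_ne_zero _ hpp.ne_zero), padicValNat.prime_pow]
    have h2 : ((b ^ p ^ k) ^ (p ^ t - 1))⁻¹ ∈ zpowers (a ^ gs (r ^ f) (p ^ t)) := by
      rw [h1, hw]
      exact Subgroup.inv_mem _ (Subgroup.pow_mem _ (Subgroup.mem_zpowers _) _)
    rw [← mem_powers_iff_mem_zpowers] at h2
    obtain ⟨i, hi⟩ := h2
    set a' := a ^ i * b ^ f with ha'
    have hbf : (b ^ f) ^ p ^ t = (b ^ p ^ k) ^ (p ^ t - 1) := by
      rw [← pow_mul, hfpt, pow_mul]
    have hB1 : a' ^ p ^ t = 1 := by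
      rw [ha', mul_pow_eq hconjf, mul_comm i, pow_mul,
        show (a ^ gs (r ^ f) (p ^ t)) ^ i = ((b ^ p ^ k) ^ (p ^ t - 1))⁻¹ from hi, hbf,
        inv_mul_cancel]
    have hcop : (p ^ t).Coprime (p ^ t - 1) :=
      (Nat.coprime_self_sub_right (Nat.one_le_pow _ _ hpp.pos)).mpr (Nat.coprime_one_right _)
    have hB2 : ∀ e : ℕ, a' ^ e ∈ zpowers a ↔ p ^ t ∣ e := by
      intro e
      rw [ha', mul_pow_mem_iff hconjf, ← pow_mul, hk]
      constructor
      · intro hd
        have h3 : p ^ (k - t) * p ^ t ∣ p ^ (k - t) * ((p ^ t - 1) * e) := by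
          rw [← pow_add, Nat.sub_add_cancel htk.le, ← mul_assoc]
          exact hd
        have h4 := Nat.dvd_of_mul_dvd_mul_left (pow_pos hpp.pos _) h3
        exact hcop.dvd_of_dvd_mul_left h4
      · rintro ⟨e', rfl⟩
        rw [← mul_assoc, hfpt]
        exact dvd_mul_of_dvd_left (Dvd.intro _ rfl) _
    have hordA' : orderOf a' = p ^ t := by
      apply orderOf_eq_of_forall_pow
      intro e
      constructor
      · intro he
        rw [← hB2, he]
        exact Subgroup.one_mem _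
      · rintro ⟨e', rfl⟩
        rw [pow_mul, hB1, one_pow]
    -- the order of b
    have hzpow : ∀ e' : ℕ, (b ^ p ^ k) ^ e' = 1 ↔ p ^ (m - t) ∣ e' := by
      intro e'
      rw [← hw, ← pow_mul, ← orderOf_dvd_iff_pow_eq_one, hm, hww']
      have hcop' : (p ^ (m - t)).Coprime w' :=
        Nat.Coprime.pow_left _ ((Nat.Prime.coprime_iff_not_dvd hpp).mpr hw')
      constructor
      · intro hd
        have h3 : p ^ t * p ^ (m - t) ∣ p ^ t * (w' * e') := by
          rw [← pow_add, Nat.add_sub_cancel' htm.le, ← mul_assoc]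
          exact hd
        have h4 := Nat.dvd_of_mul_dvd_mul_left (pow_pos hpp.pos _) h3
        exact hcop'.dvd_of_dvd_mul_left h4
      · rintro ⟨e'', rfl⟩
        have : p ^ m = p ^ t * p ^ (m - t) := by rw [← pow_add, Nat.add_sub_cancel' htm.le]
        rw [this]
        exact ⟨w' * e'', by ring⟩
    have hordb : orderOf b = p ^ (k + (m - t)) := by
      apply orderOf_eq_of_forall_pow
      intro e
      constructor
      · intro he
        have h3 : b ^ e ∈ zpowers a := by rw [he]; exact Subgroup.one_mem _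
        obtain ⟨e', rfl⟩ := (hk e).mp h3
        rw [pow_mul, hzpow] at he
        obtain ⟨e'', rfl⟩ := he
        rw [pow_add]
        exact ⟨e'', by ring⟩
      · rintro ⟨e', rfl⟩
        rw [pow_add, mul_assoc, pow_mul, hzpow]
        exact Dvd.intro _ rfl
    refine ⟨zpowers b, zpowers a', inferInstance, inferInstance, ?_, ?_⟩
    · rw [eq_bot_iff]
      intro g hg
      rw [Subgroup.mem_bot]
      by_contra hg1
      obtain ⟨hgA, hgB⟩ := Subgroup.mem_inf.mp hg
      obtain ⟨j, hj⟩ := (IsPGroup.iff_orderOf.mp hG) g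
      have hj0 : j ≠ 0 := by
        rintro rfl
        rw [pow_zero, orderOf_eq_one_iff] at hj
        exact hg1 hj
      have hpd : p ∣ orderOf g := by rw [hj]; exact dvd_pow_self p hj0
      have hord1 : orderOf (g ^ (orderOf g / p)) = p :=
        orderOf_pow_orderOf_div (by rw [hj]; exact pow_ne_zero _ hpp.ne_zero) hpd
      set g₁ := g ^ (orderOf g / p) with hg₁
      have hg₁A : g₁ ∈ zpowers b := Subgroup.pow_mem _ hgA _
      have hg₁B : g₁ ∈ zpowers a' := Subgroup.pow_mem _ hgB _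
      have hg₁N : g₁ ∈ zpowers a := by
        rw [← mem_powers_iff_mem_zpowers] at hg₁A
        obtain ⟨l, hl⟩ := hg₁A
        have h3 : b ^ (l * p) = 1 := by
          rw [pow_mul, show b ^ l = g₁ from hl, ← hord1, pow_orderOf_eq_one]
        rw [← orderOf_dvd_iff_pow_eq_one, hordb] at h3
        have h4 : p ^ k * p ∣ l * p := by
          have : p ^ k * p ∣ p ^ (k + (m - t)) := by
            rw [← pow_succ]
            exact pow_dvd_pow p (by omega)
          exact this.trans h3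
        have h5 : p ^ k ∣ l := Nat.dvd_of_mul_dvd_mul_right hpp.pos h4
        rw [← hl, hk]
        exact h5
      rw [← mem_powers_iff_mem_zpowers] at hg₁B
      obtain ⟨e, he⟩ := hg₁B
      have he : a' ^ e = g₁ := he
      have h6 : a' ^ e ∈ zpowers a := by rw [he]; exact hg₁N
      obtain ⟨e', rfl⟩ := (hB2 e).mp h6
      have h7 : g₁ = 1 := by rw [← he, pow_mul, hB1, one_pow]
      rw [h7, orderOf_one] at hord1
      exact hpp.ne_one hord1.symm
    · rw [Nat.card_zpowers, Nat.card_zpowers, hordb, hordA', hcard, hm, ← pow_add, ← pow_add]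
      congr 1
      omega

end MCData

/-- **Factorization**, coordinate-free. -/
theorem exists_factorization_of_isMetacyclic {G : Type*} [Group G] [Finite G] {p : ℕ}
    [hp : Fact p.Prime] (hp2 : p ≠ 2) (hG : IsPGroup p G) (hmc : Cfsg.IsMetacyclic G) :
    ∃ A B : Subgroup G, IsCyclic A ∧ IsCyclic B ∧ A ⊓ B = ⊥ ∧
      Nat.card A * Nat.card B = Nat.card G := by
  obtain ⟨a, b, r, h⟩ := exists_mcdata hG hmc
  exact h.exists_factorization hp2 hG

end Cfsg.Agent.Helper65
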