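import Mathlib
import Cfsg.Agent.Helper3.Cov2P5Defs

/-!
# S2500 part (5) (helper3), piece (5B): the subgroup generated by `singerSet` is `singerSet`.
-/

set_option autoImplicit false
set_option linter.unusedVariables false
set_option linter.unusedSectionVars false

namespace Cfsg.Agent.Helper65.Cov2P5

open Polynomial Module Matrix Cfsg.Agent.Helper3.Cov2

variable {F : Type*} [Field F] [Fintype F] {q : ℕ}

variable (L : Type*) [Field L] [Algebra F L] [Finite L]

omit [Fintype F] [Finite L] in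
theorem singer_one (ψ : L ≃ₗ[F] (Fin 3 → F)) : (1 : Cfsg.SU 3 F q) ∈ singerSet L q ψ := by
  refine ⟨1, 0, fun x => ?_⟩
  rw [pow_zero, pow_one, one_mul]
  show (((1 : Cfsg.SU 3 F q).1 : Matrix.SpecialLinearGroup (Fin 3) F).1 :
    Matrix (Fin 3) (Fin 3) F) *ᵥ ψ x = ψ x
  rw [Subgroup.coe_one, Matrix.SpecialLinearGroup.coe_one, Matrix.one_mulVec]

omit [Fintype F] [Finite L] in
theorem singer_mul (ψ : L ≃ₗ[F] (Fin 3 → F)) {A B : Cfsg.SU 3 F q} (hA : A ∈ singerSet L q ψ)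
    (hB : B ∈ singerSet L q ψ) : A * B ∈ singerSet L q ψ := by
  obtain ⟨t, i, hA⟩ := hA
  obtain ⟨s, j, hB⟩ := hB
  refine ⟨t * s ^ ((q ^ 2) ^ i), i + j, fun x => ?_⟩
  show (((A * B : Cfsg.SU 3 F q).1 : Matrix.SpecialLinearGroup (Fin 3) F).1 :
    Matrix (Fin 3) (Fin 3) F) *ᵥ ψ x = _
  rw [Subgroup.coe_mul, Matrix.SpecialLinearGroup.coe_mul, ← Matrix.mulVec_mulVec, hB, hA]
  have e : (s * x ^ (q ^ 2) ^ j) ^ (q ^ 2) ^ i = s ^ (q ^ 2) ^ i * x ^ ((q ^ 2) ^ (i + j)) := by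
    rw [mul_pow, ← pow_mul x, pow_add, mul_comm ((q ^ 2) ^ j)]
  rw [e, mul_assoc]

omit [Fintype F] [Finite L] in
theorem singer_pow (ψ : L ≃ₗ[F] (Fin 3 → F)) {A : Cfsg.SU 3 F q} (hA : A ∈ singerSet L q ψ)
    (n : ℕ) : A ^ n ∈ singerSet L q ψ := by
  induction n with
  | zero => rw [pow_zero]; exact singer_one L ψ
  | succ n ih => rw [pow_succ]; exact singer_mul L ψ ih hA

omit [Finite L] in
theorem singer_inv (ψ : L ≃ₗ[F] (Fin 3 → F)) {A : Cfsg.SU 3 F q} (hA : A ∈ singerSet L q ψ) :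
    A⁻¹ ∈ singerSet L q ψ := by
  classical
  have hfin : Finite (Cfsg.SU 3 F q) := inferInstance
  have hpos : 0 < orderOf A := orderOf_pos A
  have e : A⁻¹ = A ^ (orderOf A - 1) := by
    apply inv_eq_of_mul_eq_one_right
    rw [← pow_succ', Nat.sub_add_cancel hpos, pow_orderOf_eq_one]
  rw [e]
  exact singer_pow L ψ hA _

/-- (5B) -/
theorem mem_singerN_iff (hF : Fintype.card F = q ^ 2) (hL3 : finrank F L = 3)
    (ψ : L ≃ₗ[F] (Fin 3 → F)) (A : Cfsg.SU 3 F q) :
    A ∈ singerN L q ψ ↔ A ∈ singerSet L q ψ := by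
  constructor
  · intro hA
    unfold singerN at hA
    induction hA using Subgroup.closure_induction with
    | mem x hx => exact hx
    | one => exact singer_one L ψ
    | mul x y _ _ hx hy => exact singer_mul L ψ hx hy
    | inv x _ hx => exact singer_inv L ψ hx
  · intro hA
    exact Subgroup.subset_closure hA

end Cfsg.Agent.Helper65.Cov2P5
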