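import Mathlib
import Cfsg.Agent.Helper3.Cov2P5Defs

/-!
# S2500 part (5) (helper3), piece (5I): the Frobenius of `L / F` gives a regular unipotent element
of `SU_3(q)`, `q = 3^a`, lying in `singerSet`.
-/

set_option autoImplicit false
set_option linter.unusedVariables false
set_option linter.unusedSectionVars false

namespace Cfsg.Agent.Helper65.Cov2P5

open Polynomial Module Matrix Cfsg.Agent.Helper3.Cov2

variable {F : Type*} [Field F] [Fintype F] {q : ℕ}

variable (L : Type*) [Field L] [Algebra F L] [Finite L]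

/-- (5I) -/
theorem exists_frob_elt (hF : Fintype.card F = q ^ 2) (a : ℕ) (ha : 1 ≤ a) (hq : q = 3 ^ a)
    (hL3 : finrank F L = 3) (ψ : L ≃ₗ[F] (Fin 3 → F))
    (hψ : ∀ x y : L, Cfsg.hermForm 3 F q (ψ x) (ψ y) = hL F L q x y) :
    ∃ A : Cfsg.SU 3 F q, A ∈ singerSet L q ψ ∧
      ((A.1.1 : Matrix (Fin 3) (Fin 3) F) - 1) ^ 3 = 0 ∧
      ((A.1.1 : Matrix (Fin 3) (Fin 3) F) - 1) ^ 2 ≠ 0 := by
  classical
  haveI : Fact (Nat.Prime 3) := ⟨Nat.prime_three⟩
  haveI hcF : CharP F 3 := by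
    apply charP_of_card_eq_prime_pow (f := 2 * a)
    rw [hF, hq, ← pow_mul, mul_comm]
  haveI hcL : CharP L 3 := charP_of_injective_algebraMap (algebraMap F L).injective 3
  -- the Frobenius of `L / F`
  obtain ⟨e, he⟩ : ∃ e : L ≃ₐ[F] L, ∀ z : L, e z = z ^ (q ^ 2) := by
    refine ⟨FiniteField.frobeniusAlgEquivOfAlgebraic F L, fun z => ?_⟩
    rw [← hF]
    exact congrFun (FiniteField.coe_frobeniusAlgEquivOfAlgebraic F L) z
  have he3 : ∀ z : L, e (e (e z)) = z := by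
    intro z
    have h1 : (FiniteField.frobeniusAlgEquivOfAlgebraic F L) ^ 3 = 1 := by
      rw [← hL3, ← FiniteField.orderOf_frobeniusAlgEquivOfAlgebraic]
      exact pow_orderOf_eq_one _
    have h2 : ∀ w : L, e w = FiniteField.frobeniusAlgEquivOfAlgebraic F L w := by
      intro w
      rw [he, ← hF]
      exact (congrFun (FiniteField.coe_frobeniusAlgEquivOfAlgebraic F L) w).symm
    rw [h2, h2, h2]
    have h3 := congrArg (fun g : L ≃ₐ[F] L => g z) h1
    simpa [pow_succ, AlgEquiv.mul_apply] using h3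
  have htr : ∀ z : L, Algebra.trace F L (e z) = Algebra.trace F L z :=
    fun z => Algebra.trace_eq_of_algEquiv e z
  -- the matrix of the Frobenius in the coordinates `ψ`
  obtain ⟨f, hf⟩ : ∃ f : (Fin 3 → F) →ₗ[F] (Fin 3 → F), ∀ v, f v = ψ (e (ψ.symm v)) :=
    ⟨(ψ : L →ₗ[F] (Fin 3 → F)) ∘ₗ (e.toLinearMap ∘ₗ (ψ.symm : (Fin 3 → F) →ₗ[F] L)),
      fun v => rfl⟩
  obtain ⟨M, hMdef⟩ : ∃ M : Matrix (Fin 3) (Fin 3) F, M = LinearMap.toMatrix' f := ⟨_, rfl⟩
  have hM : ∀ x : L, M *ᵥ ψ x = ψ (e x) := by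
    intro x
    rw [hMdef, LinearMap.toMatrix'_mulVec, hf, LinearEquiv.symm_apply_apply]
  have hsurj : ∀ v : Fin 3 → F, ∃ x : L, v = ψ x := fun v => ⟨ψ.symm v, (ψ.apply_symm_apply v).symm⟩
  -- `M ^ 3 = 1`
  have hM3 : M ^ 3 = 1 := by
    rw [Matrix.ext_iff_mulVec]
    intro v
    obtain ⟨x, rfl⟩ := hsurj v
    have e3 : M ^ 3 = M * (M * M) := by rw [pow_succ, pow_two, mul_assoc]
    rw [e3, ← Matrix.mulVec_mulVec, ← Matrix.mulVec_mulVec, hM, hM, hM, he3, Matrix.one_mulVec]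
  have hdet : M.det = 1 := by
    have h1 : M.det ^ 3 = 1 := by rw [← Matrix.det_pow, hM3, Matrix.det_one]
    have h2 : (M.det - 1) ^ 3 = 0 := by rw [sub_pow_char, h1, one_pow, sub_self]
    have h3 := pow_eq_zero_iff (three_ne_zero) |>.1 h2
    exact sub_eq_zero.1 h3
  have hpres : ∀ u v, Cfsg.hermForm 3 F q (M *ᵥ u) (M *ᵥ v) = Cfsg.hermForm 3 F q u v := by
    intro u v
    obtain ⟨x, rfl⟩ := hsurj u
    obtain ⟨y, rfl⟩ := hsurj v
    rw [hM, hM, hψ, hψ]
    unfold hL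
    have e1 : e (x * y ^ (q ^ 3)) = e x * (e y) ^ (q ^ 3) := by rw [map_mul, map_pow]
    rw [← htr (x * y ^ (q ^ 3)), e1]
  refine ⟨⟨⟨M, hdet⟩, hpres⟩, ⟨1, 1, fun x => ?_⟩, ?_, ?_⟩
  · rw [pow_one, one_mul, ← he]
    exact hM x
  · show (M - 1) ^ 3 = 0
    rw [sub_pow_char_of_commute 3 (Commute.one_right M), hM3, one_pow,
      sub_self]
  · show (M - 1) ^ 2 ≠ 0
    intro h0
    obtain ⟨x, hx⟩ := Algebra.trace_surjective F L 1
    have hsub : ∀ y : L, (M - 1) *ᵥ ψ y = ψ (e y - y) := by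
      intro y
      rw [Matrix.sub_mulVec, Matrix.one_mulVec, hM, map_sub]
    have h1 : (M - 1) ^ 2 *ᵥ ψ x = ψ (e (e x - x) - (e x - x)) := by
      rw [pow_two, ← Matrix.mulVec_mulVec, hsub, hsub]
    rw [h0, Matrix.zero_mulVec] at h1
    have h2 : e (e x - x) - (e x - x) = 0 := by
      apply ψ.injective
      rw [← h1, map_zero]
    -- the trace formula
    have h3 := FiniteField.algebraMap_trace_eq_sum_pow F L x
    rw [hL3, hx, map_one, Finset.sum_range_succ, Finset.sum_range_succ, Finset.sum_range_one,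
      Nat.card_eq_fintype_card, hF, pow_zero, pow_one, pow_one, pow_two (q ^ 2), pow_mul, ← he,
      ← he] at h3
    have h30 : (3 : L) = 0 := by
      have := CharP.cast_eq_zero L 3
      exact_mod_cast this
    rw [map_sub] at h2
    have : (1 : L) = 0 := by
      linear_combination h3 + h2 + (e x) * h30
    exact one_ne_zero this

end Cfsg.Agent.Helper65.Cov2P5
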