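import Mathlib

/-!
# Three primes between `n` and `2 n`
-/

set_option autoImplicit false

namespace Cfsg.Agent.Helper65.GenNT

open Nat

/-- If at most two primes lie in `(n, 2n]`, the central binomial coefficient is small. -/
theorem centralBinom_le_of_le_two_primes (n : ℕ) (n_large : 18 ≤ n)
    (hno : ¬ ∃ p₁ p₂ p₃ : ℕ, p₁.Prime ∧ p₂.Prime ∧ p₃.Prime ∧ n < p₁ ∧ p₁ < p₂ ∧ p₂ < p₃ ∧
      p₃ ≤ 2 * n) :
    centralBinom n ≤ (2 * n) ^ sqrt (2 * n) * 4 ^ (2 * n / 3) := by
  have n_pos : 0 < n := by omega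
  have n2_pos : 1 ≤ 2 * n := by omega
  have n_large' : 2 < n := by omega
  have hsq : 6 ≤ sqrt (2 * n) := by
    rw [Nat.le_sqrt]; omega
  let f : ℕ → ℕ := fun x => x ^ n.centralBinom.factorization x
  have hf_le : ∀ p, f p ≤ 2 * n := fun p => pow_factorization_choose_le (mul_pos two_pos n_pos)
  let T := {p ∈ Finset.range (2 * n + 1) | Nat.Prime p}
  have hT : ∏ x ∈ T, f x = centralBinom n := by
    rw [← n.prod_pow_factorization_centralBinom]
    refine Finset.prod_filter_of_ne fun p _ h => ?_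
    contrapose h; dsimp only [f]
    rw [factorization_eq_zero_of_not_prime n.centralBinom h, _root_.pow_zero]
  rw [← hT, ← Finset.prod_filter_mul_prod_filter_not T (· ≤ n)]
  -- the primes above `n`
  have hbig : ∏ x ∈ T with ¬ x ≤ n, f x ≤ (2 * n) ^ 2 := by
    have hcard : ({x ∈ T | ¬ x ≤ n}).card ≤ 2 := by
      by_contra hc
      push Not at hc
      obtain ⟨a, ha, b, hb, c, hc', hab, hac, hbc⟩ := Finset.two_lt_card.mp hc
      simp only [T, Finset.mem_filter, Finset.mem_range, not_le] at ha hb hc'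
      obtain ⟨⟨ha1, ha2⟩, ha3⟩ := ha
      obtain ⟨⟨hb1, hb2⟩, hb3⟩ := hb
      obtain ⟨⟨hc1, hc2⟩, hc3⟩ := hc'
      apply hno
      rcases lt_or_gt_of_ne hab with h1 | h1 <;> rcases lt_or_gt_of_ne hac with h2 | h2 <;>
        rcases lt_or_gt_of_ne hbc with h3 | h3
      · exact ⟨a, b, c, ha2, hb2, hc2, ha3, h1, h3, by omega⟩
      · exact ⟨a, c, b, ha2, hc2, hb2, ha3, h2, h3, by omega⟩
      · omega
      · exact ⟨c, a, b, hc2, ha2, hb2, hc3, h2, h1, by omega⟩
      · exact ⟨b, a, c, hb2, ha2, hc2, hb3, h1, h2, by omega⟩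
      · omega
      · exact ⟨b, c, a, hb2, hc2, ha2, hb3, h3, h2, by omega⟩
      · exact ⟨c, b, a, hc2, hb2, ha2, hc3, h3, h1, by omega⟩
    calc ∏ x ∈ T with ¬ x ≤ n, f x ≤ (2 * n) ^ ({x ∈ T | ¬ x ≤ n}).card :=
          Finset.prod_le_pow_card _ _ _ fun x _ => hf_le x
      _ ≤ (2 * n) ^ 2 := Nat.pow_le_pow_right n2_pos hcard
  -- the primes up to `n`: only those up to `2n/3` contribute
  have hsmall : ∏ x ∈ T with x ≤ n, f x ≤ (2 * n) ^ (sqrt (2 * n) - 3) * 4 ^ (2 * n / 3) := by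
    rw [← Finset.prod_filter_mul_prod_filter_not ({x ∈ T | x ≤ n}) (· ≤ sqrt (2 * n))]
    apply mul_le_mul'
    · refine (Finset.prod_le_prod' fun p _ => hf_le p).trans ?_
      rw [Finset.prod_const]
      refine pow_right_mono₀ n2_pos ?_
      have h4 : 4 ∈ Finset.Icc 2 (sqrt (2 * n)) := Finset.mem_Icc.mpr ⟨by norm_num, by omega⟩
      have h6 : 6 ∈ (Finset.Icc 2 (sqrt (2 * n))).erase 4 :=
        Finset.mem_erase.mpr ⟨by norm_num, Finset.mem_Icc.mpr ⟨by norm_num, hsq⟩⟩
      have : (((Finset.Icc 2 (sqrt (2 * n))).erase 4).erase 6).card = sqrt (2 * n) - 3 := by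
        rw [Finset.card_erase_of_mem h6, Finset.card_erase_of_mem h4, card_Icc]; omega
      rw [← this]
      refine Finset.card_le_card fun x hx => ?_
      simp only [T, Finset.mem_filter, Finset.mem_range] at hx
      have hxp := hx.1.1.2
      refine Finset.mem_erase.mpr ⟨?_, Finset.mem_erase.mpr ⟨?_, ?_⟩⟩
      · rintro rfl
        exact absurd hxp (by norm_num)
      · rintro rfl
        exact absurd hxp (by norm_num)
      · exact Finset.mem_Icc.mpr ⟨hxp.two_le, hx.2⟩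
    · refine le_trans ?_ (primorial_le_four_pow (2 * n / 3))
      unfold primorial
      -- each factor is at most `p` if `p ≤ 2n/3`, and `1` otherwise
      have key : ∀ p ∈ {x ∈ {x ∈ T | x ≤ n} | ¬ x ≤ sqrt (2 * n)},
          f p ≤ if p ≤ 2 * n / 3 then p else 1 := by
        intro p hp
        simp only [T, Finset.mem_filter, Finset.mem_range, not_le] at hp
        obtain ⟨⟨⟨_, hprime⟩, hpn⟩, hsqrt⟩ := hp
        split_ifs with h23
        · refine (pow_right_mono₀ hprime.one_lt.le ?_).trans (pow_one p).le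
          exact Nat.factorization_choose_le_one (sqrt_lt'.mp hsqrt)
        · have h2x : 2 * n < 3 * p := by
            rw [not_le, Nat.div_lt_iff_lt_mul three_pos] at h23
            omega
          dsimp only [f]
          rw [factorization_centralBinom_of_two_mul_self_lt_three_mul n_large' hpn h2x,
            _root_.pow_zero]
      refine (Finset.prod_le_prod' key).trans ?_
      rw [Finset.prod_ite, Finset.prod_const_one, mul_one]
      refine Finset.prod_le_prod_of_subset_of_one_le' ?_ ?_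
      · intro p hp
        simp only [T, Finset.mem_filter, Finset.mem_range, not_le] at hp
        simp only [Finset.mem_filter, Finset.mem_range]
        exact ⟨by omega, hp.1.1.1.2⟩
      · intro p hp _
        exact (Finset.mem_filter.1 hp).2.one_lt.le
  calc (∏ x ∈ T with x ≤ n, f x) * ∏ x ∈ T with ¬ x ≤ n, f x
      ≤ ((2 * n) ^ (sqrt (2 * n) - 3) * 4 ^ (2 * n / 3)) * (2 * n) ^ 2 :=
        Nat.mul_le_mul hsmall hbig
    _ = (2 * n) ^ (sqrt (2 * n) - 3 + 2) * 4 ^ (2 * n / 3) := by ring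
    _ ≤ (2 * n) ^ sqrt (2 * n) * 4 ^ (2 * n / 3) := by
        apply Nat.mul_le_mul_right
        exact Nat.pow_le_pow_right n2_pos (by omega)

/-- Three primes in `(n, 2n]` for `n ≥ 512`. -/
theorem exists_three_primes_eventually (n : ℕ) (n_large : 512 ≤ n) :
    ∃ p₁ p₂ p₃ : ℕ, p₁.Prime ∧ p₂.Prime ∧ p₃.Prime ∧ n < p₁ ∧ p₁ < p₂ ∧ p₂ < p₃ ∧ p₃ ≤ 2 * n := by
  have no_prime : 4 ^ n < n * n.centralBinom :=
    Nat.four_pow_lt_mul_centralBinom n (le_trans (by norm_num1) n_large)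
  by_contra hcon
  have h1 : n.centralBinom ≤ (2 * n) ^ sqrt (2 * n) * 4 ^ (2 * n / 3) :=
    centralBinom_le_of_le_two_primes n (le_trans (by norm_num1) n_large) hcon
  have h2 := bertrand_main_inequality n_large
  have h3 : n * n.centralBinom ≤ n * ((2 * n) ^ sqrt (2 * n) * 4 ^ (2 * n / 3)) :=
    Nat.mul_le_mul_left n h1
  rw [← mul_assoc] at h3
  omega

/-- One step of a descending chain of triples of primes. -/
theorem exists_three_primes_succ {n : ℕ} (q₀ : ℕ) {p₁ p₂ p₃ : ℕ} (hp₁ : p₁.Prime)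
    (hp₂ : p₂.Prime) (hp₃ : p₃.Prime) (h12 : p₁ < p₂) (h23 : p₂ < p₃) (covering : p₃ ≤ 2 * q₀)
    (H : n < q₀ → ∃ p₁ p₂ p₃ : ℕ, p₁.Prime ∧ p₂.Prime ∧ p₃.Prime ∧ n < p₁ ∧ p₁ < p₂ ∧ p₂ < p₃ ∧
      p₃ ≤ 2 * n) (hn : n < p₁) :
    ∃ p₁ p₂ p₃ : ℕ, p₁.Prime ∧ p₂.Prime ∧ p₃.Prime ∧ n < p₁ ∧ p₁ < p₂ ∧ p₂ < p₃ ∧ p₃ ≤ 2 * n := by
  by_cases h : n < q₀
  · exact H h
  · exact ⟨p₁, p₂, p₃, hp₁, hp₂, hp₃, hn, h12, h23, by omega⟩

/-- **For `n ≥ 9` there are three primes in `(n, 2n]`.** -/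
theorem exists_three_primes (n : ℕ) (hn : 9 ≤ n) :
    ∃ p₁ p₂ p₃ : ℕ, p₁.Prime ∧ p₂.Prime ∧ p₃.Prime ∧ n < p₁ ∧ p₁ < p₂ ∧ p₂ < p₃ ∧ p₃ ≤ 2 * n := by
  rcases lt_or_ge 511 n with h | h
  · exact exists_three_primes_eventually n h
  replace h : n < 521 := by omega
  revert h
  refine exists_three_primes_succ 271 (p₁ := 521) (p₂ := 523) (p₃ := 541) (by norm_num1)
    (by norm_num1) (by norm_num1) (by norm_num1) (by norm_num1) (by norm_num1) ?_
  refine exists_three_primes_succ 149 (p₁ := 271) (p₂ := 277) (p₃ := 281) (by norm_num1)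
    (by norm_num1) (by norm_num1) (by norm_num1) (by norm_num1) (by norm_num1) ?_
  refine exists_three_primes_succ 79 (p₁ := 149) (p₂ := 151) (p₃ := 157) (by norm_num1)
    (by norm_num1) (by norm_num1) (by norm_num1) (by norm_num1) (by norm_num1) ?_
  refine exists_three_primes_succ 47 (p₁ := 79) (p₂ := 83) (p₃ := 89) (by norm_num1)
    (by norm_num1) (by norm_num1) (by norm_num1) (by norm_num1) (by norm_num1) ?_
  refine exists_three_primes_succ 31 (p₁ := 47) (p₂ := 53) (p₃ := 59) (by norm_num1)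
    (by norm_num1) (by norm_num1) (by norm_num1) (by norm_num1) (by norm_num1) ?_
  refine exists_three_primes_succ 23 (p₁ := 31) (p₂ := 37) (p₃ := 41) (by norm_num1)
    (by norm_num1) (by norm_num1) (by norm_num1) (by norm_num1) (by norm_num1) ?_
  refine exists_three_primes_succ 17 (p₁ := 23) (p₂ := 29) (p₃ := 31) (by norm_num1)
    (by norm_num1) (by norm_num1) (by norm_num1) (by norm_num1) (by norm_num1) ?_
  refine exists_three_primes_succ 13 (p₁ := 17) (p₂ := 19) (p₃ := 23) (by norm_num1)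
    (by norm_num1) (by norm_num1) (by norm_num1) (by norm_num1) (by norm_num1) ?_
  refine exists_three_primes_succ 11 (p₁ := 13) (p₂ := 17) (p₃ := 19) (by norm_num1)
    (by norm_num1) (by norm_num1) (by norm_num1) (by norm_num1) (by norm_num1) ?_
  refine exists_three_primes_succ 9 (p₁ := 11) (p₂ := 13) (p₃ := 17) (by norm_num1)
    (by norm_num1) (by norm_num1) (by norm_num1) (by norm_num1) (by norm_num1) ?_
  intro h
  omega

end Cfsg.Agent.Helper65.GenNT
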