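import Mathlib
import Cfsg.Agent.Helper30.ThreeMin.Defs

/-!
# (T-1) for helper30 (S2930): a `p`-group has blocks of size `p` in every non-trivial orbit
-/

set_option autoImplicit false
open Equiv Equiv.Perm MulAction Subgroup Cfsg.Agent.Helper30.ThreeMin
open scoped Pointwise
universe u

namespace Cfsg.Agent.Helper65.ThreeMin

/-- orbit-stabilizer for a subgroup containing the point stabilizer. -/
theorem ncard_orbit_mul_card_stabilizer {G : Type*} [Group G] [Finite G] {α : Type*}
    [MulAction G α] (V : Subgroup G) (x : α) (hV : stabilizer G x ≤ V) :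
    (orbit V x).ncard * Nat.card (stabilizer G x) = Nat.card V := by
  have h1 : (orbit V x).ncard * Nat.card (stabilizer V x) = Nat.card V := by
    rw [← MulAction.index_stabilizer]
    exact Subgroup.index_mul_card _
  have h2 : stabilizer V x = (stabilizer G x).subgroupOf V := by
    ext g
    rfl
  have h3 : Nat.card (stabilizer V x) = Nat.card (stabilizer G x) := by
    rw [h2]
    exact Nat.card_congr (Subgroup.subgroupOfEquivOfLe hV).toEquiv
  rw [h3] at h1
  exact h1

theorem orbit_subgroup_subset {G : Type*} [Group G] {α : Type*} [MulAction G α] (V : Subgroup G)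
    (x : α) : orbit V x ⊆ orbit G x := by
  rintro _ ⟨g, rfl⟩
  exact ⟨(g : G), rfl⟩

theorem orbit_subgroup_mono {G : Type*} [Group G] {α : Type*} [MulAction G α] {U V : Subgroup G}
    (h : U ≤ V) (x : α) : orbit U x ⊆ orbit V x := by
  rintro _ ⟨g, rfl⟩
  exact ⟨⟨(g : G), h g.2⟩, rfl⟩

/-- the numerical data of a point stabilizer in a finite `p`-group. -/
theorem exists_pow_data {G : Type*} [Group G] [Finite G] {α : Type*} [MulAction G α] {p : ℕ}
    [Fact p.Prime] (hG : IsPGroup p G) (x : α) :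
    ∃ k j : ℕ, Nat.card (stabilizer G x) = p ^ k ∧ (orbit G x).ncard = p ^ j ∧
      Nat.card G = p ^ (j + k) := by
  have hp : p.Prime := Fact.out
  obtain ⟨N, hN⟩ := IsPGroup.iff_card.mp hG
  obtain ⟨k, hk⟩ := IsPGroup.iff_card.mp (hG.to_subgroup (stabilizer G x))
  have h1 : (orbit G x).ncard * Nat.card (stabilizer G x) = Nat.card G := by
    rw [← MulAction.index_stabilizer]
    exact Subgroup.index_mul_card _
  rw [hk, hN] at h1
  have hdvd : (orbit G x).ncard ∣ p ^ N := Dvd.intro _ h1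
  obtain ⟨j, -, hj⟩ := (Nat.dvd_prime_pow hp).mp hdvd
  refine ⟨k, j, hk, hj, ?_⟩
  rw [hN, ← h1, hj, pow_add]

theorem exists_block_card_prime {α : Type u} [Fintype α] [DecidableEq α] {p : ℕ} [Fact p.Prime]
    (S : Subgroup (Perm α)) (hS : IsPGroup p S) (x : α) (hx : (orbit S x).ncard ≠ 1) :
    ∃ B : Set α, x ∈ B ∧ B ⊆ orbit S x ∧ IsBlock S B ∧ B.ncard = p := by
  have hp : p.Prime := Fact.out
  obtain ⟨k, j, hk, hj, hN⟩ := exists_pow_data hS x
  have hj0 : j ≠ 0 := by
    rintro rfl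
    exact hx (by rw [hj, pow_zero])
  have hdvd : p ^ (k + 1) ∣ Nat.card S := by
    rw [hN]
    exact pow_dvd_pow p (by omega)
  obtain ⟨U, hU, hHU⟩ := Sylow.exists_subgroup_card_pow_succ hdvd hk
  refine ⟨orbit U x, mem_orbit_self x, orbit_subgroup_subset U x, IsBlock.of_orbit hHU, ?_⟩
  have h1 := ncard_orbit_mul_card_stabilizer U x hHU
  rw [hk, hU, pow_succ, mul_comm (p ^ k) p] at h1
  exact Nat.eq_of_mul_eq_mul_right (pow_pos hp.pos k) h1

theorem exists_nested_blocks {α : Type u} [Fintype α] [DecidableEq α] {p : ℕ} [Fact p.Prime]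
    (S : Subgroup (Perm α)) (hS : IsPGroup p S) (x : α) (hx : p * p ≤ (orbit S x).ncard) :
    ∃ B T : Set α, x ∈ B ∧ B ⊆ T ∧ T ⊆ orbit S x ∧ IsBlock S B ∧ IsBlock S T ∧ B.ncard = p ∧
      T.ncard * p = (orbit S x).ncard := by
  have hp : p.Prime := Fact.out
  obtain ⟨k, j, hk, hj, hN⟩ := exists_pow_data hS x
  have hj2 : 2 ≤ j := by
    by_contra hlt
    have hj1 : j ≤ 1 := by omega
    have h1 : p ^ j ≤ p ^ 1 := Nat.pow_le_pow_right hp.pos hj1
    rw [hj] at hx
    have h2 : p < p * p := by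
      have := hp.one_lt
      nlinarith
    rw [pow_one] at h1
    omega
  have hdvd : p ^ (k + 1) ∣ Nat.card S := by
    rw [hN]
    exact pow_dvd_pow p (by omega)
  obtain ⟨U, hU, hHU⟩ := Sylow.exists_subgroup_card_pow_succ hdvd hk
  have hdvd2 : p ^ (j - 1 + k) ∣ Nat.card S := by
    rw [hN]
    exact pow_dvd_pow p (by omega)
  obtain ⟨M, hM, hUM⟩ := Sylow.exists_subgroup_card_pow_prime_le p hdvd2 U hU (by omega)
  have hHM : stabilizer S x ≤ M := hHU.trans hUM
  refine ⟨orbit U x, orbit M x, mem_orbit_self x, orbit_subgroup_mono hUM x,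
    orbit_subgroup_subset M x, IsBlock.of_orbit hHU, IsBlock.of_orbit hHM, ?_, ?_⟩
  · have h1 := ncard_orbit_mul_card_stabilizer U x hHU
    rw [hk, hU, pow_succ, mul_comm (p ^ k) p] at h1
    exact Nat.eq_of_mul_eq_mul_right (pow_pos hp.pos k) h1
  · have h1 := ncard_orbit_mul_card_stabilizer M x hHM
    rw [hk, hM, pow_add] at h1
    have h2 : (orbit M x).ncard = p ^ (j - 1) := Nat.eq_of_mul_eq_mul_right (pow_pos hp.pos k) h1
    rw [h2, hj, ← pow_succ]
    congr 1
    omega

end Cfsg.Agent.Helper65.ThreeMin
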