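import Mathlib
import Cfsg.Agent.Helper30.ThreeMin.Defs

/-!
# (T-4) for helper30 (S2930): a transitive group containing `Alt(T)` for a large non-block `T`
is primitive
-/

set_option autoImplicit false
open Equiv Equiv.Perm MulAction Subgroup Cfsg.Agent.Helper30.ThreeMin
open scoped Pointwise
universe u

namespace Cfsg.Agent.Helper65.ThreeMin

/-- the three-cycle `a ↦ c ↦ b ↦ a` on three points of `T` lies in `Alt ⊓ Fix(Tᶜ)`. -/
theorem swap_mul_swap_mem {α : Type u} [Fintype α] [DecidableEq α] (T : Set α) {a b c : α}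
    (ha : a ∈ T) (hb : b ∈ T) (hc : c ∈ T) (hab : a ≠ b) (hac : a ≠ c) :
    swap a b * swap a c ∈ alternatingGroup α ⊓ fixingSubgroup (Perm α) Tᶜ := by
  rw [Subgroup.mem_inf]
  refine ⟨?_, ?_⟩
  · rw [mem_alternatingGroup, Perm.sign_mul, sign_swap hab, sign_swap hac]
    rfl
  · rw [mem_fixingSubgroup_iff]
    intro y hy
    have hya : y ≠ a := fun h => hy (h ▸ ha)
    have hyb : y ≠ b := fun h => hy (h ▸ hb)
    have hyc : y ≠ c := fun h => hy (h ▸ hc)
    rw [Perm.smul_def, Perm.mul_apply, swap_apply_of_ne_of_ne hya hyc,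
      swap_apply_of_ne_of_ne hya hyb]

theorem swap_mul_swap_apply_left {α : Type u} [DecidableEq α] {a b c : α} (hac : a ≠ c)
    (hbc : b ≠ c) : (swap a b * swap a c) a = c := by
  rw [Perm.mul_apply, swap_apply_left, swap_apply_of_ne_of_ne hac.symm hbc.symm]

theorem swap_mul_swap_apply_right {α : Type u} [DecidableEq α] {a b c : α} :
    (swap a b * swap a c) c = b := by
  rw [Perm.mul_apply, swap_apply_right, swap_apply_left]

theorem swap_mul_swap_apply_of_ne {α : Type u} [DecidableEq α] {a b c y : α} (hya : y ≠ a)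
    (hyb : y ≠ b) (hyc : y ≠ c) : (swap a b * swap a c) y = y := by
  rw [Perm.mul_apply, swap_apply_of_ne_of_ne hya hyc, swap_apply_of_ne_of_ne hya hyb]

theorem isPreprimitive_of_alt_le {α : Type u} [Fintype α] [DecidableEq α] (J : Subgroup (Perm α))
    (htr : IsPretransitive J α) (T : Set α) (h3 : 3 ≤ T.ncard)
    (hle : alternatingGroup α ⊓ fixingSubgroup (Perm α) Tᶜ ≤ J)
    (hnb : ∃ g ∈ J, (g • T ∩ T).Nonempty ∧ g • T ≠ T)
    (hdiv : ∀ d : ℕ, d ∣ Fintype.card α → T.ncard < d → d = Fintype.card α) :
    IsPreprimitive J α := by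
  have := htr
  -- the key statement for blocks meeting `T`
  have key : ∀ D : Set α, IsBlock J D → ∀ t, t ∈ T → t ∈ D → ¬ D.Subsingleton → D = Set.univ := by
    intro D hD t htT htD hns
    -- a second point of `D`
    obtain ⟨y, hyD, hyt⟩ : ∃ y ∈ D, y ≠ t := by
      by_contra hcon
      have hcon : ∀ y ∈ D, y = t := by
        intro y hy
        by_contra hne
        exact hcon ⟨y, hy, hne⟩
      apply hns
      intro u hu v hv
      rw [hcon u hu, hcon v hv]
    -- `T ⊆ D`
    have hTD : T ⊆ D := by
      by_cases hex : ∃ x' ∈ D, x' ∈ T ∧ x' ≠ t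
      · obtain ⟨x', hx'D, hx'T, hx't⟩ := hex
        intro z hz
        by_cases hzt : z = t
        · rw [hzt]; exact htD
        by_cases hzx : z = x'
        · rw [hzx]; exact hx'D
        -- `g t = x'`, `g x' = z`
        have hg : swap t z * swap t x' ∈ J :=
          hle (swap_mul_swap_mem T htT hz hx'T (Ne.symm hzt) (Ne.symm hx't))
        obtain ⟨gJ, hgJ⟩ : ∃ gJ : J, (gJ : Perm α) = swap t z * swap t x' := ⟨⟨_, hg⟩, rfl⟩
        have h1 : gJ • t = x' := by
          show (gJ : Perm α) t = x'
          rw [hgJ]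
          exact swap_mul_swap_apply_left (Ne.symm hx't) hzx
        have h2 : gJ • x' = z := by
          show (gJ : Perm α) x' = z
          rw [hgJ]
          exact swap_mul_swap_apply_right
        have h3' : gJ • D = D := hD.smul_eq_of_mem htD (by rw [h1]; exact hx'D)
        have h4 : gJ • x' ∈ gJ • D := Set.smul_mem_smul_set hx'D
        rw [h3', h2] at h4
        exact h4
      · exfalso
        have hex : ∀ x' ∈ D, x' ∈ T → x' = t := by
          intro x' hx' hx'T
          by_contra hne
          exact hex ⟨x', hx', hx'T, hne⟩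
        have hyT : y ∉ T := fun h => hyt (hex y hyD h)
        -- two more points of `T`
        have h2 : 1 < (T \ {t}).ncard := by
          rw [Set.ncard_sdiff_singleton_of_mem htT]
          omega
        obtain ⟨a, b, ha, hb, hab⟩ := (Set.one_lt_ncard_iff (Set.toFinite _)).mp h2
        have haT : a ∈ T := ha.1
        have hbT : b ∈ T := hb.1
        have hat : a ≠ t := fun h => ha.2 (by rw [h]; rfl)
        have hbt : b ≠ t := fun h => hb.2 (by rw [h]; rfl)
        have hg : swap t a * swap t b ∈ J :=
          hle (swap_mul_swap_mem T htT haT hbT (Ne.symm hat) (Ne.symm hbt))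
        obtain ⟨gJ, hgJ⟩ : ∃ gJ : J, (gJ : Perm α) = swap t a * swap t b := ⟨⟨_, hg⟩, rfl⟩
        have h1 : gJ • t = b := by
          show (gJ : Perm α) t = b
          rw [hgJ]
          exact swap_mul_swap_apply_left (Ne.symm hbt) hab
        have hy1 : gJ • y = y := by
          show (gJ : Perm α) y = y
          rw [hgJ]
          exact swap_mul_swap_apply_of_ne hyt (fun h => hyT (h ▸ haT)) (fun h => hyT (h ▸ hbT))
        have h3' : gJ • D = D := hD.smul_eq_of_mem hyD (by rw [hy1]; exact hyD)
        have hbD : b ∈ D := by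
          have h4 : gJ • t ∈ gJ • D := Set.smul_mem_smul_set htD
          rw [h3', h1] at h4
          exact h4
        exact hbt (hex b hbD hbT)
    -- cardinalities
    have hDne : D.Nonempty := ⟨t, htD⟩
    have hdvd : D.ncard ∣ Fintype.card α := by
      have := hD.ncard_dvd_card hDne
      rwa [Nat.card_eq_fintype_card] at this
    have hle' : T.ncard ≤ D.ncard := Set.ncard_le_ncard hTD (Set.toFinite _)
    rcases Nat.lt_or_ge T.ncard D.ncard with hlt | hge
    · have := hdiv _ hdvd hlt
      rw [Set.eq_univ_iff_ncard, this, Nat.card_eq_fintype_card]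
    · exfalso
      have hTeq : T = D := Set.eq_of_subset_of_ncard_le hTD hge (Set.toFinite _)
      obtain ⟨g, hgJ, hne, hneq⟩ := hnb
      rw [← hTeq] at hD
      have h4 : (⟨g, hgJ⟩ : J) • T = T := hD.smul_eq_of_nonempty hne
      exact hneq h4
  refine { toIsPretransitive := htr, isTrivialBlock_of_isBlock := ?_ }
  intro D hD
  by_cases hs : D.Subsingleton
  · exact Or.inl hs
  · right
    have hDne : D.Nonempty := by
      by_contra h
      rw [Set.not_nonempty_iff_eq_empty] at h
      exact hs (h ▸ Set.subsingleton_empty)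
    obtain ⟨d, hd⟩ := hDne
    have hTne : T.Nonempty := by
      rw [← Set.ncard_pos (Set.toFinite _)]
      omega
    obtain ⟨t, ht⟩ := hTne
    obtain ⟨g, hg⟩ := MulAction.exists_smul_eq J d t
    have hD' : IsBlock J (g • D) := hD.translate g
    have htD' : t ∈ g • D := by
      rw [← hg]
      exact Set.smul_mem_smul_set hd
    have hs' : ¬ (g • D).Subsingleton := by
      intro h
      apply hs
      intro u hu v hv
      have := h (Set.smul_mem_smul_set hu) (Set.smul_mem_smul_set hv)
      exact smul_left_cancel g this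
    have h5 := key (g • D) hD' t ht htD' hs'
    have h6 : D = g⁻¹ • (g • D) := by rw [inv_smul_smul]
    rw [h6, h5, Set.smul_set_univ]

end Cfsg.Agent.Helper65.ThreeMin
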