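import Mathlib
import Cfsg.Agent.Helper52.PQDefs

/-!
# (G) for helper52 (S4306): a fixed-point-free conjugation on `R / R0` has surjective commutator map
-/

set_option autoImplicit false

namespace Cfsg.Agent.Helper65.PQ

open Subgroup Cfsg.Agent.Helper1.Shult Cfsg.Agent.Helper52.PQ

variable {H : Type*} [Group H] [Finite H]

theorem surj_comm_of_fpf (b : H) (R R0 : Subgroup H) (hR0R : R0 ≤ R)
    (hRR0 : R ≤ normalizer (R0 : Set H)) (hbR : b ∈ normalizer (R : Set H))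
    (hbR0 : b ∈ normalizer (R0 : Set H))
    (hfpf : ∀ x ∈ R, x⁻¹ * (b * x * b⁻¹) ∈ R0 → x ∈ R0) :
    ∀ y ∈ R, ∃ x ∈ R, ∃ n ∈ R0, y = x⁻¹ * (b * x * b⁻¹) * n := by
  classical
  haveI hN : (R0.subgroupOf R).Normal := normal_subgroupOf_of_le_normalizer hRR0
  -- conjugation by `b` on `R`
  let cb : R →* R := MonoidHom.mk'
    (fun x => ⟨b * x * b⁻¹, (mem_normalizer_iff.mp hbR x).1 x.2⟩)
    (fun x y => by
      apply Subtype.ext
      show b * (x * y : H) * b⁻¹ = (b * x * b⁻¹) * (b * y * b⁻¹)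
      group)
  have hcb : ∀ x : R, ((cb x : R) : H) = b * x * b⁻¹ := fun x => rfl
  have hle : R0.subgroupOf R ≤ (R0.subgroupOf R).comap cb := by
    intro x hx
    rw [mem_comap, mem_subgroupOf, hcb]
    exact (mem_normalizer_iff.mp hbR0 x).1 (mem_subgroupOf.mp hx)
  let β : (R ⧸ R0.subgroupOf R) →* (R ⧸ R0.subgroupOf R) :=
    QuotientGroup.map _ _ cb hle
  have hβ : ∀ x : R, β (QuotientGroup.mk x) = QuotientGroup.mk (cb x) := fun x => rfl
  -- fixed points of `β` are trivial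
  have hfix : ∀ q : R ⧸ R0.subgroupOf R, β q = q → q = 1 := by
    intro q hq
    obtain ⟨z, rfl⟩ := QuotientGroup.mk_surjective q
    rw [hβ] at hq
    have h1 : z⁻¹ * cb z ∈ R0.subgroupOf R := QuotientGroup.eq.mp hq.symm
    rw [mem_subgroupOf] at h1
    have h2 : (z : H)⁻¹ * (b * z * b⁻¹) ∈ R0 := h1
    have h3 := hfpf z z.2 h2
    exact (QuotientGroup.eq_one_iff z).2 (mem_subgroupOf.mpr h3)
  let φ : (R ⧸ R0.subgroupOf R) → (R ⧸ R0.subgroupOf R) := fun q => q⁻¹ * β q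
  have hinj : Function.Injective φ := by
    intro q q' h
    have h1 : q⁻¹ * β q = q'⁻¹ * β q' := h
    have h2 : β (q' * q⁻¹) = q' * q⁻¹ := by
      rw [map_mul, map_inv]
      calc β q' * (β q)⁻¹ = q' * (q'⁻¹ * β q') * (β q)⁻¹ := by group
        _ = q' * (q⁻¹ * β q) * (β q)⁻¹ := by rw [h1]
        _ = q' * q⁻¹ := by group
    have h3 := hfix _ h2
    calc q = (q' * q⁻¹)⁻¹ * q' := by group
      _ = q' := by rw [h3, inv_one, one_mul]
  have hsurj : Function.Surjective φ := Finite.injective_iff_surjective.mp hinj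
  intro y hy
  obtain ⟨q, hq⟩ := hsurj (QuotientGroup.mk ⟨y, hy⟩)
  obtain ⟨x, rfl⟩ := QuotientGroup.mk_surjective q
  have h1 : ((x⁻¹ * cb x : R) : R ⧸ R0.subgroupOf R) = QuotientGroup.mk ⟨y, hy⟩ := hq
  have h2 : (x⁻¹ * cb x)⁻¹ * ⟨y, hy⟩ ∈ R0.subgroupOf R := QuotientGroup.eq.mp h1
  rw [mem_subgroupOf] at h2
  have h3 : ((x : H)⁻¹ * (b * x * b⁻¹))⁻¹ * y ∈ R0 := h2
  refine ⟨x, x.2, _, h3, ?_⟩
  group

end Cfsg.Agent.Helper65.PQ
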