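import Mathlib
import Cfsg.Agent.Helper78.Brandt.Defs

/-!
# (B-R1) for helper78 (S4607): symmetrizing form lemmas
-/

set_option autoImplicit false

namespace Cfsg.Agent.Helper65.BrandtR1

open Module Cfsg.Agent.Helper78.Brandt

variable {k : Type*} [Field k] {A : Type*} [Ring A] [Algebra k A]

/-- the bilinear form `(a, b) ↦ lam (a * b)`. -/
noncomputable def formOf (lam : A →ₗ[k] k) : LinearMap.BilinForm k A :=
  (LinearMap.mul k A).compr₂ lam

theorem formOf_apply (lam : A →ₗ[k] k) (a b : A) : formOf lam a b = lam (a * b) := rfl

theorem eq_zero_of_forall_mul_right {lam : A →ₗ[k] k} (h : IsSymmForm k lam) (x : A)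
    (hx : ∀ b : A, lam (b * x) = 0) : x = 0 :=
  h.nondeg x (fun b => by rw [h.comm]; exact hx b)

theorem formOf_nondegenerate {lam : A →ₗ[k] k} (h : IsSymmForm k lam) :
    (formOf lam).Nondegenerate := by
  constructor
  · intro x hx
    exact h.nondeg x hx
  · intro y hy
    exact eq_zero_of_forall_mul_right h y hy

/-- the center is the orthogonal of the commutator span. -/
theorem center_eq_orthogonal {lam : A →ₗ[k] k} (h : IsSymmForm k lam) :
    Subalgebra.toSubmodule (Subalgebra.center k A) = (formOf lam).orthogonal (commSpan k A) := by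
  ext m
  rw [Subalgebra.mem_toSubmodule, Subalgebra.mem_center_iff, LinearMap.BilinForm.mem_orthogonal_iff]
  have key : ∀ b c : A, lam ((b * c - c * b) * m) = lam (b * (c * m - m * c)) := by
    intro b c
    rw [sub_mul, mul_sub, map_sub, map_sub, mul_assoc b c m, mul_assoc c b m, h.comm c (b * m),
      mul_assoc b m c]
  constructor
  · intro hm n hn
    rw [formOf_apply]
    unfold commSpan at hn
    induction hn using Submodule.span_induction with
    | mem z hz =>
      obtain ⟨b, c, rfl⟩ := hz
      rw [key, hm c, sub_self, mul_zero, map_zero]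
    | zero => rw [zero_mul, map_zero]
    | add u v _ _ hu hv => rw [add_mul, map_add, hu, hv, add_zero]
    | smul r u _ hu => rw [smul_mul_assoc, map_smul, hu, smul_zero]
  · intro hm c
    have h0 : c * m - m * c = 0 := by
      apply eq_zero_of_forall_mul_right h
      intro b
      rw [← key]
      have := hm _ (sub_mem_commSpan (k := k) b c)
      rwa [formOf_apply] at this
    exact sub_eq_zero.mp h0

/-- (B-R1a) for a symmetrizing form the center is the orthogonal of the commutator span. -/
theorem finrank_center_add_finrank_commSpan [FiniteDimensional k A] (lam : A →ₗ[k] k)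
    (h : IsSymmForm k lam) :
    finrank k (Subalgebra.center k A) + finrank k (commSpan k A) = finrank k A := by
  have h1 : finrank k (Subalgebra.center k A) =
      finrank k (Subalgebra.toSubmodule (Subalgebra.center k A)) :=
    (Subalgebra.toSubmoduleEquiv (Subalgebra.center k A)).finrank_eq.symm
  have h2 := LinearMap.BilinForm.finrank_orthogonal (formOf_nondegenerate h) (commSpan k A)
  have h3 : finrank k (commSpan k A) ≤ finrank k A := Submodule.finrank_le _
  rw [h1, center_eq_orthogonal h, h2]
  omega

/-- the orthogonal of `A e` is the kernel of left multiplication by `e`. -/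
theorem orthogonal_leftSpace {lam : A →ₗ[k] k} (h : IsSymmForm k lam) (e : A) :
    (formOf lam).orthogonal (leftSpace k e) = LinearMap.ker (LinearMap.mulLeft k e) := by
  ext m
  rw [LinearMap.BilinForm.mem_orthogonal_iff, LinearMap.mem_ker, LinearMap.mulLeft_apply]
  constructor
  · intro hm
    apply eq_zero_of_forall_mul_right h
    intro b
    have := hm (b * e) (mem_leftSpace.mpr ⟨b, rfl⟩)
    rwa [formOf_apply, mul_assoc] at this
  · intro hm n hn
    obtain ⟨a, rfl⟩ := mem_leftSpace.mp hn
    rw [formOf_apply, mul_assoc, hm, mul_zero, map_zero]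

/-- (B-R1b) `e A` and `A e` have the same dimension for a symmetrizing form. -/
theorem finrank_rightSpace_eq_finrank_leftSpace [FiniteDimensional k A] (lam : A →ₗ[k] k)
    (h : IsSymmForm k lam) (e : A) (he : IsIdempotentElem e) :
    finrank k (rightSpace k e) = finrank k (leftSpace k e) := by
  have h1 := LinearMap.finrank_range_add_finrank_ker (LinearMap.mulLeft k e)
  have h2 := LinearMap.BilinForm.finrank_orthogonal (formOf_nondegenerate h) (leftSpace k e)
  rw [orthogonal_leftSpace h e] at h2
  have h3 : finrank k (leftSpace k e) ≤ finrank k A := Submodule.finrank_le _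
  have h4 : finrank k (rightSpace k e) = finrank k (LinearMap.range (LinearMap.mulLeft k e)) := rfl
  omega

end Cfsg.Agent.Helper65.BrandtR1
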