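import Cfsg.Agent.Helper36.F4Odd.Defs

/-!
# S4280 (helper36), piece (CJ): conjugating `k n_w` by `n_v`.
-/

set_option autoImplicit false
set_option maxRecDepth 100000

namespace Cfsg.Agent.Helper65.F4OddCJ

open Cfsg Cfsg.Lie Cfsg.Agent.Helper18 Cfsg.Agent.Helper36.F4Odd Cfsg.Agent.Helper40.SL2Hom

variable {F : Type*} [Field F]

/-- a word followed by its reverse acts trivially on the root indices -/
theorem aW_reverse_cancel (v : List ℕ) : ∀ x : ℕ, aW v (aW v.reverse x) = x := by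
  induction v with
  | nil => intro x; rfl
  | cons i v ih =>
    intro x
    rw [List.reverse_cons, aW_append, show aW (i :: v) (aW v.reverse (aW [i] x)) =
      Cfsg.Agent.Helper19.Cox.tact reflTabsF4 4 48 i (aW v (aW v.reverse (aW [i] x))) from rfl, ih]
    exact Cfsg.Agent.Helper19.Cox.tact_invol rootI_F4 i x

theorem group_identity {G : Type*} [Group G] (a b r k k₀ k₃ s : G) (e₀ : a * r = k₀)
    (e₃ : a * b * r = k₃ * s) :
    a * (k * b) * a⁻¹ = (a * k * a⁻¹) * k₃ * (s * k₀⁻¹ * s⁻¹) * s := by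
  subst e₀
  have h3 : k₃ = a * b * r * s⁻¹ := by
    rw [eq_mul_inv_iff_mul_eq]
    exact e₃.symm
  subst h3
  group

/-- (CJ) conjugating `k n_w` by `n_v` -/
theorem conj_to_std (w v s : List ℕ) (hw : ∀ i ∈ w, i < 4) (hv : ∀ i ∈ v, i < 4) (hs : ∀ i ∈ s, i < 4)
    (h : ∀ x < 48, aW (v ++ w ++ v.reverse) x = aW s x) (k : GL chevF4.Idx F) (hk : k ∈ chevF4.diagonalSubgroup F) :
    ∃ k' ∈ chevF4.diagonalSubgroup F, nW v * (k * nW w) * (nW v)⁻¹ = k' * nW s := by
  have hvr : ∀ i ∈ v.reverse, i < 4 := fun i hi => hv i (List.mem_reverse.1 hi)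
  have hvv : ∀ i ∈ v ++ v.reverse, i < 4 := by
    intro i hi
    rcases List.mem_append.1 hi with h' | h'
    · exact hv i h'
    · exact hvr i h'
  have hvwv : ∀ i ∈ v ++ w ++ v.reverse, i < 4 := by
    intro i hi
    rcases List.mem_append.1 hi with h' | h'
    · rcases List.mem_append.1 h' with h'' | h''
      · exact hv i h''
      · exact hw i h''
    · exact hvr i h'
  have hnil : ∀ i ∈ ([] : List ℕ), i < 4 := fun i hi => absurd hi (List.not_mem_nil)
  obtain ⟨k₀, hk₀, e₀⟩ := nW_congr (F := F) (v ++ v.reverse) [] hvv hnil (fun r hr => by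
    rw [← (aW_eq_rho _ hvv r hr).1, aW_append, aW_reverse_cancel]
    rfl)
  rw [nW_nil, mul_one, nW_append] at e₀
  obtain ⟨k₃, hk₃, e₃⟩ := nW_congr (F := F) (v ++ w ++ v.reverse) s hvwv hs (fun r hr => by
    rw [← (aW_eq_rho _ hvwv r hr).1, ← (aW_eq_rho _ hs r hr).1]
    exact h r hr)
  rw [nW_append, nW_append] at e₃
  refine ⟨(nW v * k * (nW v)⁻¹) * k₃ * (nW s * k₀⁻¹ * (nW s)⁻¹), ?_, ?_⟩
  · exact mul_mem (mul_mem (conj_mem_diagonal _ _ (nW_mem v hv) hk) hk₃)
      (conj_mem_diagonal _ _ (nW_mem s hs) (inv_mem hk₀))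
  · exact group_identity (nW v) (nW w) (nW v.reverse) k k₀ k₃ (nW s) e₀ e₃

end Cfsg.Agent.Helper65.F4OddCJ
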