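import Cfsg.Agent.Helper36.TorD.Defs
import Cfsg.Agent.Helper41.TorD_TC
import Cfsg.Agent.Helper18.TriAll

/-!
helper65, piece (REG1) of helper36's farm #13741 (TorData for `F₄`, `E₈`; S2372/S2375): if the root `s` is trivial on
the torus element `τ c` then `n_s` centralises `τ c`.
-/

set_option autoImplicit false

namespace Cfsg.Agent.Helper65.TorD

open Cfsg Cfsg.Lie Cfsg.Agent.Helper18 Cfsg.Agent.Helper19.Cox Cfsg.Agent.Helper19.Poinc
  Cfsg.Agent.Helper80.Tor Cfsg.Agent.Helper36.TorD

/-- the value of the opposite root is the inverse -/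
theorem chrD_neg {K : Type*} [Field K] (D : ChevalleyDatum) (hneg : cartanNegOK D = true)
    (c : Fin D.rank → Kˣ) (s : ℕ) (hs : s < D.nroots) :
    chrD D (D.neg s) c = (chrD D s c)⁻¹ := by
  unfold chrD
  rw [← Finset.prod_inv_distrib]
  apply Finset.prod_congr rfl
  intro i _
  have h : D.cartan i.val (D.neg s) = - D.cartan i.val s := by
    unfold cartanNegOK at hneg
    rw [List.all_eq_true] at hneg
    have h1 := hneg i.val (List.mem_range.mpr i.isLt)
    rw [List.all_eq_true] at h1
    have h2 := h1 s (List.mem_range.mpr hs)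
    exact of_decide_eq_true h2
  rw [h, zpow_neg]

section Fields

variable {F K : Type*} [Field F] [Fintype F] [Field K] [Fintype K] [Algebra F K]

variable (D : ChevalleyDatum)
  (hD : D ∈ [chevG2, chevB2, chevD4, chevF4, chevE6, chevE7, chevE8])
include hD

/-- a torus element commutes with the root elements of a root which is trivial on it -/
theorem commute_xGL_of_chr (c : Fin D.rank → Kˣ) (s : ℕ) (hs : s < D.nroots) (h1 : chrD D s c = 1) (t : K) :
    Commute (torusHom D K c) (xGL D K s t) := by
  have h := Cfsg.Agent.Helper41.TorD.torusHom_conj D hD c s hs t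
  rw [h1, Units.val_one, one_mul, mul_inv_eq_iff_eq_mul] at h
  exact h

/-- (REG1) if the root `s` is trivial on `τ c` then `n_s` centralises `τ c`. -/
theorem nroot_comm (hneg : cartanNegOK D = true) (c : Fin D.rank → Kˣ) (s : ℕ) (hs : s < D.nroots)
    (h1 : chrD D s c = 1) :
    wordGL D K (D.nWord s (1 : K)) * torusHom D K c * (wordGL D K (D.nWord s (1 : K)))⁻¹ = torusHom D K c := by
  have hns : D.neg s < D.nroots := (triOK_spec D _ (triOK_of_mem D hD) s hs).1
  have h1' : chrD D (D.neg s) c = 1 := by
    rw [chrD_neg D hneg c s hs, h1, inv_one]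
  have c1 := commute_xGL_of_chr D hD c s hs h1 (1 : K)
  have c2 := commute_xGL_of_chr D hD c (D.neg s) hns h1' (-(1 : K)⁻¹)
  have c3 : Commute (torusHom D K c) (wordGL D K (D.nWord s (1 : K))) := by
    rw [wordGL_nWord']
    exact (c1.mul_right c2).mul_right c1
  rw [mul_inv_eq_iff_eq_mul]
  exact c3.eq.symm

end Fields

end Cfsg.Agent.Helper65.TorD
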