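import Cfsg.Agent.Helper36.TorD.Defs
import Cfsg.Agent.Helper18.InvOdd.CentDecomp
import Cfsg.Agent.Helper36.BruhatUnique

/-!
helper65, piece (CENT) of helper36's farm #13741 (TorData for `F₄`, `E₈`; S2372/S2375), core version: the pieces (REG) and
(CU) enter as hypotheses.
-/

set_option autoImplicit false

namespace Cfsg.Agent.Helper65.TorD

open Cfsg Cfsg.Lie Cfsg.Agent.Helper18 Cfsg.Agent.Helper19.Cox Cfsg.Agent.Helper19.Poinc
  Cfsg.Agent.Helper80.Tor Cfsg.Agent.Helper36.TorD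

section Fields

variable {F K : Type*} [Field F] [Fintype F] [Field K] [Fintype K] [Algebra F K]

variable (D : ChevalleyDatum)
  (hD : D ∈ [chevG2, chevB2, chevD4, chevF4, chevE6, chevE7, chevE8])
include hD

/-- (CENT), with (REG) and (CU) as hypotheses: a torus element with `Stab_N(t) = H` has `C_G(t) = H`. -/
theorem cent_G_t_core
    (hREG : ∀ c : Fin D.rank → Kˣ,
      (∀ n ∈ D.monomialSubgroup K, n * torusHom D K c * n⁻¹ = torusHom D K c → n ∈ D.diagonalSubgroup K) →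
      ∀ s < D.nroots, chrD D s c ≠ 1)
    (hCU : ∀ c : Fin D.rank → Kˣ, (∀ s < D.nroots, chrD D s c ≠ 1) →
      ∀ u : GL D.Idx K, u ∈ D.posUnipotent K → u * torusHom D K c = torusHom D K c * u → u = 1)
    (t : GL D.Idx K) (ht : t ∈ D.diagonalSubgroup K)
    (hst : ∀ n ∈ D.monomialSubgroup K, n * t * n⁻¹ = t → n ∈ D.diagonalSubgroup K)
    (g : GL D.Idx K) (hg : g ∈ D.group K) (hgt : g * t * g⁻¹ = t) : g ∈ D.diagonalSubgroup K := by
  have ht' := ht
  rw [← torusHom_range D hD] at ht'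
  obtain ⟨c, rfl⟩ := ht'
  have hc : g * torusHom D K c = torusHom D K c * g := mul_inv_eq_iff_eq_mul.mp hgt
  obtain ⟨u₁, hu₁, h, hh, n, hn, u, hu, rfl, hcu₁, hcn, hcu⟩ :=
    Cfsg.Agent.Helper18.InvOdd.cent_decomp D hD (torusHom D K c) ht _ hg hc
  have hu' : u ∈ D.posUnipotent K := Cfsg.Agent.Helper36.bruhatU_le_pos D n hu
  have hreg := hREG c hst
  have e1 : u₁ = 1 := hCU c hreg u₁ hu₁ hcu₁
  have e2 : u = 1 := hCU c hreg u hu' hcu
  have e3 : n ∈ D.diagonalSubgroup K := hst n hn (mul_inv_eq_iff_eq_mul.mpr hcn)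
  rw [e1, e2, one_mul, mul_one]
  exact mul_mem hh e3

end Fields

end Cfsg.Agent.Helper65.TorD
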