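import Mathlib
import Cfsg.Agent.Helper38.SU2G.Defs

/-!
# S2412 (helper38), piece (B0f): the root groups `E(f_0, t e_j, 0)`, `E(f_0, t f_j, 0)`.
-/

set_option autoImplicit false
set_option linter.unusedSectionVars false

namespace Cfsg.Agent.Helper65.SU2G

open Matrix Cfsg.Agent.Helper84.PSU Cfsg.Agent.Helper38.SU2G

variable {K : Type*} [Field K] {m r : ℕ}

local notation "Vec" => (I (m + 2) r → K)
local notation "Mat" => Matrix (I (m + 2) r) (I (m + 2) r) K

variable (bar : K →+* K) (hb : ∀ x, bar (bar x) = x)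

set_option quotPrecheck false in
local notation "SUk" => ↥(SUm (m + 2) r bar)

theorem b0_hfEE (i j : Fin (m + 2)) : hf bar (vE i : Vec) (vE j) = 0 := hf_bv_ee bar i j
theorem b0_hfFF (i j : Fin (m + 2)) : hf bar (vF i : Vec) (vF j) = 0 := hf_bv_ff bar i j
theorem b0_hfEF (i j : Fin (m + 2)) : hf bar (vE i : Vec) (vF j) = if i = j then 1 else 0 :=
  hf_bv_ef bar i j
theorem b0_hfFE (i j : Fin (m + 2)) : hf bar (vF i : Vec) (vE j) = if i = j then 1 else 0 :=
  hf_bv_fe bar i j

include hb in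
/-- the shear step: if `g ∈ L` fixes `u` and maps `a ↦ a + ε b`, then `RGz(u, a)` gives `RGz(u, b)` -/
theorem b0_shear (L : Subgroup SUk) {u a b : Vec} {g : Mat} {ε : K} (hε : ε ≠ 0)
    (hg : HasM bar L g) (hgu : g *ᵥ u = u) (hga : g *ᵥ a = a + ε • b) (huu : hf bar u u = 0)
    (hau : hf bar a u = 0) (hbu : hf bar b u = 0) (haa : hf bar a a = 0) (hab : hf bar a b = 0)
    (hR : RGz bar L u a) : RGz bar L u b := by
  intro t
  obtain ⟨s, hs⟩ : ∃ s : K, s * ε = t := ⟨t / ε, div_mul_cancel₀ t hε⟩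
  have h1 := hasM_conj_eichM bar L hg (hR s)
  rw [hgu, Matrix.mulVec_smul, hga] at h1
  have h2 := hR (-s)
  have hyu : hf bar (s • (a + ε • b)) u = 0 := by
    rw [hf_smul_left, hf_add_left, hf_smul_left, hau, hbu]; ring
  have hy'u : hf bar ((-s) • a) u = 0 := by
    rw [hf_smul_left, hau]; ring
  have h3 := HasM.eich_mul bar hb huu hyu hy'u h1 h2
  refine h3.of_eq bar ?_
  have e1 : s • (a + ε • b) + (-s) • a = t • b := by
    rw [← hs]; module
  have e2 : (0 : K) + 0 - hf bar ((-s) • a) (s • (a + ε • b)) = 0 := by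
    rw [hf_smul_left, hf_smul_right, hf_add_right, hf_smul_right, haa, hab]; ring
  rw [e1, e2]

/-- the action of `g = E(f_j, e_j', 0)` -/
theorem b0f_g_f0 {j j' : Fin (m + 2)} (hj0 : j' ≠ i0) :
    eichM bar (vF j : Vec) (vE j') 0 *ᵥ (vF i0 : Vec) = vF i0 := by
  rw [eichM_mulVec, b0_hfFF, b0_hfFE, if_neg (fun h => hj0 h.symm)]
  module

theorem b0f_g_e {j j' : Fin (m + 2)} (hjj' : j ≠ j') :
    eichM bar (vF j : Vec) (vE j') 0 *ᵥ (vE j : Vec) = vE j + (1 : K) • vE j' := by
  rw [eichM_mulVec, b0_hfEF, b0_hfEE, if_pos rfl]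
  module

theorem b0f_g_f {j j' : Fin (m + 2)} (hjj' : j ≠ j') :
    eichM bar (vF j : Vec) (vE j') 0 *ᵥ (vF j' : Vec) = vF j' + (-1 : K) • vF j := by
  rw [eichM_mulVec, b0_hfFF, b0_hfFE, if_pos rfl]
  module

include hb in
/-- (B0f) the mirror image of (B0e): `g = E(f_j, e_{j+1}, 0)` fixes `f_0`, maps `e_j ↦ e_j + e_{j+1}` and
`f_{j+1} ↦ f_{j+1} - f_j`. -/
theorem b0f_piece (L : Subgroup SUk)
    (h1 : ∀ (i : Fin (m + 2)) (h : i.val + 1 < m + 2), RGz bar L (vF i) (vE ⟨i.val + 1, h⟩))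
    (h2 : RGz bar L (vF il) (vF i0)) :
    (∀ j : Fin (m + 2), j ≠ i0 → RGz bar L (vF i0) (vE j)) ∧ (∀ j : Fin (m + 2), j ≠ i0 → RGz bar L (vF i0) (vF j)) := by
  -- the elements `g`
  have hg : ∀ (j j' : Fin (m + 2)), j'.val = j.val + 1 →
      HasM bar L (eichM bar (vF j : Vec) (vE j') 0) := by
    intro j j' hjj'
    have hlt : j.val + 1 < m + 2 := by rw [← hjj']; exact j'.2
    have h := h1 j hlt 1
    rw [one_smul] at h
    have e : (⟨j.val + 1, hlt⟩ : Fin (m + 2)) = j' := Fin.ext hjj'.symm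
    rw [e] at h
    exact h
  -- the two steps
  have stepE : ∀ (j j' : Fin (m + 2)), j ≠ i0 → j'.val = j.val + 1 →
      RGz bar L (vF i0) (vE j) → RGz bar L (vF i0) (vE j') := by
    intro j j' hj0 hjj' hR
    have hne : j ≠ j' := fun h => by rw [h] at hjj'; omega
    have hj'0 : j' ≠ i0 := fun h => by rw [h] at hjj'; simp [i0] at hjj'
    refine b0_shear bar hb L (one_ne_zero) (hg j j' hjj') (b0f_g_f0 bar hj'0) (b0f_g_e bar hne)
      (b0_hfFF bar _ _) ?_ ?_ (b0_hfEE bar _ _) (b0_hfEE bar _ _) hR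
    · rw [b0_hfEF, if_neg hj0]
    · rw [b0_hfEF, if_neg hj'0]
  have stepF : ∀ (j j' : Fin (m + 2)), j ≠ i0 → j'.val = j.val + 1 →
      RGz bar L (vF i0) (vF j') → RGz bar L (vF i0) (vF j) := by
    intro j j' hj0 hjj' hR
    have hne : j ≠ j' := fun h => by rw [h] at hjj'; omega
    have hj'0 : j' ≠ i0 := fun h => by rw [h] at hjj'; simp [i0] at hjj'
    exact b0_shear bar hb L (neg_ne_zero.mpr one_ne_zero) (hg j j' hjj') (b0f_g_f0 bar hj'0)
      (b0f_g_f bar hne) (b0_hfFF bar _ _) (b0_hfFF bar _ _) (b0_hfFF bar _ _) (b0_hfFF bar _ _)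
      (b0_hfFF bar _ _) hR
  constructor
  · -- upward induction
    have key : ∀ (n : ℕ) (hn : n + 1 < m + 2), RGz bar L (vF i0) (vE ⟨n + 1, hn⟩) := by
      intro n
      induction n with
      | zero =>
        intro hn
        exact h1 i0 hn
      | succ n ih =>
        intro hn
        have hn' : n + 1 < m + 2 := by omega
        refine stepE ⟨n + 1, hn'⟩ ⟨n + 1 + 1, hn⟩ ?_ rfl (ih hn')
        intro h
        have := congrArg Fin.val h
        simp [i0] at this
    intro j hj
    have hj1 : 1 ≤ j.val := by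
      rcases Nat.eq_zero_or_pos j.val with h | h
      · exact absurd (Fin.ext (by rw [h]; rfl)) hj
      · exact h
    have hlt : (j.val - 1) + 1 < m + 2 := by have := j.2; omega
    have e : (⟨(j.val - 1) + 1, hlt⟩ : Fin (m + 2)) = j := Fin.ext (by simp; omega)
    rw [← e]
    exact key (j.val - 1) hlt
  · -- the last one
    have hlast : RGz bar L (vF i0) (vF il) := by
      intro s
      have h := h2 (bar (-s))
      rw [eichM_swap, eichM_smul_left bar hb, hb, mul_zero] at h
      refine h.of_eq bar ?_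
      congr 1
      module
    -- downward induction
    have key : ∀ (k : ℕ) (hk : k ≤ m), RGz bar L (vF i0) (vF ⟨m + 1 - k, by omega⟩) := by
      intro k
      induction k with
      | zero =>
        intro _
        exact hlast
      | succ k ih =>
        intro hk
        have hk' : k ≤ m := by omega
        refine stepF ⟨m + 1 - (k + 1), by omega⟩ ⟨m + 1 - k, by omega⟩ ?_ ?_ (ih hk')
        · intro h
          have := congrArg Fin.val h
          simp [i0] at this
          omega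
        · show m + 1 - k = m + 1 - (k + 1) + 1
          omega
    intro j hj
    have hj1 : 1 ≤ j.val := by
      rcases Nat.eq_zero_or_pos j.val with h | h
      · exact absurd (Fin.ext (by rw [h]; rfl)) hj
      · exact h
    have hjm : j.val ≤ m + 1 := by have := j.2; omega
    have e : (⟨m + 1 - (m + 1 - j.val), by omega⟩ : Fin (m + 2)) = j := Fin.ext (by simp; omega)
    rw [← e]
    exact key (m + 1 - j.val) (by omega)

end Cfsg.Agent.Helper65.SU2G
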