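import Cfsg.Agent.Helper39.X648.Defs
import Cfsg.Prelude.Def_Transfer
import Cfsg.Prelude.Def_CaseTheorems

/-!
# S3366 (helper39), piece (A0a): the part of `Base` about `R = O_3(X)` alone.
-/

set_option autoImplicit false
set_option linter.unusedVariables false
set_option linter.unusedSectionVars false

namespace Cfsg.Agent.Helper65.X648

open Cfsg.Agent.Helper39.X648
open scoped commutatorElement

section A0
variable {X : Type*} [Group X] [Finite X]

/-- the same for an arbitrary subgroup `R` -/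
theorem base_R_aux (R : Subgroup X) (hR : Cfsg.IsExtraspecial 3 R) :
    Nat.card ↥((Subgroup.center R).map R.subtype) = 3 ∧
    (∀ z : X, z ∈ (Subgroup.center R).map R.subtype ↔
      z ∈ R ∧ ∀ r ∈ R, r * z = z * r) ∧
    (∀ r ∈ R, ∀ s ∈ R,
      r * s * r⁻¹ * s⁻¹ ∈ (Subgroup.center R).map R.subtype) := by
  obtain ⟨⟨-, -, hcomm⟩, hcard⟩ := hR
  refine ⟨?_, ?_, ?_⟩
  · rw [Subgroup.card_map_of_injective R.subtype_injective]
    exact hcard
  · intro z
    rw [Subgroup.mem_map]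
    constructor
    · rintro ⟨c, hc, rfl⟩
      refine ⟨c.2, fun r hr => ?_⟩
      have := Subgroup.mem_center_iff.mp hc ⟨r, hr⟩
      exact congrArg Subtype.val this
    · rintro ⟨hz, hzc⟩
      refine ⟨⟨z, hz⟩, ?_, rfl⟩
      rw [Subgroup.mem_center_iff]
      intro g
      exact Subtype.ext (hzc g.1 g.2)
  · intro r hr s hs
    rw [Subgroup.mem_map]
    refine ⟨⁅(⟨r, hr⟩ : R), ⟨s, hs⟩⁆, ?_, ?_⟩
    · rw [← hcomm, commutator_def]
      exact Subgroup.commutator_mem_commutator (Subgroup.mem_top _) (Subgroup.mem_top _)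
    · rw [commutatorElement_def]
      rfl

/-- (A0a) the part of `Base` about `R` alone -/
theorem base_R (hR : Cfsg.IsExtraspecial 3 (Cfsg.pCore 3 X))
    (hRcard : Nat.card (Cfsg.pCore 3 X) = 27) :
    Nat.card ↥((Subgroup.center (Cfsg.pCore 3 X)).map (Cfsg.pCore 3 X).subtype) = 3 ∧
    (∀ z : X, z ∈ (Subgroup.center (Cfsg.pCore 3 X)).map (Cfsg.pCore 3 X).subtype ↔
      z ∈ Cfsg.pCore 3 X ∧ ∀ r ∈ Cfsg.pCore 3 X, r * z = z * r) ∧
    (∀ r ∈ Cfsg.pCore 3 X, ∀ s ∈ Cfsg.pCore 3 X,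
      r * s * r⁻¹ * s⁻¹ ∈ (Subgroup.center (Cfsg.pCore 3 X)).map (Cfsg.pCore 3 X).subtype) :=
  base_R_aux (Cfsg.pCore 3 X) hR

end A0

end Cfsg.Agent.Helper65.X648
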