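import Cfsg.Agent.Helper39.X648.Defs

/-!
# S3366 (helper39), piece (A0d): `|X| = 648`.
-/

set_option autoImplicit false

namespace Cfsg.Agent.Helper65.X648

open Cfsg.Agent.Helper39.X648

section A0
variable {X : Type*} [Group X] [Finite X]
variable {R : Subgroup X} {π : X →* SL23}

/-- (A0d) -/
theorem base_card (hπ : Function.Surjective π) (hker : ∀ g : X, π g = 1 ↔ g ∈ R)
    (hSL : SLFacts wSL) (hRcard : Nat.card R = 27) : Nat.card X = 648 := by
  have hR : R = π.ker := by
    ext g
    rw [MonoidHom.mem_ker]
    exact (hker g).symm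
  have h1 := Subgroup.card_eq_card_quotient_mul_card_subgroup π.ker
  rw [Nat.card_congr (QuotientGroup.quotientKerEquivOfSurjective π hπ).toEquiv, hSL.card, ← hR,
    hRcard] at h1
  rw [h1]

end A0

end Cfsg.Agent.Helper65.X648
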