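import Cfsg.Agent.Helper39.X648.Defs

/-!
# S3366 (helper39), piece (A0e): no subgroup of index 2 above `R`.
-/

set_option autoImplicit false

namespace Cfsg.Agent.Helper65.X648

open Cfsg.Agent.Helper39.X648

section A0
variable {X : Type*} [Group X] [Finite X]
variable {R : Subgroup X} {π : X →* SL23}

/-- (A0e) -/
theorem base_no_idx2 (hπ : Function.Surjective π) (hker : ∀ g : X, π g = 1 ↔ g ∈ R)
    (hSL : SLFacts wSL) : ∀ N : Subgroup X, R ≤ N → N.index = 2 → False := by
  intro N hRN hidx
  have hkerN : π.ker ≤ N := by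
    intro g hg
    exact hRN ((hker g).mp (MonoidHom.mem_ker.mp hg))
  apply hSL.no_idx2 (N.map π)
  rw [Subgroup.index_map_eq N hπ hkerN, hidx]

end A0

end Cfsg.Agent.Helper65.X648
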