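import Cfsg.Agent.Helper39.X648.Defs
import Cfsg.Agent.Helper65.X648A0d

/-!
# S3366 (helper39), piece (A0g): the preimage of the normal Sylow 2-subgroup of `SL_2(3)`.
-/

set_option autoImplicit false

namespace Cfsg.Agent.Helper65.X648

open Cfsg.Agent.Helper39.X648

section A0
variable {X : Type*} [Group X] [Finite X]
variable {R : Subgroup X} {π : X →* SL23}

/-- (A0g) -/
theorem base_syl2 (hπ : Function.Surjective π) (hker : ∀ g : X, π g = 1 ↔ g ∈ R)
    (hSL : SLFacts wSL) (hRcard : Nat.card R = 27) :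
    ∃ M : Subgroup X, M.Normal ∧ R ≤ M ∧ Nat.card M = 216 := by
  obtain ⟨M0, hM0n, hM0c⟩ := hSL.syl2
  have hX := base_card hπ hker hSL hRcard
  refine ⟨M0.comap π, hM0n.comap π, ?_, ?_⟩
  · intro g hg
    rw [Subgroup.mem_comap, (hker g).mpr hg]
    exact M0.one_mem
  · have hidx : (M0.comap π).index = M0.index := Subgroup.index_comap_of_surjective M0 hπ
    have h0 := Subgroup.card_mul_index M0
    rw [hM0c, hSL.card] at h0
    have h1 := Subgroup.card_mul_index (M0.comap π)
    rw [hidx, hX] at h1
    have h3 : M0.index = 3 := by omega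
    rw [h3] at h1
    omega

end A0

end Cfsg.Agent.Helper65.X648
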