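import Cfsg.Agent.Helper39.X648.Defs

/-!
# S3366 (helper39), pieces (B3) and (B5): the relations under homomorphisms and in products.
-/

set_option autoImplicit false

namespace Cfsg.Agent.Helper65.X648

open Cfsg.Agent.Helper39.X648

section B
variable {H : Type*} [Group H]

theorem cm_map {K : Type*} [Group K] (f : H →* K) (a b : H) : cm (f a) (f b) = f (cm a b) := by
  unfold cm
  rw [map_mul, map_mul, map_mul, map_inv, map_inv]

/-- (B3) relations under homomorphisms -/
theorem Rel.map {K : Type*} [Group K] (f : H →* K) {r1 r2 i j d : H} (h : Rel r1 r2 i j d) :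
    Rel (f r1) (f r2) (f i) (f j) (f d) := by
  constructor
  · rw [← map_pow, h.r1_3, map_one]
  · rw [← map_pow, h.r2_3, map_one]
  · rw [cm_map, ← map_pow, h.c_3, map_one]
  · rw [cm_map, ← map_mul, h.c_r1, map_mul]
  · rw [cm_map, ← map_mul, h.c_r2, map_mul]
  · rw [cm_map, ← map_mul, h.c_i, map_mul]
  · rw [cm_map, ← map_mul, h.c_j, map_mul]
  · rw [cm_map, ← map_mul, h.c_d, map_mul]
  · rw [← map_pow, h.i_4, map_one]
  · rw [← map_mul, h.j_sq, map_mul]
  · rw [← map_inv, ← map_mul, ← map_mul, h.j_i, map_inv]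
  · rw [← map_pow, h.d_3, map_one]
  · rw [← map_inv, ← map_mul, ← map_mul, h.i_r1]
  · rw [← map_inv, ← map_mul, ← map_mul, h.i_r2, map_inv]
  · rw [cm_map, ← map_inv, ← map_mul, ← map_mul, h.j_r1, map_mul, map_mul]
  · rw [cm_map, ← map_inv, ← map_mul, ← map_mul, h.j_r2, map_mul, map_mul, map_inv, map_inv]
  · rw [← map_inv, ← map_mul, ← map_mul, h.d_r1]
  · rw [cm_map, ← map_inv, ← map_mul, ← map_mul, h.d_r2, map_mul, map_mul]
  · rw [← map_inv, ← map_mul, ← map_mul, h.d_i]
  · rw [← map_inv, ← map_mul, ← map_mul, h.d_j, map_mul]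

end B

end Cfsg.Agent.Helper65.X648
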