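import Cfsg.Agent.Helper39.X648.Defs

/-!
# S3366 (helper39), piece (B5): the relations in a direct product.
-/

set_option autoImplicit false

namespace Cfsg.Agent.Helper65.X648

open Cfsg.Agent.Helper39.X648

section B
variable {H : Type*} [Group H]

/-- (B5) -/
theorem Rel.prod {K : Type*} [Group K] {r1 r2 i j d : H} {s1 s2 i' j' d' : K}
    (h1 : Rel r1 r2 i j d) (h2 : Rel s1 s2 i' j' d') :
    Rel ((r1, s1) : H × K) (r2, s2) (i, i') (j, j') (d, d') :=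
  ⟨Prod.ext h1.r1_3 h2.r1_3,
    Prod.ext h1.r2_3 h2.r2_3,
    Prod.ext h1.c_3 h2.c_3,
    Prod.ext h1.c_r1 h2.c_r1,
    Prod.ext h1.c_r2 h2.c_r2,
    Prod.ext h1.c_i h2.c_i,
    Prod.ext h1.c_j h2.c_j,
    Prod.ext h1.c_d h2.c_d,
    Prod.ext h1.i_4 h2.i_4,
    Prod.ext h1.j_sq h2.j_sq,
    Prod.ext h1.j_i h2.j_i,
    Prod.ext h1.d_3 h2.d_3,
    Prod.ext h1.i_r1 h2.i_r1,
    Prod.ext h1.i_r2 h2.i_r2,
    Prod.ext h1.j_r1 h2.j_r1,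
    Prod.ext h1.j_r2 h2.j_r2,
    Prod.ext h1.d_r1 h2.d_r1,
    Prod.ext h1.d_r2 h2.d_r2,
    Prod.ext h1.d_i h2.d_i,
    Prod.ext h1.d_j h2.d_j⟩

end B

end Cfsg.Agent.Helper65.X648
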