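import Mathlib
import Cfsg.Agent.Helper42.DZDefs
import Cfsg.Agent.Helper84.PSLnBorel

/-!
# (BTU) for helper42 (S4538 / S2440): structure of the Borel subgroup of `SL_n(F)`
-/

set_option autoImplicit false
set_option linter.unusedSectionVars false

namespace Cfsg.Agent.Helper65.DZ

open Matrix Cfsg Cfsg.Agent.Helper42.DZ

variable {n : ℕ} {F : Type*} [Field F]

/-- the superdiagonal entries of a product of unitriangular matrices add up. -/
theorem mul_superdiag (a b : SLn n F) (ha : a ∈ US n F) (hb : b ∈ US n F) (i : Fin n)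
    (h : i.val + 1 < n) :
    (a * b).1 i ⟨i.val + 1, h⟩ = a.1 i ⟨i.val + 1, h⟩ + b.1 i ⟨i.val + 1, h⟩ := by
  have ha' := Cfsg.Agent.Helper14.AutPSL.mem_UT.mp ha
  have hb' := Cfsg.Agent.Helper14.AutPSL.mem_UT.mp hb
  set j : Fin n := ⟨i.val + 1, h⟩ with hj
  have hij : i ≠ j := by
    intro e
    have := congrArg Fin.val e
    simp [hj] at this
  rw [Matrix.SpecialLinearGroup.coe_mul, Matrix.mul_apply,
    Finset.sum_eq_add i j hij]
  · rw [ha' i i le_rfl, if_pos rfl, one_mul, hb' j j le_rfl, if_pos rfl, mul_one, add_comm]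
  · intro k _ hk
    rcases lt_trichotomy k i with hlt | heq | hgt
    · rw [ha' i k hlt.le, if_neg (ne_of_gt hlt), zero_mul]
    · exact absurd heq hk.1
    · have hjk : j ≤ k := by
        rw [Fin.le_def]
        have : i.val < k.val := hgt
        simp only [hj]
        omega
      have hkj : k ≠ j := hk.2
      rw [hb' k j hjk, if_neg hkj, mul_zero]
  · intro hi; exact absurd (Finset.mem_univ _) hi
  · intro hj'; exact absurd (Finset.mem_univ _) hj'

/-- (PSI) `psiU ψ₀` is multiplicative on the unitriangular group -/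
theorem psiU_mul (ψ₀ : AddChar F ℂ) (a b : SLn n F) (ha : a ∈ US n F) (hb : b ∈ US n F) :
    psiU ψ₀ (a * b) = psiU ψ₀ a * psiU ψ₀ b := by
  unfold psiU
  rw [← AddChar.map_add_eq_mul, ← Finset.sum_add_distrib]
  congr 1
  apply Finset.sum_congr rfl
  intro i _
  by_cases h : i.val + 1 < n
  · rw [dif_pos h, dif_pos h, dif_pos h]
    exact mul_superdiag a b ha hb i h
  · rw [dif_neg h, dif_neg h, dif_neg h, add_zero]

theorem US_le_BS : US n F ≤ BS n F := by
  intro g hg
  rw [mem_BS]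
  intro i j hji
  rw [(Cfsg.Agent.Helper14.AutPSL.mem_UT.mp hg) i j hji.le, if_neg (ne_of_gt hji)]

theorem TD_le_BS : TD n F ≤ BS n F := by
  intro g hg
  rw [mem_BS]
  intro i j hji
  exact (mem_TD.mp hg) i j (ne_of_gt hji)

/-- (BTU) structure of the Borel subgroup -/
theorem BS_eq_TD_mul_US (g : SLn n F) (hg : g ∈ BS n F) :
    ∃ t ∈ TD n F, ∃ u ∈ US n F, g = t * u := by
  obtain ⟨D, hD, u, hu, hgu⟩ := Cfsg.Agent.Helper84.PSLn.exists_dgl_mul_UT (mem_BS.mp hg)
  refine ⟨Cfsg.Agent.Helper84.PSLn.dgl D hD, ?_, u, hu, hgu⟩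
  rw [mem_TD]
  intro i j hij
  rw [Cfsg.Agent.Helper84.PSLn.dgl_coe, Matrix.diagonal_apply_ne _ hij]

/-- the entries of `s * u * t` for diagonal `s`, `t`. -/
theorem diag_mul_mul_diag_apply (s t : SLn n F) (hs : s ∈ TD n F) (ht : t ∈ TD n F) (u : SLn n F)
    (i j : Fin n) : (s * u * t).1 i j = s.1 i i * u.1 i j * t.1 j j := by
  have hs' := mem_TD.mp hs
  have ht' := mem_TD.mp ht
  rw [Matrix.SpecialLinearGroup.coe_mul, Matrix.mul_apply, Finset.sum_eq_single j]
  · rw [Matrix.SpecialLinearGroup.coe_mul, Matrix.mul_apply, Finset.sum_eq_single i]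
    · intro k _ hki
      rw [hs' i k (Ne.symm hki), zero_mul]
    · intro hi; exact absurd (Finset.mem_univ _) hi
  · intro k _ hkj
    rw [ht' k j hkj, mul_zero]
  · intro hj; exact absurd (Finset.mem_univ _) hj

theorem TD_normalizes_US (t : SLn n F) (ht : t ∈ TD n F) (u : SLn n F) (hu : u ∈ US n F) :
    t⁻¹ * u * t ∈ US n F := by
  have hti : t⁻¹ ∈ TD n F := (TD n F).inv_mem ht
  rw [Cfsg.Agent.Helper14.AutPSL.mem_UT]
  intro i j hji
  rw [diag_mul_mul_diag_apply t⁻¹ t hti ht u i j, (Cfsg.Agent.Helper14.AutPSL.mem_UT.mp hu) i j hji]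
  by_cases hij : i = j
  · subst hij
    rw [if_pos rfl, mul_one]
    have h1 := diag_mul_mul_diag_apply t⁻¹ t hti ht 1 i i
    rw [mul_one, inv_mul_cancel, Matrix.SpecialLinearGroup.coe_one, Matrix.one_apply_eq,
      mul_one] at h1
    exact h1.symm
  · rw [if_neg hij, mul_zero, zero_mul]

end Cfsg.Agent.Helper65.DZ
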