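import Mathlib

set_option autoImplicit false

/-!
# S4385 (helper42's GD farm), leaf (W3) by helper65: the action of `ρ = a0 * a3` on `⟨a1, a2⟩`.
-/

namespace Cfsg.Agent.Helper65.GD

universe u

/-- conjugation by a cube -/
theorem W3_conj_cube {Γ : Type*} [Group Γ] (r y : Γ) :
    r ^ 3 * y * (r ^ 3)⁻¹ = r * (r * (r * y * r⁻¹) * r⁻¹) * r⁻¹ := by
  rw [pow_succ, pow_succ, pow_one]
  simp only [mul_inv_rev, mul_assoc]

/-- (W3) `a0`: `a1 ↦ a1`, `a2 ↦ a1 a2`; `a3`: `a1 ↦ a1 a2`, `a2 ↦ a2`; so `ρ`: `a1 ↦ a2 ↦ a1 a2 ↦ a1`. -/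
theorem w3 {Γ : Type*} [Group Γ] (a0 a1 a2 a3 : Γ)
    (h0 : a0 * a0 = 1) (h1 : a1 * a1 = 1) (h2 : a2 * a2 = 1) (h3 : a3 * a3 = 1)
    (c01 : Commute a0 a1) (c12 : Commute a1 a2) (c23 : Commute a2 a3)
    (r02 : a0 * a2 * a0 * a2 = a1) (r13 : a1 * a3 * a1 * a3 = a2) :
    (a0 * a3) * a1 * (a0 * a3)⁻¹ = a2 ∧
    Commute ((a0 * a3) ^ 3) a1 ∧ Commute ((a0 * a3) ^ 3) a2 := by
  have i0 : a0⁻¹ = a0 := inv_eq_of_mul_eq_one_right h0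
  have i3 : a3⁻¹ = a3 := inv_eq_of_mul_eq_one_right h3
  -- `a0 a2 a0 = a1 a2`
  have e02 : a0 * a2 * a0 = a1 * a2 := by
    calc a0 * a2 * a0 = a0 * a2 * a0 * (a2 * a2) := by rw [h2, mul_one]
      _ = (a0 * a2 * a0 * a2) * a2 := by group
      _ = a1 * a2 := by rw [r02]
  -- `a3 a1 a3 = a1 a2`
  have e13 : a3 * a1 * a3 = a1 * a2 := by
    calc a3 * a1 * a3 = (a1 * a1) * (a3 * a1 * a3) := by rw [h1, one_mul]
      _ = a1 * (a1 * a3 * a1 * a3) := by group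
      _ = a1 * a2 := by rw [r13]
  have hρinv : (a0 * a3)⁻¹ = a3 * a0 := by rw [mul_inv_rev, i3, i0]
  have k1 : (a0 * a3) * a1 * (a0 * a3)⁻¹ = a2 := by
    rw [hρinv]
    calc a0 * a3 * a1 * (a3 * a0) = a0 * (a3 * a1 * a3) * a0 := by group
      _ = a0 * (a1 * a2) * a0 := by rw [e13]
      _ = (a0 * a1) * a2 * a0 := by group
      _ = (a1 * a0) * a2 * a0 := by rw [c01.eq]
      _ = a1 * (a0 * a2 * a0) := by group
      _ = a1 * (a1 * a2) := by rw [e02]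
      _ = a2 := by rw [← mul_assoc, h1, one_mul]
  have k2 : (a0 * a3) * a2 * (a0 * a3)⁻¹ = a1 * a2 := by
    rw [hρinv]
    calc a0 * a3 * a2 * (a3 * a0) = a0 * (a3 * a2) * a3 * a0 := by group
      _ = a0 * (a2 * a3) * a3 * a0 := by rw [c23.eq]
      _ = a0 * a2 * (a3 * a3) * a0 := by group
      _ = a0 * a2 * a0 := by rw [h3, mul_one]
      _ = a1 * a2 := e02
  have k12 : (a0 * a3) * (a1 * a2) * (a0 * a3)⁻¹ = a1 := by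
    calc (a0 * a3) * (a1 * a2) * (a0 * a3)⁻¹
        = ((a0 * a3) * a1 * (a0 * a3)⁻¹) * ((a0 * a3) * a2 * (a0 * a3)⁻¹) := by group
      _ = a2 * (a1 * a2) := by rw [k1, k2]
      _ = a2 * (a2 * a1) := by rw [c12.eq]
      _ = a1 := by rw [← mul_assoc, h2, one_mul]
  refine ⟨k1, ?_, ?_⟩
  · have h : (a0 * a3) ^ 3 * a1 * ((a0 * a3) ^ 3)⁻¹ = a1 := by
      calc (a0 * a3) ^ 3 * a1 * ((a0 * a3) ^ 3)⁻¹
          = (a0 * a3) * ((a0 * a3) * ((a0 * a3) * a1 * (a0 * a3)⁻¹) * (a0 * a3)⁻¹) * (a0 * a3)⁻¹ :=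
            W3_conj_cube _ _
        _ = (a0 * a3) * ((a0 * a3) * a2 * (a0 * a3)⁻¹) * (a0 * a3)⁻¹ := by rw [k1]
        _ = (a0 * a3) * (a1 * a2) * (a0 * a3)⁻¹ := by rw [k2]
        _ = a1 := k12
    exact mul_inv_eq_iff_eq_mul.mp h
  · have h : (a0 * a3) ^ 3 * a2 * ((a0 * a3) ^ 3)⁻¹ = a2 := by
      calc (a0 * a3) ^ 3 * a2 * ((a0 * a3) ^ 3)⁻¹
          = (a0 * a3) * ((a0 * a3) * ((a0 * a3) * a2 * (a0 * a3)⁻¹) * (a0 * a3)⁻¹) * (a0 * a3)⁻¹ :=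
            W3_conj_cube _ _
        _ = (a0 * a3) * ((a0 * a3) * (a1 * a2) * (a0 * a3)⁻¹) * (a0 * a3)⁻¹ := by rw [k2]
        _ = (a0 * a3) * a1 * (a0 * a3)⁻¹ := by rw [k12]
        _ = a2 := k1
    exact mul_inv_eq_iff_eq_mul.mp h

end Cfsg.Agent.Helper65.GD
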