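import Cfsg.Agent.Helper43.PsuM.RDefs

/-!
# S2089 block R, round 2, piece (HU) (helper65 for helper43): transport of "every central extension splits" along an
isomorphism.
-/

set_option autoImplicit false

namespace Cfsg.Agent.Helper65.PsuM

open scoped commutatorElement

universe u

/-- (HU) transport of "every central extension splits" along an isomorphism. -/
theorem huniv_congr {L L' : Type u} [Group L] [Group L'] (e : L ≃* L')
    (h : ∀ (E : Type u) [Group E] (π : E →* L), Function.Surjective π →
      π.ker ≤ Subgroup.center E → ∃ s : L →* E, π.comp s = MonoidHom.id L) :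
    ∀ (E : Type u) [Group E] (π : E →* L'), Function.Surjective π →
      π.ker ≤ Subgroup.center E → ∃ s : L' →* E, π.comp s = MonoidHom.id L' := by
  intro E _ π hπ hker
  obtain ⟨s, hs⟩ := h E (e.symm.toMonoidHom.comp π) (e.symm.surjective.comp hπ) (by
    intro x hx
    apply hker
    rw [MonoidHom.mem_ker] at hx ⊢
    have h1 : e.symm (π x) = 1 := hx
    exact (MulEquiv.map_eq_one_iff e.symm).mp h1)
  refine ⟨s.comp e.symm.toMonoidHom, ?_⟩
  ext y
  have h1 : e.symm (π (s (e.symm y))) = e.symm y := DFunLike.congr_fun hs (e.symm y)
  exact e.symm.injective h1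

end Cfsg.Agent.Helper65.PsuM
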