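import Cfsg.Agent.Helper43.XS.Defs
import Cfsg.Agent.Helper43.EF.Small
import Cfsg.Agent.Helper55.EFSTD
import Cfsg.Agent.Helper85.EFSTD1

/-!
# (E2) of #8592 for helper43's S6002: elements of `Sp_4` with scalar square are conjugate into
the frame group
-/

set_option autoImplicit false
set_option linter.unusedSectionVars false
set_option linter.unusedVariables false

namespace Cfsg.Agent.Helper65.XS

open Matrix Cfsg Cfsg.Geo Cfsg.Agent.Helper43.XS Cfsg.Agent.Helper13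

variable {F : Type*} [Field F]

local notation "Mat" => Matrix (Fin 2 ⊕ Fin 2) (Fin 2 ⊕ Fin 2) F
local notation "GLn" => GL (Fin 2 ⊕ Fin 2) F
local notation "Vec" => (Fin 2 ⊕ Fin 2 → F)

/-- conjugation bookkeeping: from a matrix identity to an identity in `GL` -/
theorem conj_eq_of_val {g1 g2 x a : GLn}
    (h : ((g1⁻¹ : GLn) : Mat) * (x : Mat) * (g1 : Mat) =
      ((g2⁻¹ : GLn) : Mat) * (a : Mat) * (g2 : Mat)) :
    (g1 * g2⁻¹)⁻¹ * x * (g1 * g2⁻¹) = a := by
  have h' : g1⁻¹ * x * g1 = g2⁻¹ * a * g2 := by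
    apply Units.ext
    rw [Units.val_mul, Units.val_mul, Units.val_mul, Units.val_mul]
    exact h
  calc (g1 * g2⁻¹)⁻¹ * x * (g1 * g2⁻¹) = g2 * (g1⁻¹ * x * g1) * g2⁻¹ := by group
    _ = a := by rw [h']; group

/-- an element of `Sp` with square `-1` is anti-self-adjoint -/
theorem adata_of_sq_neg_one {x : GLn} (hx : x ∈ Cfsg.spGL 2 F)
    (hx2 : (x : Mat) * (x : Mat) = (-1 : F) • (1 : Mat)) :
    Cfsg.Agent.Helper43.EF.AData (x : Mat) (-1) := by
  refine ⟨hx2, ?_⟩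
  intro u v
  have h := (mem_spGL_iff x).1 hx ((x : Mat) *ᵥ u) v
  rw [Matrix.mulVec_mulVec, hx2, Matrix.smul_mulVec, Matrix.one_mulVec, neg_one_smul,
    sympForm_neg_left] at h
  exact h.symm

/-- the block-diagonal matrix `diag(ε, ε)` -/
def dd (ε : Fin 2 → F) : Mat := Matrix.fromBlocks (Matrix.diagonal ε) 0 0 (Matrix.diagonal ε)

theorem dd_mul_dd (ε : Fin 2 → F) : dd ε * dd ε = dd (fun i => ε i * ε i) := by
  unfold dd
  rw [Matrix.fromBlocks_multiply]
  simp only [Matrix.diagonal_mul_diagonal, Matrix.mul_zero, Matrix.zero_mul, add_zero, zero_add]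

theorem dd_const (c : F) : dd (fun _ => c) = c • (1 : Mat) := by
  unfold dd
  rw [← Matrix.fromBlocks_one, Matrix.fromBlocks_smul]
  congr 1
  · ext i j
    simp [Matrix.diagonal_apply, Matrix.one_apply]
  · simp
  · simp
  · ext i j
    simp [Matrix.diagonal_apply, Matrix.one_apply]

theorem dd_neg (ε : Fin 2 → F) : dd (fun i => -ε i) = -dd ε := by
  unfold dd
  rw [Matrix.fromBlocks_neg]
  congr 1
  · ext i j
    simp [Matrix.diagonal_apply]
    split_ifs <;> simp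
  · simp
  · simp
  · ext i j
    simp [Matrix.diagonal_apply]
    split_ifs <;> simp

/-- the shape of the diagonal form of a non-scalar involution: `ε 1 = -ε 0`, `ε 0 = ±1` -/
theorem dd_shape (h2 : (2 : F) ≠ 0) {x g : GLn} (hxx : (x : Mat) * (x : Mat) = 1)
    (hns : ∀ z : F, (x : Mat) ≠ z • (1 : Mat)) (ε : Fin 2 → F)
    (h : ((g⁻¹ : GLn) : Mat) * (x : Mat) * (g : Mat) = dd ε) :
    (ε 0 = 1 ∨ ε 0 = -1) ∧ ε 1 = -ε 0 := by
  have hgi : (g : Mat) * ((g⁻¹ : GLn) : Mat) = 1 := by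
    rw [← Units.val_mul, mul_inv_cancel, Units.val_one]
  have hig : ((g⁻¹ : GLn) : Mat) * (g : Mat) = 1 := by
    rw [← Units.val_mul, inv_mul_cancel, Units.val_one]
  have hsq : dd ε * dd ε = 1 := by
    rw [← h]
    calc ((g⁻¹ : GLn) : Mat) * (x : Mat) * (g : Mat) *
          (((g⁻¹ : GLn) : Mat) * (x : Mat) * (g : Mat))
        = ((g⁻¹ : GLn) : Mat) * (x : Mat) * ((g : Mat) * ((g⁻¹ : GLn) : Mat)) * (x : Mat) *
            (g : Mat) := by simp only [Matrix.mul_assoc]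
      _ = 1 := by
          rw [hgi, Matrix.mul_one, Matrix.mul_assoc ((g⁻¹ : GLn) : Mat), hxx, Matrix.mul_one, hig]
  rw [dd_mul_dd] at hsq
  have hε : ∀ i : Fin 2, ε i * ε i = 1 := by
    intro i
    have := congrFun (congrFun hsq (Sum.inl i)) (Sum.inl i)
    simpa [dd] using this
  have hpm : ∀ i : Fin 2, ε i = 1 ∨ ε i = -1 := fun i => mul_self_eq_one_iff.1 (hε i)
  have hne : ε 1 ≠ ε 0 := by
    intro he
    have hconst : ε = fun _ => ε 0 := by
      funext i
      fin_cases i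
      · rfl
      · exact he
    apply hns (ε 0)
    have hx : (x : Mat) = (g : Mat) * dd ε * ((g⁻¹ : GLn) : Mat) := by
      rw [← h]
      simp only [← Matrix.mul_assoc]
      rw [hgi, Matrix.one_mul, Matrix.mul_assoc, hgi, Matrix.mul_one]
    rw [hx, hconst, dd_const, Matrix.mul_smul, Matrix.mul_one, Matrix.smul_mul, hgi]
  refine ⟨hpm 0, ?_⟩
  rcases hpm 0 with h0 | h0 <;> rcases hpm 1 with h1 | h1
  · exact absurd (h1.trans h0.symm) hne
  · rw [h1, h0]
  · rw [h1, h0, neg_neg]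
  · exact absurd (h1.trans h0.symm) hne

/-- (E2) `r = 2`: every element of `Sp_4` with scalar square is conjugate into the frame group -/
theorem conj_of_two [Fintype F] (h2 : (2 : F) ≠ 0) {S : Fin 4 → GLn} (hS : IsFrame S)
    (hSp : ∀ i, S i ∈ Cfsg.spGL 2 F) (x : GLn) (hx : x ∈ Cfsg.spGL 2 F)
    (hx2 : ∃ z : F, ((x ^ 2 : GLn) : Mat) = z • (1 : Mat))
    (hns : ∀ z : F, (x : Mat) ≠ z • (1 : Mat)) :
    ∃ g ∈ Cfsg.spGL 2 F, g⁻¹ * x * g ∈ Subgroup.closure (Set.range S) := by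
  classical
  obtain ⟨z, hz⟩ := hx2
  have hz' : (x : Mat) * (x : Mat) = z • (1 : Mat) := by
    rw [← hz, Units.val_pow_eq_pow_val, pow_two]
  have hmemS : ∀ i, S i ∈ Subgroup.closure (Set.range S) :=
    fun i => Subgroup.subset_closure ⟨i, rfl⟩
  -- matrix facts about `S 0`, `S 1`
  have hAA : (S 0 : Mat) * (S 0 : Mat) = 1 := by
    rw [← Units.val_mul, hS.sq 0, Units.val_one]
  have hBB : (S 1 : Mat) * (S 1 : Mat) = 1 := by
    rw [← Units.val_mul, hS.sq 1, Units.val_one]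
  have hBA : (S 1 : Mat) * (S 0 : Mat) = -((S 0 : Mat) * (S 1 : Mat)) := by
    have := congrArg (fun u : GLn => (u : Mat)) (hS.anti 1 0 (by decide))
    simpa using this
  have hz1 : z = 1 ∨ z = -1 :=
    Cfsg.Agent.Helper43.EF.scalar_sq_of_mem (d := 2) (by norm_num)
      ((Cfsg.spGL 2 F).pow_mem hx 2) hz
  rcases hz1 with rfl | rfl
  · -- `x² = 1`
    rw [one_smul] at hz'
    obtain ⟨g1, hg1, ε, h1⟩ := Cfsg.Agent.Helper85.EF.exists_conj_diag h2 hx hz'
    obtain ⟨g2, hg2, ε', h1'⟩ := Cfsg.Agent.Helper85.EF.exists_conj_diag h2 (hSp 0) hAA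
    have hS0ns : ∀ c : F, (S 0 : Mat) ≠ c • (1 : Mat) := by
      intro c hc
      have h3 : (S 1 : Mat) * (S 0 : Mat) = (S 0 : Mat) * (S 1 : Mat) := by
        rw [hc, Matrix.mul_smul, Matrix.smul_mul, Matrix.mul_one, Matrix.one_mul]
      rw [hBA] at h3
      have h4 : (2 : F) • ((S 0 : Mat) * (S 1 : Mat)) = 0 := by
        rw [two_smul]
        nth_rewrite 1 [← h3]
        exact neg_add_cancel _
      have h5 : (S 0 : Mat) * (S 1 : Mat) = 0 := by
        rcases smul_eq_zero.1 h4 with h | h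
        · exact absurd h h2
        · exact h
      have h6 : ((S 0 * S 1 : GLn) : Mat) * (((S 0 * S 1)⁻¹ : GLn) : Mat) = 1 := by
        rw [← Units.val_mul, mul_inv_cancel, Units.val_one]
      rw [Units.val_mul, h5, Matrix.zero_mul] at h6
      exact zero_ne_one h6
    obtain ⟨he0, he1⟩ := dd_shape h2 hz' hns ε h1
    obtain ⟨he0', he1'⟩ := dd_shape h2 hAA hS0ns ε' h1'
    have hgmem : g1 * g2⁻¹ ∈ Cfsg.spGL 2 F :=
      (Cfsg.spGL 2 F).mul_mem hg1 ((Cfsg.spGL 2 F).inv_mem hg2)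
    have hcases : ε' = ε ∨ ε' = fun i => -ε i := by
      rcases he0 with h0 | h0 <;> rcases he0' with h0' | h0'
      · left; funext i; fin_cases i
        · exact h0'.trans h0.symm
        · show ε' 1 = ε 1
          rw [he1, he1', h0, h0']
      · right; funext i; fin_cases i
        · show ε' 0 = -ε 0
          rw [h0, h0']
        · show ε' 1 = -ε 1
          rw [he1, he1', h0, h0']
      · right; funext i; fin_cases i
        · show ε' 0 = -ε 0
          rw [h0, h0', neg_neg]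
        · show ε' 1 = -ε 1
          rw [he1, he1', h0, h0', neg_neg]
      · left; funext i; fin_cases i
        · exact h0'.trans h0.symm
        · show ε' 1 = ε 1
          rw [he1, he1', h0, h0']
    rcases hcases with hc | hc
    · refine ⟨g1 * g2⁻¹, hgmem, ?_⟩
      have : (g1 * g2⁻¹)⁻¹ * x * (g1 * g2⁻¹) = S 0 := by
        apply conj_eq_of_val
        rw [h1, h1', hc]
      rw [this]
      exact hmemS 0
    · refine ⟨g1 * g2⁻¹, hgmem, ?_⟩
      have : (g1 * g2⁻¹)⁻¹ * x * (g1 * g2⁻¹) = -S 0 := by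
        apply conj_eq_of_val
        rw [h1, val_neg_GL, Matrix.mul_neg, Matrix.neg_mul, h1']
        show dd ε = -dd ε'
        rw [hc, dd_neg, neg_neg]
      rw [this]
      -- `-1 = S0 S1 (S1 S0)⁻¹`
      have hneg1 : (-1 : GLn) = S 0 * S 1 * (S 1 * S 0)⁻¹ := by
        rw [hS.anti 0 1 (by decide), neg_mul, mul_inv_cancel]
      have : -S 0 = (-1 : GLn) * S 0 := (neg_one_mul_GL (S 0)).symm
      rw [this, hneg1]
      exact Subgroup.mul_mem _ (Subgroup.mul_mem _ (Subgroup.mul_mem _ (hmemS 0) (hmemS 1))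
        (Subgroup.inv_mem _ (Subgroup.mul_mem _ (hmemS 1) (hmemS 0)))) (hmemS 0)
  · -- `x² = -1`
    have hAx := adata_of_sq_neg_one hx hz'
    have haSp : S 0 * S 1 ∈ Cfsg.spGL 2 F := (Cfsg.spGL 2 F).mul_mem (hSp 0) (hSp 1)
    have haa : ((S 0 * S 1 : GLn) : Mat) * ((S 0 * S 1 : GLn) : Mat) = (-1 : F) • (1 : Mat) := by
      rw [Units.val_mul]
      calc (S 0 : Mat) * (S 1 : Mat) * ((S 0 : Mat) * (S 1 : Mat))
          = (S 0 : Mat) * ((S 1 : Mat) * (S 0 : Mat)) * (S 1 : Mat) := by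
            simp only [Matrix.mul_assoc]
        _ = -((S 0 : Mat) * (S 0 : Mat) * ((S 1 : Mat) * (S 1 : Mat))) := by
            rw [hBA]
            simp only [Matrix.mul_neg, Matrix.neg_mul, Matrix.mul_assoc]
        _ = (-1 : F) • (1 : Mat) := by
            rw [hAA, hBB, Matrix.one_mul, neg_one_smul]
    have hAa := adata_of_sq_neg_one haSp haa
    have hδ : (-1 : F) ≠ 0 := neg_ne_zero.mpr one_ne_zero
    have hnorm : ∀ c : F, ∃ a b : F, a * a - (-1) * b * b = c :=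
      fun c => Cfsg.Agent.Helper43.EF.exists_norm_eq h2 (-1) hδ c
    obtain ⟨g1, hg1, h1⟩ := Cfsg.Agent.Helper55.EF.exists_conj_Y0 h2 hδ hAx hnorm
    obtain ⟨g2, hg2, h1'⟩ := Cfsg.Agent.Helper55.EF.exists_conj_Y0 h2 hδ hAa hnorm
    refine ⟨g1 * g2⁻¹, (Cfsg.spGL 2 F).mul_mem hg1 ((Cfsg.spGL 2 F).inv_mem hg2), ?_⟩
    have : (g1 * g2⁻¹)⁻¹ * x * (g1 * g2⁻¹) = S 0 * S 1 := by
      apply conj_eq_of_val
      rw [h1, h1']
    rw [this]
    exact Subgroup.mul_mem _ (hmemS 0) (hmemS 1)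

end Cfsg.Agent.Helper65.XS
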