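import Mathlib
import Cfsg.Prelude.Def_GeometricClasses
import Cfsg.Prelude.Def_Classical
import Cfsg.Agent.Helper44.SimChar
import Cfsg.Agent.Helper44.OrthSum

/-!
# (IDX0) for helper44 (S5981): `r · |O(Q)|` divides `2 · |SL_n(q)|` when `r` divides the index of
the similarity group in `SL`
-/

set_option autoImplicit false
open scoped MatrixGroups

namespace Cfsg.Agent.Helper65.QSim

open Matrix Cfsg.Geo QuadraticMap

universe u

variable {F : Type u} [Field F] [Fintype F] {n : ℕ}

/-- a finite subgroup of `Fˣ` all of whose elements square to one has order dividing two. -/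
theorem card_dvd_two_of_sq (R : Subgroup Fˣ) (h : ∀ x ∈ R, x * x = 1) : Nat.card R ∣ 2 := by
  have hsub : (R : Set Fˣ) ⊆ ({1, -1} : Set Fˣ) := by
    intro x hx
    have hx2 := h x hx
    have hx2' : (x : F) * (x : F) = 1 := by
      have := congrArg Units.val hx2
      simpa using this
    rcases mul_self_eq_one_iff.mp hx2' with h1 | h1
    · left
      exact Units.ext h1
    · right
      apply Units.ext
      rw [h1]
      simp
  have h1 : (R : Set Fˣ).ncard ≤ ({1, -1} : Set Fˣ).ncard := Set.ncard_le_ncard hsub (Set.toFinite _)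
  have h2 : ({1, -1} : Set Fˣ).ncard ≤ 2 := by
    have := Set.ncard_insert_le (1 : Fˣ) ({-1} : Set Fˣ)
    rw [Set.ncard_singleton] at this
    exact this
  have h3 : Nat.card R = (R : Set Fˣ).ncard := Nat.card_coe_set_eq (R : Set Fˣ)
  have h4 : 0 < Nat.card R := Nat.card_pos
  have h5 : Nat.card R ≤ 2 := by omega
  interval_cases (Nat.card R) <;> simp

/-- (IDX0) -/
theorem card_isometryGroup_mul_dvd (Q : QuadraticForm F (Fin n → F))
    (hQ : (polarBilin Q).Nondegenerate) (r : ℕ)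
    (hΩ : r ∣ (quadSimilarityGroup (⇑Q)).relIndex (specialLinear (Fin n) F)) :
    r * Nat.card (Cfsg.isometryGroup F (⇑Q)) ∣ 2 * Nat.card (specialLinear (Fin n) F) := by
  obtain ⟨H, hH⟩ : ∃ H : Subgroup (GL (Fin n) F), H = quadSimilarityGroup (⇑Q) := ⟨_, rfl⟩
  obtain ⟨S, hS⟩ : ∃ S : Subgroup (GL (Fin n) F), S = specialLinear (Fin n) F := ⟨_, rfl⟩
  obtain ⟨O, hO⟩ : ∃ O : Subgroup (GL (Fin n) F), O = Cfsg.isometryGroup F (⇑Q) := ⟨_, rfl⟩
  rw [← hH, ← hS] at hΩ
  rw [← hS, ← hO]
  have hOH : O ≤ H := by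
    intro g hg
    rw [hO, Cfsg.Agent.Helper44.mem_isometryGroup_iff] at hg
    rw [hH]
    exact ⟨1, fun v => by rw [hg v, Units.val_one, one_mul]⟩
  -- `H.relIndex S * |H ⊓ S| = |S|`
  have h1 : Nat.card (H ⊓ S : Subgroup (GL (Fin n) F)) * H.relIndex S = Nat.card S := by
    have := Subgroup.relIndex_mul_relIndex (⊥ : Subgroup (GL (Fin n) F)) (H ⊓ S) S bot_le inf_le_right
    rw [Subgroup.relIndex_bot_left, Subgroup.relIndex_bot_left, Subgroup.inf_relIndex_right] at this
    exact this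
  have h2 : Nat.card (O ⊓ S : Subgroup (GL (Fin n) F)) ∣ Nat.card (H ⊓ S : Subgroup (GL (Fin n) F)) :=
    Subgroup.card_dvd_of_le (inf_le_inf_right S hOH)
  -- `|O| ∣ 2 * |O ⊓ S|`
  have h3 : Nat.card O ∣ 2 * Nat.card (O ⊓ S : Subgroup (GL (Fin n) F)) := by
    have h4 : Nat.card (O ⊓ S : Subgroup (GL (Fin n) F)) * (O ⊓ S).relIndex O = Nat.card O := by
      have := Subgroup.relIndex_mul_relIndex (⊥ : Subgroup (GL (Fin n) F)) (O ⊓ S) O bot_le inf_le_left
      rw [Subgroup.relIndex_bot_left, Subgroup.relIndex_bot_left] at this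
      exact this
    have h5 : (O ⊓ S).relIndex O ∣ 2 := by
      rw [inf_comm, Subgroup.inf_relIndex_right]
      -- `S.relIndex O` is the index of the kernel of `det` on `O`
      let f : ↥O →* Fˣ := (Matrix.GeneralLinearGroup.det : GL (Fin n) F →* Fˣ).comp O.subtype
      have hker : S.subgroupOf O = f.ker := by
        ext g
        rw [Subgroup.mem_subgroupOf, MonoidHom.mem_ker, hS]
        rfl
      have hidx : S.relIndex O = Nat.card f.range := by
        unfold Subgroup.relIndex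
        rw [hker, Subgroup.index_ker]
      rw [hidx]
      apply card_dvd_two_of_sq
      rintro x ⟨g, rfl⟩
      have hg : (g : GL (Fin n) F) ∈ Cfsg.isometryGroup F (⇑Q) := hO ▸ g.2
      rw [Cfsg.Agent.Helper44.mem_isometryGroup_iff] at hg
      have hdet := Cfsg.Agent.Helper44.det_sq_of_similarity Q hQ ((g : GL (Fin n) F) : Matrix (Fin n) (Fin n) F) 1
        (fun u => by rw [hg u, one_mul])
      rw [one_pow] at hdet
      apply Units.ext
      show ((Matrix.GeneralLinearGroup.det (g : GL (Fin n) F) : Fˣ) : F) *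
        ((Matrix.GeneralLinearGroup.det (g : GL (Fin n) F) : Fˣ) : F) = 1
      rw [Matrix.GeneralLinearGroup.val_det_apply]
      exact hdet
    obtain ⟨t, ht⟩ := h5
    refine ⟨t, ?_⟩
    rw [← h4]
    calc 2 * Nat.card (O ⊓ S : Subgroup (GL (Fin n) F))
        = Nat.card (O ⊓ S : Subgroup (GL (Fin n) F)) * 2 := by ring
      _ = Nat.card (O ⊓ S : Subgroup (GL (Fin n) F)) * ((O ⊓ S).relIndex O * t) := by rw [← ht]
      _ = Nat.card (O ⊓ S : Subgroup (GL (Fin n) F)) * (O ⊓ S).relIndex O * t := by ring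
  rw [← h1]
  have h6 : Nat.card O ∣ 2 * Nat.card (H ⊓ S : Subgroup (GL (Fin n) F)) :=
    h3.trans (Nat.mul_dvd_mul_left 2 h2)
  calc r * Nat.card O ∣ H.relIndex S * (2 * Nat.card (H ⊓ S : Subgroup (GL (Fin n) F))) :=
        Nat.mul_dvd_mul hΩ h6
    _ = 2 * (Nat.card (H ⊓ S : Subgroup (GL (Fin n) F)) * H.relIndex S) := by ring

end Cfsg.Agent.Helper65.QSim
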