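import Mathlib
import Cfsg.Prelude.Def_GeometricClasses
import Cfsg.Agent.Helper43.LagrD
import Cfsg.Agent.Helper5.Card

/-!
# (IDX3) for helper44 (S5981): the order of `SL_n(q)` as the subgroup `Geo.specialLinear` of `GL`
-/

set_option autoImplicit false
open scoped MatrixGroups

namespace Cfsg.Agent.Helper65.QSim

open Matrix Cfsg.Geo

universe u

variable {F : Type u} [Field F] [Fintype F] {n : ℕ}

/-- (IDX3) -/
theorem card_specialLinear {q : ℕ} (hq : Fintype.card F = q) (hn : 1 ≤ n) :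
    Nat.card (specialLinear (Fin n) F)
      = q ^ (n * (n - 1) / 2) * ∏ i ∈ Finset.range (n - 1), (q ^ (i + 2) - 1) := by
  obtain ⟨m, rfl⟩ : ∃ m, n = m + 1 := ⟨n - 1, by omega⟩
  have hq2 : 2 ≤ q := by
    rw [← hq]
    exact Fintype.one_lt_card
  have h1 : Nat.card (GL (Fin (m + 1)) F) =
      Nat.card (specialLinear (Fin (m + 1)) F) * (q - 1) := by
    have := Cfsg.Agent.Helper5.card_GL_eq_card_SL_mul (n := Fin (m + 1)) (F := F)
    rw [← Cfsg.Agent.Helper5.card_ker_det_eq_card_SL, hq] at this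
    exact this
  have h2 : Nat.card (GL (Fin (m + 1)) F) = ∏ i : Fin (m + 1), (q ^ (m + 1) - q ^ (i : ℕ)) := by
    rw [Matrix.card_GL_field, hq]
  rw [h2, Cfsg.Agent.Helper43.Lagr.prod_gl_eq q (m + 1) (by omega), Finset.prod_range_succ'
    (fun i => q ^ (i + 1) - 1) m, Finset.prod_pow_eq_pow_sum, Finset.sum_range_id] at h1
  have hpos : 0 < q - 1 := by omega
  apply Nat.eq_of_mul_eq_mul_right hpos
  rw [← h1]
  simp only [Nat.add_sub_cancel, zero_add, pow_one]
  ring

end Cfsg.Agent.Helper65.QSim
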