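import Mathlib
import Cfsg.Prelude.Def_GeometricClasses
import Cfsg.Agent.Helper43.LagrD

/-!
# (IDXa) for helper44 (S5981): a prime `r ≠ p` dividing an index in `SL_n(q)` has
`orderOf (q : ZMod r) ≤ n`
-/

set_option autoImplicit false
open scoped MatrixGroups

namespace Cfsg.Agent.Helper65.QSim

open Matrix Cfsg.Geo

universe u

variable {F : Type u} [Field F] [Fintype F] {n : ℕ}

/-- (IDXa) -/
theorem orderOf_le_of_dvd_index (p : ℕ) [Fact p.Prime] [CharP F p] {q : ℕ}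
    (hq : Fintype.card F = q) (H : Subgroup (GL (Fin n) F)) (r : ℕ) (hr : r.Prime) (hrp : r ≠ p)
    (hΩ : r ∣ H.relIndex (specialLinear (Fin n) F)) : orderOf (q : ZMod r) ≤ n := by
  have hq1 : 1 ≤ q := by
    rw [← hq]
    exact Fintype.card_pos
  have h1 : r ∣ Nat.card (GL (Fin n) F) :=
    (hΩ.trans (Subgroup.relIndex_dvd_card _ _)).trans (Subgroup.card_subgroup_dvd_card _)
  rw [Matrix.card_GL_field, hq, Cfsg.Agent.Helper43.Lagr.prod_gl_eq q n hq1] at h1
  have hrq : ¬ r ∣ q := by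
    intro h
    obtain ⟨k, -, hk⟩ := FiniteField.card F p
    rw [hq] at hk
    rw [hk] at h
    have := (Nat.prime_dvd_prime_iff_eq hr (Fact.out : p.Prime)).mp (hr.dvd_of_dvd_pow h)
    exact hrp this
  rcases (Nat.Prime.dvd_mul hr).mp h1 with h2 | h2
  · exfalso
    obtain ⟨i, -, hi⟩ := (Prime.dvd_finset_prod_iff (Nat.Prime.prime hr) _).mp h2
    exact hrq (hr.dvd_of_dvd_pow hi)
  · obtain ⟨i, hi, hdvd⟩ := (Prime.dvd_finset_prod_iff (Nat.Prime.prime hr) _).mp h2
    rw [Finset.mem_range] at hi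
    have hpow : ((q : ℕ) : ZMod r) ^ (i + 1) = 1 := by
      have h3 : ((q ^ (i + 1) - 1 : ℕ) : ZMod r) = 0 := (ZMod.natCast_eq_zero_iff _ _).mpr hdvd
      rw [Nat.cast_sub (Nat.one_le_pow _ _ hq1), Nat.cast_pow, Nat.cast_one] at h3
      exact sub_eq_zero.mp h3
    have h4 := orderOf_dvd_of_pow_eq_one hpow
    have h5 := Nat.le_of_dvd (Nat.succ_pos i) h4
    omega

end Cfsg.Agent.Helper65.QSim
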