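import Mathlib
import Cfsg.Agent.Helper5.SuBN.Defs

/-!
# (CN) of #9136 for helper5 (S2546): `s B s ≠ B`
-/

set_option autoImplicit false

namespace Cfsg.Agent.Helper65.SuBNCN

open Matrix Cfsg.Agent.Helper5.SuBN

variable {F : Type*} [Field F] {n : ℕ} {σ : F →+* F}

/-- right multiplication by `sMat` -/
theorem mul_sMat_apply (c : F) (k : Fin (n / 2)) (A : Matrix (Fin n) (Fin n) F) (i j : Fin n) :
    (A * sMat c k) i j = A i (sPerm k j) * sSign c k j := by
  rw [Matrix.mul_apply, Finset.sum_eq_single (sPerm k j)]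
  · rw [sMat_apply, if_pos rfl]
  · intro b _ hb
    rw [sMat_apply, if_neg hb, mul_zero]
  · intro h
    exact absurd (Finset.mem_univ _) h

/-- left multiplication by `sMat` -/
theorem sMat_mul_apply (c : F) (k : Fin (n / 2)) (A : Matrix (Fin n) (Fin n) F) (i j : Fin n) :
    (sMat c k * A) i j = sSign c k (sPerm k i) * A (sPerm k i) j := by
  rw [Matrix.mul_apply, Finset.sum_eq_single (sPerm k i)]
  · rw [sMat_apply, sPerm_sPerm, if_pos rfl]
  · intro b _ hb
    rw [sMat_apply, if_neg, zero_mul]
    intro h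
    apply hb
    rw [h, sPerm_sPerm]
  · intro h
    exact absurd (Finset.mem_univ _) h

/-- the entries of `s x s` -/
theorem sMat_conj_apply (c : F) (k : Fin (n / 2)) (A : Matrix (Fin n) (Fin n) F) (i j : Fin n) :
    (sMat c k * A * sMat c k) i j =
      sSign c k (sPerm k i) * A (sPerm k i) (sPerm k j) * sSign c k j := by
  rw [mul_sMat_apply, sMat_mul_apply]

/-- the root elements are upper triangular -/
theorem xMat_upper (k : Fin (n / 2)) (t u : F) (a b : Fin n) (hab : b < a) :
    xMat σ k t u a b = 0 := by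
  have hk := k.2
  have hab' : b.val < a.val := Fin.lt_def.1 hab
  rw [xMat_apply, if_neg, if_neg, if_neg, if_neg]
  · simp
  · rintro ⟨h1, h2⟩
    have e1 := congrArg Fin.val h1
    have e2 := congrArg Fin.val h2
    rw [val_ia] at e1
    rw [val_rev, val_ia] at e2
    omega
  · rintro ⟨h1, h2⟩
    have e1 := congrArg Fin.val h1
    have e2 := congrArg Fin.val h2
    rw [val_rev, val_ib] at e1
    rw [val_rev, val_ia] at e2
    omega
  · rintro ⟨h1, h2⟩
    have e1 := congrArg Fin.val h1
    have e2 := congrArg Fin.val h2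
    rw [val_ia] at e1
    rw [val_ib] at e2
    omega
  · intro h
    rw [h] at hab'
    exact lt_irrefl _ hab'

/-- (CN) `s B s ≠ B` -/
theorem conj_ne (hσ : ∀ x, σ (σ x) = x)
    (hX : ∀ (k : Fin (n / 2)) (t u : F), Param σ k t u → IsUJ σ (xMat σ k t u))
    (c : F) (hc0 : c ≠ 0) (hc : σ c = -c) (s : UG n σ) (hs : s ∈ Sset n σ c) :
    (fun b : UG n σ => s * b * s) '' (Bsub n σ : Set (UG n σ)) ≠ (Bsub n σ : Set (UG n σ)) := by
  classical
  obtain ⟨k, hsk⟩ := hs
  have hk := k.2
  -- it suffices to produce `x ∈ B` with `s x s ∉ B`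
  suffices h : ∃ x ∈ Bsub n σ, s * x * s ∉ Bsub n σ by
    obtain ⟨x, hxB, hx⟩ := h
    intro heq
    apply hx
    have : s * x * s ∈ (fun b : UG n σ => s * b * s) '' (Bsub n σ : Set (UG n σ)) :=
      Set.mem_image_of_mem _ hxB
    rw [heq] at this
    exact this
  have hne_ab : ia k ≠ ib k := by
    intro h
    have := congrArg Fin.val h
    rw [val_ia, val_ib] at this
    omega
  have hne_ar : ia k ≠ Fin.rev (ia k) := by
    intro h
    have := congrArg Fin.val h
    rw [val_rev, val_ia] at this
    omega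
  by_cases h1 : 2 * k.val + 3 < n
  · -- kind I
    have hP : Param σ k 1 0 := by
      unfold Param
      rw [if_pos h1]
    obtain ⟨x, hx⟩ := exists_of_isUJ (hX k 1 0 hP)
    have hxB : x ∈ Bsub n σ := by
      rw [mem_Bsub_iff]
      intro a b hab
      rw [hx]
      exact xMat_upper k 1 0 a b hab
    refine ⟨x, hxB, ?_⟩
    intro hB
    have h0 := (mem_Bsub_iff _).1 hB (ib k) (ia k) (by
      rw [Fin.lt_def, val_ia, val_ib]; omega)
    rw [mat_mul, mat_mul, hsk, hx, sMat_conj_apply] at h0
    have hs1 : sPerm k (ib k) = ia k := by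
      apply Fin.ext
      rw [val_sPerm, if_pos h1, val_ib, val_ia]
      rw [if_neg (by omega), if_pos rfl]
    have hs2 : sPerm k (ia k) = ib k := by
      apply Fin.ext
      rw [val_sPerm, if_pos h1, val_ib, val_ia]
      rw [if_pos rfl]
    have hsg : ∀ j, sSign c k j = 1 := by
      intro j
      unfold sSign
      rw [if_pos h1]
    have hxe : xMat σ k 1 0 (ia k) (ib k) = 1 := by
      rw [xMat_apply, if_neg hne_ab, if_pos ⟨rfl, rfl⟩, if_neg, ite_self]
      · ring
      · rintro ⟨h3, -⟩
        have := congrArg Fin.val h3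
        rw [val_rev, val_ib, val_ia] at this
        omega
    rw [hs1, hs2, hsg, hxe] at h0
    norm_num at h0
  · -- kinds II and III
    have hP : Param σ k 0 c := by
      unfold Param
      rw [if_neg h1]
      split_ifs
      · exact ⟨rfl, by rw [hc]; ring⟩
      · rw [hc, map_zero]; ring
    obtain ⟨x, hx⟩ := exists_of_isUJ (hX k 0 c hP)
    have hxB : x ∈ Bsub n σ := by
      rw [mem_Bsub_iff]
      intro a b hab
      rw [hx]
      exact xMat_upper k 0 c a b hab
    refine ⟨x, hxB, ?_⟩
    intro hB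
    have h0 := (mem_Bsub_iff _).1 hB (Fin.rev (ia k)) (ia k) (by
      rw [Fin.lt_def, val_rev, val_ia]; omega)
    rw [mat_mul, mat_mul, hsk, hx, sMat_conj_apply] at h0
    have hs1 : sPerm k (Fin.rev (ia k)) = ia k := by
      apply Fin.ext
      rw [val_sPerm, if_neg h1, val_rev, val_ia]
      rw [if_neg (by omega), if_pos rfl]
    have hs2 : sPerm k (ia k) = Fin.rev (ia k) := by
      apply Fin.ext
      rw [val_sPerm, if_neg h1, val_rev, val_ia]
      rw [if_pos rfl]
    have hsg : sSign c k (ia k) ≠ 0 := by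
      unfold sSign
      rw [if_neg h1]
      split_ifs <;>
        first
          | exact neg_ne_zero.mpr (inv_ne_zero hc0)
          | exact one_ne_zero
          | exact hc0
          | exact neg_ne_zero.mpr one_ne_zero
    have hxe : xMat σ k 0 c (ia k) (Fin.rev (ia k)) = c := by
      rw [xMat_apply, if_neg hne_ar, map_zero, ite_self, ite_self, if_pos ⟨rfl, rfl⟩]
      ring
    rw [hs1, hs2, hxe] at h0
    exact (mul_ne_zero (mul_ne_zero hsg hc0) hsg) h0

end Cfsg.Agent.Helper65.SuBNCN
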