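import Mathlib
import Cfsg.Agent.Helper46.SlnDefs

/-!
# (TRI-2) for helper46 (S2279): all the root groups `(w j, v k)`, `j ≠ k`, are full
-/

set_option autoImplicit false

open Matrix Matrix.SpecialLinearGroup
open scoped commutatorElement
open Cfsg.Agent.Helper46.Sln

namespace Cfsg.Agent.Helper65.Sln

/-- fullness is closed under finite sums of axes. -/
theorem full_sum {n : ℕ} {K : Type*} [Field K] {H : Subgroup (SpecialLinearGroup (Fin n) K)}
    {a : Fin n → K} {ι : Type*} (s : Finset ι) (g : ι → Fin n → K)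
    (h : ∀ k ∈ s, Full H a (g k)) : Full H a (∑ k ∈ s, g k) := by
  classical
  induction s using Finset.induction_on with
  | empty =>
    rw [Finset.sum_empty]
    exact Full.zero_axis H a
  | insert k s hk ih =>
    rw [Finset.sum_insert hk]
    exact (h k (Finset.mem_insert_self k s)).add_axis
      (ih (fun j hj => h j (Finset.mem_insert_of_mem hj)))

/-- (TRI-2) all the root groups `(w j, v k)`, `j ≠ k`, are full -/
theorem full_of_tri {n : ℕ} {K : Type*} [Field K] (hn : 3 ≤ n)
    (H : Subgroup (SpecialLinearGroup (Fin n) K)) (w φ v : ℕ → Fin n → K)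
    (hdual : ∀ j k, j < n → k < n → v k ⬝ᵥ w j = if j = k then 1 else 0)
    (hexp : ∀ μ : Fin n → K, μ = ∑ k ∈ Finset.range n, (μ ⬝ᵥ w k) • v k)
    (hfull : ∀ j, j < n → Full H (w j) (φ j))
    (hzero : ∀ i j, i < n → j < n → i ≤ j → ¬ (i = 0 ∧ j = n - 1) → φ i ⬝ᵥ w j = 0)
    (hsub : ∀ i, 1 ≤ i → i < n → φ i ⬝ᵥ w (i - 1) ≠ 0)
    (hcorner : φ 0 ⬝ᵥ w (n - 1) ≠ 0) :
    ∀ j k, j < n → k < n → j ≠ k → Full H (w j) (v k) := by
  -- Step A
  have hA : ∀ m, 1 ≤ m → m < n → ∀ k, k < m → Full H (w m) (v k) := by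
    intro m
    induction m using Nat.strong_induction_on with
    | _ m IH =>
    intro hm1 hmn
    have h1 : ∀ k, k < m - 1 → Full H (w m) (v k) := by
      intro k hk
      have hIH := IH (m - 1) (by omega) (by omega) (by omega) k hk
      refine Full.comm' (hfull m hmn) hIH ?_ (hsub m hm1 hmn)
      rw [hdual m k hmn (by omega), if_neg (by omega)]
    have hcne : φ m ⬝ᵥ w (m - 1) ≠ 0 := hsub m hm1 hmn
    have hother : ∀ k ∈ (Finset.range n).erase (m - 1),
        Full H (w m) ((φ m ⬝ᵥ w k) • v k) := by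
      intro k hk
      rw [Finset.mem_erase, Finset.mem_range] at hk
      by_cases hkm : k < m - 1
      · exact (h1 k hkm).smul_axis _
      · have h0 : φ m ⬝ᵥ w k = 0 := hzero m k hmn hk.2 (by omega) (by omega)
        rw [h0, zero_smul]
        exact Full.zero_axis H _
    have hsum := full_sum _ _ hother
    obtain ⟨S, hS⟩ : ∃ S : Fin n → K,
        S = ∑ k ∈ (Finset.range n).erase (m - 1), (φ m ⬝ᵥ w k) • v k := ⟨_, rfl⟩
    rw [← hS] at hsum
    have hsplit : (φ m ⬝ᵥ w (m - 1)) • v (m - 1) + S = φ m := by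
      rw [hS, Finset.add_sum_erase (Finset.range n) (fun k => (φ m ⬝ᵥ w k) • v k)
        (Finset.mem_range.mpr (by omega))]
      exact (hexp (φ m)).symm
    have hcv : Full H (w m) ((φ m ⬝ᵥ w (m - 1)) • v (m - 1)) := by
      have h2 := (hfull m hmn).add_axis hsum.neg_axis
      rwa [← eq_add_neg_of_add_eq hsplit] at h2
    intro k hk
    by_cases hkm : k = m - 1
    · subst hkm
      have := hcv.smul_axis (φ m ⬝ᵥ w (m - 1))⁻¹
      rwa [smul_smul, inv_mul_cancel₀ hcne, one_smul] at this
    · exact h1 k (by omega)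
  have hn1 : n - 1 < n := by omega
  -- Step B
  have hB : Full H (w 0) (v (n - 1)) := by
    have hsingle : ∑ k ∈ Finset.range n, (φ 0 ⬝ᵥ w k) • v k =
        (φ 0 ⬝ᵥ w (n - 1)) • v (n - 1) := by
      apply Finset.sum_eq_single (n - 1)
      · intro k hk hkn
        rw [Finset.mem_range] at hk
        rw [hzero 0 k (by omega) hk (Nat.zero_le k) (fun h => hkn h.2), zero_smul]
      · intro h
        exact absurd (Finset.mem_range.mpr hn1) h
    have h0 : Full H (w 0) ((φ 0 ⬝ᵥ w (n - 1)) • v (n - 1)) := by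
      rw [← hsingle, ← hexp (φ 0)]
      exact hfull 0 (by omega)
    have := h0.smul_axis (φ 0 ⬝ᵥ w (n - 1))⁻¹
    rwa [smul_smul, inv_mul_cancel₀ hcorner, one_smul] at this
  -- Step C
  have hC : ∀ k, 0 < k → k < n → Full H (w 0) (v k) := by
    intro k hk0 hkn
    by_cases hk : k = n - 1
    · rw [hk]
      exact hB
    · refine Full.comm' hB (hA (n - 1) (by omega) hn1 k (by omega)) ?_ ?_
      · rw [hdual 0 k (by omega) hkn, if_neg (by omega)]
      · rw [hdual (n - 1) (n - 1) hn1 hn1, if_pos rfl]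
        exact one_ne_zero
  -- Step D and conclusion
  intro j k hj hk hjk
  rcases Nat.lt_or_gt_of_ne hjk with h | h
  · by_cases hj0 : j = 0
    · subst hj0
      exact hC k h hk
    · refine Full.comm' (hA j (by omega) hj 0 (by omega)) (hC k (by omega) hk) ?_ ?_
      · rw [hdual j k hj hk, if_neg hjk]
      · rw [hdual 0 0 (by omega) (by omega), if_pos rfl]
        exact one_ne_zero
  · exact hA j (by omega) hj k h

end Cfsg.Agent.Helper65.Sln
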