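import Mathlib
import Cfsg.Agent.Helper62.S6.Defs
import Cfsg.Agent.Helper65.S6R3

/-!
# S3333 (helper62), piece (R4b): a subgroup containing `S` and normalized by `L = ⟨S^G⟩` contains `L`.
-/

set_option autoImplicit false
open Cfsg

namespace Cfsg.Agent.Helper65.S6

open Cfsg.Agent.Helper62.S6 Cfsg.Agent.Helper62.D8

universe u

variable {G : Type u} [Group G] [Finite G]
variable {S : Subgroup G} {x y t f : G}

/-- (R4b) a subgroup containing `S` and normalized by `L = ⟨S^G⟩` contains `L` (`G = L N`). -/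
theorem normalClosure_le_of_normalizes (h : Cfg S x y t f) (K : Subgroup G)
    (hLK : Subgroup.normalClosure (S : Set G) ≤ Subgroup.normalizer (K : Set G)) (hSK : S ≤ K) :
    Subgroup.normalClosure (S : Set G) ≤ K := by
  have hSL : S ≤ Subgroup.normalClosure (S : Set G) := Subgroup.le_normalClosure
  unfold Subgroup.normalClosure
  rw [Subgroup.closure_le]
  intro a ha
  obtain ⟨s, hs, hsa⟩ := Group.mem_conjugatesOfSet_iff.mp ha
  obtain ⟨g, hg⟩ := isConj_iff.mp hsa
  obtain ⟨l, hl, n, hn, hgln⟩ := frattini8 h (Subgroup.normalClosure (S : Set G)) hSL g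
  have hns : n * s * n⁻¹ ∈ S := (Subgroup.mem_normalizer_iff.mp hn s).mp hs
  have hlK := (Subgroup.mem_normalizer_iff.mp (hLK hl) (n * s * n⁻¹)).mp (hSK hns)
  have : a = l * (n * s * n⁻¹) * l⁻¹ := by
    rw [← hg, hgln]; group
  rw [SetLike.mem_coe, this]
  exact hlK

end Cfsg.Agent.Helper65.S6
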