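import Mathlib
import Cfsg.Agent.Helper62.S6.Defs

/-!
# S3333 (helper62), piece (R5): transfer of the local data to a subgroup `L ≥ S`.
-/

set_option autoImplicit false
open Cfsg

namespace Cfsg.Agent.Helper65.S6

open Cfsg.Agent.Helper62.S6 Cfsg.Agent.Helper62.D8

universe u

variable {G : Type u} [Group G] [Finite G]
variable {S : Subgroup G} {x y t f : G}

/-- exponent 3 of `S` from the coordinates -/
theorem R5_pow_three (h : Cfg S x y t f) (s : G) (hs : s ∈ S) : s ^ 3 = 1 := by
  obtain ⟨i, k, rfl⟩ := h.nd.memT s hs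
  have hc : Commute (x ^ i) (y ^ k) := (show Commute x y from h.nd.comm).pow_pow i k
  rw [hc.mul_pow, ← pow_mul, ← pow_mul, mul_comm i 3, mul_comm k 3, pow_mul, pow_mul, h.nd.x3,
    h.nd.y3, one_pow, one_pow, one_mul]

/-- normalizer of `S.subgroupOf L` in `L` -/
theorem R5_normalizer (S L : Subgroup G) (hSL : S ≤ L) :
    Subgroup.normalizer ((S.subgroupOf L : Subgroup ↥L) : Set ↥L) =
      (Subgroup.normalizer (S : Set G)).subgroupOf L := by
  ext g
  rw [Subgroup.mem_subgroupOf, Subgroup.mem_normalizer_iff, Subgroup.mem_normalizer_iff]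
  constructor
  · intro hg a
    constructor
    · intro ha
      have := (hg ⟨a, hSL ha⟩).mp (by rw [Subgroup.mem_subgroupOf]; exact ha)
      rw [Subgroup.mem_subgroupOf] at this
      simpa using this
    · intro ha
      have haL : a ∈ L := by
        have h1 : (g : G) * a * (g : G)⁻¹ ∈ L := hSL ha
        have h2 := L.mul_mem (L.mul_mem (L.inv_mem g.2) h1) g.2
        simpa [mul_assoc] using h2
      have := (hg ⟨a, haL⟩).mpr (by rw [Subgroup.mem_subgroupOf]; simpa using ha)
      rw [Subgroup.mem_subgroupOf] at this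
      exact this
  · intro hg a
    rw [Subgroup.mem_subgroupOf, Subgroup.mem_subgroupOf]
    simpa using hg (a : G)

/-- (R5) transfer of the local data to a subgroup `L ≥ S`. -/
theorem transfer (h : Cfg S x y t f) (L : Subgroup G) (hSL : S ≤ L) :
    ∃ PL : Sylow 3 ↥L, (PL : Subgroup ↥L) = S.subgroupOf L ∧
      Nat.card (PL : Subgroup ↥L) = 9 ∧
      (∀ a ∈ (PL : Subgroup ↥L), ∀ b ∈ (PL : Subgroup ↥L), a * b = b * a) ∧
      (∀ a ∈ (PL : Subgroup ↥L), a ^ 3 = 1) ∧
      Subgroup.centralizer ((PL : Subgroup ↥L) : Set ↥L) = (PL : Subgroup ↥L) ∧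
      Subgroup.normalizer ((PL : Subgroup ↥L) : Set ↥L) =
        (Subgroup.normalizer (S : Set G)).subgroupOf L ∧
      (∀ u ∈ (PL : Subgroup ↥L), u ≠ 1 → Subgroup.centralizer ({u} : Set ↥L) ≤
        Subgroup.normalizer ((PL : Subgroup ↥L) : Set ↥L)) := by
  obtain ⟨P, hP⟩ := h.syl
  have hPL : (P : Subgroup G) ≤ L := hP ▸ hSL
  have e1 : ((P.subtype hPL : Sylow 3 ↥L) : Subgroup ↥L) = S.subgroupOf L := by
    rw [Sylow.coe_subtype, hP]
  refine ⟨P.subtype hPL, e1, ?_⟩
  rw [e1]
  have hnorm := R5_normalizer S L hSL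
  refine ⟨?_, ?_, ?_, ?_, hnorm, ?_⟩
  · rw [Nat.card_congr (Subgroup.subgroupOfEquivOfLe hSL).toEquiv]
    exact h.card
  · intro a ha b hb
    rw [Subgroup.mem_subgroupOf] at ha hb
    exact Subtype.ext (h.nd.commT _ ha _ hb)
  · intro a ha
    rw [Subgroup.mem_subgroupOf] at ha
    exact Subtype.ext (by simpa using R5_pow_three h _ ha)
  · ext g
    rw [Subgroup.mem_centralizer_iff, Subgroup.mem_subgroupOf]
    constructor
    · intro hg
      have : (g : G) ∈ Subgroup.centralizer (S : Set G) := by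
        rw [Subgroup.mem_centralizer_iff]
        intro s hs
        have := hg ⟨s, hSL hs⟩ (by rw [SetLike.mem_coe, Subgroup.mem_subgroupOf]; exact hs)
        exact congrArg Subtype.val this
      rwa [h.cent] at this
    · intro hg s hs
      rw [SetLike.mem_coe, Subgroup.mem_subgroupOf] at hs
      exact Subtype.ext (h.nd.commT _ hs _ hg)
  · intro u hu hu1 g hg
    rw [hnorm, Subgroup.mem_subgroupOf]
    rw [Subgroup.mem_subgroupOf] at hu
    have hu1' : (u : G) ≠ 1 := fun hc => hu1 (Subtype.ext hc)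
    apply h.loc (u : G) hu hu1'
    rw [Subgroup.mem_centralizer_iff] at hg ⊢
    intro a ha
    rw [Set.mem_singleton_iff] at ha
    subst ha
    exact congrArg Subtype.val (hg u (Set.mem_singleton u))

end Cfsg.Agent.Helper65.S6
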