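import Mathlib
import Cfsg.Agent.Helper52.PQDefs
import Cfsg.Agent.Helper79.PQFV

/-!
# (OB) for helper52 (S4306): the conjugates of `V_D` under `⟨σ, τ⟩` generate `V`

`caseB_orbit_faithful_of` has the two facts of (SQ) it needs as hypotheses; (FV) is cited from
`Cfsg.Agent.Helper79.PQFV`.
-/

set_option autoImplicit false

namespace Cfsg.Agent.Helper65.PQ

open Subgroup Cfsg.Agent.Helper1.Shult Cfsg.Agent.Helper52.PQ

variable {H : Type*} [Group H]

/-- a subgroup permuting a set by conjugation normalises the subgroup it generates. -/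
theorem le_normalizer_closure_of_conj (X : Subgroup H) (S : Set H)
    (h : ∀ x ∈ X, ∀ s ∈ S, x * s * x⁻¹ ∈ S) :
    X ≤ normalizer ((closure S : Subgroup H) : Set H) := by
  have key : ∀ x ∈ X, ∀ k ∈ closure S, x * k * x⁻¹ ∈ closure S := by
    intro x hx k hk
    have hle : closure S ≤ (closure S).comap (MulAut.conj x).toMonoidHom := by
      rw [closure_le]
      intro s hs
      exact Subgroup.subset_closure (h x hx s hs)
    exact hle hk
  intro x hx
  rw [mem_normalizer_iff]
  intro k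
  constructor
  · exact key x hx k
  · intro hk
    have h1 := key x⁻¹ (X.inv_mem hx) _ hk
    have h2 : x⁻¹ * (x * k * x⁻¹) * x⁻¹⁻¹ = k := by group
    rwa [h2] at h1

/-- an invariant subgroup is normalised by `⟨σ, τ⟩`. -/
theorem closure_le_normalizer_of_inv {σ τ : H} {X : Subgroup H} (hX : Inv σ τ X) :
    closure ({σ, τ} : Set H) ≤ normalizer (X : Set H) := by
  rw [closure_le]
  intro a ha
  rcases ha with rfl | ha
  · exact hX.1
  · rw [Set.mem_singleton_iff] at ha
    subst ha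
    exact hX.2

/-- conjugation by a normalising element, both directions. -/
theorem conj_mem_of_mem_normalizer {X : Subgroup H} {a : H} (ha : a ∈ normalizer (X : Set H))
    {x : H} (hx : x ∈ X) : a * x * a⁻¹ ∈ X := (mem_normalizer_iff.mp ha x).1 hx

theorem conj_inv_mem_of_mem_normalizer {X : Subgroup H} {a : H}
    (ha : a ∈ normalizer (X : Set H)) {x : H} (hx : x ∈ X) : a⁻¹ * x * a ∈ X := by
  have h1 := conj_mem_of_mem_normalizer ((normalizer (X : Set H)).inv_mem ha) hx
  rwa [inv_inv] at h1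

variable [Finite H] {s t ℓ w u : ℕ} [Fact ℓ.Prime] [Fact w.Prime] [Fact u.Prime] {σ τ : H}
  {V Q R : Subgroup H}

/-- (OB) with the needed facts of (SQ) as hypotheses. -/
theorem caseB_orbit_faithful_of (c : CoreCfg s t ℓ w u σ τ V Q R)
    (hSQ1 : ⁅Q, Q⁆ ≤ centralizer (R : Set H)) (hSQ2 : ⁅Q, Q⁆ ≤ centralizer (Q : Set H))
    (D : Subgroup H) (hD : IsHyp w ⁅Q, Q⁆ ⊥ D) (hVD : V ⊓ centralizer (D : Set H) ≠ ⊥) :
    ∀ g ∈ Q, (∀ a ∈ closure ({σ, τ} : Set H),
      a * g * a⁻¹ ∈ centralizer ((V ⊓ centralizer (D : Set H) : Subgroup H) : Set H)) →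
      g = 1 := by
  intro g hgQ hg
  have hFV : V ⊓ centralizer (Q : Set H) = ⊥ :=
    Cfsg.Agent.Helper79.PQ.fixV_of_normal c Q le_rfl c.hQne c.hQinv le_normalizer c.hRQ
  have hAV := closure_le_normalizer_of_inv c.hVinv
  have hAQ := closure_le_normalizer_of_inv c.hQinv
  have hAR := closure_le_normalizer_of_inv c.hRinv
  have hDQ1 : D ≤ ⁅Q, Q⁆ := hD.2.1
  -- `V_D` is normalised by every element normalising `V` and centralising `D`
  have hVDconj : ∀ x : H, x ∈ normalizer (V : Set H) → (∀ d ∈ D, d * x = x * d) →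
      ∀ v ∈ V ⊓ centralizer (D : Set H), x * v * x⁻¹ ∈ V ⊓ centralizer (D : Set H) := by
    intro x hxV hxD v hv
    rw [mem_inf] at hv ⊢
    refine ⟨conj_mem_of_mem_normalizer hxV hv.1, ?_⟩
    rw [mem_centralizer_iff]
    intro d hd
    have h1 := (mem_centralizer_iff.mp hv.2) d hd
    have h2 := hxD d hd
    have h3 : d * x⁻¹ = x⁻¹ * d := by
      calc d * x⁻¹ = x⁻¹ * (x * d) * x⁻¹ := by group
        _ = x⁻¹ * (d * x) * x⁻¹ := by rw [h2]
        _ = x⁻¹ * d := by group
    calc d * (x * v * x⁻¹) = (d * x) * v * x⁻¹ := by group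
      _ = x * (d * v) * x⁻¹ := by rw [h2]; group
      _ = x * (v * d) * x⁻¹ := by rw [h1]
      _ = x * v * (d * x⁻¹) := by group
      _ = x * v * x⁻¹ * d := by rw [h3]; group
  have hQD : ∀ x ∈ Q, ∀ d ∈ D, d * x = x * d := by
    intro x hx d hd
    exact (mem_centralizer_iff.mp (hSQ2 (hDQ1 hd)) x hx).symm
  have hRD : ∀ x ∈ R, ∀ d ∈ D, d * x = x * d := by
    intro x hx d hd
    exact (mem_centralizer_iff.mp (hSQ1 (hDQ1 hd)) x hx).symm
  -- the set of conjugates
  set S : Set H := {y | ∃ a ∈ closure ({σ, τ} : Set H), ∃ v ∈ V ⊓ centralizer (D : Set H),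
    y = a * v * a⁻¹} with hS
  have hSV : closure S ≤ V := by
    rw [closure_le]
    rintro y ⟨a, ha, v, hv, rfl⟩
    exact conj_mem_of_mem_normalizer (hAV ha) (mem_inf.mp hv).1
  -- invariance under a subgroup `X` normalised by `⟨σ, τ⟩`, normalising `V`, centralising `D`
  have hXS : ∀ X : Subgroup H, closure ({σ, τ} : Set H) ≤ normalizer (X : Set H) →
      X ≤ normalizer (V : Set H) → (∀ x ∈ X, ∀ d ∈ D, d * x = x * d) →
      X ≤ normalizer ((closure S : Subgroup H) : Set H) := by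
    intro X hAX hXV hXD
    apply le_normalizer_closure_of_conj
    rintro x hx y ⟨a, ha, v, hv, rfl⟩
    have hx' : a⁻¹ * x * a ∈ X := conj_inv_mem_of_mem_normalizer (hAX ha) hx
    refine ⟨a, ha, (a⁻¹ * x * a) * v * (a⁻¹ * x * a)⁻¹,
      hVDconj _ (hXV hx') (hXD _ hx') v hv, ?_⟩
    group
  have hQS := hXS Q hAQ c.hQV hQD
  have hRS := hXS R hAR c.hRV hRD
  have hAS : closure ({σ, τ} : Set H) ≤ normalizer ((closure S : Subgroup H) : Set H) := by
    apply le_normalizer_closure_of_conj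
    rintro b hb y ⟨a, ha, v, hv, rfl⟩
    refine ⟨b * a, (closure ({σ, τ} : Set H)).mul_mem hb ha, v, hv, ?_⟩
    group
  have hSinv : Inv σ τ (closure S) :=
    ⟨hAS (Subgroup.subset_closure (Set.mem_insert _ _)),
      hAS (Subgroup.subset_closure (Set.mem_insert_of_mem _ (Set.mem_singleton _)))⟩
  have hVDS : V ⊓ centralizer (D : Set H) ≤ closure S := by
    intro v hv
    apply Subgroup.subset_closure
    exact ⟨1, (closure ({σ, τ} : Set H)).one_mem, v, hv, by group⟩
  -- the conjugates generate `V`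
  have hSeq : closure S = V := by
    by_contra hne
    have h1 := c.hminV (closure S) hSV hne hSinv hQS hRS
    apply hVD
    rw [eq_bot_iff, ← hFV]
    intro v hv
    rw [mem_inf]
    refine ⟨(mem_inf.mp hv).1, ?_⟩
    rw [mem_centralizer_iff]
    intro x hx
    exact ((mem_centralizer_iff.mp (h1 hx)) v (hVDS hv)).symm
  -- `g` centralises all the conjugates
  have hgS : closure S ≤ centralizer {g} := by
    rw [closure_le]
    rintro y ⟨a, ha, v, hv, rfl⟩
    have h1 := hg a⁻¹ ((closure ({σ, τ} : Set H)).inv_mem ha)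
    rw [inv_inv] at h1
    have h2 := (mem_centralizer_iff.mp h1) v hv
    show a * v * a⁻¹ ∈ centralizer {g}
    rw [mem_centralizer_iff]
    intro z hz
    rw [Set.mem_singleton_iff] at hz
    subst hz
    calc z * (a * v * a⁻¹) = a * ((a⁻¹ * z * a) * v) * a⁻¹ := by group
      _ = a * (v * (a⁻¹ * z * a)) * a⁻¹ := by rw [h2]
      _ = a * v * a⁻¹ * z := by group
  have hgV : g ∈ Q ⊓ centralizer (V : Set H) := by
    rw [mem_inf]
    refine ⟨hgQ, ?_⟩
    rw [mem_centralizer_iff]
    intro v hv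
    rw [← hSeq] at hv
    exact ((mem_centralizer_iff.mp (hgS hv)) g rfl).symm
  rw [c.hfaith, mem_bot] at hgV
  exact hgV

end Cfsg.Agent.Helper65.PQ
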