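import Mathlib
import Cfsg.Agent.Helper52.PQDefs
import Cfsg.Agent.Helper62.PQHH
import Cfsg.Agent.Helper65.PQOB

/-!
# (BS) for helper52 (S4306): `Q` nonabelian, a hyperplane of `σ`-type

`caseB_sigma_of` has the facts of (FA), (SQ), (SR), (NS) it needs as hypotheses; (HH), (FV) and
(OB) are cited.
-/

set_option autoImplicit false

namespace Cfsg.Agent.Helper65.PQ

open Subgroup Cfsg.Agent.Helper1.Shult Cfsg.Agent.Helper52.PQ

variable {H : Type*} [Group H] [Finite H] {s t ℓ w u : ℕ} [Fact ℓ.Prime] [Fact w.Prime]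
  [Fact u.Prime] {σ τ : H} {V Q R : Subgroup H}

/-- a prime dividing a power of two is two. -/
theorem eq_two_of_prime_dvd_two_pow {t n : ℕ} (ht : t.Prime) (h : t ∣ 2 ^ n) : t = 2 :=
  (Nat.prime_dvd_prime_iff_eq ht Nat.prime_two).mp (ht.dvd_of_dvd_pow h)

/-- (BS) with the facts of (FA), (SQ), (SR), (NS) as hypotheses. -/
theorem caseB_sigma_of (c : CoreCfg s t ℓ w u σ τ V Q R)
    (hFAdvd : t ∣ s - 1)
    (hFAconj : ∀ a ∈ closure ({σ, τ} : Set H), ∃ m : ℕ, ¬ s ∣ m ∧ a * σ * a⁻¹ = σ ^ m)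
    (hSQ1 : ⁅Q, Q⁆ ≤ centralizer (R : Set H)) (hSQ2 : ⁅Q, Q⁆ ≤ centralizer (Q : Set H))
    (hSR : R ⊓ centralizer (Q : Set H) ≠ R ∧
      (∀ x ∈ R, ∀ y ∈ R, x * y * x⁻¹ * y⁻¹ ∈ R ⊓ centralizer (Q : Set H)) ∧
      (∀ x ∈ R, x ^ u ∈ R ⊓ centralizer (Q : Set H)) ∧
      ((R ≤ centralizer {σ} ∧ ∀ i : ℕ, ∀ x ∈ R,
          x⁻¹ * ((σ ^ i * τ * (σ ^ i)⁻¹) * x * (σ ^ i * τ * (σ ^ i)⁻¹)⁻¹) ∈
            R ⊓ centralizer (Q : Set H) → x ∈ R ⊓ centralizer (Q : Set H)) ∨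
        (∀ x ∈ R, x⁻¹ * (σ * x * σ⁻¹) ∈ R ⊓ centralizer (Q : Set H) →
          x ∈ R ⊓ centralizer (Q : Set H))))
    (hNS : Q ≤ centralizer {σ} → R ≤ centralizer {σ} → False)
    (D : Subgroup H) (hD : IsHyp w ⁅Q, Q⁆ ⊥ D) (hVD : V ⊓ centralizer (D : Set H) ≠ ⊥)
    (hσD : σ ∈ normalizer (D : Set H))
    (hfix : (V ⊓ centralizer (D : Set H)) ⊓ centralizer {σ} = ⊥) : False := by
  have hDQ1 : D ≤ ⁅Q, Q⁆ := hD.2.1
  have hAQ := closure_le_normalizer_of_inv c.hQinv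
  -- `W = V_D` is elementary abelian, normalised by `σ` and `Q`
  have hW : IsEA ℓ (V ⊓ centralizer (D : Set H)) :=
    ⟨fun a ha b hb => c.hV.1 a (mem_inf.mp ha).1 b (mem_inf.mp hb).1,
      fun a ha => c.hV.2 a (mem_inf.mp ha).1⟩
  have hσW : σ ∈ normalizer ((V ⊓ centralizer (D : Set H) : Subgroup H) : Set H) :=
    Cfsg.Agent.Helper79.PQ.mem_normalizer_inf_centralizer_of c.hVinv.1 hσD
  have hQW : Q ≤ normalizer ((V ⊓ centralizer (D : Set H) : Subgroup H) : Set H) := by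
    intro x hx
    apply Cfsg.Agent.Helper79.PQ.mem_normalizer_inf_centralizer_of (c.hQV hx)
    apply centralizer_le_normalizer
    rw [mem_centralizer_iff]
    intro d hd
    exact (mem_centralizer_iff.mp (hSQ2 (hDQ1 hd)) x hx).symm
  have hexc : w = 2 → ¬ ∃ n : ℕ, s = 2 ^ n + 1 := by
    rintro hw2 ⟨n, hn⟩
    rw [hn, Nat.add_sub_cancel] at hFAdvd
    have ht2 := eq_two_of_prime_dvd_two_pow c.hF.ht hFAdvd
    exact c.hwt (hw2.trans ht2.symm)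
  -- (HH)
  have h1 : ∀ g ∈ Q, g⁻¹ * (σ * g * σ⁻¹) ∈
      centralizer ((V ⊓ centralizer (D : Set H) : Subgroup H) : Set H) :=
    Cfsg.Agent.Helper62.PQ.hhs_q c.hF.hs c.hwℓ c.hℓs c.hws σ c.hF.oσ Q _ c.hQ hW c.hQinv.1 hσW
      hQW hfix hexc
  -- the same for the powers of `σ`
  have h2 : ∀ m : ℕ, ∀ g ∈ Q, g⁻¹ * (σ ^ m * g * (σ ^ m)⁻¹) ∈
      centralizer ((V ⊓ centralizer (D : Set H) : Subgroup H) : Set H) := by
    intro m
    induction m with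
    | zero =>
      intro g _
      have : g⁻¹ * (σ ^ 0 * g * (σ ^ 0)⁻¹) = 1 := by rw [pow_zero]; group
      rw [this]
      exact one_mem _
    | succ m ih =>
      intro g hg
      have hg' : σ * g * σ⁻¹ ∈ Q := conj_mem_of_mem_normalizer c.hQinv.1 hg
      have e : g⁻¹ * (σ ^ (m + 1) * g * (σ ^ (m + 1))⁻¹) =
          (g⁻¹ * (σ * g * σ⁻¹)) *
            ((σ * g * σ⁻¹)⁻¹ * (σ ^ m * (σ * g * σ⁻¹) * (σ ^ m)⁻¹)) := by
        rw [pow_succ]; group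
      rw [e]
      exact mul_mem (h1 g hg) (ih _ hg')
  -- (OB): `σ` centralises `Q`
  have hσQ : ∀ g ∈ Q, σ * g = g * σ := by
    intro g hg
    have hg0 : g⁻¹ * (σ * g * σ⁻¹) ∈ Q :=
      Q.mul_mem (Q.inv_mem hg) (conj_mem_of_mem_normalizer c.hQinv.1 hg)
    have h3 := caseB_orbit_faithful_of c hSQ1 hSQ2 D hD hVD _ hg0 (by
      intro a ha
      obtain ⟨m, -, hm⟩ := hFAconj a ha
      have hg' : a * g * a⁻¹ ∈ Q := conj_mem_of_mem_normalizer (hAQ ha) hg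
      have e : a * (g⁻¹ * (σ * g * σ⁻¹)) * a⁻¹ =
          (a * g * a⁻¹)⁻¹ * ((a * σ * a⁻¹) * (a * g * a⁻¹) * (a * σ * a⁻¹)⁻¹) := by group
      rw [e, hm]
      exact h2 m _ hg')
    calc σ * g = g * (g⁻¹ * (σ * g * σ⁻¹)) * σ := by group
      _ = g * σ := by rw [h3, mul_one]
  have hQcent : Q ≤ centralizer {σ} := by
    intro g hg
    rw [mem_centralizer_iff]
    intro z hz
    rw [Set.mem_singleton_iff] at hz
    subst hz
    exact hσQ g hg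
  obtain ⟨hR0ne, -, -, hcase⟩ := hSR
  rcases hcase with ⟨hRσ, -⟩ | hρ
  · exact hNS hQcent hRσ
  · apply hR0ne
    apply le_antisymm inf_le_left
    intro x hx
    apply hρ x hx
    rw [mem_inf]
    refine ⟨R.mul_mem (R.inv_mem hx) (conj_mem_of_mem_normalizer c.hRinv.1 hx), ?_⟩
    rw [mem_centralizer_iff]
    intro g hg
    have hg2 : x * g * x⁻¹ ∈ Q := conj_mem_of_mem_normalizer (c.hRQ hx) hg
    have hc2 := hσQ _ hg2
    have hc1 := hσQ g hg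
    have hc1' : g * σ⁻¹ = σ⁻¹ * g := by
      calc g * σ⁻¹ = σ⁻¹ * (σ * g) * σ⁻¹ := by group
        _ = σ⁻¹ * (g * σ) * σ⁻¹ := by rw [hc1]
        _ = σ⁻¹ * g := by group
    calc g * (x⁻¹ * (σ * x * σ⁻¹)) = x⁻¹ * ((x * g * x⁻¹) * σ) * x * σ⁻¹ := by group
      _ = x⁻¹ * (σ * (x * g * x⁻¹)) * x * σ⁻¹ := by rw [hc2]
      _ = x⁻¹ * σ * x * (g * σ⁻¹) := by group
      _ = x⁻¹ * σ * x * (σ⁻¹ * g) := by rw [hc1']
      _ = x⁻¹ * (σ * x * σ⁻¹) * g := by group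

end Cfsg.Agent.Helper65.PQ
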