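import Mathlib

/-!
# The Brauer-Wielandt inequality for a group of odd prime power order (piece (BW-A) for helper78)
-/

set_option autoImplicit false

namespace Cfsg.Agent.Helper65.DC

universe u

/-- the automorphism induced on the quotient by the centre. -/
noncomputable def zAut {Q : Type*} [Group Q] (α : MulAut Q) : MulAut (Q ⧸ Subgroup.center Q) :=
  QuotientGroup.congr (Subgroup.center Q) (Subgroup.center Q) α
    (Subgroup.characteristic_iff_map_eq.mp inferInstance α)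

theorem zAut_mk {Q : Type*} [Group Q] (α : MulAut Q) (x : Q) :
    zAut α (x : Q ⧸ Subgroup.center Q) = ((α x : Q) : Q ⧸ Subgroup.center Q) :=
  QuotientGroup.congr_mk _ _ α _ x

theorem map_mem_center' {Q : Type*} [Group Q] (α : MulAut Q) {z : Q}
    (hz : z ∈ Subgroup.center Q) : α z ∈ Subgroup.center Q := by
  rw [Subgroup.mem_center_iff] at hz ⊢
  intro g
  have h1 := hz (α.symm g)
  have h2 := congrArg α h1
  rw [map_mul, map_mul, MulEquiv.apply_symm_apply] at h2
  exact h2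

/-- a square root in a group of odd order. -/
theorem exists_sq_eq {Q : Type*} [Group Q] [Finite Q] (hodd : Odd (Nat.card Q)) (y : Q) :
    ∃ k : ℕ, y ^ k * y ^ k = y := by
  obtain ⟨j, hj⟩ := hodd
  refine ⟨j + 1, ?_⟩
  rw [← pow_add]
  have : j + 1 + (j + 1) = Nat.card Q + 1 := by omega
  rw [this, pow_succ, pow_card_eq_one', one_mul]

/-- **the abelian case**, for the centre. -/
theorem card_center_le {Q : Type*} [Group Q] [Finite Q] (hodd : Odd (Nat.card Q))
    (σ τ : MulAut Q) (hσ : ∀ x, σ (σ x) = x) (hτ : ∀ x, τ (τ x) = x)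
    (hcomm : ∀ x, σ (τ x) = τ (σ x)) :
    Nat.card (Subgroup.center Q) ≤
      Nat.card {x : Q // x ∈ Subgroup.center Q ∧ σ x = x} *
        Nat.card {x : Q // x ∈ Subgroup.center Q ∧ τ x = x} *
        Nat.card {x : Q // x ∈ Subgroup.center Q ∧ σ (τ x) = x} := by
  rw [← Nat.card_prod, ← Nat.card_prod]
  let Φ : ({x : Q // x ∈ Subgroup.center Q ∧ σ x = x} ×
      {x : Q // x ∈ Subgroup.center Q ∧ τ x = x}) ×
      {x : Q // x ∈ Subgroup.center Q ∧ σ (τ x) = x} → Subgroup.center Q :=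
    fun p => ⟨p.1.1.1 * p.1.2.1 * p.2.1,
      Subgroup.mul_mem _ (Subgroup.mul_mem _ p.1.1.2.1 p.1.2.2.1) p.2.2.1⟩
  apply Nat.card_le_card_of_surjective Φ
  rintro ⟨y, hy⟩
  obtain ⟨k, hk⟩ := exists_sq_eq hodd y
  obtain ⟨x, hx⟩ : ∃ x, x = y ^ k := ⟨_, rfl⟩
  rw [← hx] at hk
  have hxZ : x ∈ Subgroup.center Q := by rw [hx]; exact Subgroup.pow_mem _ hy k
  obtain ⟨t, ht⟩ : ∃ t, t = τ x := ⟨_, rfl⟩
  obtain ⟨u, hu⟩ : ∃ u, u = σ (τ x) := ⟨_, rfl⟩
  have htZ : t ∈ Subgroup.center Q := by rw [ht]; exact map_mem_center' τ hxZ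
  have huZ : u ∈ Subgroup.center Q := by
    rw [hu]; exact map_mem_center' σ (map_mem_center' τ hxZ)
  have cx : ∀ g : Q, g * x = x * g := fun g => Subgroup.mem_center_iff.mp hxZ g
  have ct : ∀ g : Q, g * t = t * g := fun g => Subgroup.mem_center_iff.mp htZ g
  have cu : ∀ g : Q, g * u = u * g := fun g => Subgroup.mem_center_iff.mp huZ g
  -- the three components
  have hσt : σ t = u := by rw [ht, hu]
  have hσu : σ u = t := by rw [hu, hσ, ht]
  have hτt : τ t = x := by rw [ht, hτ]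
  have hστu : σ (τ u) = x := by rw [hu, ← hcomm (τ x), hτ, hσ]
  have h1 : σ ((t * u)⁻¹) = (t * u)⁻¹ := by
    rw [map_inv, map_mul, hσt, hσu, cu t]
  have h2 : τ (x * t) = x * t := by
    rw [map_mul, ← ht, hτt, ct x]
  have h3 : σ (τ (x * u)) = x * u := by
    rw [map_mul, map_mul, ← hu, hστu, cu x]
  refine ⟨((⟨(t * u)⁻¹, Subgroup.inv_mem _ (Subgroup.mul_mem _ htZ huZ), h1⟩,
    ⟨x * t, Subgroup.mul_mem _ hxZ htZ, h2⟩), ⟨x * u, Subgroup.mul_mem _ hxZ huZ, h3⟩), ?_⟩
  apply Subtype.ext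
  show (t * u)⁻¹ * (x * t) * (x * u) = y
  rw [← hk]
  calc (t * u)⁻¹ * (x * t) * (x * u) = (t * u)⁻¹ * ((x * t) * x) * u := by group
    _ = (t * u)⁻¹ * (x * (x * t)) * u := by rw [cx (x * t)]
    _ = (t * u)⁻¹ * (x * x) * (t * u) := by group
    _ = (x * x) * (t * u)⁻¹ * (t * u) := by
        have : (t * u)⁻¹ * (x * x) = (x * x) * (t * u)⁻¹ := by
          have hc : ∀ g : Q, g * (x * x) = (x * x) * g := by
            intro g
            rw [← mul_assoc, cx g, mul_assoc, cx g, mul_assoc]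
          exact hc _
        rw [this]
    _ = x * x := by group

/-- **fixed points in the quotient by an invariant normal subgroup** lift. -/
theorem card_fix_quot_mul_le {Q : Type*} [Group Q] [Finite Q] (hodd : Odd (Nat.card Q))
    (Z : Subgroup Q) [Z.Normal] (α : MulAut Q) (hα : ∀ x, α (α x) = x)
    (_hZ : ∀ z ∈ Z, α z ∈ Z) (abar : Q ⧸ Z → Q ⧸ Z)
    (hbar : ∀ x : Q, abar (x : Q ⧸ Z) = ((α x : Q) : Q ⧸ Z)) :
    Nat.card {y : Q ⧸ Z // abar y = y} * Nat.card {x : Q // x ∈ Z ∧ α x = x} ≤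
      Nat.card {x : Q // α x = x} := by
  let F : Subgroup Q :=
    { carrier := {x | α x = x}
      one_mem' := map_one α
      mul_mem' := by
        intro a b ha hb
        show α (a * b) = a * b
        rw [map_mul, ha, hb]
      inv_mem' := by
        intro a ha
        show α a⁻¹ = a⁻¹
        rw [map_inv, ha] }
  let π : F →* Q ⧸ Z := (QuotientGroup.mk' Z).comp F.subtype
  have hcardF : Nat.card F = Nat.card {x : Q // α x = x} := rfl
  -- fixed cosets contain fixed elements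
  have hsurj : ∀ y : Q ⧸ Z, abar y = y → y ∈ π.range := by
    intro y hy
    obtain ⟨x, rfl⟩ := QuotientGroup.mk_surjective y
    rw [hbar] at hy
    obtain ⟨v, hv⟩ : ∃ v, v = x⁻¹ * α x := ⟨_, rfl⟩
    have hvZ : v ∈ Z := by
      rw [hv]
      exact QuotientGroup.eq.mp hy.symm
    have hαv : α v = v⁻¹ := by
      rw [hv, map_mul, map_inv, hα, mul_inv_rev, inv_inv]
    obtain ⟨k, hk⟩ := exists_sq_eq hodd v
    obtain ⟨w, hw⟩ : ∃ w, w = v ^ k := ⟨_, rfl⟩
    rw [← hw] at hk
    have hwZ : w ∈ Z := by rw [hw]; exact Subgroup.pow_mem _ hvZ k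
    have hαw : α w = w⁻¹ := by
      rw [hw, map_pow, hαv, inv_pow]
    have hfix : α (x * w) = x * w := by
      rw [map_mul, hαw]
      have : α x = x * v := by rw [hv]; group
      rw [this, ← hk]
      group
    refine ⟨⟨x * w, hfix⟩, ?_⟩
    show ((x * w : Q) : Q ⧸ Z) = (x : Q ⧸ Z)
    rw [QuotientGroup.eq]
    have : (x * w)⁻¹ * x = w⁻¹ := by group
    rw [this]
    exact Z.inv_mem hwZ
  have h1 : Nat.card {y : Q ⧸ Z // abar y = y} ≤ Nat.card π.range :=
    Nat.card_le_card_of_injective (fun y => (⟨y.1, hsurj y.1 y.2⟩ : π.range))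
      (fun a b hab => Subtype.ext (congrArg (fun z : π.range => (z : Q ⧸ Z)) hab))
  have h2 : Nat.card {x : Q // x ∈ Z ∧ α x = x} ≤ Nat.card π.ker := by
    apply Nat.card_le_card_of_injective
      (fun x => (⟨⟨x.1, x.2.2⟩, by
        rw [MonoidHom.mem_ker]
        show ((x.1 : Q) : Q ⧸ Z) = 1
        exact (QuotientGroup.eq_one_iff _).mpr x.2.1⟩ : π.ker))
    intro a b hab
    apply Subtype.ext
    have := congrArg (fun z : π.ker => ((z : F) : Q)) hab
    exact this
  have h3 : Nat.card π.ker * Nat.card π.range = Nat.card F := by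
    rw [← Subgroup.index_ker, Subgroup.card_mul_index]
  rw [← hcardF, ← h3, mul_comm]
  exact Nat.mul_le_mul h2 h1

/-- the inequality, by induction on the order. -/
theorem bw_aux (q : ℕ) [Fact q.Prime] (hq : q ≠ 2) : ∀ (n : ℕ) (Q : Type u) [Group Q] [Finite Q],
    IsPGroup q Q → ∀ (σ τ : MulAut Q), σ * σ = 1 → τ * τ = 1 → σ * τ = τ * σ → Nat.card Q = n →
    Nat.card Q ≤ Nat.card {x : Q // σ x = x} * Nat.card {x : Q // τ x = x} *
      Nat.card {x : Q // σ (τ x) = x} := by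
  intro n
  induction n using Nat.strong_induction_on with
  | _ n ih =>
  intro Q _ _ hQ σ τ hσ hτ hcomm hn
  have hσ' : ∀ x, σ (σ x) = x := fun x => by
    rw [← MulAut.mul_apply, hσ, MulAut.one_apply]
  have hτ' : ∀ x, τ (τ x) = x := fun x => by
    rw [← MulAut.mul_apply, hτ, MulAut.one_apply]
  have hcomm' : ∀ x, σ (τ x) = τ (σ x) := fun x => by
    rw [← MulAut.mul_apply, hcomm, MulAut.mul_apply]
  have hστ' : ∀ x, (σ * τ) ((σ * τ) x) = x := fun x => by
    rw [MulAut.mul_apply, MulAut.mul_apply, hcomm' (σ (τ x)), hσ', hτ']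
  by_cases htriv : Subsingleton Q
  · have h1 : Nat.card Q = 1 := by
      haveI := htriv
      exact Nat.card_of_subsingleton (1 : Q)
    have hpos : ∀ (α : Q → Q), α 1 = 1 → 0 < Nat.card {x : Q // α x = x} := by
      intro α hα
      haveI : Nonempty {x : Q // α x = x} := ⟨⟨1, hα⟩⟩
      exact Nat.card_pos
    have p1 := hpos σ (map_one σ)
    have p2 := hpos τ (map_one τ)
    have p3 := hpos (fun x => σ (τ x)) (by show σ (τ 1) = 1; rw [map_one, map_one])
    rw [h1]
    exact Nat.succ_le_of_lt (Nat.mul_pos (Nat.mul_pos p1 p2) p3)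
  rw [not_subsingleton_iff_nontrivial] at htriv
  haveI := htriv
  haveI := hQ.center_nontrivial
  -- the order is odd
  have hodd : Odd (Nat.card Q) := by
    obtain ⟨k, hk⟩ := hQ.exists_card_eq
    rw [hk]
    exact Odd.pow ((Fact.out : q.Prime).odd_of_ne_two hq)
  have hcard := Subgroup.card_eq_card_quotient_mul_card_subgroup (Subgroup.center Q)
  have hlt : Nat.card (Q ⧸ Subgroup.center Q) < n := by
    rw [← hn, hcard]
    have h1 : 1 < Nat.card (Subgroup.center Q) := Finite.one_lt_card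
    have h2 : 0 < Nat.card (Q ⧸ Subgroup.center Q) := Nat.card_pos
    nlinarith
  have hbarσ : zAut σ * zAut σ = 1 := by
    ext y
    obtain ⟨x, rfl⟩ := QuotientGroup.mk_surjective y
    rw [MulAut.mul_apply, zAut_mk, zAut_mk, hσ', MulAut.one_apply]
  have hbarτ : zAut τ * zAut τ = 1 := by
    ext y
    obtain ⟨x, rfl⟩ := QuotientGroup.mk_surjective y
    rw [MulAut.mul_apply, zAut_mk, zAut_mk, hτ', MulAut.one_apply]
  have hbarc : zAut σ * zAut τ = zAut τ * zAut σ := by
    ext y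
    obtain ⟨x, rfl⟩ := QuotientGroup.mk_surjective y
    rw [MulAut.mul_apply, MulAut.mul_apply, zAut_mk, zAut_mk, zAut_mk, zAut_mk, hcomm']
  have hIH := ih _ hlt (Q ⧸ Subgroup.center Q) (hQ.to_quotient _) (zAut σ) (zAut τ) hbarσ hbarτ
    hbarc rfl
  have hA := card_center_le hodd σ τ hσ' hτ' hcomm'
  have hB1 := card_fix_quot_mul_le hodd (Subgroup.center Q) σ hσ'
    (fun z hz => map_mem_center' σ hz) (zAut σ) (zAut_mk σ)
  have hB2 := card_fix_quot_mul_le hodd (Subgroup.center Q) τ hτ'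
    (fun z hz => map_mem_center' τ hz) (zAut τ) (zAut_mk τ)
  have hB3 := card_fix_quot_mul_le hodd (Subgroup.center Q) (σ * τ) hστ'
    (fun z hz => map_mem_center' (σ * τ) hz) (fun y => zAut σ (zAut τ y))
    (fun x => by rw [zAut_mk, zAut_mk]; rfl)
  change Nat.card {y : Q ⧸ Subgroup.center Q // zAut σ (zAut τ y) = y} *
    Nat.card {x : Q // x ∈ Subgroup.center Q ∧ σ (τ x) = x} ≤
      Nat.card {x : Q // σ (τ x) = x} at hB3
  rw [hcard]
  calc Nat.card (Q ⧸ Subgroup.center Q) * Nat.card (Subgroup.center Q)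
      ≤ (Nat.card {y : Q ⧸ Subgroup.center Q // zAut σ y = y} *
          Nat.card {y : Q ⧸ Subgroup.center Q // zAut τ y = y} *
          Nat.card {y : Q ⧸ Subgroup.center Q // zAut σ (zAut τ y) = y}) *
        (Nat.card {x : Q // x ∈ Subgroup.center Q ∧ σ x = x} *
          Nat.card {x : Q // x ∈ Subgroup.center Q ∧ τ x = x} *
          Nat.card {x : Q // x ∈ Subgroup.center Q ∧ σ (τ x) = x}) := Nat.mul_le_mul hIH hA
    _ = (Nat.card {y : Q ⧸ Subgroup.center Q // zAut σ y = y} *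
          Nat.card {x : Q // x ∈ Subgroup.center Q ∧ σ x = x}) *
        (Nat.card {y : Q ⧸ Subgroup.center Q // zAut τ y = y} *
          Nat.card {x : Q // x ∈ Subgroup.center Q ∧ τ x = x}) *
        (Nat.card {y : Q ⧸ Subgroup.center Q // zAut σ (zAut τ y) = y} *
          Nat.card {x : Q // x ∈ Subgroup.center Q ∧ σ (τ x) = x}) := by ring
    _ ≤ Nat.card {x : Q // σ x = x} * Nat.card {x : Q // τ x = x} *
          Nat.card {x : Q // σ (τ x) = x} :=
        Nat.mul_le_mul (Nat.mul_le_mul hB1 hB2) hB3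

/-- **(BW-A)** the Brauer-Wielandt inequality for a group of odd prime power order. -/
theorem card_le_fixed_mul_of_pgroup {Q : Type*} [Group Q] [Finite Q] {q : ℕ} [Fact q.Prime]
    (hq : q ≠ 2) (hQ : IsPGroup q Q) (σ τ : MulAut Q) (hσ : σ * σ = 1) (hτ : τ * τ = 1)
    (hcomm : σ * τ = τ * σ) :
    Nat.card Q ≤ Nat.card {x : Q // σ x = x} * Nat.card {x : Q // τ x = x} *
      Nat.card {x : Q // σ (τ x) = x} :=
  bw_aux q hq _ Q hQ σ τ hσ hτ hcomm rfl

end Cfsg.Agent.Helper65.DC
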