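import Mathlib

/-!
# (EN5), (EN7) for helper54 (S0998): which characters lie in `B_p ∩ B_2`
-/

set_option autoImplicit false

namespace Cfsg.Agent.Helper65.BT

theorem card_filter_mem_le {α : Type*} [Finite α] (s : Finset α) (Y : Set α) (n : ℕ)
    (hY : Nat.card Y = n) [DecidablePred (· ∈ Y)] : (s.filter (· ∈ Y)).card ≤ n := by
  have h1 : s.filter (· ∈ Y) ⊆ Y.toFinite.toFinset := by
    intro x hx
    rw [Finset.mem_filter] at hx
    rw [Set.Finite.mem_toFinset]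
    exact hx.2
  have h2 := Finset.card_le_card h1
  rw [← Set.ncard_eq_toFinset_card Y, ← Nat.card_coe_set_eq, hY] at h2
  exact h2

/-- (EN5) -/
theorem enum5 {α : Type*} [Finite α] (X Y B : Set α) (c : α → ℤ) (one χ₀ : α)
    (hX : Nat.card X = 2) (h1X : one ∈ X) (h0X : χ₀ ∈ X) (hne : one ≠ χ₀)
    (hY : Nat.card Y = 2) (hdisj : Disjoint X Y)
    (hc1 : c one = 4) (hc0 : c χ₀ = -16) (hcY : ∀ θ ∈ Y, c θ = 6)
    (hcZ : ∀ χ, χ ∉ X → χ ∉ Y → c χ = 0)
    (h0B : χ₀ ∈ B) (hdvd : (64 : ℤ) ∣ ∑ᶠ χ ∈ B, c χ) : one ∈ B := by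
  classical
  by_contra h1B
  have hXeq : ({one, χ₀} : Set α) = X := by
    apply Set.eq_of_subset_of_ncard_le
    · intro x hx
      rcases hx with rfl | rfl
      · exact h1X
      · exact h0X
    · rw [Set.ncard_pair hne, ← Nat.card_coe_set_eq, hX]
    · exact Set.toFinite _
  have h0Y : χ₀ ∉ Y := fun h => (Set.disjoint_left.1 hdisj) h0X h
  rw [finsum_mem_eq_finite_toFinset_sum c B.toFinite] at hdvd
  have hpt : ∀ χ ∈ B.toFinite.toFinset,
      c χ = (if χ = χ₀ then (-16 : ℤ) else 0) + (if χ ∈ Y then (6 : ℤ) else 0) := by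
    intro χ hχ
    rw [Set.Finite.mem_toFinset] at hχ
    by_cases h0 : χ = χ₀
    · rw [if_pos h0, h0, if_neg h0Y, hc0, add_zero]
    · rw [if_neg h0, zero_add]
      by_cases hy : χ ∈ Y
      · rw [if_pos hy, hcY χ hy]
      · rw [if_neg hy]
        apply hcZ χ _ hy
        rw [← hXeq]
        rintro (rfl | rfl)
        · exact h1B hχ
        · exact h0 rfl
  rw [Finset.sum_congr rfl hpt, Finset.sum_add_distrib, Finset.sum_ite_eq',
    if_pos ((Set.Finite.mem_toFinset _).2 h0B), Finset.sum_ite, Finset.sum_const,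
    Finset.sum_const_zero, add_zero, nsmul_eq_mul] at hdvd
  have hk := card_filter_mem_le B.toFinite.toFinset Y 2 hY
  omega

/-- (EN7) -/
theorem enum7 {α : Type*} [Finite α] (X Y B : Set α) (c : α → ℤ) (one χ₀ χ₂ : α)
    (hX : Nat.card X = 3) (h1X : one ∈ X) (h0X : χ₀ ∈ X) (h2X : χ₂ ∈ X)
    (hne10 : one ≠ χ₀) (hne12 : one ≠ χ₂) (hne02 : χ₀ ≠ χ₂)
    (hY : Nat.card Y = 2) (hdisj : Disjoint X Y)
    (hc1 : c one = 6) (hc0 : c χ₀ = 48) (hc2 : c χ₂ = -36) (hcY : ∀ θ ∈ Y, c θ = -9)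
    (hcZ : ∀ χ, χ ∉ X → χ ∉ Y → c χ = 0)
    (h0B : χ₀ ∈ B) (hdvd : (64 : ℤ) ∣ ∑ᶠ χ ∈ B, c χ) : one ∈ B := by
  classical
  by_contra h1B
  have hXeq : ({one, χ₀, χ₂} : Set α) = X := by
    apply Set.eq_of_subset_of_ncard_le
    · intro x hx
      rcases hx with rfl | rfl | rfl
      · exact h1X
      · exact h0X
      · exact h2X
    · rw [Set.ncard_eq_three.2 ⟨one, χ₀, χ₂, hne10, hne12, hne02, rfl⟩, ← Nat.card_coe_set_eq, hX]
    · exact Set.toFinite _
  have h0Y : χ₀ ∉ Y := fun h => (Set.disjoint_left.1 hdisj) h0X h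
  have h2Y : χ₂ ∉ Y := fun h => (Set.disjoint_left.1 hdisj) h2X h
  rw [finsum_mem_eq_finite_toFinset_sum c B.toFinite] at hdvd
  have hpt : ∀ χ ∈ B.toFinite.toFinset,
      c χ = (if χ = χ₀ then (48 : ℤ) else 0) + (if χ = χ₂ then (-36 : ℤ) else 0) +
        (if χ ∈ Y then (-9 : ℤ) else 0) := by
    intro χ hχ
    rw [Set.Finite.mem_toFinset] at hχ
    by_cases h0 : χ = χ₀
    · rw [if_pos h0, h0, if_neg hne02, if_neg h0Y, hc0, add_zero, add_zero]
    · rw [if_neg h0, zero_add]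
      by_cases h2 : χ = χ₂
      · rw [if_pos h2, h2, if_neg h2Y, hc2, add_zero]
      · rw [if_neg h2, zero_add]
        by_cases hy : χ ∈ Y
        · rw [if_pos hy, hcY χ hy]
        · rw [if_neg hy]
          apply hcZ χ _ hy
          rw [← hXeq]
          rintro (rfl | rfl | rfl)
          · exact h1B hχ
          · exact h0 rfl
          · exact h2 rfl
  rw [Finset.sum_congr rfl hpt, Finset.sum_add_distrib, Finset.sum_add_distrib,
    Finset.sum_ite_eq', Finset.sum_ite_eq',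
    if_pos ((Set.Finite.mem_toFinset _).2 h0B), Finset.sum_ite, Finset.sum_const,
    Finset.sum_const_zero, add_zero, nsmul_eq_mul] at hdvd
  have hk := card_filter_mem_le B.toFinite.toFinset Y 2 hY
  split_ifs at hdvd <;> omega

end Cfsg.Agent.Helper65.BT
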