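import Mathlib

/-!
# (EN) of #8994 for helper54's S0679: an odd permutation forces an even Sylow 11-normaliser
-/

set_option autoImplicit false

namespace Cfsg.Agent.Helper65.D11

open Equiv MulAction

variable {α : Type*} [Fintype α] [DecidableEq α]

/-- an element of odd order is an even permutation -/
theorem sign_eq_one_of_odd (σ : Perm α) (hodd : Odd (orderOf σ)) : Perm.sign σ = 1 := by
  rcases Int.units_eq_one_or (Perm.sign σ) with h | h
  · exact h
  · exfalso
    have h1 : (Perm.sign σ) ^ orderOf σ = 1 := by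
      rw [← map_pow, pow_orderOf_eq_one, map_one]
    rw [h, hodd.neg_one_pow] at h1
    exact absurd h1 (by decide)

/-- (EN) -/
theorem even_card_normalizer [Fact (Nat.Prime 11)] (hα : Fintype.card α = 11)
    (G : Subgroup (Perm α)) [IsPretransitive G α] (τ : Perm α) (hτ : τ ∈ G)
    (hsign : Perm.sign τ = -1) (P : Sylow 11 G) :
    Even (Nat.card (Subgroup.normalizer ((P : Subgroup G) : Set G))) := by
  classical
  -- the even part of `G`
  obtain ⟨N, hN⟩ : ∃ N : Subgroup G, N = (alternatingGroup α).subgroupOf G := ⟨_, rfl⟩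
  have hmemN : ∀ g : G, g ∈ N ↔ Perm.sign (g : Perm α) = 1 := by
    intro g
    rw [hN, Subgroup.mem_subgroupOf, Perm.mem_alternatingGroup]
  haveI hNn : N.Normal := by
    rw [hN]
    infer_instance
  -- `P ≤ N`
  have hPN : (P : Subgroup G) ≤ N := by
    intro g hg
    rw [hmemN]
    apply sign_eq_one_of_odd
    obtain ⟨k, hk⟩ := (IsPGroup.iff_orderOf.1 P.2) ⟨g, hg⟩
    have hk' : orderOf (g : Perm α) = 11 ^ k := by
      rw [← hk]
      exact (Subgroup.orderOf_coe g).trans (Subgroup.orderOf_mk g hg).symm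
    rw [hk']
    exact Odd.pow (by decide)
  have hfr : Subgroup.normalizer ((P : Subgroup G) : Set G) ⊔ N = ⊤ :=
    Sylow.normalizer_sup_eq_top' P hPN
  -- decompose `τ`
  have hτtop : (⟨τ, hτ⟩ : G) ∈ (Subgroup.normalizer ((P : Subgroup G) : Set G) ⊔ N : Subgroup G) := by
    rw [hfr]
    exact Subgroup.mem_top _
  rw [← SetLike.mem_coe, Subgroup.mul_normal, Set.mem_mul] at hτtop
  obtain ⟨h, hh, n, hn, hhn⟩ := hτtop
  have hn1 : Perm.sign (n : Perm α) = 1 := (hmemN n).1 hn
  have hh1 : Perm.sign (h : Perm α) = -1 := by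
    have h3 : (h : Perm α) * (n : Perm α) = τ := by
      have := congrArg (fun u : G => (u : Perm α)) hhn
      simpa using this
    rw [← h3, map_mul, hn1, mul_one] at hsign
    exact hsign
  -- `h` has even order
  have heven : Even (orderOf h) := by
    by_contra hodd
    rw [Nat.not_even_iff_odd] at hodd
    have h4 : Odd (orderOf (h : Perm α)) := by
      rw [Subgroup.orderOf_coe]
      exact hodd
    have := sign_eq_one_of_odd (h : Perm α) h4
    rw [this] at hh1
    exact absurd hh1 (by decide)
  have hdvd : orderOf h ∣ Nat.card (Subgroup.normalizer ((P : Subgroup G) : Set G)) := by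
    have h5 := orderOf_dvd_natCard (⟨h, hh⟩ : Subgroup.normalizer ((P : Subgroup G) : Set G))
    rwa [Subgroup.orderOf_mk] at h5
  exact (even_iff_two_dvd.2 ((even_iff_two_dvd.1 heven).trans hdvd))

end Cfsg.Agent.Helper65.D11
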