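import Mathlib
import Cfsg.Prelude.Def_CaseTheorems
import Cfsg.Agent.Helper54.SCG.Defs
import Cfsg.Agent.S0016
import Cfsg.Agent.S3224

set_option autoImplicit false

/-!
# S3921 (helper54's SCG farm), leaf (ST) by helper65: the 2-groups in which every non-cyclic subgroup contains its
centralizer are cyclic, generalized quaternion, dihedral, quasi-dihedral or four-groups.
-/

namespace Cfsg.Agent.Helper65.SCG

open Cfsg.Agent.Helper54.SCG

/-- a group with three different elements of square `1` is not cyclic -/
theorem ST_not_cyclic_of_three {V : Type*} [Group V] [Finite V] (x y : V) (hx : x * x = 1) (hy : y * y = 1)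
    (hx1 : x ≠ 1) (hy1 : y ≠ 1) (hxy : x ≠ y) : ¬ IsCyclic V := by
  classical
  intro hc
  have := Fintype.ofFinite V
  have h := IsCyclic.card_pow_eq_one_le (α := V) (n := 2) (by norm_num)
  have hsub : ({1, x, y} : Finset V) ⊆ Finset.univ.filter (fun a : V => a ^ 2 = 1) := by
    intro a ha
    rw [Finset.mem_filter]
    refine ⟨Finset.mem_univ _, ?_⟩
    simp only [Finset.mem_insert, Finset.mem_singleton] at ha
    rcases ha with rfl | rfl | rfl
    · exact one_pow 2
    · rw [pow_two]; exact hx
    · rw [pow_two]; exact hy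
  have hcard : ({1, x, y} : Finset V).card = 3 := by
    rw [Finset.card_insert_of_notMem, Finset.card_insert_of_notMem, Finset.card_singleton]
    · simpa using hxy
    · simp only [Finset.mem_insert, Finset.mem_singleton, not_or]
      exact ⟨fun h => hx1 h.symm, fun h => hy1 h.symm⟩
  have := Finset.card_le_card hsub
  omega

/-- a nontrivial finite 2-group has a central involution -/
theorem ST_exists_central_involution {S : Type*} [Group S] [Finite S] (hS : IsPGroup 2 S)
    (hnt : Nontrivial S) : ∃ t : S, orderOf t = 2 ∧ ∀ s : S, s * t = t * s := by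
  have : Fact (Nat.Prime 2) := ⟨Nat.prime_two⟩
  have := hS.center_nontrivial
  have hZ : IsPGroup 2 ↥(Subgroup.center S) := hS.to_subgroup _
  have h2 : 2 ∣ Nat.card ↥(Subgroup.center S) := by
    rcases hZ.card_eq_or_dvd with h | h
    · exact absurd h (ne_of_gt Finite.one_lt_card)
    · exact h
  obtain ⟨z, hz⟩ := exists_prime_orderOf_dvd_card' 2 h2
  refine ⟨(z : S), ?_, ?_⟩
  · rw [Subgroup.orderOf_coe]; exact hz
  · intro s
    exact (Subgroup.mem_center_iff.mp z.2 s)

/-- a subgroup of order `2` is generated by an involution -/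
theorem ST_involution_of_card_two {S : Type*} [Group S] (H : Subgroup S) (h : Nat.card ↥H = 2) :
    ∃ x : S, orderOf x = 2 ∧ H = Subgroup.zpowers x := by
  have : Finite ↥H := Nat.finite_of_card_ne_zero (by omega)
  have : Fact (Nat.Prime 2) := ⟨Nat.prime_two⟩
  obtain ⟨z, hz⟩ := exists_prime_orderOf_dvd_card' (G := ↥H) 2 (by rw [h])
  refine ⟨(z : S), ?_, ?_⟩
  · rw [Subgroup.orderOf_coe]; exact hz
  · symm
    apply Subgroup.eq_of_le_of_card_ge
    · rw [Subgroup.zpowers_le]; exact z.2
    · rw [Nat.card_zpowers, Subgroup.orderOf_coe, hz, h]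

/-- (ST) -/
theorem ST_sylow_type {S : Type*} [Group S] [Finite S] (hS : IsPGroup 2 S) (hsc : SC S) :
    IsCyclic S ∨ (∃ n : ℕ, Nonempty (S ≃* QuaternionGroup (2 ^ (n + 1)))) ∨
    (∃ n : ℕ, 4 ≤ n ∧ Nonempty (S ≃* DihedralGroup n)) ∨ Cfsg.IsQuasiDihedral S ∨
    (Nat.card S = 4 ∧ ¬ IsCyclic S) := by
  have : Fact (Nat.Prime 2) := ⟨Nat.prime_two⟩
  by_cases huniq : ∀ H K : Subgroup S, Nat.card H = 2 → Nat.card K = 2 → H = K
  · -- a unique subgroup of order 2
    rcases Cfsg.Agent.S0016.result 2 hS huniq with h | ⟨-, n, ⟨e⟩⟩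
    · exact Or.inl h
    · rcases n with _ | n
      · left
        have : IsCyclic (QuaternionGroup (2 ^ 0)) := by
          rw [pow_zero]; exact QuaternionGroup.quaternionGroup_one_isCyclic
        exact isCyclic_of_surjective e.symm e.symm.surjective
      · exact Or.inr (Or.inl ⟨n, ⟨e⟩⟩)
  · -- two subgroups of order 2
    push Not at huniq
    obtain ⟨H, K, hH, hK, hHK⟩ := huniq
    obtain ⟨h, hh, rfl⟩ := ST_involution_of_card_two H hH
    obtain ⟨k, hk, rfl⟩ := ST_involution_of_card_two K hK
    have hhk : h ≠ k := fun e => hHK (by rw [e])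
    have hnt : Nontrivial S := by
      refine ⟨⟨h, 1, ?_⟩⟩
      intro e
      rw [e, orderOf_one] at hh
      omega
    obtain ⟨t, ht, htz⟩ := ST_exists_central_involution hS hnt
    -- an involution different from `t`
    obtain ⟨b, hb, hbt⟩ : ∃ b : S, orderOf b = 2 ∧ b ≠ t := by
      by_cases e : h = t
      · exact ⟨k, hk, fun e' => hhk (e.trans e'.symm)⟩
      · exact ⟨h, hh, e⟩
    have sq : ∀ x : S, orderOf x = 2 → x * x = 1 := by
      intro x hx
      rw [← pow_two, ← hx, pow_orderOf_eq_one]
    have ne1 : ∀ x : S, orderOf x = 2 → x ≠ 1 := by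
      intro x hx e
      rw [e, orderOf_one] at hx
      omega
    have hncS : ¬ IsCyclic S := ST_not_cyclic_of_three t b (sq t ht) (sq b hb) (ne1 t ht) (ne1 b hb) hbt.symm
    -- the four-group `V`
    set V : Subgroup S := Subgroup.zpowers t ⊔ Subgroup.zpowers b with hV
    have htV : t ∈ V := Subgroup.mem_sup_left (Subgroup.mem_zpowers t)
    have hbV : b ∈ V := Subgroup.mem_sup_right (Subgroup.mem_zpowers b)
    have hncV : ¬ IsCyclic ↥V := by
      apply ST_not_cyclic_of_three (⟨t, htV⟩ : ↥V) ⟨b, hbV⟩
      · exact Subtype.ext (sq t ht)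
      · exact Subtype.ext (sq b hb)
      · exact fun e => ne1 t ht (congrArg Subtype.val e)
      · exact fun e => ne1 b hb (congrArg Subtype.val e)
      · exact fun e => hbt (congrArg Subtype.val e).symm
    have hVle : V ≤ Subgroup.centralizer ({b} : Set S) := by
      apply sup_le
      · rw [Subgroup.zpowers_le, Subgroup.mem_centralizer_singleton_iff]
        exact (htz b).symm
      · rw [Subgroup.zpowers_le, Subgroup.mem_centralizer_singleton_iff]
    have hCle : Subgroup.centralizer ({b} : Set S) ≤ V := by
      intro x hx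
      apply hsc V hncV
      rw [Subgroup.mem_centralizer_singleton_iff] at hx
      -- `V ≤ centralizer {x}`
      have hle : V ≤ Subgroup.centralizer ({x} : Set S) := by
        apply sup_le
        · rw [Subgroup.zpowers_le, Subgroup.mem_centralizer_singleton_iff]
          exact (htz x).symm
        · rw [Subgroup.zpowers_le, Subgroup.mem_centralizer_singleton_iff]
          exact hx.symm
      rw [Subgroup.mem_centralizer_iff]
      intro y hy
      have := hle hy
      rw [Subgroup.mem_centralizer_singleton_iff] at this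
      exact this
    have hCV : Subgroup.centralizer ({b} : Set S) = V := le_antisymm hCle hVle
    -- `|V| = 4`
    have hcardV : Nat.card ↥V = 4 := by
      have hcomm : ∀ (x : ↥(Subgroup.zpowers t)) (y : ↥(Subgroup.zpowers b)),
          Commute ((Subgroup.zpowers t).subtype x) ((Subgroup.zpowers b).subtype y) := by
        intro x y
        obtain ⟨i, hi⟩ := Subgroup.mem_zpowers_iff.mp x.2
        show (x : S) * (y : S) = (y : S) * (x : S)
        rw [← hi]
        have : Commute t (y : S) := (htz (y : S)).symm
        exact (this.zpow_left i).eq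
      have hr : ((Subgroup.zpowers t).subtype.noncommCoprod (Subgroup.zpowers b).subtype hcomm).range = V := by
        rw [MonoidHom.noncommCoprod_range, Subgroup.range_subtype, Subgroup.range_subtype]
      have hdvd := Subgroup.card_range_dvd
        ((Subgroup.zpowers t).subtype.noncommCoprod (Subgroup.zpowers b).subtype hcomm)
      rw [hr, Nat.card_prod, Nat.card_zpowers, Nat.card_zpowers, ht, hb] at hdvd
      have hle : Nat.card ↥V ≤ 4 := Nat.le_of_dvd (by norm_num) hdvd
      have hpos : 0 < Nat.card ↥V := Nat.card_pos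
      have h1 : Nat.card ↥V ≠ 1 := by
        intro e
        have : Subsingleton ↥V := (Nat.card_eq_one_iff_unique.mp e).1
        exact hncV inferInstance
      have h2 : Nat.card ↥V ≠ 2 := by
        intro e
        exact hncV (isCyclic_of_prime_card e)
      have h3 : Nat.card ↥V ≠ 3 := by
        intro e
        rw [e] at hdvd
        omega
      omega
    have hC4 : Nat.card ↥(Subgroup.centralizer ({b} : Set S)) = 4 := by rw [hCV]; exact hcardV
    rcases Cfsg.Agent.S3224.result hS b hb hC4 with ⟨n, ⟨e⟩⟩ | hq | h4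
    · -- dihedral
      have hcard : Nat.card S = 2 * n := by
        rw [Nat.card_congr e.toEquiv, DihedralGroup.nat_card]
      have hpos : 0 < Nat.card S := Nat.card_pos
      obtain ⟨k, hk⟩ := IsPGroup.iff_card.mp hS
      rcases k with _ | _ | _ | j
      · rw [pow_zero] at hk
        omega
      · exfalso
        apply hncS
        rw [zero_add, pow_one] at hk
        exact isCyclic_of_prime_card hk
      · refine Or.inr (Or.inr (Or.inr (Or.inr ⟨?_, hncS⟩)))
        rw [hk]
        norm_num
      · refine Or.inr (Or.inr (Or.inl ⟨n, ?_, ⟨e⟩⟩))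
        have h8 : 2 ^ (j + 1 + 1 + 1) = 8 * 2 ^ j := by ring
        have hj : 1 ≤ 2 ^ j := Nat.one_le_two_pow
        omega
    · exact Or.inr (Or.inr (Or.inr (Or.inl hq)))
    · exact Or.inr (Or.inr (Or.inr (Or.inr ⟨h4, hncS⟩)))

end Cfsg.Agent.Helper65.SCG
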