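import Cfsg.Agent.Helper6.SUaut1

/-!
# (C3) of #8751 for helper6's S3162, core form: the general (non-normalised) semilinearity lemma
from (C1) and (C2) as hypotheses
-/

set_option autoImplicit false
set_option linter.unusedSectionVars false

namespace Cfsg.Agent.Helper65.SUaut

open Cfsg.Agent.Helper19.SU3 Cfsg.Agent.Helper6.SUaut

variable {F : Type*} [Field F] [Fintype F] {bar : F →+* F} [BarField F bar]

/-- (C3), from the statements of (C1) and (C2) -/
theorem C3_of
    (hC1 : ∀ (A : F →+ F), Function.Injective A → A 1 = 1 → ∀ B : F → F,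
      (∀ c c' : F, bar c = c → bar c' = c' → B (c + c') = B c + B c') →
      (∀ a : F, nm bar (A a) = B (nm bar a)) →
      (∀ μ : F, bar μ = μ → bar (A μ) = A μ) ∧
      (∀ μ x : F, bar μ = μ → A (μ * x) = A μ * A x) ∧
      (∀ x : F, A (bar x) = bar (A x)) ∧
      (∀ a : F, nm bar (A a) = A (nm bar a)))
    (hC2 : ∀ (A : F →+ F), (∀ μ x : F, bar μ = μ → A (μ * x) = A μ * A x) →
      (∀ x : F, A (bar x) = bar (A x)) → (∀ a : F, nm bar (A a) = A (nm bar a)) →
      ∀ x y : F, A (x * y) = A x * A y)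
    (A : F →+ F) (hA : Function.Injective A) (B : F → F)
    (hBadd : ∀ c c' : F, bar c = c → bar c' = c' → B (c + c') = B c + B c')
    (hAB : ∀ a : F, nm bar (A a) = B (nm bar a)) :
    ∃ (l : F) (σ : F ≃+* F), l ≠ 0 ∧ ∀ a : F, A a = l * σ a := by
  classical
  have hl : A 1 ≠ 0 := by
    intro h
    have : A 1 = A 0 := by rw [h, map_zero]
    exact one_ne_zero (hA this)
  obtain ⟨l, hldef⟩ : ∃ l : F, l = A 1 := ⟨_, rfl⟩
  rw [← hldef] at hl
  -- the normalised maps
  let A' : F →+ F := (AddMonoidHom.mulLeft l⁻¹).comp A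
  have hA'app : ∀ a, A' a = l⁻¹ * A a := fun a => rfl
  have hA'inj : Function.Injective A' := by
    intro a b hab
    rw [hA'app, hA'app] at hab
    exact hA (mul_left_cancel₀ (inv_ne_zero hl) hab)
  have hA'1 : A' 1 = 1 := by
    rw [hA'app, ← hldef, inv_mul_cancel₀ hl]
  let B' : F → F := fun c => (nm bar l)⁻¹ * B c
  have hB'add : ∀ c c' : F, bar c = c → bar c' = c' → B' (c + c') = B' c + B' c' := by
    intro c c' hc hc'
    show (nm bar l)⁻¹ * B (c + c') = (nm bar l)⁻¹ * B c + (nm bar l)⁻¹ * B c'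
    rw [hBadd c c' hc hc', mul_add]
  have hA'B' : ∀ a : F, nm bar (A' a) = B' (nm bar a) := by
    intro a
    show l⁻¹ * A a * bar (l⁻¹ * A a) = (l * bar l)⁻¹ * B (nm bar a)
    rw [← hAB a, map_mul, map_inv₀, mul_inv]
    show l⁻¹ * A a * ((bar l)⁻¹ * bar (A a)) = l⁻¹ * (bar l)⁻¹ * (A a * bar (A a))
    ring
  obtain ⟨-, hsemi, hbarA, hnm⟩ := hC1 A' hA'inj hA'1 B' hB'add hA'B'
  have hmul := hC2 A' hsemi hbarA hnm
  -- the ring homomorphism
  let f : F →+* F :=
    { toFun := A'
      map_one' := hA'1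
      map_mul' := hmul
      map_zero' := map_zero A'
      map_add' := map_add A' }
  have hfbij : Function.Bijective f :=
    (Finite.injective_iff_bijective (f := (f : F → F))).1 hA'inj
  refine ⟨l, RingEquiv.ofBijective f hfbij, hl, ?_⟩
  intro a
  show A a = l * A' a
  rw [hA'app, ← mul_assoc, mul_inv_cancel₀ hl, one_mul]

end Cfsg.Agent.Helper65.SUaut
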