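import Cfsg.Agent.Helper6.SUrep3

/-!
# (A0d) for helper6 (S2334/S2335): the commutator in the Heisenberg group
-/

set_option autoImplicit false

namespace Cfsg.Agent.Helper65.SUrep

open Matrix Cfsg.Agent.Helper13 Module Cfsg.Agent.Helper6.SUrep

variable {F : Type*} [Field F] [Fintype F] {q n : ℕ}

local notation "⟪" x ", " y "⟫" => Cfsg.hermForm n F q x y

/-- the matrix identity behind (A0d) -/
theorem eichler_mul_comm_tv (hF : Fintype.card F = q ^ 2) {u y₀ y₁ : Fin n → F} (c₀ c₁ s : F)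
    (huu : ⟪u, u⟫ = 0) (hy₀u : ⟪y₀, u⟫ = 0) (hy₁u : ⟪y₁, u⟫ = 0)
    (hs : ⟪y₁, y₀⟫ - ⟪y₀, y₁⟫ = s) :
    eichler q u y₁ c₁ * eichler q u y₀ c₀ =
      eichler q u y₀ c₀ * Cfsg.unitaryTransvection n q u s * eichler q u y₁ c₁ := by
  have h0u : ⟪(0 : Fin n → F), u⟫ = 0 := hermForm_zero_left u
  have h0y : ⟪(0 : Fin n → F), y₀⟫ = 0 := hermForm_zero_left y₀
  have hy₀0u : ⟪y₀ + 0, u⟫ = 0 := by rw [add_zero]; exact hy₀u
  rw [← eichler_zero_eq_tv hF, eichler_mul hF c₁ c₀ huu hy₁u hy₀u,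
    eichler_mul hF c₀ s huu hy₀u h0u, eichler_mul hF _ c₁ huu hy₀0u hy₁u, h0y, add_zero]
  congr 1
  · rw [add_comm]
  · rw [← hs]
    ring

/-- (A0d) the commutator in the Heisenberg group -/
theorem exists_eiW_conj (hF : Fintype.card F = q ^ 2) {W : Submodule F (Fin n → F)}
    (hW : NonDeg q W) (u u' : Fin n → F) (huW : u ∈ W) (hu'W : u' ∈ W) (huu : ⟪u, u⟫ = 0)
    (hu'u' : ⟪u', u'⟫ = 0) (huu' : ⟪u, u'⟫ = 1) (y₀ : Fin n → F)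
    (hy₀ : y₀ ∈ hypCompl q W u u') (hy₀0 : y₀ ≠ 0) (c₀ : F) (hc₀ : c₀ + c₀ ^ q + ⟪y₀, y₀⟫ = 0)
    (s : skewS hF) :
    ∃ (y₁ : Fin n → F) (hy₁ : y₁ ∈ hypCompl q W u u') (c₁ : F)
      (hc₁ : c₁ + c₁ ^ q + ⟪y₁, y₁⟫ = 0),
      eiW hF W u y₁ c₁ huW (hypCompl_le W u u' hy₁) huu hy₁.2.1 hc₁ *
          eiW hF W u y₀ c₀ huW (hypCompl_le W u u' hy₀) huu hy₀.2.1 hc₀ *
          (eiW hF W u y₁ c₁ huW (hypCompl_le W u u' hy₁) huu hy₁.2.1 hc₁)⁻¹ =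
        eiW hF W u y₀ c₀ huW (hypCompl_le W u u' hy₀) huu hy₀.2.1 hc₀ * tvW hF W u huW huu s := by
  have hND := nonDeg_hypCompl hF W hW huW hu'W huu hu'u' huu'
  -- a vector of the complement not orthogonal to `y₀`
  obtain ⟨y', hy', hy₀y'⟩ : ∃ y' ∈ hypCompl q W u u', ⟪y₀, y'⟫ ≠ 0 := by
    by_contra hcon
    apply hy₀0
    apply hND y₀ hy₀
    intro y hy
    by_contra hne
    exact hcon ⟨y, hy, hne⟩
  have hy'y₀ : ⟪y', y₀⟫ ≠ 0 := by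
    rw [← hermForm_conj hF y₀ y']
    exact pow_ne_zero q hy₀y'
  -- the parameter
  have hs : (s : F) + (s : F) ^ q = 0 := s.2
  obtain ⟨μ, hμ⟩ := exists_frob_sub_eq hF hs
  set a : F := -μ * (⟪y', y₀⟫)⁻¹ with ha
  have hy₁ : a • y' ∈ hypCompl q W u u' := (hypCompl q W u u').smul_mem a hy'
  have h1 : ⟪a • y', y₀⟫ = -μ := by
    rw [hermForm_smul_left, ha, inv_mul_cancel_right₀ hy'y₀]
  have h2 : ⟪y₀, a • y'⟫ = -(μ ^ q) := by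
    rw [← hermForm_conj hF (a • y') y₀, h1, frob_neg' hF]
  obtain ⟨c₁, hc₁'⟩ := exists_trace_eq_of_fixed hF (a := -⟪a • y', a • y'⟫)
    (by rw [frob_neg' hF, hermForm_self_fixed hF])
  have hc₁ : c₁ + c₁ ^ q + ⟪a • y', a • y'⟫ = 0 := by rw [hc₁']; ring
  refine ⟨a • y', hy₁, c₁, hc₁, ?_⟩
  rw [mul_inv_eq_iff_eq_mul]
  apply suW_ext
  show eichler q u (a • y') c₁ * eichler q u y₀ c₀ =
    eichler q u y₀ c₀ * Cfsg.unitaryTransvection n q u (s : F) * eichler q u (a • y') c₁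
  apply eichler_mul_comm_tv hF c₀ c₁ (s : F) huu hy₀.2.1 hy₁.2.1
  rw [h1, h2, ← hμ]
  ring

end Cfsg.Agent.Helper65.SUrep
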