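import Cfsg.Agent.Helper48.SUA0
import Cfsg.Agent.Helper65.SUA0d
import Cfsg.Agent.Helper65.SUG3
import Cfsg.Agent.Helper72.ReeA

/-!
# (A1c) for helper6 (S2334/S2335): the Heisenberg bound
-/

set_option autoImplicit false

namespace Cfsg.Agent.Helper65.SUrep

open Matrix Cfsg.Agent.Helper13 Module Cfsg.Agent.Helper6.SUrep Cfsg.Agent.Helper6.ReeH

section generic

variable {S : Type*} [AddCommGroup S] [Fintype S] {M : Type*} [AddCommGroup M] [Module ℂ M]

theorem commute_fpr_aux (s : S → Module.End ℂ M) (g : Module.End ℂ M)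
    (hg : ∀ x, g * s x = s x * g) (ψ : AddChar S ℂ) : g * fpr s ψ = fpr s ψ * g := by
  unfold fpr fproj
  rw [mul_smul_comm, smul_mul_assoc, Finset.mul_sum, Finset.sum_mul]
  congr 1
  apply Finset.sum_congr rfl
  intro x _
  rw [mul_smul_comm, smul_mul_assoc, hg]

theorem mul_fpr_aux (s : S → Module.End ℂ M) (hs : ∀ x y, s (x + y) = s x * s y) (x : S)
    (ψ : AddChar S ℂ) : s x * fpr s ψ = ψ x • fpr s ψ := by
  classical
  exact Cfsg.Agent.Helper72.ReeA.mul_fproj (fun ψ : AddChar S ℂ => ψ) s hs x ψ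

end generic

variable {F : Type*} [Field F] [Fintype F] {q n : ℕ}

local notation "⟪" x ", " y "⟫" => Cfsg.hermForm n F q x y

section A1

variable {M : Type*} [AddCommGroup M] [Module ℂ M]

/-- (A1c) the Heisenberg bound -/
theorem le_finrank_range_fpr [FiniteDimensional ℂ M] (hF : Fintype.card F = q ^ 2)
    {W : Submodule F (Fin n → F)}
    (hW : NonDeg q W) (hk : 3 ≤ finrank F W) (ρ : Representation ℂ ↥(suW q W) M)
    (u : Fin n → F) (huW : u ∈ W) (hu0 : u ≠ 0) (huu : ⟪u, u⟫ = 0)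
    (ψ : AddChar (skewS hF) ℂ) (hψ : ψ ≠ 0)
    (hne : LinearMap.range (fpr (fun c : skewS hF => ρ (tvW hF W u huW huu c)) ψ) ≠ ⊥) :
    q ^ (finrank F W - 2) ≤
      finrank ℂ (LinearMap.range (fpr (fun c : skewS hF => ρ (tvW hF W u huW huu c)) ψ)) := by
  classical
  obtain ⟨u', hu'W, hu'u', huu'⟩ := exists_hyperbolic_partner_in hF W hW huW hu0 huu
  obtain ⟨s₀, hs₀⟩ := AddChar.ne_zero_iff.1 hψ
  have hs : ∀ x y : skewS hF, (fun c : skewS hF => ρ (tvW hF W u huW huu c)) (x + y) =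
      (fun c : skewS hF => ρ (tvW hF W u huW huu c)) x *
        (fun c : skewS hF => ρ (tvW hF W u huW huu c)) y := by
    intro x y
    show ρ (tvW hF W u huW huu (x + y)) = ρ (tvW hF W u huW huu x) * ρ (tvW hF W u huW huu y)
    rw [tvW_add, map_mul]
  generalize hP : fpr (fun c : skewS hF => ρ (tvW hF W u huW huu c)) ψ = P at hne ⊢
  have hNT : Nontrivial (LinearMap.range P) := Submodule.nontrivial_iff_ne_bot.2 hne
  -- the centralizer of the root group
  let Q : Subgroup (suW q W) := Subgroup.centralizer (Set.range (tvW hF W u huW huu))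
  have hQ : ∀ g : Q, ∀ c, (g : suW q W) * tvW hF W u huW huu c = tvW hF W u huW huu c * g := by
    intro g c
    exact (Subgroup.mem_centralizer_iff.1 g.2 _ ⟨c, rfl⟩).symm
  have hcomm : ∀ g : Q, ρ (g : suW q W) * P = P * ρ (g : suW q W) := by
    intro g
    rw [← hP]
    apply commute_fpr_aux
    intro c
    show ρ (g : suW q W) * ρ (tvW hF W u huW huu c) = ρ (tvW hF W u huW huu c) * ρ (g : suW q W)
    rw [← map_mul, ← map_mul, hQ g c]
  have hinv : ∀ g : Q, ∀ m ∈ LinearMap.range P, ρ (g : suW q W) m ∈ LinearMap.range P := by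
    intro g m hm
    obtain ⟨m', rfl⟩ := hm
    refine ⟨ρ (g : suW q W) m', ?_⟩
    have := congrArg (fun f : Module.End ℂ M => f m') (hcomm g)
    exact this.symm
  let ρN : Q →* Module.End ℂ (LinearMap.range P) :=
    { toFun := fun g => (ρ (g : suW q W)).restrict (hinv g)
      map_one' := by
        apply LinearMap.ext
        intro m
        apply Subtype.ext
        show ρ ((1 : Q) : suW q W) (m : M) = m
        rw [Subgroup.coe_one, map_one]
        rfl
      map_mul' := by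
        intro g h
        apply LinearMap.ext
        intro m
        apply Subtype.ext
        show ρ ((g * h : Q) : suW q W) (m : M) = ρ (g : suW q W) (ρ (h : suW q W) (m : M))
        rw [Subgroup.coe_mul, map_mul]
        rfl }
  have hscal : ∀ (c : skewS hF) (m : M), m ∈ LinearMap.range P →
      ρ (tvW hF W u huW huu c) m = ψ c • m := by
    intro c m hm
    obtain ⟨m', rfl⟩ := hm
    have := congrArg (fun f : Module.End ℂ M => f m')
      (mul_fpr_aux (fun c : skewS hF => ρ (tvW hF W u huW huu c)) hs c ψ)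
    rw [hP] at this
    exact this
  have htvQ : ∀ c, tvW hF W u huW huu c ∈ Q := by
    intro c
    rw [Subgroup.mem_centralizer_iff]
    rintro _ ⟨c', rfl⟩
    exact tvW_comm hF W u huW huu c' c
  have heiQ : ∀ (y : Fin n → F) (c : F) (hyW : y ∈ W) (hyu : ⟪y, u⟫ = 0)
      (hc : c + c ^ q + ⟪y, y⟫ = 0), eiW hF W u y c huW hyW huu hyu hc ∈ Q := by
    intro y c hyW hyu hc
    rw [Subgroup.mem_centralizer_iff]
    rintro _ ⟨c', rfl⟩
    exact (Cfsg.Agent.Helper48.SUrep.eiW_comm_tvW hF W u y c huW hyW huu hyu hc c').symm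
  have hρNtv : ∀ c, ρN ⟨tvW hF W u huW huu c, htvQ c⟩ =
      ψ c • (1 : Module.End ℂ (LinearMap.range P)) := by
    intro c
    apply LinearMap.ext
    intro m
    apply Subtype.ext
    show ρ (tvW hF W u huW huu c) (m : M) = ψ c • (m : M)
    exact hscal c m m.2
  -- the parameters of the Eichler elements
  have hcy : ∀ y : Fin n → F, ∃ c : F, c + c ^ q + ⟪y, y⟫ = 0 := by
    intro y
    obtain ⟨c, hc⟩ := exists_trace_eq_of_fixed hF (a := -⟪y, y⟫)
      (by rw [frob_neg' hF, hermForm_self_fixed hF])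
    exact ⟨c, by rw [hc]; ring⟩
  choose cc hcc using hcy
  have hFY : Fintype ↥(hypCompl q W u u') := Fintype.ofFinite _
  let x : ↥(hypCompl q W u u') → Q := fun y =>
    ⟨eiW hF W u y.1 (cc y.1) huW (hypCompl_le W u u' y.2) huu y.2.2.1 (hcc y.1),
      heiQ _ _ _ _ _⟩
  have hG3 : ∀ y y' : ↥(hypCompl q W u u'), y ≠ y' → ∃ (w : Q) (z : ℂ), z ≠ 1 ∧
      ρN (w * (x y * (x y')⁻¹) * w⁻¹) = z • ρN (x y * (x y')⁻¹) := by
    intro y y' hne'
    have hy₀ : (y : Fin n → F) - y' ∈ hypCompl q W u u' :=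
      (hypCompl q W u u').sub_mem y.2 y'.2
    have hy₀0 : (y : Fin n → F) - y' ≠ 0 := by
      intro h
      apply hne'
      apply Subtype.ext
      exact sub_eq_zero.1 h
    have hc₀ : (cc y - cc y' + ⟪(y' : Fin n → F), (y : Fin n → F) - y'⟫) +
        (cc y - cc y' + ⟪(y' : Fin n → F), (y : Fin n → F) - y'⟫) ^ q +
        ⟪(y : Fin n → F) - y', (y : Fin n → F) - y'⟫ = 0 := by
      have e1 : ⟪(y' : Fin n → F), (y : Fin n → F) - y'⟫ ^ q =
          ⟪(y : Fin n → F) - y', (y' : Fin n → F)⟫ := hermForm_conj hF _ _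
      rw [frob_add hF, frob_sub' hF, e1]
      simp only [hermForm_sub_left, hermForm_sub_right hF]
      linear_combination hcc y - hcc y'
    have hg : ((x y * (x y')⁻¹ : Q) : suW q W) =
        eiW hF W u ((y : Fin n → F) - y')
          (cc y - cc y' + ⟪(y' : Fin n → F), (y : Fin n → F) - y'⟫) huW
          (hypCompl_le W u u' hy₀) huu hy₀.2.1 hc₀ := by
      rw [Subgroup.coe_mul, Subgroup.coe_inv, mul_inv_eq_iff_eq_mul]
      apply suW_ext
      show eichler q u (y : Fin n → F) (cc y) =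
        eichler q u ((y : Fin n → F) - y')
          (cc y - cc y' + ⟪(y' : Fin n → F), (y : Fin n → F) - y'⟫) *
          eichler q u (y' : Fin n → F) (cc y')
      rw [eichler_mul hF _ (cc y') huu hy₀.2.1 y'.2.2.1]
      congr 1
      · abel
      · ring
    obtain ⟨y₁, hy₁, c₁, hc₁, hconj⟩ := exists_eiW_conj hF hW u u' huW hu'W huu hu'u' huu'
      ((y : Fin n → F) - y') hy₀ hy₀0 _ hc₀ s₀
    refine ⟨⟨eiW hF W u y₁ c₁ huW (hypCompl_le W u u' hy₁) huu hy₁.2.1 hc₁, heiQ _ _ _ _ _⟩,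
      ψ s₀, hs₀, ?_⟩
    have hconjQ : (⟨eiW hF W u y₁ c₁ huW (hypCompl_le W u u' hy₁) huu hy₁.2.1 hc₁,
          heiQ _ _ _ _ _⟩ : Q) * (x y * (x y')⁻¹) *
        (⟨eiW hF W u y₁ c₁ huW (hypCompl_le W u u' hy₁) huu hy₁.2.1 hc₁,
          heiQ _ _ _ _ _⟩ : Q)⁻¹ =
        (x y * (x y')⁻¹) * ⟨tvW hF W u huW huu s₀, htvQ s₀⟩ := by
      apply Subtype.ext
      rw [Subgroup.coe_mul, Subgroup.coe_mul, Subgroup.coe_inv, Subgroup.coe_mul _ (x y * (x y')⁻¹),
        hg]
      exact hconj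
    rw [hconjQ, map_mul, hρNtv, mul_smul_comm, mul_one]
  have hcard := card_le_sq_finrank_of_conj ρN x hG3
  have h1 : Fintype.card ↥(hypCompl q W u u') = (q ^ 2) ^ (finrank F ↥(hypCompl q W u u')) := by
    rw [Module.card_eq_pow_finrank (K := F) (V := ↥(hypCompl q W u u')), hF]
  have h2 := Cfsg.Agent.Helper48.SUrep.finrank_hypCompl hF W u u' huW hu'W huu hu'u' huu'
  have h3 : finrank F ↥(hypCompl q W u u') = finrank F W - 2 := by omega
  rw [h1, h3, ← pow_mul, mul_comm, pow_mul] at hcard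
  exact (Nat.pow_le_pow_iff_left (by norm_num)).1 hcard

end A1

end Cfsg.Agent.Helper65.SUrep
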