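import Cfsg.Agent.Helper6.NTor14
import Cfsg.Agent.Helper6.Sub5
import Cfsg.Agent.Helper6.Tor3

/-!
# S4775 (helper6), piece [CA]: the Borel subgroup of the concrete Suzuki group.
-/

set_option autoImplicit false

namespace Cfsg.Agent.Helper65.Szc

open Cfsg Cfsg.Agent.Helper6

universe u

section Concrete

variable {F : Type u} [Field F] [Fintype F] {m : ℕ}

theorem CA_q (m : ℕ) : 2 * (2 ^ m) ^ 2 = 2 ^ (2 * m + 1) := by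
  rw [← pow_mul, pow_succ, mul_comm m 2, mul_comm]

theorem CA_inf (hm : 1 ≤ m) (hF : Fintype.card F = 2 ^ (2 * m + 1)) :
    szQ hm hF ⊓ szK hF = ⊥ := by
  rw [eq_bot_iff]
  intro g hg
  obtain ⟨a, b, hab⟩ := (mem_szQ_iff hm hF g).1 hg.1
  obtain ⟨t, ht⟩ := (mem_szK_iff hF g).1 hg.2
  have e : sU hF a b * sD hF 1 = sU hF 0 0 * sD hF t := by
    rw [sD_one, mul_one, sU_zero hm hF, one_mul, ← hab, ← ht]
  obtain ⟨ha, hb, -⟩ := sB_unique hF e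
  rw [Subgroup.mem_bot, hab, ha, hb, sU_zero hm hF]

/-- CA: the Borel subgroup -/
theorem szc_conc_borel (hm : 1 ≤ m) (hF : Fintype.card F = 2 ^ (2 * m + 1)) :
    Nat.card (Cfsg.Sz F m) = (2 * (2 ^ m) ^ 2) ^ 2 * ((2 * (2 ^ m) ^ 2) ^ 2 + 1) *
      (2 * (2 ^ m) ^ 2 - 1) ∧
    szQ hm hF ≤ szB F m ∧ szK hF ≤ szB F m ∧
    (∀ b ∈ szB F m, ∀ x ∈ szQ hm hF, b * x * b⁻¹ ∈ szQ hm hF) ∧
    szQ hm hF ⊓ szK hF = ⊥ ∧
    (∀ b ∈ szB F m, ∃ x ∈ szQ hm hF, ∃ h ∈ szK hF, b = x * h) ∧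
    (∀ h ∈ szK hF, h ≠ 1 → ∀ x ∈ szQ hm hF, h * x = x * h → x = 1) ∧
    Nat.card (szQ hm hF) = (2 * (2 ^ m) ^ 2) ^ 2 ∧
    Nat.card (szK hF) = 2 * (2 ^ m) ^ 2 - 1 ∧
    (∀ a ∈ szK hF, ∀ b ∈ szK hF, a * b = b * a) := by
  rw [CA_q m, ← hF]
  refine ⟨card_Sz hm hF, szQ_le_szB hm hF, ?_, ?_, CA_inf hm hF, ?_, ?_, card_szQ hm hF,
    card_szK hF, ?_⟩
  · intro g hg
    obtain ⟨t, rfl⟩ := (mem_szK_iff hF g).1 hg
    exact sD_mem_szB hm hF t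
  · intro b hb x hx
    exact conj_mem_szQ_of_mem_szB hm hF hb hx
  · intro b hb
    obtain ⟨a, c, t, rfl⟩ := (mem_szB_iff_exists hm hF b).1 hb
    exact ⟨sU hF a c, (mem_szQ_iff hm hF _).2 ⟨a, c, rfl⟩, sD hF t, (mem_szK_iff hF _).2 ⟨t, rfl⟩,
      rfl⟩
  · intro h hh h1 x hx hc
    obtain ⟨t, rfl⟩ := (mem_szK_iff hF h).1 hh
    have ht : t ≠ 1 := by
      rintro rfl
      exact h1 (sD_one hF)
    have hxK : x ∈ szK hF := centralizer_sD_le hm hF ht x hc.symm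
    have : x ∈ szQ hm hF ⊓ szK hF := ⟨hx, hxK⟩
    rw [CA_inf hm hF, Subgroup.mem_bot] at this
    exact this
  · intro a ha b hb
    obtain ⟨t, rfl⟩ := (mem_szK_iff hF a).1 ha
    obtain ⟨s, rfl⟩ := (mem_szK_iff hF b).1 hb
    rw [← sD_mul, ← sD_mul, mul_comm]

end Concrete

end Cfsg.Agent.Helper65.Szc
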