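import Cfsg.Agent.Helper6.NTor14
import Cfsg.Agent.Helper6.Sz48

/-!
# S4775 (helper6), piece [CD]: the Weyl element of the concrete Suzuki group.
-/

set_option autoImplicit false

namespace Cfsg.Agent.Helper65.Szc

open Cfsg Cfsg.Agent.Helper6

universe u

section Concrete

variable {F : Type u} [Field F] [Fintype F] {m : ℕ}

/-- CD: the Weyl element -/
theorem szc_conc_weyl (hm : 1 ≤ m) (hF : Fintype.card F = 2 ^ (2 * m + 1)) :
    sW hF ∉ szB F m ∧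
    (∀ g : Cfsg.Sz F m, g ∉ szB F m → ∃ b ∈ szB F m, ∃ b' ∈ szB F m, g = b * sW hF * b') ∧
    (∀ h ∈ szK hF, (sW hF)⁻¹ * h * sW hF = h⁻¹) ∧
    (∀ b ∈ szB F m, (sW hF)⁻¹ * b * sW hF ∈ szB F m → b ∈ szK hF) := by
  refine ⟨?_, ?_, ?_, ?_⟩
  · intro h
    rw [mem_szB_iff', sW_smul_none] at h
    exact ovPt_none_ne_zero h.symm
  · intro g hg
    rcases bruhat_decomp' hm hF g with h | ⟨x, y, a, b, t, h⟩
    · exact absurd h hg
    · exact ⟨sU hF x y, sU_mem_szB hm hF x y, sU hF a b * sD hF t,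
        (mem_szB_iff_exists hm hF _).2 ⟨a, b, t, rfl⟩, h⟩
  · intro h hh
    obtain ⟨t, rfl⟩ := (mem_szK_iff hF h).1 hh
    rw [sW_inv, sW_mul_sD, mul_assoc, sW_mul_self, mul_one, sD_inv]
  · intro b hb hc
    exact (szB_inf_conj_sW hm hF b).1 ⟨hb, (mem_conjSub_iff _ _ _).2 hc⟩

end Concrete

end Cfsg.Agent.Helper65.Szc
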