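import Cfsg.Agent.Helper6.SzChar0

/-!
# S4775 (helper6), pieces [MA] and [MB]: the Borel subgroup of `Sz(q)` is a Frobenius group of
"Suzuki Borel" type, and its order.
-/

set_option autoImplicit false

namespace Cfsg.Agent.Helper65.Szc

open Cfsg Cfsg.Agent.Helper6

universe u

/-- conjugacy classes transported along an isomorphism -/
def conjClassesEquiv {A A' : Type*} [Group A] [Group A'] (e : A ≃* A') :
    ConjClasses A ≃ ConjClasses A' where
  toFun := ConjClasses.map e.toMonoidHom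
  invFun := ConjClasses.map e.symm.toMonoidHom
  left_inv := by
    intro c
    obtain ⟨a, rfl⟩ := ConjClasses.exists_rep c
    show ConjClasses.mk (e.symm (e a)) = ConjClasses.mk a
    rw [MulEquiv.symm_apply_apply]
  right_inv := by
    intro c
    obtain ⟨a, rfl⟩ := ConjClasses.exists_rep c
    show ConjClasses.mk (e (e.symm a)) = ConjClasses.mk a
    rw [MulEquiv.apply_symm_apply]

section Main

variable {G : Type u} [Group G] [Fintype G] {Q H B K₁ K₂ : Subgroup G} {w : G} {T : ℕ}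
  [Fintype ↥B]

/-- MA -/
theorem szc_frobHyp (D : SzHyp Q H B K₁ K₂ w T) :
    FrobHyp (Q.subgroupOf B) (H.subgroupOf B) T := by
  refine ⟨D.pow, ?_, ?_, ?_, ?_, ?_, ?_, ?_, ?_, ?_⟩
  · -- normal
    refine ⟨fun n hn g => ?_⟩
    rw [Subgroup.mem_subgroupOf] at hn ⊢
    exact D.Qnormal g g.2 n hn
  · -- inf
    rw [eq_bot_iff]
    intro x hx
    rw [Subgroup.mem_inf, Subgroup.mem_subgroupOf, Subgroup.mem_subgroupOf] at hx
    have : (x : G) ∈ Q ⊓ H := ⟨hx.1, hx.2⟩
    rw [D.inf, Subgroup.mem_bot] at this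
    exact Subgroup.mem_bot.mpr (Subtype.ext this)
  · -- sup
    rw [eq_top_iff]
    intro b _
    obtain ⟨x, hx, h, hh, hb⟩ := D.sup b b.2
    have e : b = (⟨x, D.QB hx⟩ : ↥B) * ⟨h, D.HB hh⟩ := Subtype.ext hb
    rw [e]
    exact Subgroup.mul_mem_sup (by rw [Subgroup.mem_subgroupOf]; exact hx)
      (by rw [Subgroup.mem_subgroupOf]; exact hh)
  · -- fpf
    intro h hh h1 k hk hc
    rw [Subgroup.mem_subgroupOf] at hh hk
    have := D.fpf h hh (fun e => h1 (Subtype.ext e)) k hk (congrArg Subtype.val hc)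
    exact Subtype.ext this
  · -- cardK
    rw [Nat.card_congr (Subgroup.subgroupOfEquivOfLe D.QB).toEquiv]
    exact D.cardQ
  · -- cardH
    rw [Nat.card_congr (Subgroup.subgroupOfEquivOfLe D.HB).toEquiv]
    exact D.cardH
  · -- comm
    intro a ha b hb
    rw [Subgroup.mem_subgroupOf] at ha hb
    exact Subtype.ext (D.comm a ha b hb)
  · -- classes
    rw [Nat.card_congr (conjClassesEquiv (Subgroup.subgroupOfEquivOfLe D.QB))]
    exact D.classesQ
  · -- nonreal
    obtain ⟨ρ, hρ, hne⟩ := D.nonreal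
    refine ⟨⟨ρ, D.QB hρ⟩, by rw [Subgroup.mem_subgroupOf]; exact hρ, ?_⟩
    intro x hc
    exact hne x x.2 (congrArg Subtype.val hc)

/-- MB -/
theorem szc_card_B (D : SzHyp Q H B K₁ K₂ w T) :
    Nat.card ↥B = (2 * T ^ 2) ^ 2 * (2 * T ^ 2 - 1) := by
  have F := szc_frobHyp D
  have := F.normal
  have hcompl : Subgroup.IsComplement' (Q.subgroupOf B) (H.subgroupOf B) := by
    apply Subgroup.isComplement'_of_disjoint_and_mul_eq_univ
    · rw [disjoint_iff]; exact F.inf
    · rw [← Subgroup.normal_mul, F.sup, Subgroup.coe_top]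
  rw [← hcompl.card_mul_card, F.cardK, F.cardH]

end Main

end Cfsg.Agent.Helper65.Szc
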