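import Mathlib

set_option autoImplicit false
set_option linter.unusedSectionVars false
set_option linter.unusedVariables false

/-!
helper65, piece (SGF) of helper60's split #13993 of (SGM) (helper99's (C7) sub-farm #13864 for S2517): the field data for the
minus-type spaces in any characteristic: `K = F_{q^{2k}}`, `σ = Frob^k`, `θ` of order `q^k + 1` and of norm `1` over `F`.
(Copy of helper94's `Sg.exists_field_data` with `p := ringChar F`, without the element `c`, plus the norm clause.)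
-/

namespace Cfsg.Agent.Helper65.O9

universe u
variable {F : Type u} [Field F] [Fintype F]

theorem SGM_field (k : ℕ) (hk : 1 ≤ k) :
    ∃ (K : Type) (_ : Field K) (_ : Algebra F K) (_ : Finite K) (σ : K ≃ₐ[F] K) (θ : Kˣ),
      Module.finrank F K = 2 * k ∧ (∀ x, σ (σ x) = x) ∧ (θ : K) * σ (θ : K) = 1 ∧
        orderOf θ = Fintype.card F ^ k + 1 ∧ Algebra.norm F (θ : K) = 1 := by
  classical
  have : NeZero (2 * k) := ⟨by omega⟩
  obtain ⟨p, hpdef⟩ : ∃ p, p = ringChar F := ⟨_, rfl⟩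
  have hcp : CharP F p := by rw [hpdef]; exact ringChar.charP F
  have : Fact (Nat.Prime p) := ⟨CharP.char_is_prime F p⟩
  obtain ⟨q, hq⟩ : ∃ q, q = Fintype.card F := ⟨_, rfl⟩
  have hqN : Nat.card F = q := by rw [hq]; exact Nat.card_eq_fintype_card
  have hq2 : 2 ≤ q := by rw [hq]; exact Fintype.one_lt_card
  obtain ⟨Q, hQ⟩ : ∃ Q, Q = q ^ k := ⟨_, rfl⟩
  have hQ2 : 2 ≤ Q := by
    rw [hQ]
    calc 2 ≤ q := hq2
      _ = q ^ 1 := (pow_one q).symm
      _ ≤ q ^ k := Nat.pow_le_pow_right (by omega) hk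
  let K := FiniteField.Extension F p (2 * k)
  let σ : K ≃ₐ[F] K := (FiniteField.Extension.frob F p (2 * k)) ^ k
  have hσ : ∀ x : K, σ x = x ^ Q := by
    intro x
    show ((FiniteField.Extension.frob F p (2 * k)) ^ k) x = _
    rw [FiniteField.Extension.frob_iterate_apply, hqN, hQ]
  have hcardK : Nat.card K = Q * Q := by
    rw [FiniteField.natCard_extension, hqN, hQ, two_mul, pow_add]
  have hσσ : ∀ x : K, σ (σ x) = x := by
    intro x
    rw [hσ, hσ, ← pow_mul, ← hcardK]
    let _ := Fintype.ofFinite K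
    rw [← Fintype.card_eq_nat_card]
    exact FiniteField.pow_card x
  -- a generator of the unit group
  obtain ⟨ζ, hζ⟩ := IsCyclic.exists_ofOrder_eq_natCard (α := Kˣ)
  have hQQ : Q * Q - 1 = (Q - 1) * (Q + 1) := by
    obtain ⟨m, rfl⟩ : ∃ m, Q = m + 1 := ⟨Q - 1, by omega⟩
    simp only [Nat.add_sub_cancel]
    ring_nf
    omega
  have hordζ : orderOf ζ = (Q - 1) * (Q + 1) := by
    rw [hζ, Nat.card_units, hcardK, hQQ]
  have hQ1 : Q - 1 ≠ 0 := by omega
  -- θ
  let θ : Kˣ := ζ ^ (Q - 1)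
  have hordθ : orderOf θ = Q + 1 := by
    show orderOf (ζ ^ (Q - 1)) = _
    rw [orderOf_pow_of_dvd hQ1 (by rw [hordζ]; exact dvd_mul_right _ _), hordζ,
      Nat.mul_div_cancel_left _ (by omega)]
  have hθpow : (θ : K) ^ (Q + 1) = 1 := by
    rw [← Units.val_pow_eq_pow_val, ← hordθ, pow_orderOf_eq_one, Units.val_one]
  have hθ1 : (θ : K) * σ (θ : K) = 1 := by
    rw [hσ, ← pow_succ', hθpow]
  -- the norm
  have hnorm : Algebra.norm F (θ : K) = 1 := by
    apply (algebraMap F K).injective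
    rw [FiniteField.algebraMap_norm_eq_pow, map_one, hcardK, hqN, hQQ]
    have hdvd : q - 1 ∣ Q - 1 := by
      have h := Nat.sub_dvd_pow_sub_pow q 1 k
      rwa [one_pow, ← hQ] at h
    obtain ⟨m, hm⟩ := hdvd
    have hq1 : 0 < q - 1 := by omega
    have e : (Q - 1) * (Q + 1) / (q - 1) = (Q + 1) * m := by
      rw [hm, mul_assoc, Nat.mul_div_cancel_left _ hq1, mul_comm]
    rw [e, pow_mul, hθpow, one_pow]
  refine ⟨K, inferInstance, inferInstance, inferInstance, σ, θ,
    FiniteField.finrank_extension F p (2 * k), hσσ, hθ1, ?_, hnorm⟩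
  rw [hordθ, hQ, hq]

end Cfsg.Agent.Helper65.O9
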