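import Mathlib

/-!
# (A2) for helper61 (S4707): `C_G(P) = P` by Burnside transfer and primitivity
-/

set_option autoImplicit false

namespace Cfsg.Agent.Helper65.TwoP

open MulAction

/-- (A2) Burnside transfer + primitivity. -/
theorem centralizer_eq_of_prim {G : Type*} [Group G] [Finite G] {α : Type*} [Fintype α]
    [MulAction G α] {p : ℕ} [Fact p.Prime] (hp : 2 < p) (hα : Fintype.card α = 2 * p)
    (hprim : IsPreprimitive G α) (P : Sylow p G) (hP : Nat.card (P : Subgroup G) = p)
    (hN : Nat.card (Subgroup.normalizer ((P : Subgroup G) : Set G)) = 2 * p) :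
    Subgroup.centralizer ((P : Subgroup G) : Set G) = P := by
  have hpp : p.Prime := Fact.out
  have hcyc : IsCyclic (P : Subgroup G) := isCyclic_of_prime_card hP
  have hcomm : ∀ x ∈ (P : Subgroup G), ∀ y ∈ (P : Subgroup G), x * y = y * x := by
    intro x hx y hy
    obtain ⟨g, hg⟩ := hcyc.exists_generator
    obtain ⟨i, hi⟩ := Subgroup.mem_zpowers_iff.mp (hg ⟨x, hx⟩)
    obtain ⟨j, hj⟩ := Subgroup.mem_zpowers_iff.mp (hg ⟨y, hy⟩)
    have h1 : (⟨x, hx⟩ : (P : Subgroup G)) * ⟨y, hy⟩ = ⟨y, hy⟩ * ⟨x, hx⟩ := by
      rw [← hi, ← hj, ← zpow_add, ← zpow_add, add_comm]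
    exact congrArg Subtype.val h1
  have hPC : (P : Subgroup G) ≤ Subgroup.centralizer ((P : Subgroup G) : Set G) := by
    intro x hx
    rw [Subgroup.mem_centralizer_iff]
    intro y hy
    exact hcomm y hy x hx
  have hCN : Subgroup.centralizer ((P : Subgroup G) : Set G) ≤
      Subgroup.normalizer ((P : Subgroup G) : Set G) := Subgroup.centralizer_le_normalizer _
  by_contra hne
  have h1 : p ∣ Nat.card (Subgroup.centralizer ((P : Subgroup G) : Set G)) := by
    have := Subgroup.card_dvd_of_le hPC
    rwa [hP] at this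
  have h2 : Nat.card (Subgroup.centralizer ((P : Subgroup G) : Set G)) ∣ 2 * p := by
    have := Subgroup.card_dvd_of_le hCN
    rwa [hN] at this
  have hC2p : Nat.card (Subgroup.centralizer ((P : Subgroup G) : Set G)) = 2 * p := by
    obtain ⟨k, hk⟩ := h1
    have hk2 : k ∣ 2 := by
      rw [hk, mul_comm 2 p] at h2
      exact Nat.dvd_of_mul_dvd_mul_left hpp.pos h2
    rcases (Nat.dvd_prime Nat.prime_two).mp hk2 with rfl | rfl
    · exfalso
      apply hne
      symm
      exact Subgroup.eq_of_le_of_card_ge hPC (by rw [hk, hP, mul_one])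
    · rw [hk, mul_comm]
  have hNC : Subgroup.normalizer ((P : Subgroup G) : Set G) ≤
      Subgroup.centralizer ((P : Subgroup G) : Set G) := by
    have := Subgroup.eq_of_le_of_card_ge hCN (by rw [hN, hC2p])
    rw [this]
  have hcompl := MonoidHom.ker_transferSylow_isComplement' P hNC
  have hnd := MonoidHom.not_dvd_card_ker_transferSylow P hNC
  obtain ⟨K, hK⟩ : ∃ K : Subgroup G, K = (MonoidHom.transferSylow P hNC).ker := ⟨_, rfl⟩
  rw [← hK] at hcompl hnd
  haveI hKn : K.Normal := by
    rw [hK]
    exact MonoidHom.normal_ker _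
  have hidx : K.index = p := by rw [hcompl.symm.index_eq_card, hP]
  haveI := hprim
  haveI : IsPretransitive G α := hprim.toIsPretransitive
  have hcardα : Nat.card α = 2 * p := by rw [Nat.card_eq_fintype_card, hα]
  have hne' : Nonempty α := by
    rw [← Fintype.card_pos_iff, hα]
    omega
  obtain ⟨a⟩ := hne'
  by_cases hfix : fixedPoints K α = Set.univ
  · have hKle : K ≤ stabilizer G a := by
      intro k hk
      rw [mem_stabilizer_iff]
      have hmem : a ∈ fixedPoints K α := by
        rw [hfix]
        trivial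
      exact hmem ⟨k, hk⟩
    have h3 := Subgroup.index_dvd_of_le hKle
    rw [index_stabilizer_of_transitive G a, hcardα, hidx] at h3
    have := Nat.le_of_dvd hpp.pos h3
    omega
  · haveI : IsPretransitive K α := IsQuasiPreprimitive.isPretransitive_of_normal hfix
    have h3 : (stabilizer K a).index ∣ Nat.card K := Subgroup.index_dvd_card _
    rw [index_stabilizer_of_transitive K a, hcardα] at h3
    exact hnd ((Dvd.intro_left 2 rfl).trans h3)

end Cfsg.Agent.Helper65.TwoP
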