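import Mathlib
import Cfsg.Agent.Helper61.TwoPDefs

/-!
# (A3) for helper61 (S4707): Jordan's argument, `p`-singular elements have no fixed points
-/

set_option autoImplicit false

namespace Cfsg.Agent.Helper65.TwoP

open Cfsg MulAction Cfsg.Agent.Helper66.PD2 Cfsg.Agent.Helper61.TwoP
open scoped Pointwise

/-- membership in a conjugate Sylow subgroup. -/
theorem conj_mem_smul_sylow {G : Type*} [Group G] {q : ℕ} (S : Sylow q G) (g y : G)
    (hy : y ∈ (S : Subgroup G)) : g * y * g⁻¹ ∈ ((g • S : Sylow q G) : Subgroup G) := by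
  rw [Sylow.coe_subgroup_smul, Subgroup.mem_pointwise_smul_iff_inv_smul_mem, MulAut.smul_def,
    MulAut.conj_inv_apply]
  have e : g⁻¹ * (g * y * g⁻¹) * g = y := by group
  rw [e]
  exact hy

/-- (A3) Jordan: `P` is semiregular. -/
theorem fx_eq_zero_of_dvd {G : Type*} [Group G] [Finite G] {α : Type*} [Fintype α]
    [DecidableEq α] [MulAction G α] {p : ℕ} [Fact p.Prime] {P : Sylow p G} (S : Setup G α p P)
    (g : G) (hg : p ∣ orderOf g) : fx α g = 0 := by
  by_contra hne
  have hpp : p.Prime := Fact.out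
  have hp5 := S.hp5
  have hcardα : Nat.card α = 2 * p := by rw [Nat.card_eq_fintype_card, S.hα]
  unfold fx at hne
  obtain ⟨⟨a, ha⟩⟩ := (Nat.card_ne_zero.mp hne).1
  have hga : g ∈ stabilizer G a := ha
  obtain ⟨u, hu⟩ : ∃ u : G, u = g ^ (orderOf g / p) := ⟨_, rfl⟩
  have hou : orderOf u = p := by
    rw [hu]
    exact orderOf_pow_orderOf_div (orderOf_pos g).ne' hg
  have hua : u • a = a := by
    rw [hu]
    exact pow_mem hga _
  have hzu : IsPGroup p (Subgroup.zpowers u) := by
    apply IsPGroup.of_card (n := 1)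
    rw [Nat.card_zpowers, hou, pow_one]
  obtain ⟨P', hP'⟩ := hzu.exists_le_sylow
  obtain ⟨c, hc⟩ := MulAction.exists_smul_eq G P' P
  obtain ⟨y, hy⟩ : ∃ y : G, y = c * u * c⁻¹ := ⟨_, rfl⟩
  have hyP : y ∈ (P : Subgroup G) := by
    rw [← hc, hy]
    exact conj_mem_smul_sylow P' c u (hP' (Subgroup.mem_zpowers u))
  have hoy : orderOf y = p := by
    rw [hy, ← MulAut.conj_apply, MulEquiv.orderOf_eq, hou]
  have hy1 : y ≠ 1 := by
    intro h1
    rw [h1, orderOf_one] at hoy
    exact hpp.one_lt.ne hoy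
  obtain ⟨b, hb⟩ : ∃ b : α, b = c • a := ⟨_, rfl⟩
  have hyb : y • b = b := by
    rw [hy, hb, ← mul_smul, inv_mul_cancel_right, mul_smul, hua]
  have hPz : Subgroup.zpowers y = (P : Subgroup G) := by
    apply Subgroup.eq_of_le_of_card_ge
    · rw [Subgroup.zpowers_le]
      exact hyP
    · rw [Nat.card_zpowers, hoy, S.cardP]
  obtain ⟨F, hF⟩ : ∃ F : Set α, F = fixedBy α y := ⟨_, rfl⟩
  have hmemF : ∀ d : α, d ∈ F ↔ y • d = d := by
    intro d
    rw [hF]
    exact mem_fixedBy
  have hFfix : ∀ k ∈ (P : Subgroup G), ∀ d ∈ F, k • d = d := by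
    intro k hk d hd
    rw [← hPz] at hk
    obtain ⟨i, rfl⟩ := Subgroup.mem_zpowers_iff.mp hk
    have : y ∈ stabilizer G d := (hmemF d).mp hd
    exact zpow_mem this i
  have hFP : fixedPoints (P : Subgroup G) α = F := by
    ext d
    constructor
    · intro hd
      exact (hmemF d).mpr (hd ⟨y, hyP⟩)
    · intro hd k
      exact hFfix k k.2 d hd
  have hFne : F ≠ Set.univ := by
    intro h1
    apply hy1
    apply S.faithful
    intro d
    have : d ∈ F := by
      rw [h1]
      trivial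
    exact (hmemF d).mp this
  have hbF : b ∈ F := (hmemF b).mpr hyb
  have hcardF : F.ncard = p := by
    have hmod := P.isPGroup'.card_modEq_card_fixedPoints α
    rw [hFP, hcardα, Nat.card_coe_set_eq] at hmod
    have hdvd : p ∣ F.ncard := by
      have h0 : 2 * p ≡ 0 [MOD p] := Nat.modEq_zero_iff_dvd.mpr (Dvd.intro_left 2 rfl)
      exact Nat.modEq_zero_iff_dvd.mp (hmod.symm.trans h0)
    have hpos : 0 < F.ncard := (Set.ncard_pos (Set.toFinite F)).mpr ⟨b, hbF⟩
    have hlt : F.ncard < 2 * p := by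
      rw [← hcardα, ← Set.ncard_univ]
      exact Set.ncard_lt_ncard (Set.ssubset_univ_iff.mpr hFne) (Set.toFinite _)
    obtain ⟨k, hk⟩ := hdvd
    rcases k with _ | _ | k
    · rw [hk, mul_zero] at hpos
      exact absurd hpos (lt_irrefl 0)
    · rw [hk]
      ring
    · exfalso
      rw [hk] at hlt
      nlinarith
  have hcardFc : Fᶜ.ncard = p := by
    rw [Set.ncard_compl, hcardα, hcardF]
    omega
  have htrans : ∀ c' : α, c' ∉ F → ∀ d : α, d ∉ F → ∃ k ∈ (P : Subgroup G), k • c' = d := by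
    intro c' hc' d hd
    have hsub : orbit (P : Subgroup G) c' ⊆ Fᶜ := by
      rintro _ ⟨k, rfl⟩
      intro hk
      apply hc'
      have h1 := hFfix ((k⁻¹ : (P : Subgroup G)) : G) (k⁻¹).2 _ hk
      have h2 : ((k⁻¹ : (P : Subgroup G)) : G) • (k • c') = c' := by
        show (k⁻¹ : (P : Subgroup G)) • (k • c') = c'
        rw [inv_smul_smul]
      rw [h2] at h1
      rw [h1]
      exact hk
    obtain ⟨n, hn⟩ := P.isPGroup'.card_orbit c'
    rw [Nat.card_coe_set_eq] at hn
    have hn0 : n ≠ 0 := by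
      rintro rfl
      rw [pow_zero, Set.ncard_eq_one] at hn
      obtain ⟨e, he⟩ := hn
      apply hc'
      have h1 : c' ∈ orbit (P : Subgroup G) c' := mem_orbit_self c'
      have h2 : (⟨y, hyP⟩ : (P : Subgroup G)) • c' ∈ orbit (P : Subgroup G) c' := mem_orbit c' _
      rw [he, Set.mem_singleton_iff] at h1 h2
      rw [hmemF]
      have h3 : (⟨y, hyP⟩ : (P : Subgroup G)) • c' = y • c' := rfl
      rw [← h3, h2, h1]
    have hge : p ≤ p ^ n := Nat.le_self_pow hn0 p
    have heq : orbit (P : Subgroup G) c' = Fᶜ := by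
      apply Set.eq_of_subset_of_ncard_le hsub _ (Set.toFinite _)
      rw [hcardFc, hn]
      exact hge
    have hd' : d ∈ orbit (P : Subgroup G) c' := by
      rw [heq]
      exact hd
    obtain ⟨k, hk⟩ := hd'
    exact ⟨k, k.2, hk⟩
  apply S.not2
  apply S.prim.is_two_pretransitive (s := F) (n := p - 1)
  · rw [hcardF]
    omega
  · rw [hcardα]
    omega
  · refine ⟨?_⟩
    rintro ⟨c', hc'⟩ ⟨d, hd⟩
    rw [SubMulAction.mem_ofFixingSubgroup_iff] at hc' hd
    obtain ⟨k, hkP, hk⟩ := htrans c' hc' d hd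
    refine ⟨⟨k, ?_⟩, ?_⟩
    · rw [mem_fixingSubgroup_iff]
      intro e he
      exact hFfix k hkP e he
    · apply Subtype.ext
      exact hk

end Cfsg.Agent.Helper65.TwoP
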