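import Mathlib
import Cfsg.Agent.Helper62.S6.Defs
import Cfsg.Agent.Helper65.S6R5
import Cfsg.Agent.Helper24.S6RW
import Cfsg.Agent.Helper55.S6RB

/-!
# S3333 (helper62), piece (C1): `N ∩ L = S`, Burnside.  The simplicity (R4) of `L` is a hypothesis.
-/

set_option autoImplicit false
open Cfsg

namespace Cfsg.Agent.Helper65.S6

open Cfsg.Agent.Helper62.S6 Cfsg.Agent.Helper62.D8

universe u

variable {G : Type u} [Group G] [Finite G]
variable {S : Subgroup G} {x y t f : G}

/-- (C1) core: `N ∩ L = S` with `L` simple is impossible (Burnside). -/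
theorem case_one_core (h : Cfg S x y t f)
    (hsimple : IsSimpleGroup ↥(Subgroup.normalClosure (S : Set G)))
    (hf : f ∉ Subgroup.normalClosure (S : Set G)) (ht : t ∉ Subgroup.normalClosure (S : Set G))
    (hft : f * t ∉ Subgroup.normalClosure (S : Set G))
    (hz : f ^ 2 ∉ Subgroup.normalClosure (S : Set G)) : False := by
  have hSL : S ≤ Subgroup.normalClosure (S : Set G) := Subgroup.le_normalClosure
  obtain ⟨PL, hPL, hcard, hcomm, -, -, hnorm, -⟩ := transfer h _ hSL
  obtain ⟨w1, w2, w3, w4, -, -, -⟩ :=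
    Cfsg.Agent.Helper24.S6.word_mem h (Subgroup.normalClosure (S : Set G)) hSL
  apply Cfsg.Agent.Helper55.S6.burnside_false PL hcard hcomm
  rw [hnorm, hPL]
  ext n
  rw [Subgroup.mem_subgroupOf, Subgroup.mem_subgroupOf]
  constructor
  · intro hn
    obtain ⟨s, hs, i, j, hi, hj, hnij⟩ := h.nd.memN _ hn
    have hmem : f ^ i * t ^ j ∈ Subgroup.normalClosure (S : Set G) := by
      rw [← w1 s hs i j, ← hnij]; exact n.2
    have hij : i = 0 ∧ j = 0 := by
      interval_cases i <;> interval_cases j <;> simp only [pow_zero, pow_one, one_mul, mul_one] at hmem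
      · exact ⟨rfl, rfl⟩
      · exact absurd hmem ht
      · exact absurd hmem hf
      · exact absurd hmem hft
      · exact absurd hmem hz
      · exact absurd (w2 hmem) ht
      · exact absurd (w4 hmem) hf
      · exact absurd (w3 hmem) hft
    rw [hnij, hij.1, hij.2, pow_zero, pow_zero, mul_one, mul_one]
    exact hs
  · intro hn
    exact Subgroup.le_normalizer hn

end Cfsg.Agent.Helper65.S6
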