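import Cfsg.Agent.Helper65.HP2
import Cfsg.Agent.S4206

/-!
# Hall-Petrescu at `p` for the lower central series
-/

set_option autoImplicit false

namespace Cfsg.Agent.Helper65

open scoped commutatorElement

variable {G : Type*} [Group G]

/-- `⁅γ_{i+1}, γ_{j+1}⁆ ≤ γ_{i+j+2}` (Mathlib indexing from zero), for finite groups. -/
theorem lcs_commutator_le [Finite G] (i j : ℕ) :
    ⁅(⊤ : Subgroup G).lowerCentralSeries i, (⊤ : Subgroup G).lowerCentralSeries j⁆ ≤
      (⊤ : Subgroup G).lowerCentralSeries (i + j + 1) :=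
  Cfsg.Agent.S4206.result (fun i => (⊤ : Subgroup G).lowerCentralSeries i)
    (fun i => by infer_instance)
    (fun i => Subgroup.lowerCentralSeries_antitone _ (Nat.le_succ i)) ⊤ (fun i => le_rfl) i j

/-- the lower central filtration, indexed so that `F k = γ_k` (`F 0 = F 1 = ⊤`). -/
def lcsFiltration (G : Type*) [Group G] [Finite G] : Filtration G where
  F k := (⊤ : Subgroup G).lowerCentralSeries (k - 1)
  anti k := Subgroup.lowerCentralSeries_antitone _ (by omega)
  comm i j := by
    rcases Nat.eq_zero_or_pos i with rfl | hi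
    · rw [zero_add]
      exact Subgroup.commutator_le_right _ _
    rcases Nat.eq_zero_or_pos j with rfl | hj
    · rw [add_zero]
      exact Subgroup.commutator_le_left _ _
    have h := lcs_commutator_le (G := G) (i - 1) (j - 1)
    have he : i - 1 + (j - 1) + 1 = i + j - 1 := by omega
    rw [he] at h
    exact h

theorem lcsFiltration_F [Finite G] (k : ℕ) :
    (lcsFiltration G).F k = (⊤ : Subgroup G).lowerCentralSeries (k - 1) := rfl

/-- **Hall-Petrescu at `p`, class `< p`**: `(xy)^p = x^p y^p w` with `w` a product of `p`-th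
powers of elements of the derived subgroup. -/
theorem exists_pow_mul_of_class_lt [Finite G] (p : ℕ) [Fact p.Prime]
    (hcl : (⊤ : Subgroup G).lowerCentralSeries (p - 1) = ⊥) (x y : G) :
    ∃ w ∈ Cfsg.powerClosure p 1 (commutator G), (x * y) ^ p = x ^ p * y ^ p * w := by
  have h := hall_petrescu_prime (lcsFiltration G) p (by rw [lcsFiltration_F]; exact hcl)
    (x := x) (y := y) (by rw [lcsFiltration_F]; exact Subgroup.mem_top x)
    (by rw [lcsFiltration_F]; exact Subgroup.mem_top y)
  have h2 : (lcsFiltration G).F 2 = commutator G := rfl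
  rw [h2] at h
  refine ⟨(((x * y) ^ p)⁻¹ * x ^ p * y ^ p)⁻¹, inv_mem h, ?_⟩
  group

end Cfsg.Agent.Helper65
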