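import Mathlib

/-!
# Breadth and class of a finite p-group (Leedham-Green, Neumann, Wiegold)

Two-step centralizers `C_i = {x | [x, L_i] ≤ L_{i+2}}` of the lower central series and the
averaging argument giving `(c - 1) (p - 1) < b p`.
-/

set_option autoImplicit false

namespace Cfsg.Agent.Helper65

open Subgroup
open scoped commutatorElement

section

variable {G : Type*} [Group G]

/-- the `i`-th term of the lower central series of the whole group. -/
abbrev lcs (G : Type*) [Group G] (i : ℕ) : Subgroup G := (⊤ : Subgroup G).lowerCentralSeries i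

instance lcs_normal (i : ℕ) : (lcs G i).Normal := by
  unfold lcs
  infer_instance

/-- two-step centralizer: elements `x` with `[x, L_i] ≤ L_{i+2}`. -/
def twoStep (G : Type*) [Group G] (i : ℕ) : Subgroup G where
  carrier := {x | ∀ y ∈ lcs G i, ⁅x, y⁆ ∈ lcs G (i + 2)}
  one_mem' := by
    intro y _
    rw [commutatorElement_def]
    simp
  mul_mem' := by
    intro a b ha hb y hy
    have h1 : ⁅a * b, y⁆ = a * ⁅b, y⁆ * a⁻¹ * ⁅a, y⁆ := by
      simp only [commutatorElement_def]
      group
    rw [h1]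
    exact mul_mem ((lcs_normal (G := G) (i + 2)).conj_mem _ (hb y hy) a) (ha y hy)
  inv_mem' := by
    intro a ha y hy
    have h1 : ⁅a⁻¹, y⁆ = a⁻¹ * (⁅a, y⁆)⁻¹ * a⁻¹⁻¹ := by
      simp only [commutatorElement_def]
      group
    rw [h1]
    exact (lcs_normal (G := G) (i + 2)).conj_mem _ (inv_mem (ha y hy)) a⁻¹

theorem mem_twoStep {i : ℕ} {x : G} :
    x ∈ twoStep G i ↔ ∀ y ∈ lcs G i, ⁅x, y⁆ ∈ lcs G (i + 2) := Iff.rfl

/-- if the two-step centralizer is everything, the series is stationary. -/
theorem lcs_succ_le_of_twoStep_eq_top {i : ℕ} (h : twoStep G i = ⊤) :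
    lcs G (i + 1) ≤ lcs G (i + 2) := by
  show ⁅lcs G i, (⊤ : Subgroup G)⁆ ≤ lcs G (i + 2)
  rw [Subgroup.commutator_le]
  intro y hy x _
  have hx : x ∈ twoStep G i := by rw [h]; exact Subgroup.mem_top x
  have h2 := hx y hy
  have h3 : ⁅y, x⁆ = (⁅x, y⁆)⁻¹ := by
    simp only [commutatorElement_def]
    group
  rw [h3]
  exact inv_mem h2

theorem lcs_stationary {i : ℕ} (h : lcs G (i + 1) = lcs G i) (k : ℕ) :
    lcs G (i + k) = lcs G i := by
  induction k with
  | zero => rfl
  | succ k ih =>
    have : lcs G (i + (k + 1)) = ⁅lcs G (i + k), (⊤ : Subgroup G)⁆ := rfl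
    rw [this, ih]
    exact h

theorem twoStep_ne_top [Group.IsNilpotent G] {i : ℕ} (hi : i + 1 < Group.nilpotencyClass G) :
    twoStep G i ≠ ⊤ := by
  intro h
  have h1 := lcs_succ_le_of_twoStep_eq_top h
  have h2 : lcs G (i + 1 + 1) = lcs G (i + 1) :=
    le_antisymm (Subgroup.lowerCentralSeries_antitone _ (Nat.le_succ _)) h1
  have h3 := lcs_stationary h2 (Group.nilpotencyClass G)
  have h4 : lcs G (i + 1 + Group.nilpotencyClass G) = ⊥ := by
    unfold lcs
    rw [Subgroup.lowerCentralSeries_eq_bot_iff_nilpotencyClass_le]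
    omega
  rw [h4] at h3
  have h5 : Group.nilpotencyClass G ≤ i + 1 := by
    rw [← Subgroup.lowerCentralSeries_eq_bot_iff_nilpotencyClass_le]
    exact h3.symm
  omega

/-- when `x ∉ C_i`, the chain `C_G(x) L_{i+1} ≤ C_G(x) L_i` is strict at `i`. -/
theorem centralizer_sup_lcs_ne {i : ℕ} {x : G} (hx : x ∉ twoStep G i) :
    centralizer ({x} : Set G) ⊔ lcs G (i + 1) ≠ centralizer ({x} : Set G) ⊔ lcs G i := by
  intro heq
  apply hx
  intro y hy
  have hy' : y ∈ centralizer ({x} : Set G) ⊔ lcs G (i + 1) := by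
    rw [heq]
    exact (le_sup_right : lcs G i ≤ _) hy
  rw [Subgroup.mem_sup_of_normal_right] at hy'
  obtain ⟨k, hk, n, hn, rfl⟩ := hy'
  have hk' : k * x = x * k := by
    rw [Subgroup.mem_centralizer_iff] at hk
    exact (hk x (Set.mem_singleton x)).symm
  have h1 : ⁅x, k * n⁆ = k * ⁅x, n⁆ * k⁻¹ := by
    simp only [commutatorElement_def]
    have : x * (k * n) = k * (x * n) := by
      rw [← mul_assoc, ← hk', mul_assoc]
    rw [this]
    group
  rw [h1]
  apply (lcs_normal (G := G) (i + 2)).conj_mem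
  have h2 : ⁅n, x⁆ ∈ lcs G (i + 2) :=
    Subgroup.commutator_mem_commutator hn (Subgroup.mem_top x)
  have h3 : ⁅x, n⁆ = (⁅n, x⁆)⁻¹ := by
    simp only [commutatorElement_def]
    group
  rw [h3]
  exact inv_mem h2

end

section pgroup

variable {G : Type*} [Group G] [Finite G] {p : ℕ} [Fact p.Prime]

theorem IsPGroup.mul_index_le_of_lt (hG : IsPGroup p G) {H K : Subgroup G} (hle : H ≤ K)
    (hne : H ≠ K) : p * K.index ≤ H.index := by
  rw [← Subgroup.relIndex_mul_index hle]
  apply Nat.mul_le_mul_right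
  have h1 : H.relIndex K ≠ 1 := by
    rw [Ne, Subgroup.relIndex_eq_one]
    intro h
    exact hne (le_antisymm hle h)
  obtain ⟨n, hn⟩ := (hG.to_subgroup K).index (H.subgroupOf K)
  have h2 : H.relIndex K = p ^ n := hn
  rw [h2] at h1 ⊢
  have hn0 : n ≠ 0 := by
    rintro rfl
    exact h1 (pow_zero p)
  calc p = p ^ 1 := (pow_one p).symm
    _ ≤ p ^ n := Nat.pow_le_pow_right (Fact.out : p.Prime).pos (Nat.one_le_iff_ne_zero.mpr hn0)

theorem IsPGroup.mul_card_le_of_ne_top (hG : IsPGroup p G) {H : Subgroup G} (hne : H ≠ ⊤) :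
    p * Nat.card H ≤ Nat.card G := by
  have h := IsPGroup.mul_index_le_of_lt hG (le_top : H ≤ ⊤) hne
  rw [Subgroup.index_top, mul_one] at h
  rw [← Subgroup.card_mul_index H, mul_comm]
  exact Nat.mul_le_mul_left _ h

open Classical in
/-- the index of a centralizer is at least `p ^ #{j < i | x ∉ C_j}`. -/
theorem IsPGroup.pow_card_filter_le_index (hG : IsPGroup p G) (x : G) (i : ℕ) :
    p ^ ((Finset.range i).filter (fun j => x ∉ twoStep G j)).card ≤
      (centralizer ({x} : Set G) ⊔ lcs G i).index := by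
  induction i with
  | zero =>
    simp only [Finset.range_zero, Finset.filter_empty, Finset.card_empty, pow_zero]
    exact Nat.one_le_iff_ne_zero.mpr Subgroup.index_ne_zero_of_finite
  | succ i ih =>
    rw [Finset.range_add_one, Finset.filter_insert]
    have hle : centralizer ({x} : Set G) ⊔ lcs G (i + 1) ≤ centralizer ({x} : Set G) ⊔ lcs G i :=
      sup_le_sup_left (Subgroup.lowerCentralSeries_antitone _ (Nat.le_succ i)) _
    by_cases hx : x ∈ twoStep G i
    · rw [if_neg (not_not.mpr hx)]
      exact ih.trans (Subgroup.index_antitone hle)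
    · rw [if_pos hx, Finset.card_insert_of_notMem (by simp), pow_succ]
      calc p ^ _ * p ≤ (centralizer ({x} : Set G) ⊔ lcs G i).index * p :=
            Nat.mul_le_mul_right _ ih
        _ = p * (centralizer ({x} : Set G) ⊔ lcs G i).index := mul_comm _ _
        _ ≤ _ := IsPGroup.mul_index_le_of_lt hG hle (centralizer_sup_lcs_ne hx)

open Classical in
theorem IsPGroup.card_filter_le_of_index_le (hG : IsPGroup p G) (x : G) (i b : ℕ)
    (hb : (centralizer ({x} : Set G)).index ≤ p ^ b) :
    ((Finset.range i).filter (fun j => x ∉ twoStep G j)).card ≤ b := by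
  have h1 := IsPGroup.pow_card_filter_le_index hG x i
  have h2 : (centralizer ({x} : Set G) ⊔ lcs G i).index ≤ (centralizer ({x} : Set G)).index :=
    Subgroup.index_antitone le_sup_left
  exact (Nat.pow_le_pow_iff_right (Fact.out : p.Prime).one_lt).mp (h1.trans (h2.trans hb))

end pgroup

end Cfsg.Agent.Helper65
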