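import Cfsg.Agent.Helper65.AlpQ4a
import Cfsg.Agent.Helper59.AlpB1

/-!
# (Q4) for helper71 (S3782 Alperin): `|X : X^p| ≤ p^(pn)` for a characteristic powerfully embedded
subgroup
-/

set_option autoImplicit false

namespace Cfsg.Agent.Helper65.Alp

open Cfsg.Agent.Helper71.Alp

/-- (Q4) -/
theorem relIndex_pw_le {G : Type*} [Group G] [Finite G] {p n : ℕ} (hp : p.Prime) (φ : MulAut G)
    (hφ : φ ^ p = 1) (hfix : FixLE φ (p ^ n)) (X : Subgroup G) [X.Characteristic]
    (hX : PE p X) : (pw p X).relIndex X ≤ p ^ (p * n) :=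
  relIndex_pw_le_of
    (fun X Y φ hφ hfix hYX hX hY hab hexp =>
      Cfsg.Agent.Helper59.Alp.relIndex_le_of_exp hp φ hφ hfix X Y hYX hX hY hab hexp)
    φ hφ hfix X hX

end Cfsg.Agent.Helper65.Alp
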