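import Cfsg.Agent.Helper71.Alp.Defs

/-!
# (Q4) for helper71 (S3782 Alperin): lemmas on `pw`, and the index of `X^p` in `X` with (B1) as
an explicit hypothesis
-/

set_option autoImplicit false

namespace Cfsg.Agent.Helper65.Alp

open Cfsg.Agent.Helper71.Alp

theorem pw_le_self {G : Type*} [Group G] (k : ℕ) (X : Subgroup G) : pw k X ≤ X := by
  unfold pw
  rw [Subgroup.closure_le]
  rintro y ⟨x, hx, rfl⟩
  exact X.pow_mem hx k

theorem pw_mono {G : Type*} [Group G] (k : ℕ) {X Y : Subgroup G} (h : X ≤ Y) :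
    pw k X ≤ pw k Y := by
  unfold pw
  apply Subgroup.closure_mono
  rintro y ⟨x, hx, rfl⟩
  exact ⟨x, h hx, rfl⟩

theorem pw_bp_le_pw {G : Type*} [Group G] (p : ℕ) (X : Subgroup G) : pw (bp p) X ≤ pw p X := by
  unfold bp
  split_ifs with h2
  · subst h2
    unfold pw
    rw [Subgroup.closure_le]
    rintro y ⟨x, hx, rfl⟩
    apply Subgroup.subset_closure
    refine ⟨x ^ 2, X.pow_mem hx 2, ?_⟩
    rw [← pow_mul]
  · exact le_refl _

theorem inv_of_characteristic {G : Type*} [Group G] (φ : MulAut G) (X : Subgroup G)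
    [X.Characteristic] : Inv φ X := by
  intro x
  have h := Subgroup.characteristic_iff_comap_eq.1 (inferInstance : X.Characteristic) φ
  constructor
  · intro hx
    have h1 : x ∈ X.comap φ.toMonoidHom := by rw [h]; exact hx
    exact h1
  · intro hx
    have h1 : x ∈ X.comap φ.toMonoidHom := hx
    rwa [h] at h1

theorem pw_characteristic {G : Type*} [Group G] (k : ℕ) (X : Subgroup G) [X.Characteristic] :
    (pw k X).Characteristic := by
  rw [Subgroup.characteristic_iff_map_eq]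
  intro ϕ
  unfold pw
  rw [MonoidHom.map_closure]
  congr 1
  ext y
  constructor
  · rintro ⟨_, ⟨x, hx, rfl⟩, rfl⟩
    refine ⟨ϕ x, (inv_of_characteristic ϕ X x).1 hx, ?_⟩
    show ϕ (x ^ k) = (ϕ x) ^ k
    rw [map_pow]
  · rintro ⟨x, hx, rfl⟩
    refine ⟨(ϕ.symm x) ^ k, ⟨ϕ.symm x, ?_, rfl⟩, ?_⟩
    · exact (inv_of_characteristic ϕ X _).2 (by rw [MulEquiv.apply_symm_apply]; exact hx)
    · show ϕ ((ϕ.symm x) ^ k) = x ^ k
      rw [map_pow, MulEquiv.apply_symm_apply]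

/-- (Q4) with (B1) as an explicit hypothesis -/
theorem relIndex_pw_le_of {G : Type*} [Group G] [Finite G] {p n : ℕ}
    (hB1 : ∀ (X Y : Subgroup G) (φ : MulAut G), φ ^ p = 1 → FixLE φ (p ^ n) → Y ≤ X →
      Inv φ X → Inv φ Y → ⁅X, X⁆ ≤ Y → (∀ x ∈ X, x ^ p ∈ Y) → Y.relIndex X ≤ p ^ (p * n))
    (φ : MulAut G)
    (hφ : φ ^ p = 1) (hfix : FixLE φ (p ^ n)) (X : Subgroup G) [X.Characteristic]
    (hX : PE p X) : (pw p X).relIndex X ≤ p ^ (p * n) := by
  have := pw_characteristic p X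
  apply hB1 X (pw p X) φ hφ hfix (pw_le_self p X) (inv_of_characteristic φ X)
    (inv_of_characteristic φ (pw p X))
  · calc ⁅X, X⁆ ≤ ⁅X, (⊤ : Subgroup G)⁆ := Subgroup.commutator_mono le_rfl le_top
      _ ≤ pw (bp p) X := hX.2
      _ ≤ pw p X := pw_bp_le_pw p X
  · intro x hx
    exact Subgroup.subset_closure ⟨x, hx, rfl⟩

end Cfsg.Agent.Helper65.Alp
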