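import Cfsg.Agent.Helper54.BT.Defs

/-!
# (C5) of #8209 for helper16's S0997, core form: the block sum split over `X` and `Y`

The inclusion `X ∪ Y ⊆ principalBlock` (piece (C1)) is taken as a hypothesis here.
-/

set_option autoImplicit false

namespace Cfsg.Agent.Helper65.BT97

open Cfsg Cfsg.Agent.Helper16 Cfsg.Agent.Helper16.DefOne Cfsg.Agent.Helper82.DefOne
  Cfsg.Agent.Helper77.DefOne Cfsg.Agent.Helper16.Brauer43 Cfsg.Agent.Helper54.BT
open scoped ComplexConjugate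

universe u

variable {G : Type u} [Group G] [Fintype G] {p : ℕ} [Fact p.Prime]
  (P : Sylow p G) [Fintype (P : Subgroup G)] (D : L0Data P)

/-- (C5), core form: any set `Bp` containing `X ∪ Y` -/
theorem block_sum_split_of (Bp B : Set (IrrCharacter G)) (hXY : D.X ∪ D.Y ⊆ Bp) (f : ℕ)
    (hY : ∀ ψ ∈ D.Y, charDegree (ψ : G → ℂ) = f) :
    ∑ᶠ χ ∈ Bp ∩ B, cW P D χ =
      ((p : ℤ) - 1) * ∑ᶠ χ ∈ D.X ∩ B, D.ε χ * (charDegree (χ : G → ℂ) : ℤ) +
      -D.δ * ((cen P).relIndex (nor P) : ℤ) * ((f : ℤ) * (Nat.card ↥(D.Y ∩ B) : ℤ)) := by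
  classical
  have hfin : Finite (IrrCharacter G) := Cfsg.Agent.Helper79.irr_finite'
  -- reduce to the sum over `(X ∩ B) ∪ (Y ∩ B)`
  have h1 : ∑ᶠ χ ∈ Bp ∩ B, cW P D χ = ∑ᶠ χ ∈ (D.X ∩ B) ∪ (D.Y ∩ B), cW P D χ := by
    apply finsum_mem_inter_support_eq
    ext χ
    constructor
    · rintro ⟨⟨hBp, hB⟩, hs⟩
      refine ⟨?_, hs⟩
      by_cases hX : χ ∈ D.X
      · exact Or.inl ⟨hX, hB⟩
      · by_cases hYm : χ ∈ D.Y
        · exact Or.inr ⟨hYm, hB⟩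
        · exact absurd (cW_of_not_mem P D hX hYm) hs
    · rintro ⟨h | h, hs⟩
      · exact ⟨⟨hXY (Or.inl h.1), h.2⟩, hs⟩
      · exact ⟨⟨hXY (Or.inr h.1), h.2⟩, hs⟩
  have hdisj : Disjoint (D.X ∩ B) (D.Y ∩ B) :=
    D.hdisj.mono Set.inter_subset_left Set.inter_subset_left
  rw [h1, finsum_mem_union hdisj (Set.toFinite _) (Set.toFinite _)]
  congr 1
  · -- the `X` part
    rw [mul_finsum_mem]
    apply finsum_mem_congr rfl
    intro χ hχ
    rw [cW_of_mem_X P D hχ.1, mul_assoc]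
  · -- the `Y` part
    have h2 : ∑ᶠ χ ∈ D.Y ∩ B, cW P D χ =
        ∑ᶠ χ ∈ D.Y ∩ B, (-D.δ * ((cen P).relIndex (nor P) : ℤ) * (f : ℤ)) := by
      apply finsum_mem_congr rfl
      intro χ hχ
      rw [cW_of_mem_Y P D hχ.1, hY χ hχ.1]
    rw [h2, finsum_mem_eq_finite_toFinset_sum _ (Set.toFinite (D.Y ∩ B)), Finset.sum_const,
      nsmul_eq_mul, ← Set.ncard_eq_toFinset_card _ (Set.toFinite (D.Y ∩ B)),
      ← Nat.card_coe_set_eq]
    ring

end Cfsg.Agent.Helper65.BT97
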