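import Mathlib
import Cfsg.Agent.Helper25.Bli.Defs
import Cfsg.Agent.Helper65.BliL4aCore
import Cfsg.Agent.Helper89.BliL1
import Cfsg.Agent.Helper34.BliL3a
import Cfsg.Agent.Helper34.BliL3b

/-!
# S4484 (helper25), piece (L4a): the contraction step; VERBATIM SkelL statement.
-/

set_option autoImplicit false

namespace Cfsg.Agent.Helper65.Bli

open Module Module.End Cfsg.Agent.Helper25.Bli

variable {V : Type*} [NormedAddCommGroup V] [InnerProductSpace ℂ V] [FiniteDimensional ℂ V]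

/-- (L4a) the contraction step: if `W ≤ eigenspace u α`, `‖u - α‖ ≤ 1`, `W ⊓ W' = ⊥`, both
nonzero, then `u W'` is strictly closer to `W'` than `W` is. -/
theorem cosAng_lt_cosAng_map (u : unitary (V →L[ℂ] V)) (α : ℂ)
    (h : ‖(u : V →L[ℂ] V) - α • (1 : V →L[ℂ] V)‖ ≤ 1) (W W' : Submodule ℂ V)
    (hW : W ≤ eigenspace ((u : V →L[ℂ] V) : V →ₗ[ℂ] V) α) (hW0 : W ≠ ⊥) (hW'0 : W' ≠ ⊥)
    (hWW' : W ⊓ W' = ⊥) :
    cosAng W W' < cosAng W' (W'.map ((u : V →L[ℂ] V) : V →ₗ[ℂ] V)) :=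
  cosAng_lt_cosAng_map_core
    (fun u hu α hα h w v hw hw1 hv1 =>
      Cfsg.Agent.Helper89.Bli.norm_inner_ge u hu α hα h w v hw hw1 hv1)
    (fun W W' w w' a b c d => Cfsg.Agent.Helper34.Bli.le_cosAng W W' w w' a b c d)
    (fun W W' a b => Cfsg.Agent.Helper34.Bli.exists_eq_cosAng W W' a b)
    (fun W W' a => Cfsg.Agent.Helper34.Bli.cosAng_lt_one W W' a)
    u α h W W' hW hW0 hW'0 hWW'

end Cfsg.Agent.Helper65.Bli
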