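import Mathlib

/-!
# Hall subgroups when all `π`-subgroups are abelian: the main step (piece (G4) for helper95)
-/

set_option autoImplicit false

namespace Cfsg.Agent.Helper65.Blich

universe u

/-- a `q`-element of `L` is conjugate in `L` into a subgroup of index prime to `q`. -/
theorem exists_conj_mem_of_not_dvd_relIndex {G : Type*} [Group G] {q : ℕ} [Fact q.Prime]
    (K L : Subgroup G) (hrel : ¬ q ∣ K.relIndex L) {y : G} (hyL : y ∈ L)
    (hy : ∃ k : ℕ, orderOf y = q ^ k) : ∃ c ∈ L, c⁻¹ * y * c ∈ K := by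
  obtain ⟨k, hk⟩ := hy
  obtain ⟨yL, hyLdef⟩ : ∃ yL : L, yL = ⟨y, hyL⟩ := ⟨_, rfl⟩
  have hY : IsPGroup q (Subgroup.zpowers yL) := by
    apply IsPGroup.of_card (n := k)
    rw [Nat.card_zpowers, hyLdef, Subgroup.orderOf_mk, hk]
  have hcard : ¬ q ∣ Nat.card (L ⧸ K.subgroupOf L) := by
    rw [← Subgroup.index_eq_card]
    exact hrel
  obtain ⟨z, hz⟩ := hY.nonempty_fixed_point_of_prime_not_dvd_card (L ⧸ K.subgroupOf L) hcard
  obtain ⟨c, rfl⟩ := QuotientGroup.mk_surjective z
  have h1 := hz ⟨yL, Subgroup.mem_zpowers yL⟩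
  have h1' : ((yL * c : L) : L ⧸ K.subgroupOf L) = (c : L ⧸ K.subgroupOf L) := h1
  have h2 : (yL * c)⁻¹ * c ∈ K.subgroupOf L := QuotientGroup.eq.mp h1'
  rw [Subgroup.mem_subgroupOf, hyLdef] at h2
  refine ⟨c.1, c.2, ?_⟩
  have h3 : c.1⁻¹ * y * c.1 = ((y * c.1)⁻¹ * c.1)⁻¹ := by group
  rw [h3]
  exact K.inv_mem h2

/-- a subgroup containing a Sylow subgroup for every prime is the whole group. -/
theorem eq_top_of_forall_sylow_le' {G : Type*} [Group G] [Finite G] (K : Subgroup G)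
    (h : ∀ (q : ℕ) [Fact q.Prime], ∃ Q : Sylow q G, (Q : Subgroup G) ≤ K) : K = ⊤ := by
  rw [← Subgroup.card_eq_iff_eq_top]
  apply Nat.dvd_antisymm (Subgroup.card_subgroup_dvd_card K)
  rw [← Nat.factorization_prime_le_iff_dvd Nat.card_pos.ne' Nat.card_pos.ne']
  intro q hq
  haveI : Fact q.Prime := ⟨hq⟩
  obtain ⟨Q, hQ⟩ := h q
  rw [← Nat.Prime.pow_dvd_iff_le_factorization hq Nat.card_pos.ne', ← Q.card_eq_multiplicity]
  exact Subgroup.card_dvd_of_le hQ

/-- if the elements of prime power order of `H` are central then `H` is central. -/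
theorem le_center_of_primePow {G : Type*} [Group G] [Finite G] (H : Subgroup G)
    (h : ∀ u ∈ H, (∃ p k : ℕ, p.Prime ∧ orderOf u = p ^ k) → u ∈ Subgroup.center G) :
    H ≤ Subgroup.center G := by
  have htop : (Subgroup.center G).subgroupOf H = ⊤ := by
    apply eq_top_of_forall_sylow_le'
    intro q hq
    obtain ⟨Q⟩ : Nonempty (Sylow q H) := inferInstance
    refine ⟨Q, fun x hx => ?_⟩
    rw [Subgroup.mem_subgroupOf]
    apply h x.1 x.2
    obtain ⟨j, hj⟩ := (IsPGroup.iff_orderOf.mp Q.isPGroup') ⟨x, hx⟩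
    refine ⟨q, j, hq.out, ?_⟩
    rw [Subgroup.orderOf_coe, ← Subgroup.orderOf_mk x hx]
    exact hj
  intro x hx
  have : (⟨x, hx⟩ : H) ∈ (Subgroup.center G).subgroupOf H := by rw [htop]; trivial
  exact Subgroup.mem_subgroupOf.mp this

theorem card_mul_relIndex_of_le {G : Type*} [Group G] {H K : Subgroup G} (h : H ≤ K) :
    Nat.card H * H.relIndex K = Nat.card K := by
  have h1 := Subgroup.card_mul_index (H.subgroupOf K)
  rw [Nat.card_congr (Subgroup.subgroupOfEquivOfLe h).toEquiv] at h1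
  exact h1

/-- a normal subgroup of index divisible by `r` lies in a subgroup of order `|H| * r`. -/
theorem exists_card_eq_mul_of_normal {G : Type*} [Group G] [Finite G] (H : Subgroup G)
    [H.Normal] {r : ℕ} (hr : r.Prime) (hd : r ∣ H.index) :
    ∃ K : Subgroup G, Nat.card K = Nat.card H * r := by
  haveI : Fact r.Prime := ⟨hr⟩
  have hd' : r ∣ Nat.card (G ⧸ H) := by rwa [← Subgroup.index_eq_card]
  obtain ⟨g, hg⟩ := exists_prime_orderOf_dvd_card' r hd'
  refine ⟨(Subgroup.zpowers g).comap (QuotientGroup.mk' H), ?_⟩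
  have h1 := Subgroup.card_mul_index ((Subgroup.zpowers g).comap (QuotientGroup.mk' H))
  rw [Subgroup.index_comap_of_surjective _ (QuotientGroup.mk'_surjective H)] at h1
  have h2 := Subgroup.card_mul_index (Subgroup.zpowers g)
  rw [Nat.card_zpowers, hg] at h2
  have h3 := Subgroup.card_mul_index H
  rw [Subgroup.index_eq_card] at h3
  have hidx : 0 < (Subgroup.zpowers g).index := Nat.pos_of_ne_zero Subgroup.index_ne_zero_of_finite
  apply Nat.eq_of_mul_eq_mul_right hidx
  rw [h1, ← h3, ← h2, mul_assoc]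

/-- conjugation does not change the order. -/
theorem orderOf_conj' {G : Type*} [Group G] (c y : G) : orderOf (c⁻¹ * y * c) = orderOf y := by
  have h := MulEquiv.orderOf_eq (MulAut.conj c⁻¹) y
  rw [MulAut.conj_apply, inv_inv] at h
  exact h

theorem hall_step_main {G : Type u} [Group G] [Finite G] (P : ℕ → Prop)
    (hab : ∀ K : Subgroup G, (∀ q : ℕ, q.Prime → q ∣ Nat.card K → P q) →
      ∀ x ∈ K, ∀ y ∈ K, x * y = y * x)
    (hIH : ∀ K : Subgroup G, K ≠ ⊤ → ∃ A : Subgroup G, A ≤ K ∧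
      (∀ q : ℕ, q.Prime → q ∣ Nat.card A → P q) ∧
      (∀ q : ℕ, q.Prime → q ∣ A.relIndex K → ¬ P q))
    (hPQ : ∀ p r : ℕ, p.Prime → r.Prime → p ≠ r → P p → P r → p ∣ Nat.card G →
      r ∣ Nat.card G →
      ∃ x y : G, Commute x y ∧ (∃ k : ℕ, orderOf x = p ^ k) ∧ (∃ k : ℕ, orderOf y = r ^ k) ∧
        x ∉ Subgroup.center G ∧ y ∉ Subgroup.center G) :
    ∃ A : Subgroup G, (∀ q : ℕ, q.Prime → q ∣ Nat.card A → P q) ∧
      (∀ q : ℕ, q.Prime → q ∣ A.index → ¬ P q) := by
  classical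
  -- a `π`-subgroup of maximal order
  haveI : Nonempty {K : Subgroup G // ∀ q : ℕ, q.Prime → q ∣ Nat.card K → P q} :=
    ⟨⟨⊥, fun q hq hd => by
      rw [Subgroup.card_bot] at hd
      exact absurd (Nat.dvd_one.mp hd) hq.one_lt.ne'⟩⟩
  obtain ⟨⟨H, hHpi⟩, hHmax⟩ := Finite.exists_max
    (fun K : {K : Subgroup G // ∀ q : ℕ, q.Prime → q ∣ Nat.card K → P q} => Nat.card K.1)
  have hmax : ∀ K : Subgroup G, (∀ q : ℕ, q.Prime → q ∣ Nat.card K → P q) →
      Nat.card K ≤ Nat.card H := fun K hK => hHmax ⟨K, hK⟩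
  by_contra hcon
  have hex : ∃ r : ℕ, r.Prime ∧ P r ∧ r ∣ H.index := by
    by_contra h
    exact hcon ⟨H, hHpi, fun q hq hd hP => h ⟨q, hq, hP, hd⟩⟩
  obtain ⟨r, hr, hPr, hrH⟩ := hex
  -- (O1') inside a proper overgroup, `H` has `π'`-index
  have hO1 : ∀ C : Subgroup G, C ≠ ⊤ → H ≤ C → ∀ q : ℕ, q.Prime → P q → ¬ q ∣ H.relIndex C := by
    intro C hC hHC q hq hPq
    obtain ⟨A, hAC, hApi, hAidx⟩ := hIH C hC
    have hcA := card_mul_relIndex_of_le hAC
    have hcH := card_mul_relIndex_of_le hHC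
    have hcop : Nat.Coprime (Nat.card H) (A.relIndex C) :=
      Nat.coprime_of_dvd fun k hk hk1 hk2 => hAidx k hk hk2 (hHpi k hk hk1)
    have hdvd : Nat.card H ∣ Nat.card A := by
      apply hcop.dvd_of_dvd_mul_right
      rw [hcA, ← hcH]
      exact dvd_mul_right _ _
    have heq : Nat.card H = Nat.card A :=
      le_antisymm (Nat.le_of_dvd Nat.card_pos hdvd) (hmax A hApi)
    have hrel : H.relIndex C = A.relIndex C := by
      apply Nat.eq_of_mul_eq_mul_left (Nat.card_pos (α := H))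
      rw [hcH, heq, hcA]
    rw [hrel]
    exact fun hd => hAidx q hq hd hPq
  -- centralizers of non-central elements of `H`
  have hcent : ∀ h ∈ H, h ∉ Subgroup.center G →
      Subgroup.centralizer {h} ≠ ⊤ ∧ H ≤ Subgroup.centralizer {h} := by
    intro h hh hnc
    constructor
    · intro htop
      apply hnc
      rw [Subgroup.mem_center_iff]
      intro g
      have hg : g ∈ Subgroup.centralizer {h} := by rw [htop]; trivial
      rw [Subgroup.mem_centralizer_iff] at hg
      exact (hg h rfl).symm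
    · intro x hx
      rw [Subgroup.mem_centralizer_iff]
      intro z hz
      rw [Set.mem_singleton_iff] at hz
      subst hz
      exact hab H hHpi z hh x hx
  -- (a) `r'`-elements of `H` are central when `r'` divides the index
  have ha : ∀ r' : ℕ, r'.Prime → P r' → r' ∣ H.index → ∀ h ∈ H,
      (∃ k : ℕ, orderOf h = r' ^ k) → h ∈ Subgroup.center G := by
    intro r' hr' hPr' hr'H h hh ⟨k, hk⟩
    by_contra hnc
    obtain ⟨hCtop, hHC⟩ := hcent h hh hnc
    haveI : Fact r'.Prime := ⟨hr'⟩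
    have hzp : IsPGroup r' (Subgroup.zpowers h) := by
      apply IsPGroup.of_card (n := k)
      rw [Nat.card_zpowers, hk]
    obtain ⟨R, hR⟩ := hzp.exists_le_sylow
    have hRpi : ∀ q : ℕ, q.Prime → q ∣ Nat.card (R : Subgroup G) → P q := by
      intro q hq hd
      obtain ⟨n, hn⟩ := IsPGroup.iff_card.mp R.isPGroup'
      rw [hn] at hd
      have := (Nat.prime_dvd_prime_iff_eq hq hr').mp (hq.dvd_of_dvd_pow hd)
      rw [this]
      exact hPr'
    have hRC : (R : Subgroup G) ≤ Subgroup.centralizer {h} := by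
      intro x hx
      rw [Subgroup.mem_centralizer_iff]
      intro z hz
      rw [Set.mem_singleton_iff] at hz
      subst hz
      exact hab R hRpi z (hR (Subgroup.mem_zpowers z)) x hx
    have h1 : r' ∣ H.relIndex (Subgroup.centralizer {h}) * (Subgroup.centralizer {h}).index := by
      rw [Subgroup.relIndex_mul_index hHC]
      exact hr'H
    rcases hr'.dvd_mul.mp h1 with h2 | h2
    · exact hO1 _ hCtop hHC r' hr' hPr' h2
    · exact R.not_dvd_index (dvd_trans h2 (Subgroup.index_dvd_of_le hRC))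
  -- (b) a non-central element of prime power order in `H`
  have hb : ∃ u ∈ H, ∃ p k : ℕ, p.Prime ∧ orderOf u = p ^ k ∧ u ∉ Subgroup.center G := by
    by_contra hno
    have hHZ : H ≤ Subgroup.center G := by
      apply le_center_of_primePow
      intro u hu ⟨p, k, hp, hk⟩
      by_contra hnc
      exact hno ⟨u, hu, p, k, hp, hk, hnc⟩
    haveI : H.Normal := by
      constructor
      intro n hn g
      have := Subgroup.mem_center_iff.mp (hHZ hn) g
      rw [this, mul_inv_cancel_right]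
      exact hn
    obtain ⟨K, hK⟩ := exists_card_eq_mul_of_normal H hr hrH
    have hKpi : ∀ q : ℕ, q.Prime → q ∣ Nat.card K → P q := by
      intro q hq hd
      rw [hK] at hd
      rcases hq.dvd_mul.mp hd with h1 | h1
      · exact hHpi q hq h1
      · rw [(Nat.prime_dvd_prime_iff_eq hq hr).mp h1]
        exact hPr
    have := hmax K hKpi
    rw [hK] at this
    have h2 : Nat.card H * 2 ≤ Nat.card H * r := Nat.mul_le_mul_left _ hr.two_le
    have h3 : 0 < Nat.card H := Nat.card_pos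
    omega
  obtain ⟨u, hu, p, k, hp, hk, hunc⟩ := hb
  have hk0 : k ≠ 0 := by
    rintro rfl
    rw [pow_zero, orderOf_eq_one_iff] at hk
    rw [hk] at hunc
    exact hunc (Subgroup.one_mem _)
  have hpu : p ∣ orderOf u := by
    rw [hk]
    exact dvd_pow_self p hk0
  have hpH : p ∣ Nat.card H := by
    have h1 : orderOf (⟨u, hu⟩ : H) ∣ Nat.card H := orderOf_dvd_natCard _
    rw [Subgroup.orderOf_mk] at h1
    exact dvd_trans hpu h1
  have hPp : P p := hHpi p hp hpH
  have hpidx : ¬ p ∣ H.index := fun hd => hunc (ha p hp hPp hd u hu ⟨k, hk⟩)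
  have hpr : p ≠ r := by
    rintro rfl
    exact hpidx hrH
  have hpG : p ∣ Nat.card G := dvd_trans hpH (Subgroup.card_subgroup_dvd_card H)
  have hrG : r ∣ Nat.card G := dvd_trans hrH (Subgroup.index_dvd_card H)
  -- (d) the commuting pair
  obtain ⟨x, y, hxy, ⟨kx, hkx⟩, ⟨ky, hky⟩, hxnc, hync⟩ := hPQ p r hp hr hpr hPp hPr hpG hrG
  haveI : Fact p.Prime := ⟨hp⟩
  haveI : Fact r.Prime := ⟨hr⟩
  obtain ⟨c, -, hc⟩ := exists_conj_mem_of_not_dvd_relIndex H ⊤
    (by rwa [Subgroup.relIndex_top_right]) (Subgroup.mem_top x) ⟨kx, hkx⟩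
  have hcenter_conj : ∀ z d : G, d⁻¹ * z * d ∈ Subgroup.center G → z ∈ Subgroup.center G := by
    intro z d hz
    have h1 : z = d * (d⁻¹ * z * d) * d⁻¹ := by group
    rw [h1]
    exact (inferInstance : (Subgroup.center G).Normal).conj_mem _ hz d
  have hx'nc : c⁻¹ * x * c ∉ Subgroup.center G := fun h => hxnc (hcenter_conj x c h)
  obtain ⟨hCtop, hHC⟩ := hcent _ hc hx'nc
  have hy'C : c⁻¹ * y * c ∈ Subgroup.centralizer {c⁻¹ * x * c} := by
    rw [Subgroup.mem_centralizer_iff]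
    intro z hz
    rw [Set.mem_singleton_iff] at hz
    subst hz
    have h1 : c⁻¹ * x * c * (c⁻¹ * y * c) = c⁻¹ * (x * y) * c := by group
    have h2 : c⁻¹ * y * c * (c⁻¹ * x * c) = c⁻¹ * (y * x) * c := by group
    rw [h1, h2, hxy.eq]
  have hnr := hO1 _ hCtop hHC r hr hPr
  obtain ⟨c', -, hc'⟩ := exists_conj_mem_of_not_dvd_relIndex H _ hnr hy'C
    ⟨ky, by rw [orderOf_conj', hky]⟩
  have hy''Z : c'⁻¹ * (c⁻¹ * y * c) * c' ∈ Subgroup.center G :=
    ha r hr hPr hrH _ hc' ⟨ky, by rw [orderOf_conj', orderOf_conj', hky]⟩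
  exact hync (hcenter_conj y c (hcenter_conj _ c' hy''Z))

end Cfsg.Agent.Helper65.Blich
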