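import Cfsg.Agent.Helper65.Breadth

/-!
# The averaging argument: `(c - 1) (p - 1) < b p`
-/

set_option autoImplicit false

namespace Cfsg.Agent.Helper65

open Subgroup
open scoped commutatorElement

variable {G : Type*} [Group G] [Finite G] {p : ℕ} [Fact p.Prime]

open Classical in
theorem IsPGroup.breadth_class_bound (hG : IsPGroup p G) [Group.IsNilpotent G] (b : ℕ)
    (hb1 : b ≠ 0)
    (hb : ∀ x : G, (centralizer ({x} : Set G)).index ≤ p ^ b) :
    (Group.nilpotencyClass G - 1) * (p - 1) < b * p := by
  have : Fintype G := Fintype.ofFinite G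
  have hp : p.Prime := Fact.out
  obtain ⟨q, rfl⟩ : ∃ q, p = q + 1 := ⟨p - 1, by have := hp.pos; omega⟩
  set c := Group.nilpotencyClass G with hc
  set N := Fintype.card G with hN
  have hNpos : 0 < N := Fintype.card_pos
  let m : G → ℕ := fun x => ((Finset.range (c - 1)).filter (fun j => x ∉ twoStep G j)).card
  have hm_le : ∀ x, m x ≤ b := fun x => IsPGroup.card_filter_le_of_index_le hG x (c - 1) b (hb x)
  have hm_one : m 1 = 0 := by
    simp only [m, Finset.card_eq_zero, Finset.filter_eq_empty_iff]
    intro j _ h
    exact h (one_mem _)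
  -- double counting
  have hsum : ∑ x : G, m x =
      ∑ j ∈ Finset.range (c - 1), (Finset.univ.filter (fun x : G => x ∉ twoStep G j)).card := by
    simp only [m, Finset.card_filter]
    exact Finset.sum_comm
  -- each two-step centralizer is small
  have heach : ∀ j ∈ Finset.range (c - 1),
      q * N ≤ (q + 1) * (Finset.univ.filter (fun x : G => x ∉ twoStep G j)).card := by
    intro j hj
    rw [Finset.mem_range] at hj
    have hne : twoStep G j ≠ ⊤ := twoStep_ne_top (by omega)
    have h1 := IsPGroup.mul_card_le_of_ne_top hG hne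
    have h2 : Nat.card (twoStep G j) = (Finset.univ.filter (fun x : G => x ∈ twoStep G j)).card := by
      rw [Nat.card_eq_fintype_card, Fintype.card_subtype]
    have h3 := Finset.card_filter_add_card_filter_not (s := (Finset.univ : Finset G))
      (fun x : G => x ∈ twoStep G j)
    rw [Finset.card_univ] at h3
    rw [h2, Nat.card_eq_fintype_card] at h1
    nlinarith
  have h4 : (c - 1) * (q * N) ≤ (q + 1) * ∑ x : G, m x := by
    rw [hsum, Finset.mul_sum]
    calc (c - 1) * (q * N) = (Finset.range (c - 1)).card • (q * N) := by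
          rw [Finset.card_range, smul_eq_mul]
      _ ≤ _ := Finset.card_nsmul_le_sum _ _ _ heach
  have h5 : ∑ x : G, m x ≤ (N - 1) * b := by
    rw [← Finset.sum_erase Finset.univ hm_one]
    calc ∑ x ∈ Finset.univ.erase (1 : G), m x ≤ (Finset.univ.erase (1 : G)).card • b :=
          Finset.sum_le_card_nsmul _ _ _ (fun x _ => hm_le x)
      _ = (N - 1) * b := by
          rw [Finset.card_erase_of_mem (Finset.mem_univ _), Finset.card_univ, smul_eq_mul]
  have hb1' : 1 ≤ b := Nat.one_le_iff_ne_zero.mpr hb1
  have h6 : (c - 1) * q * N < b * (q + 1) * N := by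
    have h7 : (q + 1) * ((N - 1) * b) < b * (q + 1) * N := by
      have : N - 1 < N := by omega
      have h8 : (N - 1) * (b * (q + 1)) < N * (b * (q + 1)) :=
        Nat.mul_lt_mul_of_pos_right this (by positivity)
      calc (q + 1) * ((N - 1) * b) = (N - 1) * (b * (q + 1)) := by ring
        _ < N * (b * (q + 1)) := h8
        _ = b * (q + 1) * N := by ring
    calc (c - 1) * q * N = (c - 1) * (q * N) := by ring
      _ ≤ (q + 1) * ∑ x : G, m x := h4
      _ ≤ (q + 1) * ((N - 1) * b) := Nat.mul_le_mul_left _ h5
      _ < _ := h7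
  have h9 := Nat.lt_of_mul_lt_mul_right h6
  simpa using h9

end Cfsg.Agent.Helper65
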