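import Cfsg.Agent.Helper86.CEDefs
import Cfsg.Agent.Helper88.FusionCentric
import Cfsg.Agent.Helper84.KNormSys

/-!
# The subsystem of maps extending trivially on a centralizing subgroup (piece W9 for helper86)
-/

set_option autoImplicit false

namespace Cfsg.Agent.Helper65

open Cfsg Cfsg.FusionSystem Cfsg.Agent.Helper87 Cfsg.Agent.Helper86.CE

variable {Ω : Type*} [Group Ω] {S : Subgroup Ω}

/-- conjugation by an element of `T` extends, fixing a subgroup centralizing `T`. -/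
theorem extFix_conj (F : FusionSystem S) {T X P : Subgroup Ω} (hTS : T ≤ S)
    (hX : X ≤ centralizerIn S T) (hP : P ≤ T) {g : Ω} (hg : g ∈ T) :
    ExtFix F X P (conjHom P g) := by
  have hXS : X ≤ S := fun x hx => (hX hx).1
  refine ⟨conjHom (P ⊔ X) g, F.conj_mem (sup_le (hP.trans hTS) hXS) (hTS hg), fun x => rfl,
    fun x => ?_⟩
  rw [conjHom_apply]
  have hc := Subgroup.mem_centralizer_iff.mp (hX x.2).2 g hg
  show g * (x : Ω) * g⁻¹ = x
  rw [hc, mul_inv_cancel_right]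

/-- composition of extendable maps. -/
theorem extFix_comp (F : FusionSystem S) {X P Q : Subgroup Ω} {φ : P →* Ω} {ψ : Q →* Ω}
    (hφ : ExtFix F X P φ) (hψ : ExtFix F X Q ψ) (h : ∀ x : P, φ x ∈ Q) :
    ExtFix F X P (ψ.comp (φ.codRestrict Q h)) := by
  obtain ⟨φ', hφ', hφP, hφX⟩ := hφ
  obtain ⟨ψ', hψ', hψQ, hψX⟩ := hψ
  have hmap : ∀ z, φ' z ∈ Q ⊔ X :=
    Cfsg.Agent.Helper84.map_sup_mem φ' (fun x => by rw [hφP]; exact h x)
      (fun x => by rw [hφX]; exact x.2)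
  refine ⟨ψ'.comp (φ'.codRestrict (Q ⊔ X) hmap), F.comp_mem hφ' hψ' hmap, ?_, ?_⟩
  · intro x
    have h1 : (φ'.codRestrict (Q ⊔ X) hmap) (Subgroup.inclusion le_sup_left x) =
        Subgroup.inclusion le_sup_left (⟨φ x, h x⟩ : Q) := Subtype.ext (hφP x)
    rw [MonoidHom.comp_apply, h1, hψQ]
    rfl
  · intro x
    have h1 : (φ'.codRestrict (Q ⊔ X) hmap) (Subgroup.inclusion le_sup_right x) =
        Subgroup.inclusion le_sup_right x := Subtype.ext (hφX x)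
    rw [MonoidHom.comp_apply, h1, hψX]

/-- the inverse of an extendable map is extendable. -/
theorem extFix_inv (F : FusionSystem S) {X P : Subgroup Ω} {φ : P →* Ω} (hφ : ExtFix F X P φ)
    {ψ : φ.range →* Ω} (hψ : ∀ x : P, ψ ⟨φ x, ⟨x, rfl⟩⟩ = (x : Ω)) : ExtFix F X φ.range ψ := by
  obtain ⟨φ', hφ', hφP, hφX⟩ := hφ
  obtain ⟨χ, hχ, hχinv⟩ := F.inv_mem hφ'
  have hle : φ.range ⊔ X ≤ φ'.range := by
    apply sup_le
    · rintro _ ⟨x, rfl⟩
      exact ⟨Subgroup.inclusion le_sup_left x, hφP x⟩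
    · intro x hx
      exact ⟨Subgroup.inclusion le_sup_right ⟨x, hx⟩, hφX ⟨x, hx⟩⟩
  refine ⟨χ.comp (Subgroup.inclusion hle), restrict_mem F hχ hle, ?_, ?_⟩
  · rintro ⟨_, ⟨x, rfl⟩⟩
    rw [hψ x]
    have h1 : Subgroup.inclusion hle (Subgroup.inclusion le_sup_left
        (⟨φ x, ⟨x, rfl⟩⟩ : φ.range)) =
        ⟨φ' (Subgroup.inclusion le_sup_left x), ⟨_, rfl⟩⟩ := Subtype.ext (hφP x).symm
    rw [MonoidHom.comp_apply, h1, hχinv]
    rfl
  · intro x
    have h1 : Subgroup.inclusion hle (Subgroup.inclusion le_sup_right x) =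
        ⟨φ' (Subgroup.inclusion le_sup_right x), ⟨_, rfl⟩⟩ := Subtype.ext (hφX x).symm
    rw [MonoidHom.comp_apply, h1, hχinv]
    rfl

/-- the subsystem of `E` of the maps which extend, in `F`, to maps fixing `X` elementwise. -/
def cenSub (F : FusionSystem S) {T : Subgroup Ω} (E : FusionSystem T) (X : Subgroup Ω)
    (hTS : T ≤ S) (hX : X ≤ centralizerIn S T) : FusionSystem T where
  Hom P := {φ | φ ∈ E.Hom P ∧ ExtFix F X P φ}
  le_of_mem h := E.le_of_mem h.1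
  injective_of_mem h := E.injective_of_mem h.1
  conj_mem hP hg := ⟨E.conj_mem hP hg, extFix_conj F hTS hX hP hg⟩
  comp_mem hφ hψ h := ⟨E.comp_mem hφ.1 hψ.1 h, extFix_comp F hφ.2 hψ.2 h⟩
  inv_mem hφ := by
    obtain ⟨ψ, hψ, hinv⟩ := E.inv_mem hφ.1
    exact ⟨ψ, ⟨hψ, extFix_inv F hφ.2 hinv⟩, hinv⟩

@[simp] theorem mem_cenSub_hom (F : FusionSystem S) {T : Subgroup Ω} (E : FusionSystem T)
    (X : Subgroup Ω) (hTS : T ≤ S) (hX : X ≤ centralizerIn S T) {P : Subgroup Ω} {φ : P →* Ω} :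
    φ ∈ (cenSub F E X hTS hX).Hom P ↔ φ ∈ E.Hom P ∧ ExtFix F X P φ := Iff.rfl

end Cfsg.Agent.Helper65
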