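import Mathlib
import Cfsg.Agent.Helper53.CHMDefs

/-!
# Elements of class size prime to `p` in a nilpotent group (piece (H) for helper53, S4139)
-/

set_option autoImplicit false

namespace Cfsg.Agent.Helper65.CHM

open Cfsg.Agent.Helper53.CHM

/-- a subgroup of index prime to `p` contains a Sylow `p`-subgroup. -/
theorem exists_sylow_le_of_not_dvd_index {G : Type*} [Group G] [Finite G] {p : ℕ} [Fact p.Prime]
    {K : Subgroup G} (hK : ¬ p ∣ K.index) : ∃ P : Sylow p G, (P : Subgroup G) ≤ K := by
  obtain ⟨R⟩ : Nonempty (Sylow p K) := inferInstance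
  have h1 : IsPGroup p (R.1.map K.subtype) := R.isPGroup'.map K.subtype
  have h2 : ¬ p ∣ (R.1.map K.subtype).index := by
    rw [Subgroup.index_map_subtype]
    intro hd
    rcases (Nat.Prime.dvd_mul Fact.out).mp hd with h | h
    · exact R.not_dvd_index h
    · exact hK h
  refine ⟨h1.toSylow h2, fun x hx => ?_⟩
  have hx' : x ∈ R.1.map K.subtype := hx
  obtain ⟨y, -, rfl⟩ := hx'
  exact y.2

/-- a subgroup containing a Sylow subgroup for every prime is the whole group. -/
theorem eq_top_of_forall_sylow_le {G : Type*} [Group G] [Finite G] (K : Subgroup G)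
    (h : ∀ (q : ℕ) [Fact q.Prime], ∃ Q : Sylow q G, (Q : Subgroup G) ≤ K) : K = ⊤ := by
  rw [← Subgroup.card_eq_iff_eq_top]
  apply Nat.dvd_antisymm (Subgroup.card_subgroup_dvd_card K)
  rw [← Nat.factorization_prime_le_iff_dvd Nat.card_pos.ne' Nat.card_pos.ne']
  intro q hq
  haveI : Fact q.Prime := ⟨hq⟩
  obtain ⟨Q, hQ⟩ := h q
  rw [← Nat.Prime.pow_dvd_iff_le_factorization hq Nat.card_pos.ne', ← Q.card_eq_multiplicity]
  exact Subgroup.card_dvd_of_le hQ

/-- **in a nilpotent group, the number of elements of class size prime to `p`.** -/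
theorem card_Ap_of_isNilpotent {H : Type*} [Group H] [Finite H] (hH : Group.IsNilpotent H)
    (p : ℕ) [Fact p.Prime] :
    Nat.card (Ap H p) = Nat.card H / p ^ (Nat.card H).factorization p *
      p ^ (Nat.card (Subgroup.center H)).factorization p := by
  have hp : p.Prime := Fact.out
  have hnorm : ∀ (q : ℕ) [Fact q.Prime] (Q : Sylow q H), (Q : Subgroup H).Normal := by
    intro q hq Q
    have h03 : Group.IsNilpotent H ↔ ∀ (p : ℕ), Fact (Nat.Prime p) → ∀ (P : Sylow p H),
        (P : Subgroup H).Normal := (Group.isNilpotent_of_finite_tfae (G := H)).out 0 3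
    exact h03.mp hH q hq Q
  obtain ⟨P⟩ : Nonempty (Sylow p H) := inferInstance
  haveI hPn := hnorm p P
  haveI : Subsingleton (Sylow p H) := (Sylow.unique_of_normal P hPn).instSubsingleton
  obtain ⟨C, hC⟩ : ∃ C : Subgroup H, C = Subgroup.centralizer ((P : Subgroup H) : Set H) :=
    ⟨_, rfl⟩
  have hmemC : ∀ x : H, x ∈ C ↔ ∀ g ∈ (P : Subgroup H), g * x = x * g := by
    intro x
    rw [hC, Subgroup.mem_centralizer_iff]
    rfl
  -- Step 1: the set is the centralizer of the Sylow subgroup
  have hAp : Ap H p = (C : Set H) := by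
    ext x
    rw [mem_Ap, SetLike.mem_coe, hmemC]
    constructor
    · intro hx g hg
      obtain ⟨P', hP'⟩ := exists_sylow_le_of_not_dvd_index hx
      have hPP : P' = P := Subsingleton.elim _ _
      rw [hPP] at hP'
      have := Subgroup.mem_centralizer_iff.mp (hP' hg) x rfl
      exact this.symm
    · intro hx hd
      have hle : (P : Subgroup H) ≤ Subgroup.centralizer {x} := by
        intro g hg
        rw [Subgroup.mem_centralizer_iff]
        intro y hy
        rw [Set.mem_singleton_iff] at hy
        rw [hy]
        exact (hx g hg).symm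
      exact P.not_dvd_index (dvd_trans hd (Subgroup.index_dvd_of_le hle))
  rw [hAp]
  change Nat.card C = _
  have hC0 : Nat.card C ≠ 0 := Nat.card_pos.ne'
  have hH0 : Nat.card H ≠ 0 := Nat.card_pos.ne'
  have hZ0 : Nat.card (Subgroup.center H) ≠ 0 := Nat.card_pos.ne'
  -- the other Sylow subgroups centralize `P`
  have hcomm : ∀ (q : ℕ) [Fact q.Prime], q ≠ p → ∀ Q : Sylow q H, ∀ x ∈ (P : Subgroup H),
      ∀ y ∈ (Q : Subgroup H), x * y = y * x := by
    intro q hq hqp Q x hx y hy
    haveI := hnorm q Q
    have hdis : Disjoint (P : Subgroup H) (Q : Subgroup H) :=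
      IsPGroup.disjoint_of_ne p q (Ne.symm hqp) _ _ P.isPGroup' Q.isPGroup'
    exact Subgroup.commute_of_normal_of_disjoint _ _ hPn inferInstance hdis x y hx hy
  have hCq : ∀ q : ℕ, q.Prime → q ≠ p →
      (Nat.card C).factorization q = (Nat.card H).factorization q := by
    intro q hq hqp
    haveI : Fact q.Prime := ⟨hq⟩
    apply le_antisymm
    · exact (Nat.factorization_le_iff_dvd hC0 hH0).mpr (Subgroup.card_subgroup_dvd_card C) q
    · obtain ⟨Q⟩ : Nonempty (Sylow q H) := inferInstance
      have hQC : (Q : Subgroup H) ≤ C := by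
        intro y hy
        rw [hmemC]
        intro g hg
        exact hcomm q hqp Q g hg y hy
      rw [← Nat.Prime.pow_dvd_iff_le_factorization hq hC0, ← Q.card_eq_multiplicity]
      exact Subgroup.card_dvd_of_le hQC
  have hCp : (Nat.card C).factorization p = (Nat.card (Subgroup.center H)).factorization p := by
    apply le_antisymm
    · -- a Sylow subgroup of `C` is central
      obtain ⟨R⟩ : Nonempty (Sylow p C) := inferInstance
      have hRp : IsPGroup p (R.1.map C.subtype) := R.isPGroup'.map C.subtype
      have hRcard : Nat.card (R.1.map C.subtype) = p ^ (Nat.card C).factorization p := by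
        rw [Subgroup.card_map_of_injective C.subtype_injective]
        exact R.card_eq_multiplicity
      have hRP : R.1.map C.subtype ≤ (P : Subgroup H) := by
        obtain ⟨P', hP'⟩ := hRp.exists_le_sylow
        have hPP : P' = P := Subsingleton.elim _ _
        rw [hPP] at hP'
        exact hP'
      have hRC : R.1.map C.subtype ≤ C := by
        rintro _ ⟨y, -, rfl⟩
        exact y.2
      have hRZ : R.1.map C.subtype ≤ Subgroup.center H := by
        intro r hr
        have hrC := (hmemC r).mp (hRC hr)
        have hrP := hRP hr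
        have htop : Subgroup.centralizer ({r} : Set H) = ⊤ := by
          apply eq_top_of_forall_sylow_le
          intro q hq
          by_cases hqp : q = p
          · subst hqp
            refine ⟨P, fun g hg => ?_⟩
            rw [Subgroup.mem_centralizer_iff]
            intro y hy
            rw [Set.mem_singleton_iff] at hy
            rw [hy]
            exact (hrC g hg).symm
          · obtain ⟨Q⟩ : Nonempty (Sylow q H) := inferInstance
            refine ⟨Q, fun g hg => ?_⟩
            rw [Subgroup.mem_centralizer_iff]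
            intro y hy
            rw [Set.mem_singleton_iff] at hy
            rw [hy]
            exact hcomm q hqp Q r hrP g hg
        rw [Subgroup.mem_center_iff]
        intro g
        have hg : g ∈ Subgroup.centralizer ({r} : Set H) := by rw [htop]; trivial
        exact (Subgroup.mem_centralizer_iff.mp hg r rfl).symm
      rw [← Nat.Prime.pow_dvd_iff_le_factorization hp hZ0, ← hRcard]
      exact Subgroup.card_dvd_of_le hRZ
    · have hle : Subgroup.center H ≤ C := by
        rw [hC]
        exact Subgroup.center_le_centralizer _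
      exact (Nat.factorization_le_iff_dvd hZ0 hC0).mpr (Subgroup.card_dvd_of_le hle) p
  -- compare factorizations
  have hdvd : p ^ (Nat.card H).factorization p ∣ Nat.card H := Nat.ordProj_dvd _ _
  have hm0 : Nat.card H / p ^ (Nat.card H).factorization p ≠ 0 := by
    intro h0
    rw [Nat.div_eq_zero_iff] at h0
    rcases h0 with h0 | h0
    · exact (pow_pos hp.pos _).ne' h0
    · exact absurd (Nat.le_of_dvd Nat.card_pos hdvd) (not_le.mpr h0)
  have hz0 : p ^ (Nat.card (Subgroup.center H)).factorization p ≠ 0 := (pow_pos hp.pos _).ne'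
  apply Nat.eq_of_factorization_eq hC0 (mul_ne_zero hm0 hz0)
  intro q
  rw [Nat.factorization_mul hm0 hz0, Nat.factorization_div hdvd, hp.factorization_pow,
    hp.factorization_pow]
  simp only [Finsupp.coe_add, Finsupp.coe_tsub, Pi.add_apply, Pi.sub_apply]
  by_cases hq : q.Prime
  · by_cases hqp : q = p
    · subst hqp
      rw [hCp, Finsupp.single_eq_same, Finsupp.single_eq_same, Nat.sub_self, zero_add]
    · rw [hCq q hq hqp, Finsupp.single_eq_of_ne hqp, Finsupp.single_eq_of_ne hqp, Nat.sub_zero,
        add_zero]
  · have hqp : q ≠ p := fun h => hq (h ▸ hp)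
    rw [Nat.factorization_eq_zero_of_not_prime _ hq, Nat.factorization_eq_zero_of_not_prime _ hq,
      Finsupp.single_eq_of_ne hqp, Finsupp.single_eq_of_ne hqp]
    rfl

end Cfsg.Agent.Helper65.CHM
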