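import Mathlib
import Cfsg.Agent.Helper53.CHMDefs
import Cfsg.Agent.Helper65.CHMH

/-!
# Many `p'`-elements centralizing a Sylow subgroup (piece (D) for helper53, S4139)
-/

set_option autoImplicit false

namespace Cfsg.Agent.Helper65.CHM

open Cfsg.Agent.Helper53.CHM

/-- a `p`-element centralizing a Sylow `p`-subgroup lies in it. -/
theorem mem_sylow_of_commute {G : Type*} [Group G] {p : ℕ} [Fact p.Prime] (P : Sylow p G)
    {u : G} {N : ℕ} (hu : u ^ p ^ N = 1) (hc : ∀ g ∈ (P : Subgroup G), g * u = u * g) :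
    u ∈ (P : Subgroup G) := by
  have h1 : IsPGroup p (Subgroup.zpowers u) := by
    rintro ⟨y, hy⟩
    obtain ⟨k, rfl⟩ := Subgroup.mem_zpowers_iff.mp hy
    refine ⟨N, Subtype.ext ?_⟩
    show (u ^ k) ^ p ^ N = 1
    rw [← zpow_natCast, ← zpow_mul, mul_comm, zpow_mul, zpow_natCast, hu, one_zpow]
  have h2 : Subgroup.zpowers u ≤ Subgroup.normalizer ((P : Subgroup G) : Set G) := by
    rw [Subgroup.zpowers_le]
    rw [Subgroup.mem_normalizer_iff]
    intro g
    have hconj : ∀ g, g ∈ (P : Subgroup G) → u * g * u⁻¹ = g := by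
      intro g hg
      rw [← hc g hg, mul_inv_cancel_right]
    constructor
    · intro hg
      rw [hconj g hg]
      exact hg
    · intro hg
      have h3 := hconj _ hg
      have h4 : u * g * u⁻¹ = g := by
        have : u * (u * g * u⁻¹) * u⁻¹ = u * g * u⁻¹ := h3
        calc u * g * u⁻¹ = u⁻¹ * (u * (u * g * u⁻¹) * u⁻¹) * u := by group
          _ = u⁻¹ * (u * g * u⁻¹) * u := by rw [this]
          _ = g := by group
      rw [← h4]
      exact hg
  have h3 := h1.to_sup_of_normal_right' P.isPGroup' h2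
  have h4 := P.is_maximal' h3 le_sup_right
  have h5 : u ∈ Subgroup.zpowers u ⊔ (P : Subgroup G) :=
    Subgroup.mem_sup_left (Subgroup.mem_zpowers u)
  rw [h4] at h5
  exact h5

/-- **many `p'`-elements centralize a Sylow `p`-subgroup.** -/
theorem le_card_Wp {G : Type*} [Group G] [Finite G] (p : ℕ) [Fact p.Prime]
    (h : Nat.card (Ap G p) = Nat.card G / p ^ (Nat.card G).factorization p *
      p ^ (Nat.card (Subgroup.center G)).factorization p)
    (hZ : ∀ (P : Sylow p G) (u : G), u ∈ P → (∀ g ∈ P, g * u = u * g) → u ∈ Subgroup.center G) :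
    Nat.card G / p ^ (Nat.card G).factorization p ≤ Nat.card (Wp G p) := by
  have hp : p.Prime := Fact.out
  obtain ⟨a, ha⟩ : ∃ a, a = (Nat.card G).factorization p := ⟨_, rfl⟩
  obtain ⟨m, hm⟩ : ∃ m, m = Nat.card G / p ^ a := ⟨_, rfl⟩
  obtain ⟨z, hz⟩ : ∃ z, z = (Nat.card (Subgroup.center G)).factorization p := ⟨_, rfl⟩
  rw [← ha, ← hm, ← hz] at h
  rw [← ha, ← hm]
  have hNm : p ^ a * m = Nat.card G := by
    rw [hm, ha]
    exact Nat.ordProj_mul_ordCompl_eq_self _ _
  have hcop : Nat.Coprime (p ^ a) m := by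
    rw [hm, ha]
    exact (Nat.coprime_ordCompl hp Nat.card_pos.ne').pow_left _
  obtain ⟨s, t, hst⟩ := Nat.isCoprime_iff_coprime.mpr hcop
  -- `hst : s * ↑(p ^ a) + t * ↑m = 1`
  -- the central `p`-elements
  let Zp : Subgroup G :=
    { carrier := {c | c ∈ Subgroup.center G ∧ c ^ p ^ a = 1}
      one_mem' := ⟨Subgroup.one_mem _, one_pow _⟩
      mul_mem' := by
        rintro x y ⟨hx, hx'⟩ ⟨hy, hy'⟩
        refine ⟨Subgroup.mul_mem _ hx hy, ?_⟩
        have hc : Commute x y := Subgroup.mem_center_iff.mp hy x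
        rw [hc.mul_pow, hx', hy', one_mul]
      inv_mem' := by
        rintro x ⟨hx, hx'⟩
        exact ⟨Subgroup.inv_mem _ hx, by rw [inv_pow, hx', inv_one]⟩ }
  have hZple : Zp ≤ Subgroup.center G := fun c hc => hc.1
  have hZpcard : Nat.card Zp ≤ p ^ z := by
    have hZpp : IsPGroup p Zp := by
      rintro ⟨c, hc⟩
      exact ⟨a, Subtype.ext hc.2⟩
    obtain ⟨k, hk⟩ := hZpp.exists_card_eq
    have hdvd : p ^ k ∣ Nat.card (Subgroup.center G) := by
      rw [← hk]
      exact Subgroup.card_dvd_of_le hZple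
    have hkz : k ≤ z := by
      rw [hz]
      exact (Nat.Prime.pow_dvd_iff_le_factorization hp Nat.card_pos.ne').mp hdvd
    rw [hk]
    exact Nat.pow_le_pow_right hp.pos hkz
  -- facts on an element of class size prime to `p`
  have key : ∀ x : G, x ∈ Ap G p →
      x ^ (t * (m : ℤ)) ∈ Zp ∧ x ^ (s * ((p ^ a : ℕ) : ℤ)) ∈ Wp G p := by
    intro x hx
    obtain ⟨P', hP'⟩ := exists_sylow_le_of_not_dvd_index (mem_Ap.mp hx)
    have hcx : ∀ g ∈ (P' : Subgroup G), Commute g x := by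
      intro g hg
      exact (Subgroup.mem_centralizer_iff.mp (hP' hg) x rfl).symm
    have hu1 : (x ^ (t * (m : ℤ))) ^ p ^ a = 1 := by
      rw [← zpow_natCast, ← zpow_mul, mul_assoc, mul_comm, zpow_mul]
      have : ((m : ℤ) * ((p ^ a : ℕ) : ℤ)) = ((Nat.card G : ℕ) : ℤ) := by
        rw [← hNm]; push_cast; ring
      rw [this, zpow_natCast, pow_card_eq_one', one_zpow]
    have hw1 : (x ^ (s * ((p ^ a : ℕ) : ℤ))) ^ m = 1 := by
      rw [← zpow_natCast, ← zpow_mul, mul_assoc, mul_comm, zpow_mul]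
      have : (((p ^ a : ℕ) : ℤ) * (m : ℤ)) = ((Nat.card G : ℕ) : ℤ) := by
        rw [← hNm]; push_cast; ring
      rw [this, zpow_natCast, pow_card_eq_one', one_zpow]
    have hcu : ∀ g ∈ (P' : Subgroup G), g * x ^ (t * (m : ℤ)) = x ^ (t * (m : ℤ)) * g :=
      fun g hg => ((hcx g hg).zpow_right _).eq
    have huP : x ^ (t * (m : ℤ)) ∈ (P' : Subgroup G) := mem_sylow_of_commute P' hu1 hcu
    refine ⟨⟨hZ P' _ huP hcu, hu1⟩, ?_⟩
    rw [mem_Wp]
    refine ⟨?_, P', fun g hg => ?_⟩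
    · rw [← ha, ← hm]
      exact hw1
    · rw [Subgroup.mem_centralizer_iff]
      intro y hy
      rw [Set.mem_singleton_iff] at hy
      rw [hy]
      exact (((hcx g hg).zpow_right _).eq).symm
  -- the injection
  let f : Ap G p → Zp × Wp G p := fun x =>
    (⟨x.1 ^ (t * (m : ℤ)), (key x.1 x.2).1⟩, ⟨x.1 ^ (s * ((p ^ a : ℕ) : ℤ)), (key x.1 x.2).2⟩)
  have hf : Function.Injective f := by
    intro x y hxy
    have h1 : x.1 ^ (t * (m : ℤ)) = y.1 ^ (t * (m : ℤ)) := by
      have := congrArg (fun q => (q.1 : G)) hxy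
      exact this
    have h2 : x.1 ^ (s * ((p ^ a : ℕ) : ℤ)) = y.1 ^ (s * ((p ^ a : ℕ) : ℤ)) := by
      have := congrArg (fun q => (q.2 : G)) hxy
      exact this
    have hdec : ∀ g : G, g = g ^ (t * (m : ℤ)) * g ^ (s * ((p ^ a : ℕ) : ℤ)) := by
      intro g
      rw [← zpow_add, add_comm, hst, zpow_one]
    apply Subtype.ext
    rw [hdec x.1, hdec y.1, h1, h2]
  have hcard := Nat.card_le_card_of_injective f hf
  rw [Nat.card_prod, h] at hcard
  have h3 : m * p ^ z ≤ p ^ z * Nat.card (Wp G p) :=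
    le_trans hcard (Nat.mul_le_mul_right _ hZpcard)
  rw [mul_comm m] at h3
  exact Nat.le_of_mul_le_mul_left h3 (pow_pos hp.pos z)

end Cfsg.Agent.Helper65.CHM
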