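import Mathlib
import Cfsg.Agent.Helper65.Cover

set_option autoImplicit false

namespace Cfsg.Agent.Helper65

variable {G : Type*} [Group G] [Finite G] {p : ℕ} [hp : Fact p.Prime]

/-- If `p² ∤ |G|`, `z` has order `p` and lies in the nilpotent subgroup `A`, then every element of
`A` of `p`-power order is a power of `z`. -/
theorem mem_zpowers_of_nilpotent (hp2 : ¬ p ^ 2 ∣ Nat.card G) {z : G} (hz : orderOf z = p)
    (A : Subgroup G) (hA : Group.IsNilpotent ↥A) (hzA : z ∈ A) {x : G} (hx : x ∈ A)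
    (hxp : ∃ j : ℕ, orderOf x = p ^ j) : x ∈ Subgroup.zpowers z := by
  obtain ⟨H, hH, hHmem⟩ := exists_pSubgroup_of_nilpotent (p := p) A hA
  have hzH : z ∈ H := hHmem z hzA ⟨1, by rw [hz, pow_one]⟩
  have hxH : x ∈ H := hHmem x hx hxp
  obtain ⟨k, hk⟩ := IsPGroup.iff_card.mp hH
  have hdvd : Nat.card ↥H ∣ Nat.card G := Subgroup.card_subgroup_dvd_card H
  have hk1 : k ≤ 1 := by
    by_contra hk2
    push Not at hk2
    apply hp2
    calc p ^ 2 ∣ p ^ k := pow_dvd_pow p hk2
      _ = Nat.card ↥H := hk.symm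
      _ ∣ Nat.card G := hdvd
  have hle : Subgroup.zpowers z ≤ H := Subgroup.zpowers_le.mpr hzH
  have hcard : Nat.card ↥H ≤ Nat.card ↥(Subgroup.zpowers z) := by
    rw [Nat.card_zpowers, hz, hk]
    calc p ^ k ≤ p ^ 1 := Nat.pow_le_pow_right hp.out.pos hk1
      _ = p := pow_one p
  rw [Subgroup.eq_of_le_of_card_ge hle hcard]
  exact hxH

theorem le_centralizer_of_nilpotent (hp2 : ¬ p ^ 2 ∣ Nat.card G) {z : G} (hz : orderOf z = p)
    (A : Subgroup G) (hA : Group.IsNilpotent ↥A) (hzA : z ∈ A) :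
    A ≤ Subgroup.centralizer {z} := by
  intro a ha
  rw [Subgroup.mem_centralizer_iff]
  intro y hy
  rw [Set.mem_singleton_iff] at hy
  subst hy
  obtain ⟨k, l, hkl, hk, hl⟩ := exists_pow_decomp a (orderOf_pos a) p
  have h1 : Commute (a ^ k) y := by
    have := mem_zpowers_of_nilpotent hp2 hz A hA hzA (A.pow_mem ha k) hk
    obtain ⟨t, ht⟩ := Subgroup.mem_zpowers_iff.mp this
    rw [← ht]
    exact (Commute.refl y).zpow_left t
  have h2 : Commute (a ^ l) y := by
    have hcop : (orderOf (⟨a ^ l, A.pow_mem ha l⟩ : ↥A)).Coprime (orderOf (⟨y, hzA⟩ : ↥A)) := by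
      rw [Subgroup.orderOf_mk, Subgroup.orderOf_mk, hz]
      exact hl
    have := commute_of_coprime_orderOf ↥A _ _ hcop
    exact congrArg Subtype.val this.eq
  rw [← hkl]
  exact ((h1.mul_left h2).eq).symm

/-- The merging argument: two elements of prime order `p` (with `p² ∤ |G|`) generating different
subgroups, whose centralizers lie in a common proper subgroup, rule out a nilpotent minimal
cover. -/
theorem IsMinCover.false_of_prime {𝓐 : Finset (Subgroup G)} (h : IsMinCover 𝓐)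
    (hnil : ∀ A ∈ 𝓐, Group.IsNilpotent ↥A) (hp2 : ¬ p ^ 2 ∣ Nat.card G) {z z' : G}
    (hz : orderOf z = p) (hz' : orderOf z' = p) (hne : z' ∉ Subgroup.zpowers z)
    {M : Subgroup G} (hM : M ≠ ⊤) (hzM : Subgroup.centralizer {z} ≤ M)
    (hzM' : Subgroup.centralizer {z'} ≤ M) : False := by
  obtain ⟨A, hA, hzA⟩ := h.1.2 z
  obtain ⟨A', hA', hzA'⟩ := h.1.2 z'
  have h1 : A ≤ M := le_trans (le_centralizer_of_nilpotent hp2 hz A (hnil A hA) hzA) hzM
  have h2 : A' ≤ M := le_trans (le_centralizer_of_nilpotent hp2 hz' A' (hnil A' hA') hzA') hzM'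
  have hAA' : A = A' := h.eq_of_le hA hA' h1 h2 hM
  apply hne
  exact mem_zpowers_of_nilpotent hp2 hz A (hnil A hA) hzA (hAA' ▸ hzA') ⟨1, by rw [hz', pow_one]⟩

end Cfsg.Agent.Helper65
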