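import Mathlib
import Cfsg.Agent.Helper65.CoverPrime

set_option autoImplicit false

namespace Cfsg.Agent.Helper65

open Equiv

/-- A prime `p` with `p ≤ n < 2p` divides `n!` exactly once. -/
theorem not_sq_dvd_factorial {n p : ℕ} (hp : p.Prime) (hpn : p ≤ n) (hn : n < 2 * p) :
    ¬ p ^ 2 ∣ n.factorial := by
  rw [← emultiplicity_lt_iff_not_dvd]
  have hlog : Nat.log p n < 2 := by
    apply Nat.log_lt_of_lt_pow (by have := hp.pos; omega)
    have := hp.two_le
    nlinarith
  rw [hp.emultiplicity_factorial hlog]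
  have : ∑ i ∈ Finset.Ico 1 2, n / p ^ i = 1 := by
    have h12 : Finset.Ico 1 2 = {1} := by decide
    rw [h12, Finset.sum_singleton, pow_one]
    apply Nat.div_eq_of_lt_le
    · omega
    · omega
  rw [this]
  norm_num

/-- The permutation-group form of the merging argument. -/
theorem false_of_perm_data {G : Type*} [Group G] [Finite G] {α : Type*} [Fintype α] [DecidableEq α]
    (ι : G →* Perm α) (p : ℕ) [Fact p.Prime] (hp2 : ¬ p ^ 2 ∣ Nat.card G) (s : Finset α)
    (z z' g : G) (hz : orderOf z = p) (hz' : orderOf z' = p) (hne : z' ∉ Subgroup.zpowers z)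
    (hs : (ι z).support = s) (hs' : (ι z').support = s) (x : α) (hx : x ∈ s) (hgx : ι g x ∉ s)
    {𝓐 : Finset (Subgroup G)} (h : IsMinCover 𝓐) (hnil : ∀ A ∈ 𝓐, Group.IsNilpotent ↥A) :
    False := by
  let M : Subgroup G :=
    { carrier := {a | ∀ y, ι a y ∈ s ↔ y ∈ s}
      one_mem' := by intro y; simp
      mul_mem' := by
        intro a b ha hb y
        rw [map_mul, Perm.mul_apply, ha, hb]
      inv_mem' := by
        intro a ha y
        have := ha (ι a⁻¹ y)
        rw [← this, ← Perm.mul_apply, ← map_mul, mul_inv_cancel, map_one, Perm.one_apply] }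
  have hM : M ≠ ⊤ := by
    intro htop
    have hg : g ∈ M := by rw [htop]; trivial
    exact hgx ((hg x).mpr hx)
  have key : ∀ w : G, (ι w).support = s → Subgroup.centralizer {w} ≤ M := by
    intro w hw a ha y
    rw [Subgroup.mem_centralizer_iff] at ha
    have h1 : w * a = a * w := ha w (Set.mem_singleton w)
    have h2 : Commute (ι a) (ι w) := by
      change ι a * ι w = ι w * ι a
      rw [← map_mul, ← map_mul, h1]
    have := Perm.mem_support_iff_of_commute h2 y
    rw [hw] at this
    exact this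
  exact h.false_of_prime hnil hp2 hz hz' hne hM (key z hs) (key z' hs')

/-- Two `p`-cycles (`p ≥ 5` prime) with the same support generating different subgroups. -/
theorem exists_cycle_pair {α : Type*} [Fintype α] [DecidableEq α] (s : Finset α) (p : ℕ)
    (hp : p.Prime) (hp5 : 5 ≤ p) (hs : s.card = p) :
    ∃ z z' : Perm α, orderOf z = p ∧ orderOf z' = p ∧ z' ∉ Subgroup.zpowers z ∧ z.support = s ∧
      z'.support = s ∧ Perm.sign z = 1 ∧ Perm.sign z' = 1 := by
  obtain ⟨z, hzc, hzs⟩ := s.exists_cycleOn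
  have hsnt : s.Nontrivial := Finset.one_lt_card_iff_nontrivial.mp (by omega)
  have hsupp : z.support = s :=
    Finset.Subset.antisymm hzs (fun a ha => Perm.mem_support.mpr (hzc.apply_ne hsnt ha))
  have hcyc : z.IsCycle :=
    Perm.isCycle_iff_exists_isCycleOn.mpr
      ⟨s, hsnt, hzc, fun x hx => hzs (Perm.mem_support.mpr hx)⟩
  have hord : orderOf z = p := by rw [hcyc.orderOf, hsupp, hs]
  have hodd : Odd p := hp.odd_of_ne_two (by omega)
  have hsign : Perm.sign z = 1 := by
    rw [hcyc.sign, hsupp, hs, hodd.neg_one_pow]; simp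
  obtain ⟨x, hx⟩ := hsnt.nonempty
  have hy : z x ∈ s := hzc.1.mapsTo hx
  have hxy : z x ≠ x := hzc.apply_ne hsnt hx
  set σ : Perm α := swap x (z x) with hσ
  have hσs : ∀ a, σ a ∈ s ↔ a ∈ s := by
    intro a
    rw [hσ, swap_apply_def]
    split_ifs with h1 h2
    · rw [h1]; exact ⟨fun _ => hx, fun _ => hy⟩
    · rw [h2]; exact ⟨fun _ => hy, fun _ => hx⟩
    · rfl
  set z' : Perm α := σ * z * σ⁻¹ with hz'
  have hσinv : σ⁻¹ = σ := by rw [hσ, swap_inv]
  have hsupp' : z'.support = s := by
    rw [hz', Perm.support_conj, hsupp]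
    ext a
    rw [Finset.mem_map]
    constructor
    · rintro ⟨b, hb, rfl⟩
      exact (hσs b).mpr hb
    · intro ha
      refine ⟨σ a, (hσs a).mpr ha, ?_⟩
      change σ (σ a) = a
      rw [hσ, swap_apply_self]
  have hord' : orderOf z' = p := by
    have := MulEquiv.orderOf_eq (MulAut.conj σ) z
    rw [MulAut.conj_apply] at this
    rw [hz', this, hord]
  have hsign' : Perm.sign z' = 1 := by
    rw [hz', Perm.sign_mul, Perm.sign_mul, Perm.sign_inv, mul_comm, ← mul_assoc]
    simp [hsign]
  refine ⟨z, z', hord, hord', ?_, hsupp, hsupp', hsign, hsign'⟩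
  intro hmem
  obtain ⟨k, hk⟩ := Subgroup.mem_zpowers_iff.mp hmem
  -- evaluate at `z x`
  have e1 : z' (z x) = x := by
    rw [hz', Perm.mul_apply, Perm.mul_apply, hσinv]
    have : σ (z x) = x := by rw [hσ, swap_apply_right]
    rw [this]
    exact this
  have e2 : z' x = z (z x) := by
    rw [hz', Perm.mul_apply, Perm.mul_apply, hσinv]
    have : σ x = z x := by rw [hσ, swap_apply_left]
    rw [this]
    rw [hσ]
    apply swap_apply_of_ne_of_ne
    · intro h2
      -- z (z x) = x means p ∣ 2
      have h3 : (z ^ 2) x = x := by rw [pow_two, Perm.mul_apply]; exact h2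
      have := (hzc.pow_apply_eq hx).mp h3
      rw [hs] at this
      have := Nat.le_of_dvd (by norm_num) this
      omega
    · intro h2
      exact hxy (z.injective h2)
  rw [← hk] at e1 e2
  -- (z^k) (z x) = x  →  (z^(k+1)) x = (z^0) x
  have c1 : (k + 1 : ℤ) ≡ 0 [ZMOD (s.card : ℤ)] := by
    rw [← hzc.zpow_apply_eq_zpow_apply hx, zpow_add, zpow_one, Perm.mul_apply, zpow_zero,
      Perm.one_apply]
    exact e1
  have c2 : (k : ℤ) ≡ 2 [ZMOD (s.card : ℤ)] := by
    rw [← hzc.zpow_apply_eq_zpow_apply hx]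
    rw [e2]
    have : (z ^ (2 : ℤ)) x = z (z x) := by
      have h22 : (z ^ (2 : ℤ)) = z * z := by
        rw [show (2 : ℤ) = ((2 : ℕ) : ℤ) by norm_num, zpow_natCast, pow_two]
      rw [h22, Perm.mul_apply]
    rw [this]
  rw [hs] at c1 c2
  have c3 : (3 : ℤ) ≡ 0 [ZMOD (p : ℤ)] := by
    have := (c2.symm.add_right 1).trans c1
    simpa using this
  have c4 : (p : ℤ) ∣ 3 := by
    have := c3.symm.dvd
    simpa using this
  have c5 : p ∣ 3 := by exact_mod_cast c4
  have := Nat.le_of_dvd (by norm_num) c5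
  omega

end Cfsg.Agent.Helper65
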