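import Mathlib

/-!
# (JS) of #8994 for helper54's S0679: no non-identity element of support `≤ 3`
-/

set_option autoImplicit false

namespace Cfsg.Agent.Helper65.D11

open Equiv MulAction

variable {α : Type*} [Fintype α] [DecidableEq α]

/-- (JS) no non-identity element of support `≤ 3` -/
theorem four_le_support (hα : Fintype.card α = 11) (G : Subgroup (Perm α))
    [IsPretransitive G α] (hA : ¬ alternatingGroup α ≤ G) {g : Perm α} (hg : g ∈ G)
    (hg1 : g ≠ 1) : 4 ≤ g.support.card := by
  have hprim : IsPreprimitive G α := by
    apply IsPreprimitive.of_prime_card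
    rw [Nat.card_eq_fintype_card, hα]
    norm_num
  by_contra hlt
  rw [not_le] at hlt
  have h0 : g.support.card ≠ 0 := by
    rw [Ne, Finset.card_eq_zero, Perm.support_eq_empty_iff]
    exact hg1
  have h1 : g.support.card ≠ 1 := Perm.card_support_ne_one g
  have h23 : g.support.card = 2 ∨ g.support.card = 3 := by omega
  rcases h23 with h | h
  · rw [Perm.card_support_eq_two] at h
    have htop := Perm.subgroup_eq_top_of_isPreprimitive_of_isSwap_mem hprim g h hg
    exact hA (htop ▸ le_top)
  · rw [_root_.card_support_eq_three_iff] at h
    exact hA (Perm.alternatingGroup_le_of_isPreprimitive_of_isThreeCycle_mem hprim h hg)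

end Cfsg.Agent.Helper65.D11
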