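import Mathlib
import Cfsg.Agent.Helper16.DefOneSetup
import Cfsg.Agent.Helper16.SecondMainChar
import Cfsg.Agent.Helper48.DefOneGRa
import Cfsg.Agent.Helper82.McKayP.Singular

/-!
# (BLK-c) for helper16 (defect-one engine): every block of `C_G(P)` induces a block of `G`
-/

set_option autoImplicit false

namespace Cfsg.Agent.Helper65.DefOneBLK

open Cfsg Cfsg.Agent.Helper16 Cfsg.Agent.Helper16.DefOne

universe u

variable {G : Type u} [Group G] [Fintype G] {p : ℕ} [Fact p.Prime] (M : Ideal AlgInt)
  (P : Sylow p G)

/-- the `subst` form: a subgroup equal to the centralizer of an element of order `p`. -/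
theorem exists_isInducedBlock_of_eq (hM : IsPModular p M) (u : G) (hu : orderOf u = p)
    (H : Subgroup G) (hH : H = Subgroup.centralizer ({u} : Set G))
    (b : Set (IrrCharacter H)) (hb : IsPBlock M b) :
    ∃ B : Set (IrrCharacter G), IsInducedBlock M H b B := by
  subst hH
  exact Cfsg.Agent.Helper16.inducedBlockDefined_centralizer hM u
    ⟨1, by rw [pow_one]; exact hu⟩ b hb

/-- `C_G(P) = C_G(u)` for a generator `u` of `P`. -/
theorem cen_eq_centralizer_singleton (hP : Nat.card P = p) (u : G)
    (hu : u ∈ (P : Subgroup G)) (hup : orderOf u = p) :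
    cen P = Subgroup.centralizer ({u} : Set G) := by
  have hz := Cfsg.Agent.Helper82.McKayP.zpowers_eq_sylow p P hP u hu hup
  unfold cen
  rw [← hz]
  ext x
  rw [Subgroup.mem_centralizer_iff, Subgroup.mem_centralizer_iff]
  constructor
  · intro h y hy
    rw [Set.mem_singleton_iff] at hy
    subst hy
    exact h _ (Subgroup.mem_zpowers _)
  · intro h y hy
    obtain ⟨k, rfl⟩ := Subgroup.mem_zpowers_iff.mp hy
    have hc : Commute u x := h u rfl
    exact (hc.zpow_left k).eq

/-- (BLK-c) every block of `C` induces a block of `G` -/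
theorem exists_isInducedBlock (hM : IsPModular p M) (hP : Nat.card P = p)
    (b : Set (IrrCharacter (cen P))) (hb : IsPBlock M b) :
    ∃ B : Set (IrrCharacter G), IsInducedBlock M (cen P) b B := by
  obtain ⟨u, hu, hup⟩ := Cfsg.Agent.Helper48.DefOneGR.exists_gen P hP
  exact exists_isInducedBlock_of_eq M hM u hup (cen P)
    (cen_eq_centralizer_singleton P hP u hu hup) b hb

end Cfsg.Agent.Helper65.DefOneBLK
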