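import Mathlib
import Cfsg.Agent.Helper16.DefOneSetup
import Cfsg.Agent.Helper74.DegP
import Cfsg.Agent.Helper79.DefectZeroBlock
import Cfsg.Agent.Helper78.BlockBasic
import Cfsg.Agent.Helper77.DefectOrder

/-!
# (BLK-d) for helper16 (defect-one engine): the members of a block of defect one have `p'`-degree
-/

set_option autoImplicit false

namespace Cfsg.Agent.Helper65.DefOneBLK

open Cfsg Cfsg.Agent.Helper16 Cfsg.Agent.Helper16.DefOne

universe u

variable {G : Type u} [Group G] [Fintype G] {p : ℕ} [Fact p.Prime] (M : Ideal AlgInt)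
  (P : Sylow p G)

/-- (BLK-d) the members of a block of defect one have `p'`-degree -/
theorem not_dvd_degree_of_mem_block (hM : IsPModular p M) (hP : Nat.card P = p)
    (B : Set (IrrCharacter G)) (hB : IsPBlock M B) (hBP : IsDefectGroup p M B P)
    (χ : IrrCharacter G) (hχ : χ ∈ B) : ¬ p ∣ charDegree (χ : G → ℂ) := by
  intro hdvd
  have hp : p.Prime := Fact.out
  have hMp : M.IsPrime := hM.2.1.isPrime
  have hG : (Nat.card G).factorization p = 1 := by
    have h1 := P.card_eq_multiplicity
    rw [hP] at h1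
    have h2 : p ^ 1 = p ^ (Nat.card G).factorization p := by rw [pow_one]; exact h1
    exact (Nat.pow_right_injective hp.two_le h2).symm
  have hdeg_dvd : charDegree (χ : G → ℂ) ∣ Nat.card G :=
    Cfsg.Agent.Helper74.charDegree_dvd_card χ
  have hdeg_ne : charDegree (χ : G → ℂ) ≠ 0 := by
    intro h
    rw [h, zero_dvd_iff] at hdeg_dvd
    exact Nat.card_pos.ne' hdeg_dvd
  have hfac : (charDegree (χ : G → ℂ)).factorization p = 1 := by
    apply le_antisymm
    · rw [← hG]
      exact (Nat.factorization_le_iff_dvd hdeg_ne Nat.card_pos.ne').mpr hdeg_dvd p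
    · exact (hp.dvd_iff_one_le_factorization hdeg_ne).mp hdvd
  have hsing := Cfsg.Agent.Helper79.blockOf_eq_singleton_of_defect_zero hM χ
    (by rw [hfac, hG])
  have hBeq : B = blockOf M (χ : G → ℂ) :=
    Cfsg.Agent.Helper78.isPBlock_eq_blockOf_of_mem hMp hB hχ
  have hdefect : blockDefect p B = 0 := by
    rw [hBeq, hsing]
    unfold blockDefect
    rw [Set.image_singleton, csInf_singleton, hfac, hG]
  have hcard := Cfsg.Agent.Helper77.card_defectGroup hM hB (P : Subgroup G) hBP
  rw [hdefect, pow_zero] at hcard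
  have h3 : Nat.card (P : Subgroup G) = p := hP
  rw [hcard] at h3
  exact hp.one_lt.ne h3

end Cfsg.Agent.Helper65.DefOneBLK
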