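import Mathlib
import Cfsg.Agent.Helper3.E27Defs

/-!
# (A1a) for helper3 (S3701): the structure of the concrete group `H0 ≤ Perm (Fin 9)`
-/

set_option autoImplicit false

namespace Cfsg.Agent.Helper65.E27

open Cfsg.Agent.Helper3.E27

set_option maxRecDepth 1000000 in
set_option maxHeartbeats 4000000 in
theorem tau0_add : ∀ u v : Vec, tau0 (u + v) = tau0 u * tau0 v := by decide

set_option maxRecDepth 100000 in
theorem tau0_injective : Function.Injective tau0 := by decide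

set_option maxRecDepth 100000 in
theorem s1_conj : ∀ v, s1 * tau0 v * s1⁻¹ = tau0 (sa * v) := by decide

set_option maxRecDepth 100000 in
theorem s2_conj : ∀ v, s2 * tau0 v * s2⁻¹ = tau0 (sb * v) := by decide

theorem s1_sq : s1 * s1 = 1 := by decide

theorem s2_sq : s2 * s2 = 1 := by decide

theorem s1_s2_comm : s1 * s2 = s2 * s1 := by decide

theorem c1_eq : c1 = tau0 ![1, 0, 0] := by decide

theorem c2_eq : c2 = tau0 ![0, 1, 0] := by decide

theorem c3_eq : c3 = tau0 ![0, 0, 1] := by decide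

theorem tau0_zero : tau0 0 = 1 := by decide

theorem tau0_neg (v : Vec) : (tau0 v)⁻¹ = tau0 (-v) := by
  rw [inv_eq_iff_mul_eq_one, ← tau0_add, add_neg_cancel, tau0_zero]

theorem c1_mem : c1 ∈ H0 := Subgroup.subset_closure (by simp)

theorem c2_mem : c2 ∈ H0 := Subgroup.subset_closure (by simp)

theorem c3_mem : c3 ∈ H0 := Subgroup.subset_closure (by simp)

theorem s1_mem : s1 ∈ H0 := Subgroup.subset_closure (by simp)

theorem s2_mem : s2 ∈ H0 := Subgroup.subset_closure (by simp)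

theorem tau0_mem (v : Vec) : tau0 v ∈ H0 :=
  H0.mul_mem (H0.mul_mem (H0.pow_mem c1_mem _) (H0.pow_mem c2_mem _)) (H0.pow_mem c3_mem _)

theorem s1_inv : s1⁻¹ = s1 := inv_eq_of_mul_eq_one_left s1_sq

theorem s2_inv : s2⁻¹ = s2 := inv_eq_of_mul_eq_one_left s2_sq

theorem s1_tau0 (v : Vec) : s1 * tau0 v = tau0 (sa * v) * s1 := by
  rw [← s1_conj v, inv_mul_cancel_right]

theorem s2_tau0 (v : Vec) : s2 * tau0 v = tau0 (sb * v) * s2 := by
  rw [← s2_conj v, inv_mul_cancel_right]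

/-- the normal form predicate. -/
def NF (g : Equiv.Perm (Fin 9)) : Prop :=
  ∃ v : Vec, g = tau0 v ∨ g = tau0 v * s1 ∨ g = tau0 v * s2 ∨ g = tau0 v * (s1 * s2)

theorem nf_tau0_mul {g : Equiv.Perm (Fin 9)} (e : Vec) (hg : NF g) : NF (tau0 e * g) := by
  obtain ⟨v, h | h | h | h⟩ := hg
  · exact ⟨e + v, Or.inl (by rw [h, tau0_add])⟩
  · exact ⟨e + v, Or.inr (Or.inl (by rw [h, tau0_add, mul_assoc]))⟩
  · exact ⟨e + v, Or.inr (Or.inr (Or.inl (by rw [h, tau0_add, mul_assoc])))⟩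
  · exact ⟨e + v, Or.inr (Or.inr (Or.inr (by rw [h, tau0_add, mul_assoc])))⟩

theorem nf_s1_mul {g : Equiv.Perm (Fin 9)} (hg : NF g) : NF (s1 * g) := by
  obtain ⟨v, h | h | h | h⟩ := hg
  · exact ⟨sa * v, Or.inr (Or.inl (by rw [h, s1_tau0]))⟩
  · exact ⟨sa * v, Or.inl (by rw [h, ← mul_assoc, s1_tau0, mul_assoc, s1_sq, mul_one])⟩
  · exact ⟨sa * v, Or.inr (Or.inr (Or.inr (by rw [h, ← mul_assoc, s1_tau0, mul_assoc])))⟩
  · exact ⟨sa * v, Or.inr (Or.inr (Or.inl (by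
      rw [h, ← mul_assoc, s1_tau0, mul_assoc, ← mul_assoc s1 s1 s2, s1_sq, one_mul])))⟩

theorem nf_s2_mul {g : Equiv.Perm (Fin 9)} (hg : NF g) : NF (s2 * g) := by
  obtain ⟨v, h | h | h | h⟩ := hg
  · exact ⟨sb * v, Or.inr (Or.inr (Or.inl (by rw [h, s2_tau0])))⟩
  · exact ⟨sb * v, Or.inr (Or.inr (Or.inr (by
      rw [h, ← mul_assoc, s2_tau0, mul_assoc, ← s1_s2_comm])))⟩
  · exact ⟨sb * v, Or.inl (by rw [h, ← mul_assoc, s2_tau0, mul_assoc, s2_sq, mul_one])⟩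
  · exact ⟨sb * v, Or.inr (Or.inl (by
      rw [h, ← mul_assoc, s2_tau0, mul_assoc, s1_s2_comm, ← mul_assoc s2 s2 s1, s2_sq,
        one_mul]))⟩

theorem nf_of_mem : ∀ g ∈ H0, NF g := by
  intro g hg
  unfold H0 at hg
  induction hg using Subgroup.closure_induction_left with
  | one => exact ⟨0, Or.inl tau0_zero.symm⟩
  | mul_left x hx y _ ih =>
    simp only [Set.mem_insert_iff, Set.mem_singleton_iff] at hx
    rcases hx with rfl | rfl | rfl | rfl | rfl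
    · rw [c1_eq]; exact nf_tau0_mul _ ih
    · rw [c2_eq]; exact nf_tau0_mul _ ih
    · rw [c3_eq]; exact nf_tau0_mul _ ih
    · exact nf_s1_mul ih
    · exact nf_s2_mul ih
  | inv_mul_cancel x hx y _ ih =>
    simp only [Set.mem_insert_iff, Set.mem_singleton_iff] at hx
    rcases hx with rfl | rfl | rfl | rfl | rfl
    · rw [c1_eq, tau0_neg]; exact nf_tau0_mul _ ih
    · rw [c2_eq, tau0_neg]; exact nf_tau0_mul _ ih
    · rw [c3_eq, tau0_neg]; exact nf_tau0_mul _ ih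
    · rw [s1_inv]; exact nf_s1_mul ih
    · rw [s2_inv]; exact nf_s2_mul ih

/-- (A1a) the structure of the concrete group `H0 ≤ Perm (Fin 9)`. -/
theorem H0_struct :
    (∀ u v : Vec, tau0 (u + v) = tau0 u * tau0 v) ∧ Function.Injective tau0 ∧
    (∀ v, tau0 v ∈ H0) ∧ s1 ∈ H0 ∧ s2 ∈ H0 ∧ s1 * s1 = 1 ∧ s2 * s2 = 1 ∧ s1 * s2 = s2 * s1 ∧
    (∀ v, s1 * tau0 v * s1⁻¹ = tau0 (sa * v)) ∧ (∀ v, s2 * tau0 v * s2⁻¹ = tau0 (sb * v)) ∧
    (∀ g ∈ H0, ∃ v, g = tau0 v ∨ g = tau0 v * s1 ∨ g = tau0 v * s2 ∨ g = tau0 v * (s1 * s2)) := by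
  refine ⟨tau0_add, tau0_injective, tau0_mem, s1_mem, s2_mem, s1_sq, s2_sq, s1_s2_comm, s1_conj,
    s2_conj, ?_⟩
  intro g hg
  exact nf_of_mem g hg

end Cfsg.Agent.Helper65.E27
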