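import Cfsg.Agent.Helper25.FSwan.Defs
import Cfsg.Agent.Helper29.FS_OP2
import Cfsg.Agent.Helper80.Pullback

/-!
Helper65 for helper25, Fong-Swan farm (S4440), piece (OP4): a normal `p`-subgroup is in the kernel
of every irreducible representation in characteristic `p`, so `FSwan (G ⧸ P)` gives `FSwan G`.
-/

set_option autoImplicit false
set_option linter.unusedSectionVars false
set_option linter.unusedVariables false

namespace Cfsg.Agent.Helper65.FS

open Cfsg Cfsg.Agent.Helper16 Cfsg.Agent.Helper16.DT Cfsg.Agent.Helper25.FS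

universe u

variable {p : ℕ} [Fact p.Prime] {M : Ideal AlgInt} [M.IsMaximal] {G : Type u} [Group G]

/-- local copy of (OP3): a matrix representation trivial on `P` factors through `G ⧸ P`, and the
factorization is irreducible -/
theorem OP4_exists_quotient_rep {K : Type*} [Field K] {n : ℕ} (ρ : G →* Matrix (Fin n) (Fin n) K)
    (hρ : IsIrredMat ρ) (P : Subgroup G) [P.Normal] (h1 : ∀ x ∈ P, ρ x = 1) :
    ∃ ρ' : G ⧸ P →* Matrix (Fin n) (Fin n) K, IsIrredMat ρ' ∧
      ∀ g : G, ρ' (QuotientGroup.mk g) = ρ g := by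
  have hker : P ≤ ρ.ker := fun x hx => MonoidHom.mem_ker.mpr (h1 x hx)
  refine ⟨QuotientGroup.lift P ρ hker, ⟨hρ.1, ?_⟩, fun g => QuotientGroup.lift_mk' P hker g⟩
  intro W hW
  apply hρ.2 W
  intro g w hw
  have := hW (QuotientGroup.mk g) w hw
  rwa [QuotientGroup.lift_mk' P hker g] at this

/-- (OP) a normal `p`-subgroup is in the kernel of every irreducible representation in
characteristic `p`; assembly (OP4). -/
theorem fswan_of_normal_pGroup (hpM : (p : AlgInt) ∈ M) [Finite G] (P : Subgroup G) [P.Normal]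
    (hP : IsPGroup p P) (h : FSwan p M (G ⧸ P)) : FSwan p M G := by
  classical
  intro φ hφ
  obtain ⟨n, ρ, hirr, rfl⟩ := hφ
  have h1 := Cfsg.Agent.Helper29.FS.apply_eq_one_of_mem_normal_pGroup hpM ρ hirr P hP
  obtain ⟨ρ', hirr', hρ'⟩ := OP4_exists_quotient_rep ρ hirr P h1
  have hφ' : brauerChar p M ρ' ∈ IBr p M (G ⧸ P) := ⟨n, ρ', hirr', rfl⟩
  obtain ⟨χ', hχ'⟩ := h _ hφ'
  have hχirr : IsIrrCharacter G (fun g => (χ' : G ⧸ P → ℂ) (QuotientGroup.mk' P g)) :=
    Cfsg.Agent.Helper80.IsIrrCharacter.comp_surjective χ'.2 (QuotientGroup.mk' P)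
      (QuotientGroup.mk'_surjective P)
  refine ⟨⟨_, hχirr⟩, ?_⟩
  funext g
  by_cases hg : IsPRegular p g
  · have hg' : IsPRegular p (QuotientGroup.mk' P g) := by
      intro hdvd
      exact hg (dvd_trans hdvd (orderOf_map_dvd (QuotientGroup.mk' P) g))
    have h2 := congrFun hχ' (QuotientGroup.mk' P g)
    simp only [brauerChar, pRegularPart, if_pos hg', if_pos hg] at h2 ⊢
    rw [h2]
    simp only [brauerFull]
    rw [QuotientGroup.mk'_apply, hρ']
  · simp only [brauerChar, pRegularPart, if_neg hg]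

end Cfsg.Agent.Helper65.FS
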