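import Cfsg.Agent.Helper91.FTC.Spec

/-!
Helper65 for helper91, FastTC (S1690), piece (ALL): all facts are valid, by induction on the rank.
-/

set_option autoImplicit false

namespace Cfsg.Agent.Helper65.FTC

open Cfsg.Agent.Helper91.FTC

variable {Γ : Type*} [Group Γ]

/-- (ALL) all facts are valid, by induction on the rank. -/
theorem valid_all (T : Tabs) (γ : ℕ → Γ) (H : Subgroup Γ)
    (hFV : ∀ y p, y < T.g → p < T.M → rC (T.slot y p) ≠ 0 → IH T γ H (rR (T.slot y p)) →
      VF T γ H y p)
    (hEV : ∀ a, T.n ≤ a → a < T.M → eHas (T.ali a) = true → IH T γ H (eR (T.ali a)) →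
      VE T γ H a) :
    ∀ r, IH T γ H r := by
  intro r
  induction r with
  | zero =>
    exact ⟨fun y _ p _ _ h => absurd h (Nat.not_lt_zero _),
      fun a _ _ _ h => absurd h (Nat.not_lt_zero _)⟩
  | succ r ih =>
    refine ⟨?_, ?_⟩
    · intro y hy p hp hc hr
      rcases Nat.lt_or_ge (rR (T.slot y p)) r with hlt | hge
      · exact ih.1 y hy p hp hc hlt
      · have hrr : rR (T.slot y p) = r := by omega
        exact hFV y p hy hp hc (by rw [hrr]; exact ih)
    · intro a hna ha hHas hr
      rcases Nat.lt_or_ge (eR (T.ali a)) r with hlt | hge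
      · exact ih.2 a hna ha hHas hlt
      · have hrr : eR (T.ali a) = r := by omega
        exact hEV a hna ha hHas (by rw [hrr]; exact ih)

end Cfsg.Agent.Helper65.FTC
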