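import Cfsg.Agent.Helper91.FTC.Spec

/-!
Helper65 for helper91, FastTC (S1690), piece (CASES): what a successful slot check says.
-/

set_option autoImplicit false

namespace Cfsg.Agent.Helper65.FTC

open Cfsg.Agent.Helper91.FTC

theorem CASES_sel {c t e : Bool} (h : sel c t e = true) :
    (c = true ∧ t = true) ∨ (c = false ∧ e = true) := by
  cases c
  · exact Or.inr ⟨rfl, h⟩
  · exact Or.inl ⟨rfl, h⟩

theorem CASES_selF {c t : Bool} (h : sel c t false = true) : c = true ∧ t = true := by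
  cases c
  · exact absurd (show false = true from h) Bool.false_ne_true
  · exact ⟨rfl, h⟩

theorem CASES_blt {a b : ℕ} (h : Nat.blt a b = true) : a < b := by rwa [Nat.blt_eq] at h

theorem CASES_nblt {a b : ℕ} (h : Nat.blt a b = false) : ¬ a < b := by
  intro hlt
  rw [← Nat.blt_eq, h] at hlt
  exact Bool.false_ne_true hlt

theorem CASES_beq {a b : ℕ} (h : Nat.beq a b = true) : a = b := Nat.eq_of_beq_eq_true h

theorem CASES_nbeq {a b : ℕ} (h : Nat.beq a b = false) : a ≠ b := Nat.ne_of_beq_eq_false h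

theorem CASES_pos {a : ℕ} (h : Nat.blt 0 a = true) : a ≠ 0 := by
  have := CASES_blt h
  omega

/-- `chkF` with all the `frc` removed -/
theorem CASES_unfold (T : Tabs) (y p : ℕ) :
    chkF T y p =
      sel (Nat.beq (rC (T.slot y p)) 0) (Nat.ble T.n p)
      (sel (Nat.blt (rF (T.slot y p)) T.M)
        (sel (Nat.blt 5 (rC (T.slot y p)))
          (sel (Nat.blt (Nat.sub (rC (T.slot y p)) 6) (T.nrot y))
            (Nat.beq (walk T (rR (T.slot y p)) (T.rot y (Nat.sub (rC (T.slot y p)) 6))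
              (rF (T.slot y p))) p) false)
        (sel (Nat.beq (rC (T.slot y p)) 4)
          (sel (Nat.blt 0 (rC (T.slot y (rF (T.slot y p)))))
            (sel (Nat.beq (rF (T.slot y (rF (T.slot y p)))) p)
              (Nat.blt (rR (T.slot y (rF (T.slot y p)))) (rR (T.slot y p))) false) false)
        (sel (Nat.beq (rC (T.slot y p)) 1)
          (sel (Nat.beq y (T.plf p)) (Nat.blt (rF (T.slot y p)) p) false)
        (sel (Nat.beq (rC (T.slot y p)) 2)
          (sel (Nat.beq (T.plf (rF (T.slot y p))) y)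
            (sel (Nat.beq (rF (T.slot y (rF (T.slot y p)))) p) (Nat.blt p (rF (T.slot y p))) false)
            false)
        (sel (Nat.beq (rC (T.slot y p)) 3)
          (sel (Nat.beq p 0) (sel (Nat.beq (rF (T.slot y p)) 0) (T.isY y) false) false)
          (sel (Nat.ble T.n (T.pay y p)) (sel (Nat.blt (T.pay y p) T.M)
            (sel (eHas (T.ali (T.pay y p))) (sel (Nat.beq (eA (T.ali (T.pay y p))) p)
              (sel (Nat.blt (eR (T.ali (T.pay y p))) (rR (T.slot y p)))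
                (sel (Nat.blt 0 (rC (T.slot y (T.pay y p))))
                  (sel (Nat.beq (rF (T.slot y (T.pay y p))) (rF (T.slot y p)))
                    (Nat.blt (rR (T.slot y (T.pay y p))) (rR (T.slot y p))) false) false)
              false) false) false) false) false))))))
        false) := by
  unfold chkF
  simp only [frc_eq]

/-- (CASES) what a successful slot check says. -/
theorem chkF_cases (T : Tabs) (y p : ℕ) (h : chkF T y p = true) (hc : rC (T.slot y p) ≠ 0) :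
    rF (T.slot y p) < T.M ∧
    ((rC (T.slot y p) = 1 ∧ y = T.plf p ∧ rF (T.slot y p) < p) ∨
     (rC (T.slot y p) = 2 ∧ T.plf (rF (T.slot y p)) = y ∧
        rF (T.slot y (rF (T.slot y p))) = p ∧ p < rF (T.slot y p)) ∨
     (rC (T.slot y p) = 3 ∧ p = 0 ∧ rF (T.slot y p) = 0 ∧ T.isY y = true) ∨
     (rC (T.slot y p) = 4 ∧ rC (T.slot y (rF (T.slot y p))) ≠ 0 ∧
        rF (T.slot y (rF (T.slot y p))) = p ∧
        rR (T.slot y (rF (T.slot y p))) < rR (T.slot y p)) ∨
     (rC (T.slot y p) = 5 ∧ ∃ a, T.n ≤ a ∧ a < T.M ∧ eHas (T.ali a) = true ∧ eA (T.ali a) = p ∧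
        eR (T.ali a) < rR (T.slot y p) ∧ rC (T.slot y a) ≠ 0 ∧
        rF (T.slot y a) = rF (T.slot y p) ∧ rR (T.slot y a) < rR (T.slot y p)) ∨
     (5 < rC (T.slot y p) ∧ rC (T.slot y p) - 6 < T.nrot y ∧
        walk T (rR (T.slot y p)) (T.rot y (rC (T.slot y p) - 6)) (rF (T.slot y p)) = p)) := by
  rw [CASES_unfold] at h
  rcases CASES_sel h with ⟨h0, _⟩ | ⟨_, h1⟩
  · exact absurd (CASES_beq h0) hc
  obtain ⟨hq, h2⟩ := CASES_selF h1
  refine ⟨CASES_blt hq, ?_⟩
  rcases CASES_sel h2 with ⟨h5, hR⟩ | ⟨h5, h3⟩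
  · -- relator
    obtain ⟨hk, hw⟩ := CASES_selF hR
    exact Or.inr (Or.inr (Or.inr (Or.inr (Or.inr ⟨CASES_blt h5, CASES_blt hk, CASES_beq hw⟩))))
  rcases CASES_sel h3 with ⟨h4, hMi⟩ | ⟨h4, h6⟩
  · -- mirror
    obtain ⟨hd, hMi2⟩ := CASES_selF hMi
    obtain ⟨hf, hr⟩ := CASES_selF hMi2
    exact Or.inr (Or.inr (Or.inr (Or.inl ⟨CASES_beq h4, CASES_pos hd, CASES_beq hf, CASES_blt hr⟩)))
  rcases CASES_sel h6 with ⟨h1', hUp⟩ | ⟨h1', h7⟩
  · -- up
    obtain ⟨hy, hlt⟩ := CASES_selF hUp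
    exact Or.inl ⟨CASES_beq h1', CASES_beq hy, CASES_blt hlt⟩
  rcases CASES_sel h7 with ⟨h2', hDn⟩ | ⟨h2', h8⟩
  · -- down
    obtain ⟨hy, hDn2⟩ := CASES_selF hDn
    obtain ⟨hf, hlt⟩ := CASES_selF hDn2
    exact Or.inr (Or.inl ⟨CASES_beq h2', CASES_beq hy, CASES_beq hf, CASES_blt hlt⟩)
  rcases CASES_sel h8 with ⟨h3', hAx⟩ | ⟨h3', hXf⟩
  · -- subgroup generator
    obtain ⟨hp0, hAx2⟩ := CASES_selF hAx
    obtain ⟨hq0, hY⟩ := CASES_selF hAx2
    exact Or.inr (Or.inr (Or.inl ⟨CASES_beq h3', CASES_beq hp0, CASES_beq hq0, hY⟩))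
  · -- transfer
    have hc5 : rC (T.slot y p) = 5 := by
      have a1 := CASES_nblt h5
      have a2 := CASES_nbeq h4
      have a3 := CASES_nbeq h1'
      have a4 := CASES_nbeq h2'
      have a5 := CASES_nbeq h3'
      omega
    obtain ⟨hna, hX1⟩ := CASES_selF hXf
    obtain ⟨haM, hX2⟩ := CASES_selF hX1
    obtain ⟨hHas, hX3⟩ := CASES_selF hX2
    obtain ⟨hA, hX4⟩ := CASES_selF hX3
    obtain ⟨hR, hX5⟩ := CASES_selF hX4
    obtain ⟨hd, hX6⟩ := CASES_selF hX5
    obtain ⟨hf, hr⟩ := CASES_selF hX6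
    exact Or.inr (Or.inr (Or.inr (Or.inr (Or.inl ⟨hc5, T.pay y p, Nat.le_of_ble_eq_true hna,
      CASES_blt haM, hHas, CASES_beq hA, CASES_blt hR, CASES_pos hd, CASES_beq hf,
      CASES_blt hr⟩))))

end Cfsg.Agent.Helper65.FTC
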