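import Cfsg.Agent.Helper65.FTC_CASES

/-!
Helper65 for helper91, FastTC (S1690), piece (ECASES): what a successful alias check says.
-/

set_option autoImplicit false

namespace Cfsg.Agent.Helper65.FTC

open Cfsg.Agent.Helper91.FTC

/-- `chkE` with all the `frc` removed -/
theorem ECASES_unfold (T : Tabs) (a : ℕ) :
    chkE T a =
      sel (eHas (T.ali a))
        (sel (Nat.blt (eA (T.ali a)) T.M) (sel (Nat.blt (eX (T.ali a)) T.g)
          (sel (Nat.blt (eK (T.ali a)) (T.nrot (eX (T.ali a))))
            (Nat.beq (walk T (eR (T.ali a))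
              (eX (T.ali a) :: T.rot (eX (T.ali a)) (eK (T.ali a))) a) (eA (T.ali a)))
            false) false) false)
        true := by
  unfold chkE
  simp only [frc_eq]

/-- (ECASES) what a successful alias check says. -/
theorem chkE_cases (T : Tabs) (a : ℕ) (h : chkE T a = true) (hE : eHas (T.ali a) = true) :
    eA (T.ali a) < T.M ∧ eX (T.ali a) < T.g ∧ eK (T.ali a) < T.nrot (eX (T.ali a)) ∧
    walk T (eR (T.ali a)) (eX (T.ali a) :: T.rot (eX (T.ali a)) (eK (T.ali a))) a =
      eA (T.ali a) := by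
  rw [ECASES_unfold, hE] at h
  have h0 : sel (Nat.blt (eA (T.ali a)) T.M) (sel (Nat.blt (eX (T.ali a)) T.g)
      (sel (Nat.blt (eK (T.ali a)) (T.nrot (eX (T.ali a))))
        (Nat.beq (walk T (eR (T.ali a))
          (eX (T.ali a) :: T.rot (eX (T.ali a)) (eK (T.ali a))) a) (eA (T.ali a)))
        false) false) false = true := h
  obtain ⟨h1, h2⟩ := CASES_selF h0
  obtain ⟨h3, h4⟩ := CASES_selF h2
  obtain ⟨h5, h6⟩ := CASES_selF h4
  exact ⟨CASES_blt h1, CASES_blt h3, CASES_blt h5, CASES_beq h6⟩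

end Cfsg.Agent.Helper65.FTC
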