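import Cfsg.Agent.Helper65.FTC_ECASES

/-!
Helper65 for helper91, FastTC (S1690), piece (NRM): normalisation stays in range and inside the
coset.
-/

set_option autoImplicit false

namespace Cfsg.Agent.Helper65.FTC

open Cfsg.Agent.Helper91.FTC

variable {Γ : Type*} [Group Γ]

theorem NRM_zero (T : Tabs) (r q : ℕ) : nrm T r 0 q = q := rfl

theorem NRM_succ (T : Tabs) (r f q : ℕ) :
    nrm T r (f + 1) q =
      sel (Nat.blt q T.n) q
        (sel (eHas (T.ali q)) (sel (Nat.blt (eR (T.ali q)) r) (nrm T r f (eA (T.ali q))) q) q) := by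
  have h : nrm T r (f + 1) q =
      sel (Nat.blt q T.n) q
        (frc (T.ali q) fun E =>
          sel (eHas E) (sel (Nat.blt (eR E) r) (frc (eA E) (nrm T r f)) q) q) := rfl
  rw [h, frc_eq, frc_eq]

/-- (NRM) normalisation stays in range and inside the coset. -/
theorem nrm_sound (T : Tabs) (γ : ℕ → Γ) (H : Subgroup Γ) (r : ℕ) (hih : IH T γ H r)
    (hE : ∀ a, T.n ≤ a → a < T.M → chkE T a = true) :
    ∀ f q, q < T.M → nrm T r f q < T.M ∧ rep T γ q * (rep T γ (nrm T r f q))⁻¹ ∈ H := by
  have triv : ∀ q, q < T.M → q < T.M ∧ rep T γ q * (rep T γ q)⁻¹ ∈ H := by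
    intro q hq
    refine ⟨hq, ?_⟩
    rw [mul_inv_cancel]
    exact H.one_mem
  intro f
  induction f with
  | zero =>
    intro q hq
    rw [NRM_zero]
    exact triv q hq
  | succ f ih =>
    intro q hq
    rw [NRM_succ]
    cases h1 : Nat.blt q T.n with
    | true => exact triv q hq
    | false =>
      have hnq : T.n ≤ q := Nat.le_of_not_lt (CASES_nblt h1)
      cases h2 : eHas (T.ali q) with
      | false => exact triv q hq
      | true =>
        cases h3 : Nat.blt (eR (T.ali q)) r with
        | false => exact triv q hq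
        | true =>
          have hr : eR (T.ali q) < r := CASES_blt h3
          have hA : eA (T.ali q) < T.M := (chkE_cases T q (hE q hnq hq) h2).1
          obtain ⟨hn1, hn2⟩ := ih (eA (T.ali q)) hA
          have hV : VE T γ H q := hih.2 q hnq hq h2 hr
          refine ⟨hn1, ?_⟩
          have hprod := H.mul_mem hV hn2
          have heq : rep T γ q * (rep T γ (eA (T.ali q)))⁻¹ *
              (rep T γ (eA (T.ali q)) * (rep T γ (nrm T r f (eA (T.ali q))))⁻¹) =
              rep T γ q * (rep T γ (nrm T r f (eA (T.ali q))))⁻¹ := by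
            group
          rw [← heq]
          exact hprod

end Cfsg.Agent.Helper65.FTC
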