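import Cfsg.Agent.Helper65.FTC_CASES

/-!
Helper65 for helper91, FastTC (S1690), piece (TRUE): slots of true cosets are defined.
-/

set_option autoImplicit false

namespace Cfsg.Agent.Helper65.FTC

open Cfsg.Agent.Helper91.FTC

/-- (TRUE) slots of true cosets are defined. -/
theorem chkF_true_defined (T : Tabs) (y p : ℕ) (h : chkF T y p = true) (hp : p < T.n) :
    rC (T.slot y p) ≠ 0 := by
  intro hc0
  rw [CASES_unfold] at h
  rcases CASES_sel h with ⟨_, h1⟩ | ⟨h0, _⟩
  · have := Nat.le_of_ble_eq_true h1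
    omega
  · exact CASES_nbeq h0 hc0

end Cfsg.Agent.Helper65.FTC
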