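import Cfsg.Agent.Helper91.FTC.Spec

/-!
Helper65 for helper91, FastTC (S1690), piece (VRL): validity of a slot justified by a relator.
-/

set_option autoImplicit false

namespace Cfsg.Agent.Helper65.FTC

open Cfsg.Agent.Helper91.FTC

variable {Γ : Type*} [Group Γ]

/-- (VRL) relator. -/
theorem VF_relator (T : Tabs) (γ : ℕ → Γ) (H : Subgroup Γ) (y p : ℕ) (w : List ℕ)
    (hinv : γ y * γ y = 1) (hrel : evalW γ (y :: w) = 1)
    (hwalk : rep T γ (rF (T.slot y p)) * evalW γ w * (rep T γ p)⁻¹ ∈ H) : VF T γ H y p := by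
  have hrel' : γ y * evalW γ w = 1 := hrel
  have hw : (evalW γ w)⁻¹ = γ y := (eq_inv_of_mul_eq_one_left hrel').symm
  have h := H.inv_mem hwalk
  have heq : (rep T γ (rF (T.slot y p)) * evalW γ w * (rep T γ p)⁻¹)⁻¹ =
      rep T γ p * γ y * (rep T γ (rF (T.slot y p)))⁻¹ := by
    rw [mul_inv_rev, mul_inv_rev, inv_inv, hw, mul_assoc]
  rw [heq] at h
  exact h

end Cfsg.Agent.Helper65.FTC
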