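import Cfsg.Agent.Helper91.FTC.Spec

/-!
Helper65 for helper91, FastTC (S1690), piece (WALK): a successful walk multiplies the coset by the
value of the word.
-/

set_option autoImplicit false

namespace Cfsg.Agent.Helper65.FTC

open Cfsg.Agent.Helper91.FTC

variable {Γ : Type*} [Group Γ]

/-- unfolding of `walk` on the empty word -/
theorem WALK_nil (T : Tabs) (r q : ℕ) : walk T r [] q = q := rfl

/-- unfolding of `walk` on a nonempty word -/
theorem WALK_cons (T : Tabs) (r y : ℕ) (w : List ℕ) (q : ℕ) :
    walk T r (y :: w) q =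
      sel (Nat.blt 0 (rC (T.slot y q)))
        (sel (Nat.blt (rR (T.slot y q)) r) (walk T r w (nrm T r 3 (rF (T.slot y q)))) BAD) BAD := by
  have h : walk T r (y :: w) q =
      frc (T.slot y q) fun e =>
        sel (Nat.blt 0 (rC e))
          (sel (Nat.blt (rR e) r) (frc (nrm T r 3 (rF e)) (walk T r w)) BAD) BAD := rfl
  rw [h, frc_eq, frc_eq]

/-- (WALK) a successful walk multiplies the coset by the value of the word. -/
theorem walk_sound (T : Tabs) (γ : ℕ → Γ) (H : Subgroup Γ) (r : ℕ) (hM : T.M ≤ BAD)
    (hih : IH T γ H r)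
    (hnrm : ∀ f q, q < T.M → nrm T r f q < T.M ∧ rep T γ q * (rep T γ (nrm T r f q))⁻¹ ∈ H)
    (htgt : ∀ y p, y < T.g → p < T.M → rC (T.slot y p) ≠ 0 → rF (T.slot y p) < T.M) :
    ∀ w : List ℕ, (∀ z ∈ w, z < T.g) → ∀ q, q < T.M → ∀ p, p < T.M → walk T r w q = p →
      rep T γ q * evalW γ w * (rep T γ p)⁻¹ ∈ H := by
  intro w
  induction w with
  | nil =>
    intro _ q _ p _ hw
    rw [WALK_nil] at hw
    subst hw
    have : rep T γ q * evalW γ [] * (rep T γ q)⁻¹ = 1 := by
      simp [evalW]
    rw [this]
    exact H.one_mem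
  | cons y w ih =>
    intro hz q hq p hp hw
    rw [WALK_cons] at hw
    have hy : y < T.g := hz y (List.mem_cons_self)
    have hzw : ∀ z ∈ w, z < T.g := fun z hzm => hz z (List.mem_cons_of_mem _ hzm)
    have hpB : p ≠ BAD := by omega
    cases h1 : Nat.blt 0 (rC (T.slot y q)) with
    | false =>
      rw [h1] at hw
      exact absurd hw.symm hpB
    | true =>
      rw [h1] at hw
      cases h2 : Nat.blt (rR (T.slot y q)) r with
      | false =>
        rw [h2] at hw
        exact absurd hw.symm hpB
      | true =>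
        rw [h2] at hw
        have hw' : walk T r w (nrm T r 3 (rF (T.slot y q))) = p := hw
        rw [Nat.blt_eq] at h1 h2
        have hc : rC (T.slot y q) ≠ 0 := by omega
        have hV : VF T γ H y q := hih.1 y hy q hq hc h2
        have ht : rF (T.slot y q) < T.M := htgt y q hy hq hc
        obtain ⟨hn1, hn2⟩ := hnrm 3 (rF (T.slot y q)) ht
        have hI := ih hzw _ hn1 p hp hw'
        have hprod := H.mul_mem (H.mul_mem hV hn2) hI
        have heq : rep T γ q * γ y * (rep T γ (rF (T.slot y q)))⁻¹ *
            (rep T γ (rF (T.slot y q)) * (rep T γ (nrm T r 3 (rF (T.slot y q))))⁻¹) *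
            (rep T γ (nrm T r 3 (rF (T.slot y q))) * evalW γ w * (rep T γ p)⁻¹) =
            rep T γ q * evalW γ (y :: w) * (rep T γ p)⁻¹ := by
          simp only [evalW]
          group
        rw [← heq]
        exact hprod

end Cfsg.Agent.Helper65.FTC
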