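import Cfsg.Agent.Helper65.FrakLSzCore
import Cfsg.Agent.Helper87.FrakLDefs

/-!
# (SzB) for helper87: the unique non-trivial elementary abelian normal 2-subgroup of `N(E)`
-/

set_option autoImplicit false

namespace Cfsg.Agent.Helper65.FrakL

open Cfsg.Agent.Helper6

/-- the model statement: `E = szE0`. -/
theorem sz_normal_elemAb_model {F : Type*} [Field F] [Fintype F] {m : ℕ} (hm : 1 ≤ m)
    (hF : Fintype.card F = 2 ^ (2 * m + 1)) (V : Subgroup (Cfsg.Sz F m))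
    (hVN : V ≤ Subgroup.normalizer ((szE0 hm hF : Subgroup (Cfsg.Sz F m)) : Set (Cfsg.Sz F m)))
    (hNV : Subgroup.normalizer ((szE0 hm hF : Subgroup (Cfsg.Sz F m)) : Set (Cfsg.Sz F m)) ≤
      Subgroup.normalizer (V : Set (Cfsg.Sz F m)))
    (hV2 : ∀ x ∈ V, x * x = 1) (hV1 : V ≠ ⊥) : V = szE0 hm hF := by
  rw [normalizer_szE0 hm hF] at hVN hNV
  have hle : V ≤ szE0 hm hF := fun v hv => mem_szE0_of_mem_szB hm hF (hVN hv) (hV2 v hv)
  apply le_antisymm hle
  obtain ⟨v, hv1⟩ := (Subgroup.ne_bot_iff_exists_ne_one).1 hV1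
  have hv1' : (v : Cfsg.Sz F m) ≠ 1 := fun h => hv1 (Subtype.ext h)
  obtain ⟨b, hb⟩ := (mem_szE0_iff hm hF _).1 (hle v.2)
  have hb0 : b ≠ 0 := by
    rintro rfl
    rw [sU_zero hm hF] at hb
    exact hv1' hb
  intro x hx
  obtain ⟨b', rfl⟩ := (mem_szE0_iff hm hF _).1 hx
  by_cases hb' : b' = 0
  · rw [hb', sU_zero hm hF]
    exact V.one_mem
  · obtain ⟨t, ht⟩ := exists_sD_conj hm hF hb0 hb'
    rw [← ht, ← hb]
    have hn := hNV (sD_mem_szB hm hF t)
    rw [Subgroup.mem_normalizer_iff] at hn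
    exact (hn _).1 v.2

/-- transport of normalisers along an isomorphism. -/
theorem map_le_normalizer_map {G G' : Type*} [Group G] [Group G'] (ψ : G ≃* G')
    (A B : Subgroup G) (h : A ≤ Subgroup.normalizer (B : Set G)) :
    A.map ψ.toMonoidHom ≤ Subgroup.normalizer ((B.map ψ.toMonoidHom : Subgroup G') : Set G') := by
  rintro x ⟨a, ha, rfl⟩
  have hn := h ha
  rw [Subgroup.mem_normalizer_iff] at hn ⊢
  intro y
  obtain ⟨z, rfl⟩ := ψ.surjective y
  have h1 : ψ.toMonoidHom a * ψ z * (ψ.toMonoidHom a)⁻¹ = ψ (a * z * a⁻¹) := by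
    simp
  rw [h1]
  have h2 : ∀ w : G, ψ w ∈ B.map ψ.toMonoidHom ↔ w ∈ B := by
    intro w
    constructor
    · rintro ⟨w', hw', hww'⟩
      have : w' = w := ψ.injective hww'
      rwa [← this]
    · intro hw
      exact ⟨w, hw, rfl⟩
  rw [h2, h2]
  exact hn z

theorem normalizer_map_le {G G' : Type*} [Group G] [Group G'] (ψ : G ≃* G')
    (A B : Subgroup G)
    (h : Subgroup.normalizer (A : Set G) ≤ Subgroup.normalizer (B : Set G)) :
    Subgroup.normalizer ((A.map ψ.toMonoidHom : Subgroup G') : Set G') ≤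
      Subgroup.normalizer ((B.map ψ.toMonoidHom : Subgroup G') : Set G') := by
  intro x hx
  obtain ⟨a, rfl⟩ := ψ.surjective x
  have h2 : ∀ (C : Subgroup G) (w : G), ψ w ∈ C.map ψ.toMonoidHom ↔ w ∈ C := by
    intro C w
    constructor
    · rintro ⟨w', hw', hww'⟩
      have : w' = w := ψ.injective hww'
      rwa [← this]
    · intro hw
      exact ⟨w, hw, rfl⟩
  have key : ∀ C : Subgroup G, ψ a ∈ Subgroup.normalizer
      ((C.map ψ.toMonoidHom : Subgroup G') : Set G') ↔ a ∈ Subgroup.normalizer (C : Set G) := by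
    intro C
    rw [Subgroup.mem_normalizer_iff, Subgroup.mem_normalizer_iff]
    constructor
    · intro hn z
      have := hn (ψ z)
      have h1 : ψ a * ψ z * (ψ a)⁻¹ = ψ (a * z * a⁻¹) := by simp
      rw [h1, h2, h2] at this
      exact this
    · intro hn y
      obtain ⟨z, rfl⟩ := ψ.surjective y
      have h1 : ψ a * ψ z * (ψ a)⁻¹ = ψ (a * z * a⁻¹) := by simp
      rw [h1, h2, h2]
      exact hn z
  rw [key] at hx ⊢
  exact h hx

theorem sz_normal_elemAb {F : Type} [Field F] [Fintype F] {m : ℕ} (hm : 1 ≤ m)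
    (hF : Fintype.card F = 2 ^ (2 * m + 1)) (E : Subgroup ↥(Cfsg.Lie.Sz F (2 ^ (m + 1))))
    (hE : Nat.card E = Fintype.card F) (hE2 : ∀ x ∈ E, x * x = 1)
    (V : Subgroup ↥(Cfsg.Lie.Sz F (2 ^ (m + 1))))
    (hVN : V ≤ Subgroup.normalizer (E : Set ↥(Cfsg.Lie.Sz F (2 ^ (m + 1)))))
    (hNV : Subgroup.normalizer (E : Set ↥(Cfsg.Lie.Sz F (2 ^ (m + 1)))) ≤
      Subgroup.normalizer (V : Set ↥(Cfsg.Lie.Sz F (2 ^ (m + 1)))))
    (hV2 : ∀ x ∈ V, x * x = 1) (hV1 : V ≠ ⊥) : V = E := by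
  obtain ⟨ψ, hψ⟩ := exists_equiv_map_eq_szE0 hm hF E hE hE2
  have h1 := map_le_normalizer_map ψ V E hVN
  have h2 := normalizer_map_le ψ E V hNV
  rw [hψ] at h1 h2
  have h3 : ∀ x ∈ V.map ψ.toMonoidHom, x * x = 1 := by
    rintro x ⟨y, hy, rfl⟩
    show ψ y * ψ y = 1
    rw [← map_mul, hV2 y hy, map_one]
  have h4 : V.map ψ.toMonoidHom ≠ ⊥ := by
    intro h
    apply hV1
    rw [eq_bot_iff]
    intro x hx
    have : ψ x ∈ V.map ψ.toMonoidHom := ⟨x, hx, rfl⟩
    rw [h, Subgroup.mem_bot] at this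
    rw [Subgroup.mem_bot]
    exact ψ.injective (this.trans (map_one ψ).symm)
  have h5 := sz_normal_elemAb_model hm hF _ h1 h2 h3 h4
  rw [← hψ] at h5
  exact Subgroup.map_injective ψ.injective h5

end Cfsg.Agent.Helper65.FrakL
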