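import Cfsg.Agent.Helper6.Sz42

/-!
# Elementary abelian subgroups of order `q` of the Suzuki group (shared core for (SzA)/(SzB))

`szE0` is the centre `Ω₁` of the standard Sylow 2-subgroup `szQ` of the model `Cfsg.Sz F m`.
Every subgroup of order `q` and exponent two is a conjugate of it; its normaliser is the Borel
subgroup `szB`; the torus is transitive on its non-trivial elements; and every involution of
`szB` lies in it.
-/

set_option autoImplicit false

namespace Cfsg.Agent.Helper65.FrakL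

open Cfsg.Agent.Helper6

variable {F : Type*} [Field F] [Fintype F] {m : ℕ}

/-- the centre `Ω₁` of the standard Sylow 2-subgroup: the elements `sU 0 b`. -/
def szE0 (hm : 1 ≤ m) (hF : Fintype.card F = 2 ^ (2 * m + 1)) : Subgroup (Cfsg.Sz F m) :=
  szE hm hF (RingHom.id F)

theorem mem_szE0_iff (hm : 1 ≤ m) (hF : Fintype.card F = 2 ^ (2 * m + 1)) (g : Cfsg.Sz F m) :
    g ∈ szE0 hm hF ↔ ∃ b : F, g = sU hF 0 b := by
  constructor
  · rintro ⟨x, hx⟩
    exact ⟨x, Subtype.ext hx⟩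
  · rintro ⟨b, rfl⟩
    exact ⟨b, rfl⟩

theorem card_szE0 (hm : 1 ≤ m) (hF : Fintype.card F = 2 ^ (2 * m + 1)) :
    Nat.card (szE0 hm hF) = Fintype.card F := by
  rw [szE0, card_szE, Nat.card_eq_fintype_card]

/-- an element of `szQ` of order at most two lies in `szE0`. -/
theorem sU_sq_eq_one (hm : 1 ≤ m) (hF : Fintype.card F = 2 ^ (2 * m + 1)) {a b : F}
    (h : sU hF a b * sU hF a b = 1) : a = 0 := by
  rw [sU_sq hm hF, sU_eq_one_iff hm hF] at h
  rcases mul_eq_zero.mp h.2 with h1 | h1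
  · exact pow_eq_zero_iff (by positivity) |>.mp h1
  · exact h1

/-- a unit of square one is one (characteristic two). -/
theorem unit_eq_one_of_mul_self (hF : Fintype.card F = 2 ^ (2 * m + 1)) {t : Fˣ}
    (h : t * t = 1) : t = 1 := by
  have h2 : (2 : F) = 0 := two_eq_zero_of_card hF
  have h1 : (t : F) * t = 1 := by rw [← Units.val_mul, h, Units.val_one]
  have h3 : ((t : F) + 1) * ((t : F) + 1) = 0 := by
    linear_combination h1 + ((t : F) + 1) * h2
  have h4 : (t : F) + 1 = 0 := mul_self_eq_zero.mp h3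
  apply Units.ext
  rw [Units.val_one]
  linear_combination h4 - h2

/-- every involution of the Borel subgroup lies in `szE0`. -/
theorem mem_szE0_of_mem_szB (hm : 1 ≤ m) (hF : Fintype.card F = 2 ^ (2 * m + 1))
    {v : Cfsg.Sz F m} (hv : v ∈ szB F m) (h : v * v = 1) : v ∈ szE0 hm hF := by
  obtain ⟨a, b, t, rfl⟩ := (mem_szB_iff_exists hm hF v).1 hv
  have h1 : sU hF a b * sD hF t * (sU hF a b * sD hF t) =
      sU hF a b * (sD hF t * sU hF a b * (sD hF t)⁻¹) * (sD hF t * sD hF t) := by group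
  rw [h1, sD_conj_sU hm hF, sU_mul hm hF, ← sD_mul hF] at h
  have h2 : (1 : Cfsg.Sz F m) = sU hF 0 0 * sD hF 1 := by
    rw [sU_zero hm hF, sD_one hF, one_mul]
  rw [h2] at h
  obtain ⟨-, -, ht⟩ := sB_unique hF h
  have ht1 : t = 1 := unit_eq_one_of_mul_self hF ht
  subst ht1
  rw [sD_one hF, mul_one]
  have h3 : sU hF a b * sD hF 1 * (sU hF a b * sD hF 1) = 1 := by
    rw [h1, sD_conj_sU hm hF, sU_mul hm hF, ← sD_mul hF]; exact h.trans h2.symm
  rw [sD_one hF, mul_one] at h3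
  have ha : a = 0 := sU_sq_eq_one hm hF h3
  subst ha
  exact (mem_szE0_iff hm hF _).2 ⟨b, rfl⟩

/-- the Borel subgroup normalises `szE0` (one direction). -/
theorem conj_mem_szE0 (hm : 1 ≤ m) (hF : Fintype.card F = 2 ^ (2 * m + 1))
    {n : Cfsg.Sz F m} (hn : n ∈ szB F m) {h : Cfsg.Sz F m} (hh : h ∈ szE0 hm hF) :
    n * h * n⁻¹ ∈ szE0 hm hF := by
  obtain ⟨a, b, t, rfl⟩ := (mem_szB_iff_exists hm hF n).1 hn
  obtain ⟨y, rfl⟩ := (mem_szE0_iff hm hF h).1 hh
  refine (mem_szE0_iff hm hF _).2 ⟨(t : F) ^ (2 ^ (m + 1) + 1) * y, ?_⟩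
  apply Subtype.ext
  exact borel_conj_central hm hF a b y t

theorem normalizer_szE0 (hm : 1 ≤ m) (hF : Fintype.card F = 2 ^ (2 * m + 1)) :
    Subgroup.normalizer ((szE0 hm hF : Subgroup (Cfsg.Sz F m)) : Set (Cfsg.Sz F m)) =
      szB F m := by
  apply le_antisymm
  · intro n hn
    rw [Subgroup.mem_normalizer_iff] at hn
    have h1 := (hn (sU hF 0 1)).1 ((mem_szE0_iff hm hF _).2 ⟨1, rfl⟩)
    obtain ⟨b', hb'⟩ := (mem_szE0_iff hm hF _).1 h1
    exact mem_szB_of_conj hm hF n (a := 0) (b := 1) (fun h => one_ne_zero h.2) hb'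
  · intro n hn
    rw [Subgroup.mem_normalizer_iff]
    intro h
    constructor
    · exact fun hh => conj_mem_szE0 hm hF hn hh
    · intro hh
      have h1 := conj_mem_szE0 hm hF ((szB F m).inv_mem hn) hh
      have h2 : n⁻¹ * (n * h * n⁻¹) * n⁻¹⁻¹ = h := by group
      rwa [h2] at h1

/-- the torus is transitive on the non-trivial elements of `szE0`. -/
theorem exists_sD_conj (hm : 1 ≤ m) (hF : Fintype.card F = 2 ^ (2 * m + 1)) {b b' : F}
    (hb : b ≠ 0) (hb' : b' ≠ 0) :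
    ∃ t : Fˣ, sD hF t * sU hF 0 b * (sD hF t)⁻¹ = sU hF 0 b' := by
  obtain ⟨t, ht⟩ := exists_pow_sigma_succ hF (Units.mk0 (b' / b) (div_ne_zero hb' hb))
  refine ⟨t, ?_⟩
  rw [sD_conj_sU hm hF, mul_zero]
  congr 1
  have : (t : F) ^ (2 ^ (m + 1) + 1) = b' / b := by
    rw [← Units.val_pow_eq_pow_val, ht, Units.val_mk0]
  rw [this, div_mul_cancel₀ _ hb]

/-- a subgroup of order `q` and exponent two is a conjugate of `szE0`. -/
theorem exists_conj_eq_szE0 (hm : 1 ≤ m) (hF : Fintype.card F = 2 ^ (2 * m + 1))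
    (E : Subgroup (Cfsg.Sz F m)) (hE : Nat.card E = Fintype.card F)
    (hE2 : ∀ x ∈ E, x * x = 1) :
    ∃ k : Cfsg.Sz F m, E = (szE0 hm hF).map (MulAut.conj k).toMonoidHom := by
  have : Finite (Cfsg.Sz F m) := inferInstance
  have hQp : IsPGroup 2 (szQ hm hF) := by
    apply IsPGroup.of_card (n := 2 * (2 * m + 1))
    rw [card_szQ, hF, ← pow_mul, mul_comm]
  let QS : Sylow 2 (Cfsg.Sz F m) := hQp.toSylow (szQ_index_odd hm hF)
  have hEp : IsPGroup 2 E := by
    apply IsPGroup.of_card (n := 2 * m + 1)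
    rw [hE, hF]
  obtain ⟨P', hP'⟩ := hEp.exists_le_sylow
  obtain ⟨k, hk⟩ := MulAction.exists_smul_eq (Cfsg.Sz F m) QS P'
  refine ⟨k, ?_⟩
  have hle : E ≤ (szE0 hm hF).map (MulAut.conj k).toMonoidHom := by
    intro e he
    have h1 : e ∈ (k • QS : Sylow 2 (Cfsg.Sz F m)) := by
      rw [hk]
      exact hP' he
    rw [mem_sylow_smul_iff] at h1
    have h2 : k⁻¹ * e * k ∈ szQ hm hF := h1
    obtain ⟨a, b, h3⟩ := (mem_szQ_iff hm hF _).1 h2
    have h4 : sU hF a b * sU hF a b = 1 := by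
      rw [← h3]
      have : k⁻¹ * e * k * (k⁻¹ * e * k) = k⁻¹ * (e * e) * k := by group
      rw [this, hE2 e he]
      group
    have ha : a = 0 := sU_sq_eq_one hm hF h4
    subst ha
    refine ⟨sU hF 0 b, (mem_szE0_iff hm hF _).2 ⟨b, rfl⟩, ?_⟩
    show k * sU hF 0 b * k⁻¹ = e
    rw [← h3]
    group
  apply Subgroup.eq_of_le_of_card_ge hle
  rw [Subgroup.card_map_of_injective (MulAut.conj k).injective, card_szE0, hE]

/-- transport to the Lie-type model: some isomorphism maps `E` onto `szE0`. -/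
theorem exists_equiv_map_eq_szE0 (hm : 1 ≤ m) (hF : Fintype.card F = 2 ^ (2 * m + 1))
    (E : Subgroup ↥(Cfsg.Lie.Sz F (2 ^ (m + 1)))) (hE : Nat.card E = Fintype.card F)
    (hE2 : ∀ x ∈ E, x * x = 1) :
    ∃ ψ : ↥(Cfsg.Lie.Sz F (2 ^ (m + 1))) ≃* Cfsg.Sz F m,
      E.map ψ.toMonoidHom = szE0 hm hF := by
  set e : ↥(Cfsg.Lie.Sz F (2 ^ (m + 1))) ≃* Cfsg.Sz F m := (lieSzEquiv hm hF).symm with he
  have hcard : Nat.card (E.map e.toMonoidHom) = Fintype.card F := by
    rw [Subgroup.card_map_of_injective e.injective, hE]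
  have hexp : ∀ x ∈ E.map e.toMonoidHom, x * x = 1 := by
    rintro x ⟨y, hy, rfl⟩
    show e y * e y = 1
    rw [← map_mul, hE2 y hy, map_one]
  obtain ⟨k, hk⟩ := exists_conj_eq_szE0 hm hF _ hcard hexp
  refine ⟨e.trans (MulAut.conj k⁻¹), ?_⟩
  have h1 : E.map (e.trans (MulAut.conj k⁻¹)).toMonoidHom =
      (E.map e.toMonoidHom).map (MulAut.conj k⁻¹).toMonoidHom := by
    rw [Subgroup.map_map]
    rfl
  rw [h1, hk, Subgroup.map_map]
  ext x
  constructor
  · rintro ⟨y, hy, rfl⟩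
    have : ((MulAut.conj k⁻¹).toMonoidHom.comp (MulAut.conj k).toMonoidHom) y = y := by
      show k⁻¹ * (k * y * k⁻¹) * k⁻¹⁻¹ = y
      group
    rw [this]
    exact hy
  · intro hx
    refine ⟨x, hx, ?_⟩
    show k⁻¹ * (k * x * k⁻¹) * k⁻¹⁻¹ = x
    group

end Cfsg.Agent.Helper65.FrakL
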