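import Mathlib
import Cfsg.Agent.Helper27.GolayWeights

/-!
# (DUAL) for helper93 (S2650): self-duality of the Golay code
-/

set_option autoImplicit false

namespace Cfsg.Agent.Helper65.GolayDual

open Cfsg

/-- the standard bilinear form on `GolayPt → ZMod 2`. -/
noncomputable def dotB : LinearMap.BilinForm (ZMod 2) (GolayPt → ZMod 2) :=
  Matrix.toBilin' (1 : Matrix GolayPt GolayPt (ZMod 2))

theorem dotB_apply (v w : GolayPt → ZMod 2) : dotB v w = ∑ p, v p * w p := by
  unfold dotB
  rw [Matrix.toBilin'_apply', Matrix.one_mulVec]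
  rfl

theorem dotB_comm (v w : GolayPt → ZMod 2) : dotB v w = dotB w v := by
  rw [dotB_apply, dotB_apply]
  exact Finset.sum_congr rfl fun p _ => mul_comm _ _

theorem dotB_nondegenerate : dotB.Nondegenerate :=
  Matrix.Nondegenerate.toBilin'
    (Matrix.nondegenerate_of_det_ne_zero (by rw [Matrix.det_one]; exact one_ne_zero))

set_option maxRecDepth 100000 in
theorem gen_orth : ∀ s t : ZMod 23, ∑ p : GolayPt, qrWord s p * qrWord t p = 0 := by
  decide +kernel

set_option maxRecDepth 100000 in
theorem gen_orth_one : ∀ s : ZMod 23, ∑ p : GolayPt, qrWord s p * (1 : GolayPt → ZMod 2) p = 0 := by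
  decide +kernel

set_option maxRecDepth 100000 in
theorem one_orth_one :
    ∑ p : GolayPt, (1 : GolayPt → ZMod 2) p * (1 : GolayPt → ZMod 2) p = 0 := by
  decide +kernel

theorem golayCode_eq_span :
    golayCode = Submodule.span (ZMod 2) (Set.range qrWord ∪ {1}) := rfl

/-- the generators are pairwise orthogonal. -/
theorem base_orth (x y : GolayPt → ZMod 2)
    (hx : x ∈ (Set.range qrWord ∪ {1} : Set (GolayPt → ZMod 2)))
    (hy : y ∈ (Set.range qrWord ∪ {1} : Set (GolayPt → ZMod 2))) : dotB x y = 0 := by
  rcases hx with ⟨s, rfl⟩ | hx <;> rcases hy with ⟨t, rfl⟩ | hy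
  · rw [dotB_apply]; exact gen_orth s t
  · rw [Set.mem_singleton_iff] at hy
    subst hy
    rw [dotB_apply]; exact gen_orth_one s
  · rw [Set.mem_singleton_iff] at hx
    subst hx
    rw [dotB_comm, dotB_apply]; exact gen_orth_one t
  · rw [Set.mem_singleton_iff] at hx hy
    subst hx
    subst hy
    rw [dotB_apply]; exact one_orth_one

/-- (A) the Golay code is self-orthogonal. -/
theorem self_orth {c d : GolayPt → ZMod 2} (hc : c ∈ golayCode) (hd : d ∈ golayCode) :
    dotB c d = 0 := by
  have h1 : ∀ y ∈ (Set.range qrWord ∪ {1} : Set (GolayPt → ZMod 2)), ∀ n ∈ golayCode,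
      dotB n y = 0 := by
    intro y hy n hn
    have hle : golayCode ≤ LinearMap.ker (dotB.flip y) := by
      rw [golayCode_eq_span, Submodule.span_le]
      intro x hx
      rw [SetLike.mem_coe, LinearMap.mem_ker, LinearMap.BilinForm.flip_apply]
      exact base_orth x y hx hy
    have h2 := hle hn
    rwa [LinearMap.mem_ker, LinearMap.BilinForm.flip_apply] at h2
  have hle : golayCode ≤ LinearMap.ker (dotB c) := by
    rw [golayCode_eq_span, Submodule.span_le]
    intro y hy
    rw [SetLike.mem_coe, LinearMap.mem_ker]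
    exact h1 y hy c hc
  have h3 := hle hd
  rwa [LinearMap.mem_ker] at h3

theorem finrank_golayCode : Module.finrank (ZMod 2) golayCode = 12 := by
  have h := Module.natCard_eq_pow_finrank (K := ZMod 2) (V := golayCode)
  rw [Cfsg.Agent.Helper27.card_golayCode, Nat.card_zmod] at h
  have h2 : (2 : ℕ) ^ 12 = 2 ^ Module.finrank (ZMod 2) golayCode := by rw [← h]; norm_num
  exact (Nat.pow_right_injective (le_refl 2) h2).symm

theorem finrank_ambient : Module.finrank (ZMod 2) (GolayPt → ZMod 2) = 24 := by
  rw [Module.finrank_fintype_fun_eq_card]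
  decide

/-- (B) the Golay code is self-dual. -/
theorem orthogonal_eq : dotB.orthogonal golayCode = golayCode := by
  symm
  apply Submodule.eq_of_le_of_finrank_eq
  · intro c hc
    rw [LinearMap.BilinForm.mem_orthogonal_iff]
    intro d hd
    exact self_orth hd hc
  · rw [LinearMap.BilinForm.finrank_orthogonal dotB_nondegenerate, finrank_ambient,
      finrank_golayCode]

theorem mem_of_orth (w : GolayPt → ZMod 2) (h : ∀ c ∈ golayCode, ∑ p, w p * c p = 0) :
    w ∈ golayCode := by
  rw [← orthogonal_eq, LinearMap.BilinForm.mem_orthogonal_iff]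
  intro d hd
  show dotB d w = 0
  rw [dotB_comm, dotB_apply]
  exact h d hd

theorem one_mem : (1 : GolayPt → ZMod 2) ∈ golayCode := by
  rw [golayCode_eq_span]
  exact Submodule.subset_span (Or.inr rfl)

theorem dot_single (c : GolayPt → ZMod 2) :
    ∑ p, (Pi.single none 1 : GolayPt → ZMod 2) p * c p = c none := by
  rw [Finset.sum_eq_single none]
  · rw [Pi.single_eq_same, one_mul]
  · intro p _ hp
    rw [Pi.single_eq_of_ne hp, zero_mul]
  · intro h; exact absurd (Finset.mem_univ _) h

theorem dot_add_left (a b c : GolayPt → ZMod 2) :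
    ∑ p, (a + b) p * c p = ∑ p, a p * c p + ∑ p, b p * c p := by
  rw [← Finset.sum_add_distrib]
  exact Finset.sum_congr rfl fun p _ => by rw [Pi.add_apply, add_mul]

theorem dot_add_right (w a b : GolayPt → ZMod 2) :
    ∑ p, w p * (a + b) p = ∑ p, w p * a p + ∑ p, w p * b p := by
  rw [← Finset.sum_add_distrib]
  exact Finset.sum_congr rfl fun p _ => by rw [Pi.add_apply, mul_add]

theorem zmod2_add_self (a : ZMod 2) : a + a = 0 := by
  revert a; decide

theorem zmod2_cases (a : ZMod 2) : a = 0 ∨ a = 1 := by
  revert a; decide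

/-- (DUAL) -/
theorem orth_C0_iff (w : Cfsg.GolayPt → ZMod 2) :
    (∀ c ∈ Cfsg.golayCode, c none = 0 → ∑ p, w p * c p = 0) ↔
      (w ∈ Cfsg.golayCode ∨ w + Pi.single none 1 ∈ Cfsg.golayCode) := by
  constructor
  · intro h
    -- `t = ⟨w, 1⟩`
    rcases zmod2_cases (∑ p, w p * (1 : GolayPt → ZMod 2) p) with ht | ht
    · left
      apply mem_of_orth
      intro c hc
      rcases zmod2_cases (c none) with h0 | h1
      · exact h c hc h0
      · have hc1 : c + 1 ∈ golayCode := golayCode.add_mem hc one_mem
        have h2 := h (c + 1) hc1 (by rw [Pi.add_apply, h1, Pi.one_apply]; decide)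
        rw [dot_add_right, ht, add_zero] at h2
        exact h2
    · right
      apply mem_of_orth
      intro c hc
      rw [dot_add_left, dot_single]
      rcases zmod2_cases (c none) with h0 | h1
      · rw [h0, add_zero]
        exact h c hc h0
      · have hc1 : c + 1 ∈ golayCode := golayCode.add_mem hc one_mem
        have h2 := h (c + 1) hc1 (by rw [Pi.add_apply, h1, Pi.one_apply]; decide)
        rw [dot_add_right, ht] at h2
        rw [h1]
        exact h2
  · rintro (hw | hw) c hc h0
    · have := self_orth hw hc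
      rwa [dotB_apply] at this
    · have h1 := self_orth hw hc
      rw [dotB_apply, dot_add_left, dot_single, h0, add_zero] at h1
      exact h1

end Cfsg.Agent.Helper65.GolayDual
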