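import Cfsg.Agent.Helper65.Suzuki3

/-!
# Isomorphisms from matching generators: the graph of an isomorphism as a subgroup of a product
-/

set_option autoImplicit false

namespace Cfsg.Agent.Helper65.GraphIso

open Cfsg.Agent.Helper65.Suz

section tower

variable {G : Type*} [Group G]

/-- adjoining an element that normalises, with square inside, at most doubles the order. -/
theorem card_closure_insert [Finite G] (S : Set G) (g : G)
    (hg2 : g * g ∈ Subgroup.closure S)
    (hn1 : ∀ s ∈ S, g * s * g⁻¹ ∈ Subgroup.closure S)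
    (hn2 : ∀ s ∈ S, g⁻¹ * s * g ∈ Subgroup.closure S) :
    Nat.card (Subgroup.closure (insert g S)) ≤ 2 * Nat.card (Subgroup.closure S) := by
  classical
  set H := Subgroup.closure S with hH
  have hN1 : ∀ k ∈ H, g * k * g⁻¹ ∈ H := by
    intro k hk
    induction hk using Subgroup.closure_induction with
    | mem y hy => exact hn1 y hy
    | one => rw [mul_one, mul_inv_cancel]; exact H.one_mem
    | mul y z _ _ hy hz =>
      have : g * (y * z) * g⁻¹ = (g * y * g⁻¹) * (g * z * g⁻¹) := by group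
      rw [this]; exact H.mul_mem hy hz
    | inv y _ hy =>
      have : g * y⁻¹ * g⁻¹ = (g * y * g⁻¹)⁻¹ := by group
      rw [this]; exact H.inv_mem hy
  have hN2 : ∀ k ∈ H, g⁻¹ * k * g ∈ H := by
    intro k hk
    induction hk using Subgroup.closure_induction with
    | mem y hy => exact hn2 y hy
    | one => rw [mul_one, inv_mul_cancel]; exact H.one_mem
    | mul y z _ _ hy hz =>
      have : g⁻¹ * (y * z) * g = (g⁻¹ * y * g) * (g⁻¹ * z * g) := by group
      rw [this]; exact H.mul_mem hy hz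
    | inv y _ hy =>
      have : g⁻¹ * y⁻¹ * g = (g⁻¹ * y * g)⁻¹ := by group
      rw [this]; exact H.inv_mem hy
  let K : Subgroup G :=
    { carrier := {k | k ∈ H ∨ k * g⁻¹ ∈ H}
      one_mem' := Or.inl H.one_mem
      mul_mem' := by
        rintro k k' (hk | hk) (hk' | hk')
        · exact Or.inl (H.mul_mem hk hk')
        · right
          have : k * k' * g⁻¹ = k * (k' * g⁻¹) := by group
          rw [this]; exact H.mul_mem hk hk'
        · right
          have : k * k' * g⁻¹ = (k * g⁻¹) * (g * k' * g⁻¹) := by group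
          rw [this]; exact H.mul_mem hk (hN1 _ hk')
        · left
          have : k * k' = (k * g⁻¹) * (g * (k' * g⁻¹) * g⁻¹) * (g * g) := by group
          rw [this]; exact H.mul_mem (H.mul_mem hk (hN1 _ hk')) hg2
      inv_mem' := by
        rintro k (hk | hk)
        · exact Or.inl (H.inv_mem hk)
        · right
          have : k⁻¹ * g⁻¹ = (g⁻¹ * (k * g⁻¹)⁻¹ * g) * (g * g)⁻¹ := by group
          rw [this]
          exact H.mul_mem (hN2 _ (H.inv_mem hk)) (H.inv_mem hg2) }
  have hle : Subgroup.closure (insert g S) ≤ K := by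
    rw [Subgroup.closure_le]
    intro x hx
    rcases hx with rfl | hx
    · right
      show x * x⁻¹ ∈ H
      rw [mul_inv_cancel]; exact H.one_mem
    · exact Or.inl (Subgroup.subset_closure hx)
  have hK : Nat.card K ≤ 2 * Nat.card H := by
    have hinj : Function.Injective (fun k : K =>
        if hk : k.1 ∈ H then ((⟨k.1, hk⟩ : H), false)
        else ((⟨k.1 * g⁻¹, k.2.resolve_left hk⟩ : H), true)) := by
      intro k k' hkk
      by_cases hk : k.1 ∈ H <;> by_cases hk' : k'.1 ∈ H
      · simp only [hk, hk', dif_pos] at hkk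
        have := congrArg (fun p : H × Bool => p.1.1) hkk
        exact Subtype.ext this
      · simp only [hk, hk', dif_pos, dif_neg, not_false_eq_true] at hkk
        have := congrArg (fun p : H × Bool => p.2) hkk
        simp at this
      · simp only [hk, hk', dif_pos, dif_neg, not_false_eq_true] at hkk
        have := congrArg (fun p : H × Bool => p.2) hkk
        simp at this
      · simp only [hk, hk', dif_neg, not_false_eq_true] at hkk
        have := congrArg (fun p : H × Bool => p.1.1) hkk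
        exact Subtype.ext (mul_right_cancel this)
    have := Nat.card_le_card_of_injective _ hinj
    rw [Nat.card_prod, Nat.card_eq_fintype_card (α := Bool), Fintype.card_bool, mul_comm] at this
    exact this
  exact le_trans (Subgroup.card_le_of_le hle) hK

/-- the tower of adjunctions. -/
theorem card_closure_tower [Finite G] (Γ : Subgroup G) (hΓc : ∀ γ ∈ Γ, ∀ x : G, γ * x = x * γ)
    {n : ℕ} (g : Fin n → G) (hsq : ∀ i, g i * g i ∈ Γ)
    (hc : ∀ i j, ∃ γ ∈ Γ, g i * g j = g j * g i * γ) :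
    ∀ m : ℕ, m ≤ n →
      Nat.card (Subgroup.closure ((Γ : Set G) ∪ {x | ∃ j : Fin n, j.val < m ∧ x = g j}))
        ≤ 2 ^ m * Nat.card Γ := by
  intro m
  induction m with
  | zero =>
    intro _
    have : ((Γ : Set G) ∪ {x | ∃ j : Fin n, j.val < 0 ∧ x = g j}) = (Γ : Set G) := by
      ext x
      simp
    rw [this, Subgroup.closure_eq, pow_zero, one_mul]
  | succ m ih =>
    intro hm
    have hm' : m < n := hm
    set S := ((Γ : Set G) ∪ {x | ∃ j : Fin n, j.val < m ∧ x = g j}) with hS
    have hS' : ((Γ : Set G) ∪ {x | ∃ j : Fin n, j.val < m + 1 ∧ x = g j})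
        = insert (g ⟨m, hm'⟩) S := by
      ext x
      simp only [Set.mem_union, SetLike.mem_coe, Set.mem_setOf_eq, Set.mem_insert_iff, hS]
      constructor
      · rintro (hx | ⟨j, hj, rfl⟩)
        · exact Or.inr (Or.inl hx)
        · by_cases hjm : j.val = m
          · left
            congr 1
            exact Fin.ext hjm
          · right; right
            exact ⟨j, by omega, rfl⟩
      · rintro (rfl | hx | ⟨j, hj, rfl⟩)
        · exact Or.inr ⟨⟨m, hm'⟩, by simp, rfl⟩
        · exact Or.inl hx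
        · exact Or.inr ⟨j, by omega, rfl⟩
    rw [hS']
    have hΓS : (Γ : Set G) ⊆ S := Set.subset_union_left
    have h1 : ∀ s ∈ S, g ⟨m, hm'⟩ * s * (g ⟨m, hm'⟩)⁻¹ ∈ Subgroup.closure S := by
      rintro s (hs | ⟨j, hj, rfl⟩)
      · rw [← hΓc s hs, mul_inv_cancel_right]
        exact Subgroup.subset_closure (hΓS hs)
      · obtain ⟨γ, hγ, he⟩ := hc ⟨m, hm'⟩ j
        rw [he]
        have : g j * g ⟨m, hm'⟩ * γ * (g ⟨m, hm'⟩)⁻¹ = g j * γ := by
          rw [mul_assoc (g j), ← hΓc γ hγ, ← mul_assoc, mul_assoc, ← hΓc γ hγ]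
          group
        rw [this]
        exact Subgroup.mul_mem _ (Subgroup.subset_closure (Or.inr ⟨j, hj, rfl⟩))
          (Subgroup.subset_closure (hΓS hγ))
    have h2 : ∀ s ∈ S, (g ⟨m, hm'⟩)⁻¹ * s * g ⟨m, hm'⟩ ∈ Subgroup.closure S := by
      rintro s (hs | ⟨j, hj, rfl⟩)
      · rw [mul_assoc, hΓc s hs, inv_mul_cancel_left]
        exact Subgroup.subset_closure (hΓS hs)
      · obtain ⟨γ, hγ, he⟩ := hc j ⟨m, hm'⟩
        rw [mul_assoc, he]
        have : (g ⟨m, hm'⟩)⁻¹ * (g ⟨m, hm'⟩ * g j * γ) = g j * γ := by group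
        rw [this]
        exact Subgroup.mul_mem _ (Subgroup.subset_closure (Or.inr ⟨j, hj, rfl⟩))
          (Subgroup.subset_closure (hΓS hγ))
    have h3 := card_closure_insert S (g ⟨m, hm'⟩)
      (Subgroup.subset_closure (hΓS (hsq _))) h1 h2
    have h4 := ih (by omega)
    calc _ ≤ 2 * Nat.card (Subgroup.closure S) := h3
      _ ≤ 2 * (2 ^ m * Nat.card Γ) := Nat.mul_le_mul_left 2 h4
      _ = 2 ^ (m + 1) * Nat.card Γ := by ring

end tower

section graph

variable {T₁ T₂ : Type*} [Group T₁] [Group T₂]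

/-- **matching generators give an isomorphism.** -/
theorem graph_equiv [Finite T₁] [Finite T₂] (Γ : Subgroup (T₁ × T₂))
    (hΓc : ∀ γ ∈ Γ, ∀ x : T₁ × T₂, γ * x = x * γ) {n : ℕ} (g : Fin n → T₁ × T₂)
    (hsq : ∀ i, g i * g i ∈ Γ) (hc : ∀ i j, ∃ γ ∈ Γ, g i * g j = g j * g i * γ)
    (hcard1 : Nat.card T₁ = 2 ^ n * Nat.card Γ) (hcard2 : Nat.card T₂ = Nat.card T₁)
    (hgen : Subgroup.closure (Prod.fst '' ((Γ : Set (T₁ × T₂)) ∪ Set.range g)) = ⊤)
    (hinj : ∀ γ ∈ Γ, γ.2 = 1 → γ = 1)
    (hZ : ∀ z ∈ Subgroup.center T₁, ∃ γ ∈ Γ, γ.1 = z)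
    (hcl : ∀ a b : T₁, cm a b ∈ Subgroup.center T₁) : Nonempty (T₁ ≃* T₂) := by
  set K := Subgroup.closure ((Γ : Set (T₁ × T₂)) ∪ Set.range g) with hK
  have hKcard : Nat.card K ≤ Nat.card T₁ := by
    have h1 := card_closure_tower Γ hΓc g hsq hc n le_rfl
    have h2 : ((Γ : Set (T₁ × T₂)) ∪ {x | ∃ j : Fin n, j.val < n ∧ x = g j})
        = (Γ : Set (T₁ × T₂)) ∪ Set.range g := by
      ext x
      simp only [Set.mem_union, Set.mem_setOf_eq, Set.mem_range]
      constructor
      · rintro (hx | ⟨j, -, rfl⟩)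
        · exact Or.inl hx
        · exact Or.inr ⟨j, rfl⟩
      · rintro (hx | ⟨j, rfl⟩)
        · exact Or.inl hx
        · exact Or.inr ⟨j, j.2, rfl⟩
    rw [h2] at h1
    rw [hcard1]
    exact h1
  set π₁ : K →* T₁ := (MonoidHom.fst T₁ T₂).domRestrict K with hπ₁
  set π₂ : K →* T₂ := (MonoidHom.snd T₁ T₂).domRestrict K with hπ₂
  have hsurj : Function.Surjective π₁ := by
    rw [← MonoidHom.range_eq_top, hπ₁, MonoidHom.domRestrict_range, hK, MonoidHom.map_closure]
    exact hgen
  have hbij : Function.Bijective π₁ := hsurj.bijective_of_nat_card_le hKcard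
  set e₁ : K ≃* T₁ := MulEquiv.ofBijective π₁ hbij with he₁
  set f : T₁ →* T₂ := π₂.comp e₁.symm.toMonoidHom with hf
  have hΓK : ∀ γ ∈ Γ, γ ∈ K := fun γ hγ => Subgroup.subset_closure (Or.inl hγ)
  -- `f` on the centre
  have hfZ : ∀ z ∈ Subgroup.center T₁, f z = 1 → z = 1 := by
    intro z hz hfz
    obtain ⟨γ, hγ, rfl⟩ := hZ z hz
    have h1 : e₁ ⟨γ, hΓK γ hγ⟩ = γ.1 := rfl
    have h2 : e₁.symm γ.1 = ⟨γ, hΓK γ hγ⟩ := by
      rw [← h1, MulEquiv.symm_apply_apply]
    have h3 : f γ.1 = γ.2 := by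
      show π₂ (e₁.symm γ.1) = γ.2
      rw [h2]
      rfl
    rw [h3] at hfz
    rw [hinj γ hγ hfz]
    rfl
  have hfinj : Function.Injective f := by
    rw [injective_iff_map_eq_one]
    intro t ht
    by_contra ht1
    by_cases htZ : t ∈ Subgroup.center T₁
    · exact ht1 (hfZ t htZ ht)
    · have : ∃ s, cm t s ≠ 1 := by
        by_contra hall
        push Not at hall
        apply htZ
        rw [Subgroup.mem_center_iff]
        intro s
        exact (cm_eq_one_iff.mp (hall s)).symm
      obtain ⟨s, hs⟩ := this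
      apply hs
      apply hfZ _ (hcl t s)
      unfold cm
      rw [map_mul, map_mul, map_mul, map_inv, map_inv, ht]
      group
  have hfbij : Function.Bijective f :=
    hfinj.bijective_of_nat_card_le (le_of_eq hcard2)
  exact ⟨MulEquiv.ofBijective f hfbij⟩

end graph

end Cfsg.Agent.Helper65.GraphIso
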