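import Cfsg.Agent.Helper95.Hig.Basic

/-!
Helper65 for helper95, project HIG (S3050), piece (HD1): the first nine relations of `HData` for a
characteristic-2 model.
-/

set_option autoImplicit false

namespace Cfsg.Agent.Helper65.Hig

open Cfsg.Agent.Helper40.SL2Hom
open Cfsg.Agent.Helper95.Hig

universe u v w

section hd
set_option linter.unusedSectionVars false
variable {K : Type u} [Field K] [CharP K 2] {V : Type v} [AddCommGroup V] [Module (ZG K) V]
  {C : Type w} [AddCommGroup C]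

/-- in an abelian group of exponent 2, `a + b = 0` gives `a = b` -/
theorem HD1_eq_of_add (h2 : ∀ c : C, c + c = 0) {a b : C} (h : a + b = 0) : a = b := by
  have hb := h2 b
  calc a = (a + b) + b - (b + b) := by abel
    _ = b := by rw [h, hb]; abel

/-- `Model.hU` for an arbitrary vector -/
theorem HD1_hUv (m : Model K V C) (γ : K) (x : V) :
    m.φ (act (U γ) x) =
      ((m.φ x).1 + m.A γ (m.φ x).1 + m.B γ (m.φ x).2, (m.φ x).2 + m.A γ (m.φ x).2) := by
  have h := m.hU γ (m.φ x).1 (m.φ x).2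
  rwa [Prod.mk.eta, AddEquiv.symm_apply_apply] at h

/-- block form of the product `U γ * U δ` -/
theorem HD1_UU (m : Model K V C) (γ δ : K) (c d : C) :
    m.φ (act (U γ * U δ) (m.φ.symm (c, d))) =
      ((c + m.A δ c + m.B δ d) + m.A γ (c + m.A δ c + m.B δ d) + m.B γ (d + m.A δ d),
        (d + m.A δ d) + m.A γ (d + m.A δ d)) := by
  rw [act_mul, HD1_hUv, m.hU δ c d]

theorem HD1_A_zero (m : Model K V C) (c : C) : m.A 0 c = 0 := by
  have h := m.hU 0 c 0
  rw [U_zero, act_one, AddEquiv.apply_symm_apply] at h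
  have h1 := congrArg Prod.fst h
  simp only [map_zero, add_zero] at h1
  exact (left_eq_add.mp h1)

theorem HD1_B_zero (m : Model K V C) (c : C) : m.B 0 c = 0 := by
  have h := m.hU 0 0 c
  rw [U_zero, act_one, AddEquiv.apply_symm_apply] at h
  have h1 := congrArg Prod.fst h
  simp only [map_zero, add_zero, zero_add] at h1
  exact h1.symm

theorem HD1_A_one (m : Model K V C) (c : C) : m.A 1 c = 0 := by
  have h := (m.hU 1 c 0).symm.trans (m.hU1 c 0)
  have h1 := congrArg Prod.fst h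
  simp only [map_zero, add_zero] at h1
  exact (add_eq_left.mp h1)

theorem HD1_B_one (m : Model K V C) (c : C) : m.B 1 c = c := by
  have h := (m.hU 1 0 c).symm.trans (m.hU1 0 c)
  have h1 := congrArg Prod.fst h
  simp only [map_zero, add_zero, zero_add] at h1
  exact h1

theorem HD1_A_add (m : Model K V C) (γ δ : K) (c : C) :
    m.A (γ + δ) c = m.A γ c + m.A δ c + m.A γ (m.A δ c) := by
  have h0 := HD1_UU m γ δ c 0
  rw [← U_add] at h0
  have h := (m.hU (γ + δ) c 0).symm.trans h0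
  have h1 := congrArg Prod.fst h
  simp only [map_zero, add_zero, map_add] at h1
  have h3 : c + m.A (γ + δ) c = c + (m.A γ c + m.A δ c + m.A γ (m.A δ c)) := by
    rw [h1]; abel
  exact add_left_cancel h3

theorem HD1_B_add (m : Model K V C) (γ δ : K) (c : C) :
    m.B (γ + δ) c = m.B γ c + m.B δ c + m.A γ (m.B δ c) + m.B γ (m.A δ c) := by
  have h0 := HD1_UU m γ δ 0 c
  rw [← U_add] at h0
  have h := (m.hU (γ + δ) 0 c).symm.trans h0
  have h1 := congrArg Prod.fst h
  simp only [map_zero, add_zero, zero_add, map_add] at h1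
  rw [h1]; abel

theorem HD1_A_comm (m : Model K V C) (γ δ : K) (c : C) :
    m.A γ (m.A δ c) = m.A δ (m.A γ c) := by
  have h1 := HD1_A_add m γ δ c
  have h2 := HD1_A_add m δ γ c
  rw [add_comm δ γ, h1] at h2
  have h3 : (m.A γ c + m.A δ c) + m.A γ (m.A δ c) = (m.A γ c + m.A δ c) + m.A δ (m.A γ c) := by
    rw [h2]; abel
  exact add_left_cancel h3

theorem HD1_A_sq (h2 : ∀ c : C, c + c = 0) (m : Model K V C) (γ : K) (c : C) :
    m.A γ (m.A γ c) = 0 := by
  have h := HD1_A_add m γ γ c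
  rw [CharTwo.add_self_eq_zero, HD1_A_zero, h2, zero_add] at h
  exact h.symm

theorem HD1_AB_comm (h2 : ∀ c : C, c + c = 0) (m : Model K V C) (γ : K) (c : C) :
    m.A γ (m.B γ c) = m.B γ (m.A γ c) := by
  have h := HD1_B_add m γ γ c
  rw [CharTwo.add_self_eq_zero, HD1_B_zero, h2, zero_add] at h
  exact HD1_eq_of_add h2 h.symm

/-- (HD1) the first nine relations of `HData` for a characteristic-2 model -/
theorem hd1 (h2 : ∀ c : C, c + c = 0) (m : Model K V C) :
    (∀ c, m.A 0 c = 0) ∧ (∀ c, m.B 0 c = 0) ∧ (∀ c, m.A 1 c = 0) ∧ (∀ c, m.B 1 c = c) ∧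
    (∀ γ δ c, m.A γ (m.A δ c) = m.A δ (m.A γ c)) ∧
    (∀ γ δ c, m.A (γ + δ) c = m.A γ c + m.A δ c + m.A γ (m.A δ c)) ∧
    (∀ γ δ c, m.B (γ + δ) c = m.B γ c + m.B δ c + m.A γ (m.B δ c) + m.B γ (m.A δ c)) ∧
    (∀ γ c, m.A γ (m.A γ c) = 0) ∧ (∀ γ c, m.A γ (m.B γ c) = m.B γ (m.A γ c)) :=
  ⟨HD1_A_zero m, HD1_B_zero m, HD1_A_one m, HD1_B_one m, HD1_A_comm m, HD1_A_add m, HD1_B_add m,
    HD1_A_sq h2 m, HD1_AB_comm h2 m⟩

end hd

end Cfsg.Agent.Helper65.Hig
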