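import Cfsg.Agent.Helper65.HIG_HD1

/-!
Helper65 for helper95, project HIG (S3050), piece (HD3): `B γ (B γ⁻¹ c) = c` for a characteristic-2
model of a Higman module.
-/

set_option autoImplicit false

namespace Cfsg.Agent.Helper65.Hig

open Cfsg.Agent.Helper40.SL2Hom
open Cfsg.Agent.Helper95.Hig

universe u v w

section hd
set_option linter.unusedSectionVars false
variable {K : Type u} [Field K] [CharP K 2] {V : Type v} [AddCommGroup V] [Module (ZG K) V]
  {C : Type w} [AddCommGroup C]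

/-- `Model.hW` for an arbitrary vector -/
theorem HD3_hWv (m : Model K V C) (x : V) :
    m.φ (act (W : SL2 K) x) = ((m.φ x).2, (m.φ x).1) := by
  have h := m.hW (m.φ x).1 (m.φ x).2
  rwa [Prod.mk.eta, AddEquiv.symm_apply_apply] at h

/-- block form of `L γ = W * U γ * W` on an arbitrary vector -/
theorem HD3_hLv (m : Model K V C) (γ : K) (x : V) :
    m.φ (act (L γ) x) =
      ((m.φ x).1 + m.A γ (m.φ x).1, (m.φ x).2 + m.B γ (m.φ x).1 + m.A γ (m.φ x).2) := by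
  rw [L_eq, act_mul, act_mul, HD3_hWv, HD1_hUv, HD3_hWv]
  simp only
  rw [add_right_comm]

/-- (HD2), reproved locally: block form of `L γ` -/
theorem HD3_hd2 (m : Model K V C) (γ : K) (c d : C) :
    m.φ (act (L γ) (m.φ.symm (c, d))) = (c + m.A γ c, d + m.B γ c + m.A γ d) := by
  rw [HD3_hLv, AddEquiv.apply_symm_apply]

/-- (HD3) `B γ (B γ⁻¹ c) = c` -/
theorem hd3 (h2 : ∀ c : C, c + c = 0) (hH : IsHig K V) (m : Model K V C) (γ : K) (hγ : γ ≠ 0)
    (c : C) : m.B γ (m.B γ⁻¹ c) = c := by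
  have h := congrArg m.φ (s3r hH γ hγ (m.φ.symm (c, 0))).1
  rw [map_add, map_add, map_zero, HD1_hUv, HD3_hLv, HD3_hLv, HD1_hUv,
    AddEquiv.apply_symm_apply] at h
  have h1 := congrArg Prod.fst h
  simp only [Prod.fst_add, Prod.fst_zero, map_zero, add_zero, zero_add, map_add] at h1
  have hc := HD1_A_comm m γ γ⁻¹ c
  have e1 := h2 c
  have e2 := h2 (m.A γ c)
  have e3 := h2 (m.A γ⁻¹ c)
  have e4 := h2 (m.A γ⁻¹ (m.A γ c))
  rw [hc] at h1
  have h3 : m.B γ (m.B γ⁻¹ c) + c = 0 := by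
    calc m.B γ (m.B γ⁻¹ c) + c
        = (c + (c + m.A γ⁻¹ c + (m.A γ c + m.A γ⁻¹ (m.A γ c)) + m.B γ (m.B γ⁻¹ c))
            + (c + m.A γ c + (m.A γ⁻¹ c + m.A γ⁻¹ (m.A γ c))))
          - (c + c) - (m.A γ c + m.A γ c) - (m.A γ⁻¹ c + m.A γ⁻¹ c)
          - (m.A γ⁻¹ (m.A γ c) + m.A γ⁻¹ (m.A γ c)) := by abel
      _ = 0 := by rw [h1, e1, e2, e3, e4]; abel
  exact HD1_eq_of_add h2 h3

end hd

end Cfsg.Agent.Helper65.Hig
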