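import Mathlib

/-!
# Polynomial sequences in a filtered group (Leibman / Lazard)

For a group `G` with a filtration `F 0 ≥ F 1 ≥ ⋯`, `⁅F i, F j⁆ ≤ F (i + j)`, a sequence
`g : ℕ → G` is polynomial of level `m` and index `i` if its `k`-th iterated difference
takes values in `F (i + k)` for all `k ≤ m`.  We prove by induction on `m` that these
sequences are closed under pointwise products, inverses and commutators (with indices adding).
This is the engine behind the Hall-Petrescu collection formula.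
-/

set_option autoImplicit false

namespace Cfsg.Agent.Helper65

open scoped commutatorElement

/-- A descending filtration with `⁅F i, F j⁆ ≤ F (i + j)`. -/
structure Filtration (G : Type*) [Group G] where
  /-- the terms -/
  F : ℕ → Subgroup G
  anti : ∀ i, F (i + 1) ≤ F i
  comm : ∀ i j, ⁅F i, F j⁆ ≤ F (i + j)

variable {G : Type*} [Group G]

theorem Filtration.mono (Φ : Filtration G) {i j : ℕ} (h : i ≤ j) : Φ.F j ≤ Φ.F i :=
  antitone_nat_of_succ_le Φ.anti h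

/-- the difference sequence `n ↦ g (n+1) (g n)⁻¹`. -/
def seqDiff (g : ℕ → G) : ℕ → G := fun n => g (n + 1) * (g n)⁻¹

theorem seqDiff_mul_self (g : ℕ → G) (n : ℕ) : seqDiff g n * g n = g (n + 1) := by
  unfold seqDiff
  rw [inv_mul_cancel_right]

/-- polynomial sequences of level `m` and index `i`. -/
def IsPoly (Φ : Filtration G) : ℕ → ℕ → (ℕ → G) → Prop
  | 0, i, g => ∀ n, g n ∈ Φ.F i
  | m + 1, i, g => (∀ n, g n ∈ Φ.F i) ∧ IsPoly Φ m (i + 1) (seqDiff g)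

theorem IsPoly.mem {Φ : Filtration G} {m i : ℕ} {g : ℕ → G} (h : IsPoly Φ m i g) (n : ℕ) :
    g n ∈ Φ.F i := by
  cases m with
  | zero => exact h n
  | succ m => exact h.1 n

theorem IsPoly.of_le {Φ : Filtration G} {m : ℕ} : ∀ {i i' : ℕ} {g : ℕ → G}, i' ≤ i →
    IsPoly Φ m i g → IsPoly Φ m i' g := by
  induction m with
  | zero =>
    intro i i' g hi h n
    exact Φ.mono hi (h n)
  | succ m ih =>
    intro i i' g hi h
    exact ⟨fun n => Φ.mono hi (h.1 n), ih (Nat.succ_le_succ hi) h.2⟩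

theorem IsPoly.of_succ {Φ : Filtration G} {m : ℕ} : ∀ {i : ℕ} {g : ℕ → G},
    IsPoly Φ (m + 1) i g → IsPoly Φ m i g := by
  induction m with
  | zero =>
    intro i g h
    exact h.1
  | succ m ih =>
    intro i g h
    exact ⟨h.1, ih h.2⟩

theorem seqDiff_mul_identity (a b a' b' : G) :
    a' * b' * (a * b)⁻¹ = (a' * a⁻¹) * (b' * b⁻¹) * ⁅(b' * b⁻¹)⁻¹, a⁆ := by
  simp only [commutatorElement_def]; group

theorem seqDiff_inv_identity (a a' : G) :
    a'⁻¹ * (a⁻¹)⁻¹ = (a' * a⁻¹)⁻¹ * ⁅a' * a⁻¹, a⁻¹⁆ := by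
  simp only [commutatorElement_def]; group

theorem seqDiff_comm_identity (a b α β : G) :
    ⁅α * a, β * b⁆ * ⁅a, b⁆⁻¹ =
      ⁅α, (⁅a, β⁆ * ⁅β, ⁅a, b⁆⁆) * ⁅a, b⁆⁆ * (⁅a, β⁆ * ⁅β, ⁅a, b⁆⁆) *
        ⁅⁅a, b⁆, ⁅α, β⁆ * ⁅β, ⁅α, b⁆⁆ * ⁅α, b⁆⁆ * (⁅α, β⁆ * ⁅β, ⁅α, b⁆⁆ * ⁅α, b⁆) := by
  simp only [commutatorElement_def]; group

/-- The closure theorem, all three statements at once, by induction on the level. -/
theorem isPoly_closure (Φ : Filtration G) (m : ℕ) :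
    (∀ (i : ℕ) (g h : ℕ → G), IsPoly Φ m i g → IsPoly Φ m i h →
      IsPoly Φ m i (fun n => g n * h n)) ∧
    (∀ (i : ℕ) (g : ℕ → G), IsPoly Φ m i g → IsPoly Φ m i (fun n => (g n)⁻¹)) ∧
    (∀ (i j : ℕ) (g h : ℕ → G), IsPoly Φ m i g → IsPoly Φ m j h →
      IsPoly Φ m (i + j) (fun n => ⁅g n, h n⁆)) := by
  induction m with
  | zero =>
    refine ⟨?_, ?_, ?_⟩
    · intro i g h hg hh n
      exact mul_mem (hg n) (hh n)
    · intro i g hg n
      exact inv_mem (hg n)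
    · intro i j g h hg hh n
      exact Φ.comm i j (Subgroup.commutator_mem_commutator (hg n) (hh n))
  | succ m ih =>
    obtain ⟨hmul, hinv, hcomm⟩ := ih
    refine ⟨?_, ?_, ?_⟩
    · intro i g h hg hh
      refine ⟨fun n => mul_mem (hg.1 n) (hh.1 n), ?_⟩
      have hd : seqDiff (fun n => g n * h n) =
          fun n => seqDiff g n * seqDiff h n * ⁅(seqDiff h n)⁻¹, g n⁆ := by
        funext n
        exact seqDiff_mul_identity (g n) (h n) (g (n + 1)) (h (n + 1))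
      rw [hd]
      have h1 : IsPoly Φ m (i + 1 + i) (fun n => ⁅(seqDiff h n)⁻¹, g n⁆) :=
        hcomm _ _ _ _ (hinv _ _ hh.2) hg.of_succ
      exact hmul _ _ _ (hmul _ _ _ hg.2 hh.2) (h1.of_le (by omega))
    · intro i g hg
      refine ⟨fun n => inv_mem (hg.1 n), ?_⟩
      have hd : seqDiff (fun n => (g n)⁻¹) =
          fun n => (seqDiff g n)⁻¹ * ⁅seqDiff g n, (g n)⁻¹⁆ := by
        funext n
        exact seqDiff_inv_identity (g n) (g (n + 1))
      rw [hd]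
      have h1 : IsPoly Φ m (i + 1 + i) (fun n => ⁅seqDiff g n, (g n)⁻¹⁆) :=
        hcomm _ _ _ _ hg.2 (hinv _ _ hg.of_succ)
      exact hmul _ _ _ (hinv _ _ hg.2) (h1.of_le (by omega))
    · intro i j g h hg hh
      refine ⟨fun n => Φ.comm i j (Subgroup.commutator_mem_commutator (hg.1 n) (hh.1 n)), ?_⟩
      have g0 : IsPoly Φ m i g := hg.of_succ
      have h0 : IsPoly Φ m j h := hh.of_succ
      have hα : IsPoly Φ m (i + 1) (seqDiff g) := hg.2
      have hβ : IsPoly Φ m (j + 1) (seqDiff h) := hh.2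
      have hc : IsPoly Φ m (i + j) (fun n => ⁅g n, h n⁆) := hcomm _ _ _ _ g0 h0
      have haβ : IsPoly Φ m (i + (j + 1)) (fun n => ⁅g n, seqDiff h n⁆) := hcomm _ _ _ _ g0 hβ
      have hβc : IsPoly Φ m (j + 1 + (i + j)) (fun n => ⁅seqDiff h n, ⁅g n, h n⁆⁆) :=
        hcomm _ _ _ _ hβ hc
      have hu : IsPoly Φ m (i + j + 1)
          (fun n => ⁅g n, seqDiff h n⁆ * ⁅seqDiff h n, ⁅g n, h n⁆⁆) :=
        hmul _ _ _ (haβ.of_le (by omega)) (hβc.of_le (by omega))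
      have huc : IsPoly Φ m (i + j)
          (fun n => ⁅g n, seqDiff h n⁆ * ⁅seqDiff h n, ⁅g n, h n⁆⁆ * ⁅g n, h n⁆) :=
        hmul _ _ _ (hu.of_le (by omega)) hc
      have h1 : IsPoly Φ m (i + 1 + (i + j)) (fun n => ⁅seqDiff g n,
          ⁅g n, seqDiff h n⁆ * ⁅seqDiff h n, ⁅g n, h n⁆⁆ * ⁅g n, h n⁆⁆) :=
        hcomm _ _ _ _ hα huc
      have hαβ : IsPoly Φ m (i + 1 + (j + 1)) (fun n => ⁅seqDiff g n, seqDiff h n⁆) :=
        hcomm _ _ _ _ hα hβ
      have hαb : IsPoly Φ m (i + 1 + j) (fun n => ⁅seqDiff g n, h n⁆) := hcomm _ _ _ _ hα h0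
      have hβαb : IsPoly Φ m (j + 1 + (i + 1 + j))
          (fun n => ⁅seqDiff h n, ⁅seqDiff g n, h n⁆⁆) := hcomm _ _ _ _ hβ hαb
      have hv : IsPoly Φ m (i + j + 1) (fun n => ⁅seqDiff g n, seqDiff h n⁆ *
          ⁅seqDiff h n, ⁅seqDiff g n, h n⁆⁆ * ⁅seqDiff g n, h n⁆) :=
        hmul _ _ _ (hmul _ _ _ (hαβ.of_le (by omega)) (hβαb.of_le (by omega)))
          (hαb.of_le (by omega))
      have hcv : IsPoly Φ m (i + j + (i + j + 1)) (fun n => ⁅⁅g n, h n⁆,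
          ⁅seqDiff g n, seqDiff h n⁆ * ⁅seqDiff h n, ⁅seqDiff g n, h n⁆⁆ *
            ⁅seqDiff g n, h n⁆⁆) := hcomm _ _ _ _ hc hv
      have hd : seqDiff (fun n => ⁅g n, h n⁆) = fun n =>
          ⁅seqDiff g n, ⁅g n, seqDiff h n⁆ * ⁅seqDiff h n, ⁅g n, h n⁆⁆ * ⁅g n, h n⁆⁆ *
            (⁅g n, seqDiff h n⁆ * ⁅seqDiff h n, ⁅g n, h n⁆⁆) *
          ⁅⁅g n, h n⁆, ⁅seqDiff g n, seqDiff h n⁆ * ⁅seqDiff h n, ⁅seqDiff g n, h n⁆⁆ *
            ⁅seqDiff g n, h n⁆⁆ *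
          (⁅seqDiff g n, seqDiff h n⁆ * ⁅seqDiff h n, ⁅seqDiff g n, h n⁆⁆ *
            ⁅seqDiff g n, h n⁆) := by
        funext n
        have := seqDiff_comm_identity (g n) (h n) (seqDiff g n) (seqDiff h n)
        rw [seqDiff_mul_self, seqDiff_mul_self] at this
        exact this
      rw [hd]
      exact hmul _ _ _ (hmul _ _ _ (hmul _ _ _ (h1.of_le (by omega)) hu) (hcv.of_le (by omega))) hv

theorem IsPoly.mul {Φ : Filtration G} {m i : ℕ} {g h : ℕ → G} (hg : IsPoly Φ m i g)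
    (hh : IsPoly Φ m i h) : IsPoly Φ m i (fun n => g n * h n) :=
  (isPoly_closure Φ m).1 i g h hg hh

theorem IsPoly.inv {Φ : Filtration G} {m i : ℕ} {g : ℕ → G} (hg : IsPoly Φ m i g) :
    IsPoly Φ m i (fun n => (g n)⁻¹) :=
  (isPoly_closure Φ m).2.1 i g hg

end Cfsg.Agent.Helper65
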