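import Cfsg.Agent.Helper65.HP1
import Cfsg.Prelude.Def_PLocal

/-!
# Hall-Petrescu at the prime `p` from polynomial sequences

Binomial sequences `n ↦ c ^ (n.choose k)` are polynomial, a polynomial sequence vanishing at
`0, …, k-1` takes values in `F k`, and peeling off binomial factors shows that for a
filtration with `F p = ⊥` one has `(x y)^(-p) x^p y^p ∈ ℧₁(F 2)`.
-/

set_option autoImplicit false

namespace Cfsg.Agent.Helper65

open scoped commutatorElement

variable {G : Type*} [Group G]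

theorem isPoly_const_one (Φ : Filtration G) (m : ℕ) : ∀ i : ℕ, IsPoly Φ m i (fun _ => (1 : G)) := by
  induction m with
  | zero =>
    intro i n
    exact one_mem _
  | succ m ih =>
    intro i
    refine ⟨fun n => one_mem _, ?_⟩
    have hd : seqDiff (fun _ : ℕ => (1 : G)) = fun _ => 1 := by
      funext n
      simp [seqDiff]
    rw [hd]
    exact ih (i + 1)

theorem isPoly_const (Φ : Filtration G) (m i : ℕ) {x : G} (hx : x ∈ Φ.F i) :
    IsPoly Φ m i (fun _ => x) := by
  cases m with
  | zero =>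
    intro n
    exact hx
  | succ m =>
    refine ⟨fun n => hx, ?_⟩
    have hd : seqDiff (fun _ : ℕ => x) = fun _ => 1 := by
      funext n
      simp [seqDiff]
    rw [hd]
    exact isPoly_const_one Φ m (i + 1)

theorem isPoly_pow (Φ : Filtration G) (m : ℕ) {x : G} (hx : x ∈ Φ.F 1) :
    IsPoly Φ m 0 (fun n => x ^ n) := by
  have h0 : ∀ n : ℕ, x ^ n ∈ Φ.F 0 := fun n => Φ.mono (Nat.zero_le 1) (pow_mem hx n)
  cases m with
  | zero => exact h0
  | succ m =>
    refine ⟨h0, ?_⟩
    have hd : seqDiff (fun n : ℕ => x ^ n) = fun _ => x := by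
      funext n
      simp [seqDiff, pow_succ']
    rw [hd]
    exact isPoly_const Φ m 1 hx

theorem isPoly_choose (Φ : Filtration G) {c : G} (k : ℕ) : ∀ (m i : ℕ), c ∈ Φ.F (i + k) →
    IsPoly Φ m i (fun n => c ^ (n.choose k)) := by
  induction k with
  | zero =>
    intro m i hc
    have : (fun n : ℕ => c ^ (n.choose 0)) = fun _ => c := by
      funext n
      simp
    rw [this]
    exact isPoly_const Φ m i hc
  | succ k ih =>
    intro m i hc
    have h0 : ∀ n : ℕ, c ^ (n.choose (k + 1)) ∈ Φ.F i :=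
      fun n => Φ.mono (Nat.le_add_right i (k + 1)) (pow_mem hc _)
    cases m with
    | zero => exact h0
    | succ m =>
      refine ⟨h0, ?_⟩
      have hd : seqDiff (fun n : ℕ => c ^ (n.choose (k + 1))) = fun n => c ^ (n.choose k) := by
        funext n
        simp only [seqDiff]
        rw [Nat.choose_succ_succ, pow_add, mul_inv_cancel_right]
      rw [hd]
      exact ih m (i + 1) (Φ.mono (le_of_eq (by omega)) hc)

/-- a polynomial sequence vanishing at `0, …, k-1` takes values in `F (i + k)`. -/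
theorem IsPoly.mem_of_vanish {Φ : Filtration G} (k : ℕ) : ∀ (i : ℕ) (g : ℕ → G),
    IsPoly Φ k i g → (∀ n < k, g n = 1) → ∀ n, g n ∈ Φ.F (i + k) := by
  induction k with
  | zero =>
    intro i g hg _ n
    exact hg n
  | succ k ih =>
    intro i g hg hv
    have hd : ∀ n, seqDiff g n ∈ Φ.F (i + 1 + k) := by
      apply ih (i + 1) (seqDiff g) hg.2
      intro n hn
      simp only [seqDiff]
      rw [hv (n + 1) (by omega), hv n (by omega)]
      simp
    intro n
    induction n with
    | zero =>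
      rw [hv 0 (by omega)]
      exact one_mem _
    | succ n ihn =>
      rw [← seqDiff_mul_self g n]
      exact mul_mem (Φ.mono (le_of_eq (by omega)) (hd n)) ihn

/-- peeling binomial factors. -/
theorem pow_p_mem_of_poly (Φ : Filtration G) (p : ℕ) [Fact p.Prime] (hbot : Φ.F p = ⊥)
    (d : ℕ) : ∀ (k : ℕ) (g : ℕ → G), k + d = p → 2 ≤ k → (∀ m, IsPoly Φ m 0 g) →
    (∀ n < k, g n = 1) → g p ∈ Cfsg.powerClosure p 1 (Φ.F 2) := by
  induction d with
  | zero =>
    intro k g hk _ hg hv
    have hkp : k = p := by omega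
    subst hkp
    have h1 := IsPoly.mem_of_vanish k 0 g (hg k) hv k
    rw [zero_add, hbot, Subgroup.mem_bot] at h1
    rw [h1]
    exact one_mem _
  | succ d ih =>
    intro k g hk hk2 hg hv
    have hkp : k < p := by omega
    have hc : g k ∈ Φ.F (0 + k) := IsPoly.mem_of_vanish k 0 g (hg k) hv k
    have hb : ∀ m, IsPoly Φ m 0 (fun n => (g k) ^ (n.choose k)) :=
      fun m => isPoly_choose Φ k m 0 hc
    have hg' : ∀ m, IsPoly Φ m 0 (fun n => g n * ((g k) ^ (n.choose k))⁻¹) :=
      fun m => (hg m).mul (hb m).inv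
    have hv' : ∀ n < k + 1, g n * ((g k) ^ (n.choose k))⁻¹ = 1 := by
      intro n hn
      rcases Nat.lt_succ_iff_lt_or_eq.mp hn with h | h
      · rw [hv n h, Nat.choose_eq_zero_of_lt h]
        simp
      · subst h
        simp
    have h1 := ih (k + 1) _ (by omega) (by omega) hg' hv'
    have h2 : g p = g p * ((g k) ^ (p.choose k))⁻¹ * (g k) ^ (p.choose k) := by
      rw [inv_mul_cancel_right]
    rw [h2]
    refine mul_mem h1 ?_
    obtain ⟨t, ht⟩ := (Fact.out : p.Prime).dvd_choose_self (by omega) hkp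
    rw [ht, mul_comm, pow_mul]
    refine Subgroup.subset_closure ⟨g k ^ t, ?_, by rw [pow_one]⟩
    have hc2 : g k ∈ Φ.F 2 := Φ.mono (by omega) hc
    exact pow_mem hc2 t

/-- **Hall-Petrescu at `p`**: for a filtration with `F p = ⊥` and `x, y ∈ F 1`,
`(x y)^(-p) x^p y^p` is a product of `p`-th powers of elements of `F 2`. -/
theorem hall_petrescu_prime (Φ : Filtration G) (p : ℕ) [Fact p.Prime] (hbot : Φ.F p = ⊥)
    {x y : G} (hx : x ∈ Φ.F 1) (hy : y ∈ Φ.F 1) :
    ((x * y) ^ p)⁻¹ * x ^ p * y ^ p ∈ Cfsg.powerClosure p 1 (Φ.F 2) := by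
  have hp2 : 2 ≤ p := (Fact.out : p.Prime).two_le
  have hg : ∀ m, IsPoly Φ m 0 (fun n => ((x * y) ^ n)⁻¹ * x ^ n * y ^ n) :=
    fun m => ((isPoly_pow Φ m (mul_mem hx hy)).inv.mul (isPoly_pow Φ m hx)).mul
      (isPoly_pow Φ m hy)
  refine pow_p_mem_of_poly Φ p hbot (p - 2) 2 _ (by omega) le_rfl hg ?_
  intro n hn
  interval_cases n
  · simp
  · simp [mul_assoc]

end Cfsg.Agent.Helper65
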