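import Mathlib
import Cfsg.Agent.Lib.Cores
import Cfsg.Agent.Helper65.Nilpotent

set_option autoImplicit false

namespace Cfsg.Agent.Helper65

universe u

/-- A subgroup of a nilpotent subgroup is nilpotent. -/
theorem isNilpotent_of_le {G : Type*} [Group G] {K L : Subgroup G} (h : K ≤ L)
    (hL : Group.IsNilpotent L) : Group.IsNilpotent K := by
  apply Subgroup.isNilpotent_of_ker_le_center (Subgroup.inclusion h)
  rw [(MonoidHom.ker_eq_bot_iff _).mpr (Subgroup.inclusion_injective h)]
  exact bot_le

/-- The image of a nilpotent subgroup is nilpotent. -/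
theorem isNilpotent_map {G H : Type*} [Group G] [Group H] (f : G →* H) {K : Subgroup G}
    (hK : Group.IsNilpotent K) : Group.IsNilpotent (K.map f) :=
  Group.nilpotent_of_surjective (f.subgroupMap K) (f.subgroupMap_surjective K)

/-- If `g` lies in the `n`-th term of the upper central series then `⟨x, g⟩` is nilpotent. -/
theorem isNilpotent_closure_pair_of_mem_upperCentralSeries (n : ℕ) :
    ∀ (G : Type u) [Group G] (x g : G), g ∈ Subgroup.upperCentralSeries G n →
      Group.IsNilpotent ↥(Subgroup.closure ({x, g} : Set G)) := by
  induction n with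
  | zero =>
    intro G _ x g hg
    rw [Subgroup.upperCentralSeries_zero, Subgroup.mem_bot] at hg
    subst hg
    have hc : IsMulCommutative ↥(Subgroup.closure ({x, 1} : Set G)) := by
      apply Subgroup.isMulCommutative_closure
      intro a ha b hb
      rcases ha with rfl | rfl <;> rcases hb with rfl | rfl <;> simp
    exact ⟨⟨1, Subgroup.upperCentralSeries_one_eq_top_iff.mpr hc⟩⟩
  | succ n ih =>
    intro G _ x g hg
    set π := QuotientGroup.mk' (Subgroup.center G) with hπ
    have hg' : π g ∈ Subgroup.upperCentralSeries (G ⧸ Subgroup.center G) n := by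
      rw [← Subgroup.comap_upperCentralSeries_quotient_center] at hg
      exact hg
    have hnil := ih (G ⧸ Subgroup.center G) (π x) (π g) hg'
    set K := Subgroup.closure ({x, g} : Set G) with hK
    have hmem : ∀ k : K, (π.comp K.subtype) k ∈ Subgroup.closure ({π x, π g} : Set (G ⧸ Subgroup.center G)) := by
      intro k
      have hle : K ≤ (Subgroup.closure ({π x, π g} : Set (G ⧸ Subgroup.center G))).comap π := by
        rw [hK, Subgroup.closure_le]
        intro a ha
        rcases ha with rfl | rfl
        · exact Subgroup.subset_closure (Set.mem_insert _ _)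
        · exact Subgroup.subset_closure (Set.mem_insert_of_mem _ rfl)
      exact hle k.2
    apply Subgroup.isNilpotent_of_ker_le_center ((π.comp K.subtype).codRestrict _ hmem)
    intro k hk
    rw [MonoidHom.mem_ker] at hk
    have hk1 : π (k : G) = 1 := by
      have := congrArg Subtype.val hk
      simpa using this
    have hkc : (k : G) ∈ Subgroup.center G := by
      rw [hπ, QuotientGroup.mk'_apply, QuotientGroup.eq_one_iff] at hk1
      exact hk1
    rw [Subgroup.mem_center_iff]
    intro a
    apply Subtype.ext
    simpa using Subgroup.mem_center_iff.mp hkc (a : G)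

/-- If an element `y` of prime order `p` commutes with all elements of order prime to `p`,
then the centre of the finite group is nontrivial. -/
theorem exists_central_of_commute_coprime {G : Type*} [Group G] [Finite G] {p : ℕ} [Fact p.Prime]
    (y : G) (hy : orderOf y = p) (hcomm : ∀ x : G, (orderOf x).Coprime p → Commute x y) :
    ∃ z ∈ Subgroup.center G, z ≠ 1 := by
  have hp : p.Prime := Fact.out
  set R := Cfsg.pResidual p G with hR
  have hRn : R.Normal := Cfsg.Agent.Lib.pResidual_normal p
  set C := Subgroup.centralizer (R : Set G) with hC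
  have hCn : C.Normal := Subgroup.normal_centralizer
  have hyC : y ∈ C := by
    have hle : R ≤ Subgroup.centralizer {y} := by
      rw [hR]
      unfold Cfsg.pResidual
      rw [Subgroup.closure_le]
      intro x hx
      rw [SetLike.mem_coe, Subgroup.mem_centralizer_iff]
      intro t ht
      rw [Set.mem_singleton_iff] at ht
      subst ht
      exact ((hcomm x hx).eq).symm
    rw [hC, Subgroup.mem_centralizer_iff]
    intro r hr
    have := Subgroup.mem_centralizer_iff.mp (hle hr) y rfl
    exact this.symm
  have hpC : p ∣ Nat.card C := hy ▸ Subgroup.orderOf_dvd_natCard C hyC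
  obtain ⟨P⟩ : Nonempty (Sylow p G) := inferInstance
  set P' : Subgroup (ConjAct G) := (P : Subgroup G).map (ConjAct.toConjAct (G := G)).toMonoidHom with hP'
  have hP'p : IsPGroup p P' := P.isPGroup'.map _
  have h1 : (1 : C) ∈ MulAction.fixedPoints P' C := fun g => smul_one g
  obtain ⟨b, hb, hne⟩ := hP'p.exists_fixed_point_of_prime_dvd_card_of_fixed_point (α := C) hpC h1
  refine ⟨(b : G), ?_, ?_⟩
  · -- centralizer of b contains P and R
    have hPle : (P : Subgroup G) ≤ Subgroup.centralizer {(b : G)} := by
      intro x hx
      rw [Subgroup.mem_centralizer_iff]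
      intro t ht
      rw [Set.mem_singleton_iff] at ht
      subst ht
      have hx' : ConjAct.toConjAct x ∈ P' := ⟨x, hx, rfl⟩
      have h2 := hb ⟨ConjAct.toConjAct x, hx'⟩
      have h3 : ((ConjAct.toConjAct x • b : C) : G) = (b : G) := congrArg Subtype.val h2
      rw [ConjAct.Subgroup.val_conj_smul, ConjAct.smul_def, ConjAct.ofConjAct_toConjAct] at h3
      calc (b : G) * x = (x * b * x⁻¹) * x := by rw [h3]
        _ = x * b := by group
    have hRle : R ≤ Subgroup.centralizer {(b : G)} := by
      intro r hr
      rw [Subgroup.mem_centralizer_iff]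
      intro t ht
      rw [Set.mem_singleton_iff] at ht
      subst ht
      exact (Subgroup.mem_centralizer_iff.mp b.2 r hr).symm
    have hd1 : (Subgroup.centralizer {(b : G)}).index ∣ (P : Subgroup G).index :=
      Subgroup.index_dvd_of_le hPle
    have hd2 : (Subgroup.centralizer {(b : G)}).index ∣ R.index := Subgroup.index_dvd_of_le hRle
    obtain ⟨n, hn⟩ := Cfsg.Agent.Lib.index_pResidual (G := G) p
    rw [hn, Nat.dvd_prime_pow hp] at hd2
    obtain ⟨m, -, hm⟩ := hd2
    have hm0 : m = 0 := by
      by_contra hm0
      apply P.not_dvd_index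
      exact dvd_trans (hm ▸ dvd_pow_self p hm0) hd1
    rw [hm0, pow_zero, Subgroup.index_eq_one] at hm
    rw [Subgroup.mem_center_iff]
    intro a
    have ha : a ∈ Subgroup.centralizer {(b : G)} := hm ▸ Subgroup.mem_top a
    exact (Subgroup.mem_centralizer_iff.mp ha b rfl).symm
  · intro hb1
    apply hne
    exact (Subtype.ext hb1).symm

end Cfsg.Agent.Helper65
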