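import Cfsg.Agent.Helper65.MetaTwoA5

/-!
# Metacyclic two-groups with a nontrivial automorphism of odd order
-/

set_option autoImplicit false

namespace Cfsg.Agent.Helper65.MetaTwoA

/-- **Metacyclic two-groups with a nontrivial automorphism of odd order** are quaternion of
order eight or homocyclic abelian of rank two. -/
theorem metacyclic_two_odd_aut {Q : Type*} [Group Q] [Finite Q] (hQ : IsPGroup 2 Q)
    (hm : Cfsg.IsMetacyclic Q) (α : MulAut Q) (hα : Odd (orderOf α)) (hα1 : α ≠ 1) :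
    (∃ x y : Q, orderOf x = 4 ∧ y * x * y⁻¹ = x⁻¹ ∧ y ^ 2 = x ^ 2) ∨
      ((∀ a b : Q, a * b = b * a) ∧
        ∃ n : ℕ, 1 ≤ n ∧ Nat.card Q = 4 ^ n ∧ ∀ q : Q, q ^ 2 ^ n = 1) := by
  obtain ⟨a, S⟩ := exists_setting hQ hm α hα hα1
  by_cases hab : a * α a = α a * a
  · exact Or.inr (S.abelian_case hab)
  · exact Or.inl (S.nonabelian_case hab)

end Cfsg.Agent.Helper65.MetaTwoA
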