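import Cfsg.Agent.Helper65.T2933E

/-!
# Passing to the quotient by an invariant central subgroup
-/

set_option autoImplicit false

namespace Cfsg.Agent.Helper65.T2933

open Cfsg.Agent.Helper65.Suz Cfsg.Agent.Helper65.Ord64

variable {T : Type*} [Group T] {ρ : MulAut T}

theorem map_eq_of_inv [Finite T] (N : Subgroup T) (k : MulAut T) (hN : ∀ g ∈ N, k g ∈ N) :
    N.map (k : T →* T) = N := by
  have hle : N.map (k : T →* T) ≤ N := by
    rintro _ ⟨g, hg, rfl⟩
    exact hN g hg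
  apply Subgroup.eq_of_le_of_card_ge hle
  rw [Subgroup.card_map_of_injective]
  exact k.injective

/-- the induced automorphism of the quotient. -/
noncomputable def qAut [Finite T] (N : Subgroup T) [N.Normal] (k : MulAut T)
    (hN : ∀ g ∈ N, k g ∈ N) : MulAut (T ⧸ N) :=
  QuotientGroup.congr N N k (map_eq_of_inv N k hN)

theorem qAut_mk [Finite T] (N : Subgroup T) [N.Normal] (k : MulAut T)
    (hN : ∀ g ∈ N, k g ∈ N) (x : T) : qAut N k hN (x : T ⧸ N) = ((k x : T) : T ⧸ N) :=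
  QuotientGroup.congr_mk N N k (map_eq_of_inv N k hN) x

/-- the quotient action is fixed-point-free. -/
theorem fpf3_quot [Finite T] (h : Fpf3 ρ) (N : Subgroup T) [N.Normal]
    (hN : ∀ g ∈ N, ρ g ∈ N) : Fpf3 (qAut N ρ hN) := by
  constructor
  · intro g
    obtain ⟨x, rfl⟩ := QuotientGroup.mk_surjective g
    rw [qAut_mk, qAut_mk, qAut_mk, h.h3]
  · intro g hg
    obtain ⟨x, rfl⟩ := QuotientGroup.mk_surjective g
    rw [qAut_mk, eq_comm, QuotientGroup.eq] at hg
    -- `x⁻¹ ρ(x) ∈ N`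
    have hinj : Function.Injective (fun n : N => (⟨n.1⁻¹ * ρ n.1,
        N.mul_mem (N.inv_mem n.2) (hN _ n.2)⟩ : N)) := by
      intro s t hst
      have hst' : s.1⁻¹ * ρ s.1 = t.1⁻¹ * ρ t.1 := congrArg Subtype.val hst
      have h1 : ρ (s.1 * t.1⁻¹) = s.1 * t.1⁻¹ := by
        rw [map_mul, map_inv]
        calc ρ s.1 * (ρ t.1)⁻¹ = s.1 * (s.1⁻¹ * ρ s.1) * (ρ t.1)⁻¹ := by group
          _ = s.1 * (t.1⁻¹ * ρ t.1) * (ρ t.1)⁻¹ := by rw [hst']
          _ = s.1 * t.1⁻¹ := by group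
      exact Subtype.ext (mul_inv_eq_one.mp (h.hfp _ h1))
    obtain ⟨n, hn⟩ := (Finite.injective_iff_surjective.mp hinj) ⟨x⁻¹ * ρ x, hg⟩
    have hn' : n.1⁻¹ * ρ n.1 = x⁻¹ * ρ x := congrArg Subtype.val hn
    have h1 : ρ (x * n.1⁻¹) = x * n.1⁻¹ := by
      rw [map_mul, map_inv]
      calc ρ x * (ρ n.1)⁻¹ = x * (x⁻¹ * ρ x) * (ρ n.1)⁻¹ := by group
        _ = x * (n.1⁻¹ * ρ n.1) * (ρ n.1)⁻¹ := by rw [hn']
        _ = x * n.1⁻¹ := by group
    have h2 : x = n.1 := mul_inv_eq_one.mp (h.hfp _ h1)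
    rw [QuotientGroup.eq_one_iff, h2]
    exact n.2

/-- the elements moved by `τ` inside the central subgroup `N`. -/
def dSub (N : Subgroup T) (hNc : N ≤ Subgroup.center T) (τ : MulAut T) : Subgroup T where
  carrier := {x | x⁻¹ * τ x ∈ N}
  one_mem' := by
    show (1 : T)⁻¹ * τ 1 ∈ N
    rw [map_one, inv_one, one_mul]
    exact N.one_mem
  mul_mem' := by
    intro x y hx hy
    show (x * y)⁻¹ * τ (x * y) ∈ N
    have hc := Subgroup.mem_center_iff.mp (hNc hx)
    have : (x * y)⁻¹ * τ (x * y) = (x⁻¹ * τ x) * (y⁻¹ * τ y) := by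
      rw [map_mul]
      calc (x * y)⁻¹ * (τ x * τ y) = y⁻¹ * (x⁻¹ * τ x) * τ y := by group
        _ = (x⁻¹ * τ x) * y⁻¹ * τ y := by rw [hc y⁻¹]
        _ = (x⁻¹ * τ x) * (y⁻¹ * τ y) := by group
    rw [this]
    exact N.mul_mem hx hy
  inv_mem' := by
    intro x hx
    show x⁻¹⁻¹ * τ x⁻¹ ∈ N
    have hc := Subgroup.mem_center_iff.mp (hNc hx)
    have : x⁻¹⁻¹ * τ x⁻¹ = (x⁻¹ * τ x)⁻¹ := by
      rw [map_inv]
      calc x⁻¹⁻¹ * (τ x)⁻¹ = x * (x⁻¹ * τ x)⁻¹ * x⁻¹ := by group
        _ = (x⁻¹ * τ x)⁻¹ * x * x⁻¹ := by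
          have := Subgroup.mem_center_iff.mp (hNc (N.inv_mem hx)) x
          rw [this]
        _ = (x⁻¹ * τ x)⁻¹ := by group
    rw [this]
    exact N.inv_mem hx

theorem mem_dSub {N : Subgroup T} {hNc : N ≤ Subgroup.center T} {τ : MulAut T} {x : T} :
    x ∈ dSub N hNc τ ↔ x⁻¹ * τ x ∈ N := Iff.rfl

/-- `x ↦ x⁻¹ τ(x)` on `dSub`. -/
def dHom (N : Subgroup T) (hNc : N ≤ Subgroup.center T) (τ : MulAut T) : dSub N hNc τ →* T where
  toFun x := x.1⁻¹ * τ x.1
  map_one' := by
    show (1 : T)⁻¹ * τ 1 = 1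
    rw [map_one, inv_one, one_mul]
  map_mul' := by
    intro x y
    show (x.1 * y.1)⁻¹ * τ (x.1 * y.1) = (x.1⁻¹ * τ x.1) * (y.1⁻¹ * τ y.1)
    have hc := Subgroup.mem_center_iff.mp (hNc x.2)
    rw [map_mul]
    calc (x.1 * y.1)⁻¹ * (τ x.1 * τ y.1) = y.1⁻¹ * (x.1⁻¹ * τ x.1) * τ y.1 := by group
      _ = (x.1⁻¹ * τ x.1) * y.1⁻¹ * τ y.1 := by rw [hc y.1⁻¹]
      _ = (x.1⁻¹ * τ x.1) * (y.1⁻¹ * τ y.1) := by group

/-- **the fixed points in the quotient are no more than the fixed points.** -/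
theorem card_fix_quot [Finite T] (N : Subgroup T) [N.Normal] (hNc : N ≤ Subgroup.center T)
    (τ : MulAut T) (hN : ∀ g ∈ N, τ g ∈ N) :
    Nat.card {x : T ⧸ N // qAut N τ hN x = x} ≤ Nat.card {x : T // τ x = x} := by
  set D := dSub N hNc τ with hD
  have hND : N ≤ D := fun n hn => N.mul_mem (N.inv_mem hn) (hN n hn)
  -- first count
  have h1 : Nat.card D ≤ Nat.card {x : T // τ x = x} * Nat.card N := by
    apply card_le_of_ker_range (dHom N hNc τ)
    · apply Nat.card_le_card_of_injective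
        (fun x : (dHom N hNc τ).ker => (⟨x.1.1, by
          have h3 : x.1.1⁻¹ * τ x.1.1 = 1 := x.2
          exact (inv_mul_eq_one.mp h3).symm⟩ : {x : T // τ x = x}))
      intro x y hxy
      apply Subtype.ext
      apply Subtype.ext
      have h4 := congrArg Subtype.val hxy
      exact h4
    · apply Nat.card_le_card_of_injective
        (fun x : (dHom N hNc τ).range => (⟨x.1, by
          obtain ⟨y, hy⟩ := x.2
          rw [← hy]
          exact y.2⟩ : N))
      intro x y hxy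
      apply Subtype.ext
      have h4 := congrArg Subtype.val hxy
      exact h4
  -- second count
  set g : D →* T ⧸ N := (QuotientGroup.mk' N).domRestrict D with hg
  have h2 : Nat.card g.ker * Nat.card g.range = Nat.card D := by
    rw [← Subgroup.index_ker, Subgroup.card_mul_index]
  have h3 : Nat.card N ≤ Nat.card g.ker := by
    apply Nat.card_le_card_of_injective
      (fun n : N => (⟨⟨n.1, hND n.2⟩, by
        rw [MonoidHom.mem_ker]
        show ((n.1 : T) : T ⧸ N) = 1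
        rw [QuotientGroup.eq_one_iff]
        exact n.2⟩ : g.ker))
    intro x y hxy
    apply Subtype.ext
    have h4 := congrArg (fun z : g.ker => z.1.1) hxy
    exact h4
  have h4 : Nat.card {x : T ⧸ N // qAut N τ hN x = x} ≤ Nat.card g.range := by
    apply Nat.card_le_card_of_injective
      (fun x : {x : T ⧸ N // qAut N τ hN x = x} => (⟨x.1, by
        obtain ⟨y, hy⟩ := QuotientGroup.mk_surjective x.1
        have h5 := x.2
        rw [← hy, qAut_mk, eq_comm, QuotientGroup.eq] at h5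
        exact ⟨⟨y, h5⟩, hy⟩⟩ : g.range))
    intro x y hxy
    apply Subtype.ext
    have h4 := congrArg Subtype.val hxy
    exact h4
  have hNpos : 0 < Nat.card N := Nat.card_pos
  have h5 : Nat.card N * Nat.card {x : T ⧸ N // qAut N τ hN x = x}
      ≤ Nat.card {x : T // τ x = x} * Nat.card N := by
    calc Nat.card N * Nat.card {x : T ⧸ N // qAut N τ hN x = x}
        ≤ Nat.card g.ker * Nat.card g.range := Nat.mul_le_mul h3 h4
      _ = Nat.card D := h2
      _ ≤ _ := h1
  rw [mul_comm (Nat.card {x : T // τ x = x})] at h5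
  exact Nat.le_of_mul_le_mul_left h5 hNpos

/-- if the quotient by a central subgroup is generated by `x̄, ρ̄(x̄)`, the group is commutative. -/
theorem comm_of_quot_gen [Finite T] (h : Fpf3 ρ) (N : Subgroup T) [N.Normal]
    (hNc : N ≤ Subgroup.center T) (hN : ∀ g ∈ N, ρ g ∈ N) (x : T ⧸ N)
    (hgen : Subgroup.closure {x, qAut N ρ hN x} = ⊤) : ∀ a b : T, a * b = b * a := by
  obtain ⟨x, rfl⟩ := QuotientGroup.mk_surjective x
  set H := Subgroup.closure ({x, ρ x} : Set T) with hH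
  have hHc : ∀ a ∈ H, ∀ b ∈ H, a * b = b * a := by
    have hk : ∀ a ∈ ({x, ρ x} : Set T), ∀ b ∈ ({x, ρ x} : Set T), a * b = b * a := by
      intro a ha b hb
      rcases ha with rfl | ha <;> rcases hb with rfl | hb
      · rfl
      · rw [hb]; exact h.comm a
      · rw [ha]; exact (h.comm b).symm
      · rw [ha, hb]
    have hcen : ∀ b ∈ ({x, ρ x} : Set T), ∀ a ∈ H, a * b = b * a := by
      intro b hb a ha
      induction ha using Subgroup.closure_induction with
      | mem y hy => exact hk y hy b hb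
      | one => rw [one_mul, mul_one]
      | mul y z _ _ hy hz => rw [mul_assoc, hz, ← mul_assoc, hy, mul_assoc]
      | inv y _ hy =>
        calc y⁻¹ * b = y⁻¹ * (b * y) * y⁻¹ := by group
          _ = y⁻¹ * (y * b) * y⁻¹ := by rw [hy]
          _ = b * y⁻¹ := by group
    intro a ha b hb
    induction hb using Subgroup.closure_induction with
    | mem y hy => exact hcen y hy a ha
    | one => rw [one_mul, mul_one]
    | mul y z _ _ hy hz => rw [← mul_assoc, hy, mul_assoc, hz, ← mul_assoc]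
    | inv y _ hy =>
      calc a * y⁻¹ = y⁻¹ * (y * a) * y⁻¹ := by group
        _ = y⁻¹ * (a * y) * y⁻¹ := by rw [hy]
        _ = y⁻¹ * a := by group
  have hmap : H.map (QuotientGroup.mk' N) = ⊤ := by
    rw [hH, MonoidHom.map_closure, Set.image_pair, QuotientGroup.mk'_apply,
      QuotientGroup.mk'_apply, ← qAut_mk N ρ hN x]
    exact hgen
  have hdec : ∀ a : T, ∃ k ∈ H, ∃ n ∈ N, a = k * n := by
    intro a
    have : ((a : T) : T ⧸ N) ∈ H.map (QuotientGroup.mk' N) := by
      rw [hmap]; exact Subgroup.mem_top _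
    obtain ⟨k, hk, hka⟩ := this
    rw [QuotientGroup.mk'_apply, QuotientGroup.eq] at hka
    exact ⟨k, hk, k⁻¹ * a, hka, by group⟩
  intro a b
  obtain ⟨k, hk, n, hn, rfl⟩ := hdec a
  obtain ⟨k', hk', n', hn', rfl⟩ := hdec b
  have c1 := Subgroup.mem_center_iff.mp (hNc hn)
  have c2 := Subgroup.mem_center_iff.mp (hNc hn')
  calc k * n * (k' * n') = k * (n * k') * n' := by group
    _ = k * (k' * n) * n' := by rw [← c1 k']
    _ = (k * k') * (n * n') := by group
    _ = (k' * k) * (n' * n) := by rw [hHc k hk k' hk', ← c2 n]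
    _ = k' * (k * n') * n := by group
    _ = k' * (n' * k) * n := by rw [← c2 k]
    _ = k' * n' * (k * n) := by group

end Cfsg.Agent.Helper65.T2933
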