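import Cfsg.Agent.Helper70.FrattiniAction
import Cfsg.Agent.Helper63.Frattini
import Cfsg.Agent.Helper65.T2933F

/-!
# Odd-order automorphisms of two-generated two-groups: the Frattini quotient
-/

set_option autoImplicit false

namespace Cfsg.Agent.Helper65.MetaTwoA

open Cfsg.Agent.Helper65.Suz Cfsg.Agent.Helper70

variable {Q : Type*} [Group Q]

/-- **Burnside**: an automorphism of odd order of a two-group acting trivially on the Frattini
quotient is trivial. -/
theorem burnside [Finite Q] (hQ : IsPGroup 2 Q) (α : MulAut Q) (hα : Odd (orderOf α))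
    (htriv : ∀ x, α x * x⁻¹ ∈ frattini Q) : α = 1 := by
  haveI : Fact (Nat.Prime 2) := ⟨Nat.prime_two⟩
  obtain ⟨n, hn⟩ := hQ.exists_card_eq
  have hidx : (frattini Q).index ∣ 2 ^ n := by
    rw [← hn]; exact Subgroup.index_dvd_card _
  obtain ⟨r, -, hr⟩ := (Nat.dvd_prime_pow Nat.prime_two).mp hidx
  have h1 : autQuot (frattini Q) α = 1 := by
    ext x
    induction x using QuotientGroup.induction_on with | _ x => ?_
    rw [autQuot_mk, MulAut.one_apply, QuotientGroup.eq]
    have hn' : (frattini Q).Normal := inferInstance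
    have h2 : x⁻¹ * (α x * x⁻¹)⁻¹ * x⁻¹⁻¹ ∈ frattini Q :=
      hn'.conj_mem _ ((frattini Q).inv_mem (htriv x)) x⁻¹
    have h3 : (α x)⁻¹ * x = x⁻¹ * (α x * x⁻¹)⁻¹ * x⁻¹⁻¹ := by group
    rw [h3]
    exact h2
  have hA : ∀ β ∈ Subgroup.zpowers α, ∀ x : Q, β x * x⁻¹ ∈ frattini Q := by
    intro β hβ x
    obtain ⟨k, rfl⟩ := Subgroup.mem_zpowers_iff.mp hβ
    have h2 : autQuot (frattini Q) (α ^ k) = 1 := by rw [map_zpow, h1, one_zpow]
    have h3 := congrArg (fun f : MulAut (Q ⧸ frattini Q) => f (x : Q ⧸ frattini Q)) h2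
    simp only [autQuot_mk, MulAut.one_apply] at h3
    rw [QuotientGroup.eq] at h3
    have h4 : (α ^ k) x * x⁻¹ = ((α ^ k) x) * (((α ^ k) x)⁻¹ * x)⁻¹ * ((α ^ k) x)⁻¹ := by group
    rw [h4]
    have hn' : (frattini Q).Normal := inferInstance
    exact hn'.conj_mem _ ((frattini Q).inv_mem h3) _
  have h5 := Cfsg.Agent.S4207.result (p := 2) hn hr (Subgroup.zpowers α) hA
  rw [Nat.card_zpowers] at h5
  obtain ⟨j, -, hj⟩ := (Nat.dvd_prime_pow Nat.prime_two).mp h5
  have hj0 : j = 0 := by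
    by_contra hj0
    obtain ⟨i, rfl⟩ := Nat.exists_eq_succ_of_ne_zero hj0
    rw [hj, pow_succ] at hα
    exact (Nat.not_odd_iff_even.mpr (even_two.mul_left _)) hα
  rw [hj0, pow_zero] at hj
  exact orderOf_eq_one_iff.mp hj

theorem isCoatom_of_index_two' (H : Subgroup Q) (hH : H.index = 2) : IsCoatom H := by
  constructor
  · intro h
    rw [h, Subgroup.index_top] at hH
    omega
  · intro K hK
    have hle : H ≤ K := hK.le
    have h3 := Subgroup.relIndex_mul_index hle
    rw [hH] at h3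
    have h12 : K.index = 1 ∨ K.index = 2 := by
      have hd : K.index ∣ 2 := Dvd.intro_left _ h3
      have := Nat.le_of_dvd (by norm_num) hd
      have h0 : K.index ≠ 0 := by
        intro h0; rw [h0] at hd; omega
      omega
    rcases h12 with h1 | h2
    · exact Subgroup.index_eq_one.mp h1
    · exfalso
      rw [h2] at h3
      have h4 : H.relIndex K = 1 := by omega
      exact absurd (Subgroup.relIndex_eq_one.mp h4) (not_le_of_gt hK)

/-- the Frattini quotient of a two-generated two-group has at most four elements. -/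
theorem card_frattini_quot_le [Finite Q] (hQ : IsPGroup 2 Q) (a b : Q)
    (hgen : ∀ x : Q, ∃ i j : ℤ, x = a ^ i * b ^ j) : Nat.card (Q ⧸ frattini Q) ≤ 4 := by
  haveI : Fact (Nat.Prime 2) := ⟨Nat.prime_two⟩
  have hsq : ∀ x : Q, ((x : Q ⧸ frattini Q)) ^ (2 : ℤ) = 1 := by
    intro x
    rw [zpow_ofNat, ← QuotientGroup.mk_pow, QuotientGroup.eq_one_iff]
    exact Cfsg.Agent.Helper63.pow_prime_mem_frattini hQ x
  let f : Fin 2 × Fin 2 → Q ⧸ frattini Q :=
    fun p => ((a : Q ⧸ frattini Q)) ^ (p.1 : ℕ) * ((b : Q ⧸ frattini Q)) ^ (p.2 : ℕ)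
  have hf : Function.Surjective f := by
    intro v
    induction v using QuotientGroup.induction_on with | _ x => ?_
    obtain ⟨i, j, rfl⟩ := hgen x
    rw [QuotientGroup.mk_mul, QuotientGroup.mk_zpow, QuotientGroup.mk_zpow,
      zpow_eq_zpow_emod i (hsq a), zpow_eq_zpow_emod j (hsq b)]
    rcases Int.emod_two_eq_zero_or_one i with hi | hi <;>
      rcases Int.emod_two_eq_zero_or_one j with hj | hj
    · exact ⟨(0, 0), by simp [f, hi, hj]⟩
    · exact ⟨(0, 1), by simp [f, hi, hj]⟩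
    · exact ⟨(1, 0), by simp [f, hi, hj]⟩
    · exact ⟨(1, 1), by simp [f, hi, hj]⟩
  have := Nat.card_le_card_of_surjective f hf
  simpa using this

/-- **no invariant subgroup of index two.** -/
theorem no_invariant_index_two [Finite Q] (hQ : IsPGroup 2 Q) (α : MulAut Q)
    (hα : Odd (orderOf α)) (hα1 : α ≠ 1) (a b : Q)
    (hgen : ∀ x : Q, ∃ i j : ℤ, x = a ^ i * b ^ j) (L : Subgroup Q) (hL2 : L.index = 2)
    (hLα : ∀ x ∈ L, α x ∈ L) : False := by
  haveI : Fact (Nat.Prime 2) := ⟨Nat.prime_two⟩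
  apply hα1
  apply burnside hQ α hα
  have hΦL : frattini Q ≤ L := frattini_le_coatom (isCoatom_of_index_two' L hL2)
  have hchar : ∀ y : Q, α y ∈ frattini Q ↔ y ∈ frattini Q := by
    intro y
    have h1 := Subgroup.characteristic_iff_comap_eq.mp
      (inferInstance : (frattini Q).Characteristic) α
    constructor
    · intro hy
      rw [← h1]
      exact hy
    · intro hy
      rw [← h1] at hy
      exact hy
  -- `α` preserves membership in `L`
  have hLiff : ∀ x : Q, α x ∈ L ↔ x ∈ L := by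
    intro x
    constructor
    · intro hx
      have hmap := Cfsg.Agent.Helper65.T2933.map_eq_of_inv L α hLα
      rw [← hmap] at hx
      obtain ⟨y, hy, hyx⟩ := hx
      have : y = x := α.injective hyx
      rw [← this]; exact hy
    · exact hLα x
  have ha : ∀ x : Q, α x * x⁻¹ ∈ L := by
    intro x
    rw [Subgroup.mul_mem_iff_of_index_two hL2, hLiff, Subgroup.inv_mem_iff]
  -- `α` acts trivially on `L` modulo the Frattini subgroup
  have hc : ∀ y ∈ L, α y * y⁻¹ ∈ frattini Q := by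
    intro y hy
    have h1 := Subgroup.relIndex_mul_index hΦL
    rw [hL2, Subgroup.index_eq_card] at h1
    have h2 := card_frattini_quot_le hQ a b hgen
    have h3 : (frattini Q).relIndex L ≤ 2 := by omega
    have h4 : (frattini Q).relIndex L ≠ 0 := by
      intro h0; rw [h0] at h1
      have : 0 < Nat.card (Q ⧸ frattini Q) := Nat.card_pos
      omega
    have h5 : (frattini Q).relIndex L = 1 ∨ (frattini Q).relIndex L = 2 := by omega
    rcases h5 with h5 | h5
    · have hLΦ := Subgroup.relIndex_eq_one.mp h5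
      exact (frattini Q).mul_mem ((hchar y).mpr (hLΦ hy)) ((frattini Q).inv_mem (hLΦ hy))
    · have h6 : ((frattini Q).subgroupOf L).index = 2 := h5
      have h7 := Subgroup.mul_mem_iff_of_index_two h6
        (a := (⟨α y, hLα y hy⟩ : L)) (b := (⟨y, hy⟩ : L)⁻¹)
      rw [Subgroup.inv_mem_iff, Subgroup.mem_subgroupOf, Subgroup.mem_subgroupOf,
        Subgroup.mem_subgroupOf] at h7
      exact h7.mpr (hchar y)
  -- now in the quotient
  intro x
  set c : Q := α x * x⁻¹ with hcdef
  set ᾱ := autQuot (frattini Q) α with hᾱ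
  have hc1 : ᾱ (c : Q ⧸ frattini Q) = (c : Q ⧸ frattini Q) := by
    rw [hᾱ, autQuot_mk, QuotientGroup.eq]
    have h1 := hc c (ha x)
    have hn' : (frattini Q).Normal := inferInstance
    have h2 : (α c)⁻¹ * (α c * c⁻¹)⁻¹⁻¹ * (α c)⁻¹⁻¹ ∈ frattini Q :=
      hn'.conj_mem _ ((frattini Q).inv_mem ((frattini Q).inv_mem h1)) _
    have h3 : (α c)⁻¹ * c = ((α c)⁻¹ * (α c * c⁻¹)⁻¹⁻¹ * (α c)⁻¹⁻¹)⁻¹ := by group
    rw [h3]
    exact (frattini Q).inv_mem h2
  have hx1 : ᾱ (x : Q ⧸ frattini Q) = (c : Q ⧸ frattini Q) * (x : Q ⧸ frattini Q) := by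
    rw [hᾱ, autQuot_mk, ← QuotientGroup.mk_mul, hcdef]
    congr 1
    group
  have hpow : ∀ k : ℕ, (ᾱ ^ k) (x : Q ⧸ frattini Q)
      = (c : Q ⧸ frattini Q) ^ k * (x : Q ⧸ frattini Q) := by
    intro k
    induction k with
    | zero => simp
    | succ k ih =>
      rw [pow_succ', MulAut.mul_apply, ih, map_mul, map_pow, hc1, hx1, pow_succ, mul_assoc]
  have hr : ᾱ ^ orderOf α = 1 := by
    rw [hᾱ, ← map_pow, pow_orderOf_eq_one, map_one]
  have h1 := hpow (orderOf α)
  rw [hr, MulAut.one_apply] at h1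
  have h2 : (c : Q ⧸ frattini Q) ^ orderOf α = 1 := by
    have := mul_right_cancel (a := (c : Q ⧸ frattini Q) ^ orderOf α) (b := (x : Q ⧸ frattini Q))
      (c := 1) (by rw [one_mul]; exact h1.symm)
    exact this
  have h3 : (c : Q ⧸ frattini Q) ^ 2 = 1 := by
    rw [← QuotientGroup.mk_pow, QuotientGroup.eq_one_iff]
    exact Cfsg.Agent.Helper63.pow_prime_mem_frattini hQ c
  obtain ⟨s, hs⟩ := hα
  rw [hs, pow_succ, pow_mul, h3, one_pow, one_mul] at h2
  exact (QuotientGroup.eq_one_iff c).mp h2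

end Cfsg.Agent.Helper65.MetaTwoA
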