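import Cfsg.Agent.Helper65.MetaTwoA1

/-!
# Invariant normal subgroups with cyclic quotient are everything
-/

set_option autoImplicit false

namespace Cfsg.Agent.Helper65.MetaTwoA

open Cfsg.Agent.Helper65.Suz Cfsg.Agent.Helper70

variable {Q : Type*} [Group Q]

/-- **an invariant normal subgroup with cyclic quotient is the whole group.** -/
theorem invariant_cyclic_quot_eq_top [Finite Q] (hQ : IsPGroup 2 Q) (α : MulAut Q)
    (hα : Odd (orderOf α)) (hα1 : α ≠ 1) (a b : Q)
    (hgen : ∀ x : Q, ∃ i j : ℤ, x = a ^ i * b ^ j) (K : Subgroup Q) [K.Normal]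
    (hKα : ∀ x ∈ K, α x ∈ K) (g : Q) (hg : ∀ x : Q, ∃ i : ℤ, x * (g ^ i)⁻¹ ∈ K) : K = ⊤ := by
  haveI : Fact (Nat.Prime 2) := ⟨Nat.prime_two⟩
  by_contra hK
  set L := K ⊔ frattini Q with hL
  have hLtop : L ≠ ⊤ := fun h => hK (frattini_nongenerating h)
  have hKL : K ≤ L := le_sup_left
  have hΦL : frattini Q ≤ L := le_sup_right
  have hchar : ∀ y : Q, y ∈ frattini Q → α y ∈ frattini Q := by
    intro y hy
    have h1 := Subgroup.characteristic_iff_comap_eq.mp
      (inferInstance : (frattini Q).Characteristic) α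
    rw [← h1] at hy
    exact hy
  have hLα : ∀ x ∈ L, α x ∈ L := by
    have hle : L ≤ L.comap (α : Q →* Q) := by
      rw [hL]
      apply sup_le
      · intro k hk
        exact hKL (hKα k hk)
      · intro f hf
        exact hΦL (hchar f hf)
    intro x hx
    exact hle hx
  -- the index of `L` is two
  have hg2 : g * g ∈ L := by
    apply hΦL
    rw [← pow_two]
    exact Cfsg.Agent.Helper63.pow_prime_mem_frattini hQ g
  haveI : L.Normal := by rw [hL]; infer_instance
  have hLidx : L.index = 2 := by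
    have hle : Nat.card (Q ⧸ L) ≤ 2 := by
      let f : Fin 2 → Q ⧸ L := fun p => ((g : Q ⧸ L)) ^ (p : ℕ)
      have hsq : ((g : Q ⧸ L)) ^ (2 : ℤ) = 1 := by
        rw [zpow_ofNat, ← QuotientGroup.mk_pow, QuotientGroup.eq_one_iff, pow_two]
        exact hg2
      have hf : Function.Surjective f := by
        intro v
        induction v using QuotientGroup.induction_on with | _ x => ?_
        obtain ⟨i, hi⟩ := hg x
        have h1 : ((x : Q) : Q ⧸ L) = ((g : Q ⧸ L)) ^ i := by
          rw [← QuotientGroup.mk_zpow, QuotientGroup.eq]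
          have hn' : K.Normal := inferInstance
          have h3 : x⁻¹ * (x * (g ^ i)⁻¹)⁻¹ * x⁻¹⁻¹ ∈ K :=
            hn'.conj_mem _ (K.inv_mem hi) _
          have h4 : x⁻¹ * g ^ i = x⁻¹ * (x * (g ^ i)⁻¹)⁻¹ * x⁻¹⁻¹ := by group
          rw [h4]
          exact hKL h3
        rw [h1, zpow_eq_zpow_emod i hsq]
        rcases Int.emod_two_eq_zero_or_one i with hi2 | hi2
        · exact ⟨0, by simp [f, hi2]⟩
        · exact ⟨1, by simp [f, hi2]⟩
      have := Nat.card_le_card_of_surjective f hf
      simpa using this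
    rw [Subgroup.index_eq_card]
    have h1 : Nat.card (Q ⧸ L) ≠ 1 := by
      intro h1
      apply hLtop
      rw [← Subgroup.index_eq_one, Subgroup.index_eq_card, h1]
    have h0 : 0 < Nat.card (Q ⧸ L) := Nat.card_pos
    omega
  exact no_invariant_index_two hQ α hα hα1 a b hgen L hLidx hLα

end Cfsg.Agent.Helper65.MetaTwoA
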