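import Cfsg.Agent.Helper65.MetaTwoA2
import Cfsg.Prelude.Def_OddOrderLocal

/-!
# Metacyclic two-groups with an automorphism of odd order: the two cyclic factors
-/

set_option autoImplicit false

namespace Cfsg.Agent.Helper65.MetaTwoA

open Cfsg.Agent.Helper65.Suz Cfsg.Agent.Helper70

variable {Q : Type*} [Group Q]

/-- the setting: a normal cyclic subgroup generated by `a`, which with its image generates. -/
structure Setting (α : MulAut Q) (a : Q) : Prop where
  hQ : IsPGroup 2 Q
  hα : Odd (orderOf α)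
  hα1 : α ≠ 1
  hgen : ∀ x : Q, ∃ i j : ℤ, x = a ^ i * (α a) ^ j
  hN : (Subgroup.zpowers a).Normal

/-- if `K ⊔ Φ` is proper and the quotient by `K` is cyclic, the index of `K ⊔ Φ` is two. -/
theorem index_sup_frattini [Finite Q] (hQ : IsPGroup 2 Q) (K : Subgroup Q) [K.Normal]
    (g : Q) (hg : ∀ x : Q, ∃ i : ℤ, x * (g ^ i)⁻¹ ∈ K) (hLtop : K ⊔ frattini Q ≠ ⊤) :
    (K ⊔ frattini Q).index = 2 := by
  haveI : Fact (Nat.Prime 2) := ⟨Nat.prime_two⟩
  set L := K ⊔ frattini Q with hL
  have hKL : K ≤ L := le_sup_left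
  have hΦL : frattini Q ≤ L := le_sup_right
  have hg2 : g * g ∈ L := by
    apply hΦL
    rw [← pow_two]
    exact Cfsg.Agent.Helper63.pow_prime_mem_frattini hQ g
  haveI : L.Normal := by rw [hL]; infer_instance
  have hle : Nat.card (Q ⧸ L) ≤ 2 := by
    let f : Fin 2 → Q ⧸ L := fun p => ((g : Q ⧸ L)) ^ (p : ℕ)
    have hsq : ((g : Q ⧸ L)) ^ (2 : ℤ) = 1 := by
      rw [zpow_ofNat, ← QuotientGroup.mk_pow, QuotientGroup.eq_one_iff, pow_two]
      exact hg2
    have hf : Function.Surjective f := by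
      intro v
      induction v using QuotientGroup.induction_on with | _ x => ?_
      obtain ⟨i, hi⟩ := hg x
      have h1 : ((x : Q) : Q ⧸ L) = ((g : Q ⧸ L)) ^ i := by
        rw [← QuotientGroup.mk_zpow, QuotientGroup.eq]
        have hn' : K.Normal := inferInstance
        have h3 : x⁻¹ * (x * (g ^ i)⁻¹)⁻¹ * x⁻¹⁻¹ ∈ K :=
          hn'.conj_mem _ (K.inv_mem hi) _
        have h4 : x⁻¹ * g ^ i = x⁻¹ * (x * (g ^ i)⁻¹)⁻¹ * x⁻¹⁻¹ := by group
        rw [h4]
        exact hKL h3
      rw [h1, zpow_eq_zpow_emod i hsq]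
      rcases Int.emod_two_eq_zero_or_one i with hi2 | hi2
      · exact ⟨0, by simp [f, hi2]⟩
      · exact ⟨1, by simp [f, hi2]⟩
    have := Nat.card_le_card_of_surjective f hf
    simpa using this
  rw [Subgroup.index_eq_card]
  have h1 : Nat.card (Q ⧸ L) ≠ 1 := by
    intro h1
    apply hLtop
    rw [← Subgroup.index_eq_one, Subgroup.index_eq_card, h1]
  have h0 : 0 < Nat.card (Q ⧸ L) := Nat.card_pos
  omega

/-- **the setting exists.** -/
theorem exists_setting [Finite Q] (hQ : IsPGroup 2 Q) (hm : Cfsg.IsMetacyclic Q) (α : MulAut Q)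
    (hα : Odd (orderOf α)) (hα1 : α ≠ 1) : ∃ a : Q, Setting α a := by
  haveI : Fact (Nat.Prime 2) := ⟨Nat.prime_two⟩
  obtain ⟨N, hN, hNc, hQN⟩ := hm
  obtain ⟨⟨a, haN⟩, ha⟩ := hNc.exists_generator
  have hNa : ∀ x ∈ N, ∃ i : ℤ, x = a ^ i := by
    intro x hx
    obtain ⟨i, hi⟩ := Subgroup.mem_zpowers_iff.mp (ha ⟨x, hx⟩)
    refine ⟨i, ?_⟩
    have := congrArg Subtype.val hi
    simpa using this.symm
  have hNeq : Subgroup.zpowers a = N := by
    apply le_antisymm
    · rw [Subgroup.zpowers_le]; exact haN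
    · intro x hx
      obtain ⟨i, rfl⟩ := hNa x hx
      exact Subgroup.zpow_mem_zpowers a i
  obtain ⟨bq, hbq⟩ := hQN.exists_generator
  obtain ⟨b0, rfl⟩ := QuotientGroup.mk_surjective bq
  have hb0 : ∀ x : Q, ∃ j : ℤ, x * (b0 ^ j)⁻¹ ∈ N := by
    intro x
    obtain ⟨j, hj⟩ := Subgroup.mem_zpowers_iff.mp (hbq (x : Q ⧸ N))
    refine ⟨j, ?_⟩
    rw [← QuotientGroup.eq_one_iff, QuotientGroup.mk_mul, QuotientGroup.mk_inv,
      QuotientGroup.mk_zpow, mul_inv_eq_one]
    exact hj.symm
  have hgen0 : ∀ x : Q, ∃ i j : ℤ, x = a ^ i * b0 ^ j := by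
    intro x
    obtain ⟨j, hj⟩ := hb0 x
    obtain ⟨i, hi⟩ := hNa _ hj
    refine ⟨i, j, ?_⟩
    rw [← hi]; group
  -- the image
  set M : Subgroup Q := N.map (α : Q →* Q) with hM
  have hMb : ∀ x ∈ M, ∃ j : ℤ, x = (α a) ^ j := by
    intro x hx
    obtain ⟨y, hy, rfl⟩ := hx
    obtain ⟨j, rfl⟩ := hNa y hy
    exact ⟨j, by simp⟩
  have hNM : N ⊔ M = ⊤ := by
    by_cases hL0 : N ⊔ frattini Q = ⊤
    · rw [frattini_nongenerating hL0, top_sup_eq]
    · have hidx := index_sup_frattini hQ N b0 hb0 hL0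
      set L0 := N ⊔ frattini Q with hL0def
      have hco := isCoatom_of_index_two' L0 hidx
      have hΦ : (frattini Q).map (α : Q →* Q) = frattini Q :=
        Subgroup.characteristic_iff_map_eq.mp
          (inferInstance : (frattini Q).Characteristic) α
      have hL1 : L0.map (α : Q →* Q) = M ⊔ frattini Q := by
        rw [hL0def, Subgroup.map_sup, hΦ]
      by_cases hle : L0.map (α : Q →* Q) ≤ L0
      · exfalso
        apply no_invariant_index_two hQ α hα hα1 a b0 hgen0 L0 hidx
        intro x hx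
        exact hle (Subgroup.mem_map_of_mem _ hx)
      · have hlt : L0 < L0 ⊔ L0.map (α : Q →* Q) :=
          lt_of_le_of_ne le_sup_left (fun h => hle (le_sup_right.trans h.ge))
        have htop := hco.2 _ hlt
        rw [hL1, hL0def] at htop
        apply frattini_nongenerating
        rw [← htop]
        apply le_antisymm
        · apply sup_le
          · apply sup_le
            · exact le_sup_of_le_left le_sup_left
            · exact le_sup_of_le_right le_sup_left
          · exact le_sup_of_le_left le_sup_right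
        · apply sup_le
          · apply sup_le
            · exact le_sup_of_le_left le_sup_left
            · exact le_sup_right
          · apply sup_le
            · exact le_sup_of_le_left le_sup_right
            · exact le_sup_right
  refine ⟨a, hQ, hα, hα1, ?_, ?_⟩
  · intro x
    have hx : x ∈ ((N ⊔ M : Subgroup Q) : Set Q) := by rw [hNM]; trivial
    rw [Subgroup.normal_mul] at hx
    obtain ⟨n, hn, m, hm, rfl⟩ := Set.mem_mul.mp hx
    obtain ⟨i, rfl⟩ := hNa n hn
    obtain ⟨j, rfl⟩ := hMb m hm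
    exact ⟨i, j, rfl⟩
  · rw [hNeq]; exact hN

end Cfsg.Agent.Helper65.MetaTwoA
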