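import Cfsg.Agent.Helper65.T2933G

/-!
# The nonabelian case: the order is sixty-four
-/

set_option autoImplicit false

namespace Cfsg.Agent.Helper65.T2933

open Cfsg.Agent.Helper65.Suz Cfsg.Agent.Helper65.Ord64 Cfsg.Agent.Helper27

variable {T : Type*} [Group T] {ρ τ : MulAut T} {V : Subgroup T}

/-- the hypotheses. -/
structure Hyp (ρ τ : MulAut T) (V : Subgroup T) : Prop where
  h : Fpf3 ρ
  hτ2 : ∀ x, τ (τ x) = x
  hcomm : ∀ x, τ (ρ x) = ρ (τ x)
  hV4 : Nat.card V = 4
  hVZ : V ≤ Subgroup.center T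
  hfix : ∀ x, τ x = x ↔ x ∈ V

namespace Hyp

theorem Vρ (H : Hyp ρ τ V) : ∀ v ∈ V, ρ v ∈ V := by
  intro v hv
  rw [← H.hfix, H.hcomm, (H.hfix v).mpr hv]

theorem Vτ (H : Hyp ρ τ V) : ∀ v ∈ V, τ v ∈ V := by
  intro v hv
  rw [(H.hfix v).mpr hv]
  exact hv

theorem fix4 (H : Hyp ρ τ V) : Nat.card {x : T // τ x = x} ≤ 4 := by
  rw [← H.hV4]
  apply le_of_eq
  apply Nat.card_congr
  exact Equiv.subtypeEquivRight (fun x => H.hfix x)

theorem Vsq [Finite T] (H : Hyp ρ τ V) : ∀ v ∈ V, v * v = 1 :=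
  sq_eq_one_of_card_four H.h V H.Vρ H.hV4

theorem Vnormal (H : Hyp ρ τ V) : V.Normal := by
  constructor
  intro n hn g
  have := Subgroup.mem_center_iff.mp (H.hVZ hn) g
  rw [this, mul_inv_cancel_right]
  exact hn

end Hyp

section gen

variable (hcm : ∀ a b : T, cm a b ∈ Subgroup.center T)
include hcm

/-- the elements `y` with `[a, y] ∈ U`. -/
def cmPre (a : T) (U : Subgroup T) : Subgroup T where
  carrier := {y | cm a y ∈ U}
  one_mem' := by
    show cm a 1 ∈ U
    rw [cm_one_right']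
    exact U.one_mem
  mul_mem' := by
    intro x y hx hy
    show cm a (x * y) ∈ U
    rw [cmR hcm]
    exact U.mul_mem hx hy
  inv_mem' := by
    intro x hx
    show cm a x⁻¹ ∈ U
    rw [cm_invR hcm]
    exact U.inv_mem hx

theorem mem_cmPre {a : T} {U : Subgroup T} {y : T} : y ∈ cmPre hcm a U ↔ cm a y ∈ U := Iff.rfl

theorem cmPre_inv [Finite T] (h : Fpf3 ρ) (a : T) (U : Subgroup T) (hU : ∀ g ∈ U, ρ g ∈ U) :
    ∀ y ∈ cmPre hcm a U, ρ y ∈ cmPre hcm a U := by
  intro y hy
  rw [mem_cmPre] at hy ⊢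
  rw [k2 hcm h]
  exact hU _ (hU _ hy)

theorem center_le_cmPre (a : T) (U : Subgroup T) : Subgroup.center T ≤ cmPre hcm a U := by
  intro z hz
  rw [mem_cmPre, cm_eq_one_iff.mpr (Subgroup.mem_center_iff.mp hz a)]
  exact U.one_mem

/-- the elements `x` with `[x, y] ∈ U` for all `y`. -/
def cmAll (U : Subgroup T) : Subgroup T where
  carrier := {x | ∀ y, cm x y ∈ U}
  one_mem' := by
    intro y
    rw [cm_one_left']
    exact U.one_mem
  mul_mem' := by
    intro x x' hx hx' y
    rw [cmL hcm]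
    exact U.mul_mem (hx y) (hx' y)
  inv_mem' := by
    intro x hx y
    rw [cm_invL hcm]
    exact U.inv_mem (hx y)

theorem mem_cmAll {U : Subgroup T} {x : T} : x ∈ cmAll hcm U ↔ ∀ y, cm x y ∈ U := Iff.rfl

/-- an invariant subgroup containing the centre and two noncommuting elements is everything. -/
theorem gen_top [Finite T] (hT : IsPGroup 2 T) (h : Fpf3 ρ)
    (hcard : Nat.card T = 16 * Nat.card (Subgroup.center T)) {a b : T} (hab : a * b ≠ b * a)
    (K : Subgroup T) (hKρ : ∀ g ∈ K, ρ g ∈ K) (hZK : Subgroup.center T ≤ K) (ha : a ∈ K)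
    (hb : b ∈ K) : K = ⊤ := by
  set Ca := cmPre hcm a ⊥ with hCa
  have hCaρ : ∀ y ∈ Ca, ρ y ∈ Ca := cmPre_inv hcm h a ⊥ (by
    intro g hg
    rw [Subgroup.mem_bot] at hg ⊢
    rw [hg, map_one])
  set L := K ⊓ Ca with hL
  have hLρ : ∀ y ∈ L, ρ y ∈ L := fun y hy => ⟨hKρ y hy.1, hCaρ y hy.2⟩
  have hZL : Subgroup.center T ≤ L := le_inf hZK (center_le_cmPre hcm a ⊥)
  have hZL' : Subgroup.center T ≠ L := by
    intro he
    have haL : a ∈ L := by
      refine ⟨ha, ?_⟩
      show cm a a ∈ (⊥ : Subgroup T)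
      rw [cm_self]
      exact Subgroup.one_mem _
    rw [← he] at haL
    exact hab (Subgroup.mem_center_iff.mp haL b).symm
  have hLK : L ≤ K := inf_le_left
  have hLK' : L ≠ K := by
    intro he
    have hbL : b ∈ L := by rw [he]; exact hb
    have h5 : cm a b ∈ (⊥ : Subgroup T) := hbL.2
    rw [Subgroup.mem_bot, cm_eq_one_iff] at h5
    exact hab h5
  have h1 := four_mul_card_le h hT _ _ (center_inv h) hLρ hZL hZL'
  have h2 := four_mul_card_le h hT _ _ hLρ hKρ hLK hLK'
  have h3 := Subgroup.card_le_card_group K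
  rw [← Subgroup.card_eq_iff_eq_top]
  omega

end gen

/-- in the nonabelian case, all commutators lie in `V`. -/
theorem comm_in_V [Finite T] (hT : IsPGroup 2 T) (H : Hyp ρ τ V)
    (hna : ¬ ∀ a b : T, a * b = b * a) : ∀ x y : T, cm x y ∈ V := by
  have h := H.h
  have hcm := class_two h hT
  obtain ⟨hcard, hsq⟩ := quot_dichotomy hT h τ H.hτ2 H.fix4 (Subgroup.center T) le_rfl
    (center_inv h) (fun g hg => aut_center τ hg) hcm hna
  push Not at hna
  obtain ⟨a, b, hab⟩ := hna
  set u := cm a b with hu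
  have hu1 : u ≠ 1 := fun e => hab (cm_eq_one_iff.mp e)
  have hu2 : u * u = 1 := by
    rw [hu, ← cm_sq_left hcm, cm_eq_one_iff]
    exact (Subgroup.mem_center_iff.mp (hsq a) b).symm
  set U := quadSub h u hu2 with hU
  have hUρ := quadSub_inv h u hu2
  have huU : u ∈ U := ⟨GF4.o, rfl⟩
  have hSa : cmPre hcm a U = ⊤ := by
    apply gen_top hcm hT h hcard hab _ (cmPre_inv hcm h a U hUρ) (center_le_cmPre hcm a U)
    · rw [mem_cmPre, cm_self]; exact U.one_mem
    · rw [mem_cmPre]; exact huU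
  have hSb : cmPre hcm b U = ⊤ := by
    apply gen_top hcm hT h hcard hab _ (cmPre_inv hcm h b U hUρ) (center_le_cmPre hcm b U)
    · rw [mem_cmPre, ← cm_inv_swap]; exact U.inv_mem huU
    · rw [mem_cmPre, cm_self]; exact U.one_mem
  have hS : cmAll hcm U = ⊤ := by
    apply gen_top hcm hT h hcard hab
    · intro x hx y
      rw [k2' hcm h]
      exact hUρ _ (hUρ _ (hx y))
    · intro z hz y
      rw [cm_eq_one_iff.mpr (Subgroup.mem_center_iff.mp hz y).symm]
      exact U.one_mem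
    · intro y
      have : y ∈ cmPre hcm a U := by rw [hSa]; exact Subgroup.mem_top y
      exact this
    · intro y
      have : y ∈ cmPre hcm b U := by rw [hSb]; exact Subgroup.mem_top y
      exact this
  have hall : ∀ x y : T, cm x y ∈ U := by
    intro x y
    have : x ∈ cmAll hcm U := by rw [hS]; exact Subgroup.mem_top x
    exact this y
  -- `u` is fixed by `τ`
  have hτu : τ u = u := by
    have h1 : τ u ∈ U := by
      rw [hu, map_cm]
      exact hall _ _
    obtain ⟨x, hx⟩ := h1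
    have h2 := H.hτ2 u
    cases x
    · exfalso
      have : τ u = τ 1 := by rw [map_one]; exact hx.symm
      exact hu1 (τ.injective this)
    · exact hx.symm
    · exfalso
      have h3 : τ u = ρ u := hx.symm
      rw [h3, H.hcomm, h3] at h2
      exact h.rr_ne_self hu1 h2
    · exfalso
      have h3 : τ u = ρ (ρ u) := hx.symm
      rw [h3, H.hcomm, H.hcomm, h3, h.h3] at h2
      exact h.ne_self hu1 h2
  have huV : u ∈ V := (H.hfix u).mp hτu
  have hUV : U = V := eq_quadSub h V H.Vρ H.hV4 huV hu2 hu1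
  intro x y
  rw [← hUV]
  exact hall x y

/-- **the nonabelian case has order sixty-four.** -/
theorem card_of_nonabelian [Finite T] (hT : IsPGroup 2 T) (H : Hyp ρ τ V)
    (hna : ¬ ∀ a b : T, a * b = b * a) : Nat.card T = 64 := by
  haveI := H.Vnormal
  obtain ⟨hcard, -⟩ := quot_dichotomy hT H.h τ H.hτ2 H.fix4 V H.hVZ H.Vρ H.Vτ
    (comm_in_V hT H hna) hna
  rw [hcard, H.hV4]

end Cfsg.Agent.Helper65.T2933
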