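import Cfsg.Agent.Helper65.MetaTwoA3
import Cfsg.Agent.Helper65.T2933H

/-!
# Metacyclic two-groups with an automorphism of odd order: class two and power maps
-/

set_option autoImplicit false

namespace Cfsg.Agent.Helper65.MetaTwoA

open Cfsg.Agent.Helper65.Suz Cfsg.Agent.Helper65.T2933 Cfsg.Agent.Helper65.Ord64

section generic

variable {T : Type*} [Group T]

/-- commutators lie in a normal subgroup with cyclic quotient. -/
theorem cm_mem_of_cyclic_quot (K : Subgroup T) [K.Normal] (g : T)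
    (hg : ∀ x : T, ∃ i : ℤ, x * (g ^ i)⁻¹ ∈ K) (x y : T) : cm x y ∈ K := by
  have key : ∀ x : T, ∃ i : ℤ, (x : T ⧸ K) = (g : T ⧸ K) ^ i := by
    intro x
    obtain ⟨i, hi⟩ := hg x
    refine ⟨i, ?_⟩
    rw [← QuotientGroup.eq_one_iff, QuotientGroup.mk_mul, QuotientGroup.mk_inv,
      QuotientGroup.mk_zpow, mul_inv_eq_one] at hi
    exact hi
  obtain ⟨i, hi⟩ := key x
  obtain ⟨j, hj⟩ := key y
  rw [← QuotientGroup.eq_one_iff]
  unfold cm
  rw [QuotientGroup.mk_mul, QuotientGroup.mk_mul, QuotientGroup.mk_mul, QuotientGroup.mk_inv,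
    QuotientGroup.mk_inv, hi, hj]
  group

section cl

variable (hcm : ∀ a b : T, cm a b ∈ Subgroup.center T)
include hcm

/-- commutation with a fixed element, as a homomorphism. -/
def cmHomL (y : T) : T →* T := MonoidHom.mk' (fun x => cm x y) (fun x x' => cmL hcm x x' y)

theorem cmHomL_apply (x y : T) : cmHomL hcm y x = cm x y := rfl

theorem cm_pow_left (x y : T) (n : ℕ) : cm (x ^ n) y = (cm x y) ^ n := by
  rw [← cmHomL_apply hcm, map_pow, cmHomL_apply]

theorem cm_zpow_left (x y : T) (n : ℤ) : cm (x ^ n) y = (cm x y) ^ n := by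
  rw [← cmHomL_apply hcm, map_zpow, cmHomL_apply]

/-- the power formula in class two. -/
theorem mul_pow_cm (x y : T) (n : ℕ) :
    (x * y) ^ n = x ^ n * y ^ n * (cm y x) ^ (n.choose 2) := by
  induction n with
  | zero => simp
  | succ n ih =>
    set c := cm y x with hc
    have hcT : ∀ g : T, c ^ (n.choose 2) * g = g * c ^ (n.choose 2) := fun g =>
      (Subgroup.mem_center_iff.mp (Subgroup.pow_mem _ (hcm y x) _) g).symm
    have hcn : ∀ g : T, c ^ n * g = g * c ^ n := fun g =>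
      (Subgroup.mem_center_iff.mp (Subgroup.pow_mem _ (hcm y x) _) g).symm
    have h1 : y ^ n * x = x * y ^ n * c ^ n := by
      rw [mul_eq_mul_cm (y ^ n) x, cm_pow_left hcm]
    have hch : (n + 1).choose 2 = n + n.choose 2 := by
      rw [Nat.choose_succ_succ' n 1, Nat.choose_one_right]
    rw [hch, pow_succ (x * y), ih, pow_add c]
    calc x ^ n * y ^ n * c ^ (n.choose 2) * (x * y)
        = x ^ n * y ^ n * (c ^ (n.choose 2) * (x * y)) := by group
      _ = x ^ n * y ^ n * ((x * y) * c ^ (n.choose 2)) := by rw [hcT]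
      _ = x ^ n * (y ^ n * x) * y * c ^ (n.choose 2) := by group
      _ = x ^ n * (x * y ^ n * c ^ n) * y * c ^ (n.choose 2) := by rw [h1]
      _ = x ^ (n + 1) * y ^ n * (c ^ n * y) * c ^ (n.choose 2) := by group
      _ = x ^ (n + 1) * y ^ n * (y * c ^ n) * c ^ (n.choose 2) := by rw [hcn]
      _ = x ^ (n + 1) * y ^ (n + 1) * (c ^ n * c ^ (n.choose 2)) := by group

/-- large two-power maps are multiplicative. -/
theorem pow_mul_of_cm (r k : ℕ) (hr : ∀ x y : T, (cm x y) ^ (2 ^ r) = 1) (hk : r + 1 ≤ k)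
    (x y : T) : (x * y) ^ (2 ^ k) = x ^ (2 ^ k) * y ^ (2 ^ k) := by
  rw [mul_pow_cm hcm]
  have hdvd : 2 ^ r ∣ (2 ^ k).choose 2 := by
    obtain ⟨k', rfl⟩ : ∃ k', k = k' + 1 := ⟨k - 1, by omega⟩
    rw [Nat.choose_two_right, pow_succ, mul_comm (2 ^ k') 2, mul_assoc,
      Nat.mul_div_cancel_left _ (by norm_num : 0 < 2)]
    exact Dvd.dvd.mul_right (pow_dvd_pow 2 (by omega)) _
  obtain ⟨d, hd⟩ := hdvd
  rw [hd, pow_mul, hr, one_pow, mul_one]

end cl

/-- the involution of a cyclic two-group. -/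
theorem invol_of_mem [Finite T] {x c : T} {m t : ℕ} (hx : orderOf x = 2 ^ m)
    (hc : c ∈ Subgroup.zpowers x) (hc1 : c ≠ 1) (ht : orderOf c = 2 ^ t) :
    1 ≤ m ∧ 1 ≤ t ∧ c ^ (2 ^ (t - 1)) = x ^ (2 ^ (m - 1)) ∧ x ^ (2 ^ (m - 1)) ≠ 1 := by
  have ht1 : 1 ≤ t := by
    by_contra h
    have : t = 0 := by omega
    rw [this, pow_zero, orderOf_eq_one_iff] at ht
    exact hc1 ht
  have hm1 : 1 ≤ m := by
    by_contra h
    have : m = 0 := by omega
    rw [this, pow_zero, orderOf_eq_one_iff] at hx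
    rw [hx, Subgroup.zpowers_one_eq_bot, Subgroup.mem_bot] at hc
    exact hc1 hc
  obtain ⟨n, rfl⟩ : ∃ n, m = n + 1 := ⟨m - 1, by omega⟩
  obtain ⟨s, rfl⟩ : ∃ s, t = s + 1 := ⟨t - 1, by omega⟩
  set w := c ^ (2 ^ s) with hw
  have hw2 : w * w = 1 := by
    rw [hw, ← pow_add, ← two_mul, ← pow_succ', ← ht]
    exact pow_orderOf_eq_one c
  have hw1 : w ≠ 1 := by
    rw [hw]
    apply pow_ne_one_of_lt_orderOf (by positivity)
    rw [ht]
    exact Nat.pow_lt_pow_right (by norm_num) (by omega)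
  have hwx : w ∈ Subgroup.zpowers x := Subgroup.pow_mem _ hc _
  rw [← mem_powers_iff_mem_zpowers] at hwx
  obtain ⟨k, hk⟩ := (Submonoid.mem_powers_iff _ _).mp hwx
  have h5 := invol_unique hx hk.symm hw2 hw1
  refine ⟨by omega, by omega, ?_, ?_⟩
  · simpa using h5
  · simp only [Nat.add_sub_cancel]
    rw [← h5]; exact hw1

end generic

variable {Q : Type*} [Group Q] {α : MulAut Q} {a : Q}

namespace Setting

theorem hM (S : Setting α a) : (Subgroup.zpowers (α a)).Normal := by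
  have h1 : Subgroup.zpowers (α a) = (Subgroup.zpowers a).map (α : Q →* Q) := by
    rw [MonoidHom.map_zpowers]; rfl
  rw [h1]
  have := S.hN
  exact Subgroup.Normal.map inferInstance _ α.surjective

theorem quotN (S : Setting α a) :
    ∀ x : Q, ∃ i : ℤ, x * ((α a) ^ i)⁻¹ ∈ Subgroup.zpowers a := by
  intro x
  obtain ⟨i, j, rfl⟩ := S.hgen x
  refine ⟨j, ?_⟩
  rw [mul_inv_cancel_right]
  exact Subgroup.zpow_mem_zpowers a i

theorem quotM (S : Setting α a) :
    ∀ x : Q, ∃ i : ℤ, x * (a ^ i)⁻¹ ∈ Subgroup.zpowers (α a) := by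
  intro x
  obtain ⟨i, j, rfl⟩ := S.hgen x
  refine ⟨i, ?_⟩
  exact S.hM.conj_mem _ (Subgroup.zpow_mem_zpowers _ j) _

theorem cmN (S : Setting α a) (x y : Q) : cm x y ∈ Subgroup.zpowers a := by
  have := S.hN
  exact cm_mem_of_cyclic_quot _ (α a) S.quotN x y

theorem cmM (S : Setting α a) (x y : Q) : cm x y ∈ Subgroup.zpowers (α a) := by
  have := S.hM
  exact cm_mem_of_cyclic_quot _ a S.quotM x y

theorem gen_mem (S : Setting α a) (H : Subgroup Q) (ha : a ∈ H) (hb : α a ∈ H) (x : Q) :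
    x ∈ H := by
  obtain ⟨i, j, rfl⟩ := S.hgen x
  exact H.mul_mem (H.zpow_mem ha i) (H.zpow_mem hb j)

theorem inter_central (S : Setting α a) {c : Q} (hN : c ∈ Subgroup.zpowers a)
    (hM : c ∈ Subgroup.zpowers (α a)) : c ∈ Subgroup.center Q := by
  rw [Subgroup.mem_center_iff]
  intro g
  have h1 : g ∈ Subgroup.centralizer ({c} : Set Q) := by
    apply S.gen_mem
    · rw [Subgroup.mem_centralizer_iff]
      intro h hh
      rw [Set.mem_singleton_iff] at hh
      subst hh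
      obtain ⟨k, rfl⟩ := Subgroup.mem_zpowers_iff.mp hN
      exact (Commute.zpow_self a k).eq
    · rw [Subgroup.mem_centralizer_iff]
      intro h hh
      rw [Set.mem_singleton_iff] at hh
      subst hh
      obtain ⟨k, rfl⟩ := Subgroup.mem_zpowers_iff.mp hM
      exact (Commute.zpow_self (α a) k).eq
  rw [Subgroup.mem_centralizer_iff] at h1
  exact (h1 c rfl).symm

theorem hcm (S : Setting α a) (x y : Q) : cm x y ∈ Subgroup.center Q :=
  S.inter_central (S.cmN x y) (S.cmM x y)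

/-- a multiplicative power map identifying the two generators kills them. -/
theorem pow_eq_one_of_mul [Finite Q] (S : Setting α a) (n : ℕ)
    (hmul : ∀ x y : Q, (x * y) ^ n = x ^ n * y ^ n) (huv : (α a) ^ n = a ^ n) : a ^ n = 1 := by
  let π : Q →* Q := MonoidHom.mk' (fun x => x ^ n) hmul
  have hπ : ∀ x, π x = x ^ n := fun _ => rfl
  have hK : π.ker = ⊤ := by
    apply invariant_cyclic_quot_eq_top S.hQ α S.hα S.hα1 a (α a) S.hgen π.ker ?_ a ?_
    · intro x hx
      rw [MonoidHom.mem_ker, hπ] at hx ⊢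
      rw [← map_pow, hx, map_one]
    · intro x
      obtain ⟨i, j, rfl⟩ := S.hgen x
      refine ⟨i + j, ?_⟩
      rw [MonoidHom.mem_ker, map_mul, map_mul, map_inv, map_zpow, map_zpow, map_zpow, hπ, hπ,
        huv, zpow_add]
      group
  have : a ∈ π.ker := by rw [hK]; trivial
  exact this

theorem orderOf_b (_S : Setting α a) : orderOf (α a) = orderOf a := MulEquiv.orderOf_eq α a

theorem exists_order (S : Setting α a) : ∃ m : ℕ, orderOf a = 2 ^ m :=
  (IsPGroup.iff_orderOf.mp S.hQ) a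

/-- if the two cyclic factors meet, their involutions agree. -/
theorem u_eq_v [Finite Q] (S : Setting α a) {c : Q} (hN : c ∈ Subgroup.zpowers a)
    (hM : c ∈ Subgroup.zpowers (α a)) (hc1 : c ≠ 1) {m : ℕ} (hm : orderOf a = 2 ^ m) :
    1 ≤ m ∧ (α a) ^ (2 ^ (m - 1)) = a ^ (2 ^ (m - 1)) ∧ a ^ (2 ^ (m - 1)) ≠ 1 := by
  obtain ⟨t, ht⟩ := (IsPGroup.iff_orderOf.mp S.hQ) c
  obtain ⟨h1, -, h3, h4⟩ := invol_of_mem hm hN hc1 ht
  obtain ⟨-, -, h3', -⟩ := invol_of_mem (S.orderOf_b.trans hm) hM hc1 ht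
  exact ⟨h1, h3'.symm.trans h3, h4⟩

end Setting

end Cfsg.Agent.Helper65.MetaTwoA
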