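import Cfsg.Agent.Helper65.MetaTwoA4

/-!
# Metacyclic two-groups with an automorphism of odd order: the two cases
-/

set_option autoImplicit false

namespace Cfsg.Agent.Helper65.MetaTwoA

open Cfsg.Agent.Helper65.Suz Cfsg.Agent.Helper65.T2933 Cfsg.Agent.Helper65.Ord64

theorem zpow_pow_eq_one {T : Type*} [Group T] {x : T} {n : ℕ} (h : x ^ n = 1) (i : ℤ) :
    (x ^ i) ^ n = 1 := by
  rw [← zpow_natCast, ← zpow_mul, mul_comm, zpow_mul, zpow_natCast, h, one_zpow]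

variable {Q : Type*} [Group Q] {α : MulAut Q} {a : Q}

namespace Setting

/-- the commutative case. -/
theorem abelian_case [Finite Q] (S : Setting α a) (hab : a * α a = α a * a) :
    (∀ x y : Q, x * y = y * x) ∧
      ∃ n : ℕ, 1 ≤ n ∧ Nat.card Q = 4 ^ n ∧ ∀ q : Q, q ^ 2 ^ n = 1 := by
  have hcomm : ∀ x y : Q, x * y = y * x := by
    intro x y
    obtain ⟨i, j, rfl⟩ := S.hgen x
    obtain ⟨k, l, rfl⟩ := S.hgen y
    have hC : Commute a (α a) := hab
    have h1 : Commute (a ^ i) (a ^ k * (α a) ^ l) :=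
      ((Commute.refl a).zpow_zpow i k).mul_right (hC.zpow_zpow i l)
    have h2 : Commute ((α a) ^ j) (a ^ k * (α a) ^ l) :=
      ((hC.symm).zpow_zpow j k).mul_right ((Commute.refl _).zpow_zpow j l)
    exact (h1.mul_left h2).eq
  refine ⟨hcomm, ?_⟩
  obtain ⟨m, hm⟩ := S.exists_order
  have hinter : ∀ c : Q, c ∈ Subgroup.zpowers a → c ∈ Subgroup.zpowers (α a) → c = 1 := by
    intro c hN hM
    by_contra hc1
    obtain ⟨-, huv, hu1⟩ := S.u_eq_v hN hM hc1 hm
    exact hu1 (S.pow_eq_one_of_mul _ (fun x y => (Commute.mul_pow (hcomm x y) _)) huv)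
  have hm1 : 1 ≤ m := by
    by_contra h
    have h0 : m = 0 := by omega
    rw [h0, pow_zero, orderOf_eq_one_iff] at hm
    apply S.hα1
    ext x
    obtain ⟨i, j, rfl⟩ := S.hgen x
    simp [hm]
  have ha : a ^ (2 ^ m) = 1 := by rw [← hm]; exact pow_orderOf_eq_one a
  have hb : (α a) ^ (2 ^ m) = 1 := by rw [← hm, ← S.orderOf_b]; exact pow_orderOf_eq_one _
  refine ⟨m, hm1, ?_, ?_⟩
  · let f : Subgroup.zpowers a × Subgroup.zpowers (α a) → Q := fun p => (p.1 : Q) * (p.2 : Q)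
    have hf : Function.Bijective f := by
      constructor
      · rintro ⟨⟨n1, hn1⟩, ⟨m1, hm1'⟩⟩ ⟨⟨n2, hn2⟩, ⟨m2, hm2⟩⟩ h
        simp only [f] at h
        have h1 : n2⁻¹ * n1 = m2 * m1⁻¹ := by
          calc n2⁻¹ * n1 = n2⁻¹ * (n1 * m1) * m1⁻¹ := by group
            _ = n2⁻¹ * (n2 * m2) * m1⁻¹ := by rw [h]
            _ = m2 * m1⁻¹ := by group
        have h2 : n2⁻¹ * n1 = 1 :=
          hinter _ (mul_mem (inv_mem hn2) hn1) (by rw [h1]; exact mul_mem hm2 (inv_mem hm1'))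
        have h3 : n1 = n2 := by rw [inv_mul_eq_one] at h2; exact h2.symm
        subst h3
        have h4 : m1 = m2 := mul_left_cancel h
        subst h4
        rfl
      · intro x
        obtain ⟨i, j, rfl⟩ := S.hgen x
        exact ⟨(⟨a ^ i, Subgroup.zpow_mem_zpowers a i⟩,
          ⟨(α a) ^ j, Subgroup.zpow_mem_zpowers _ j⟩), rfl⟩
    rw [← Nat.card_congr (Equiv.ofBijective f hf), Nat.card_prod, Nat.card_zpowers,
      Nat.card_zpowers, S.orderOf_b, hm, ← mul_pow]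
    norm_num
  · intro q
    obtain ⟨i, j, rfl⟩ := S.hgen q
    rw [Commute.mul_pow (hcomm _ _), zpow_pow_eq_one ha, zpow_pow_eq_one hb, one_mul]

/-- the noncommutative case. -/
theorem nonabelian_case [Finite Q] (S : Setting α a) (hab : a * α a ≠ α a * a) :
    ∃ x y : Q, orderOf x = 4 ∧ y * x * y⁻¹ = x⁻¹ ∧ y ^ 2 = x ^ 2 := by
  have hcm := S.hcm
  set z := cm a (α a) with hz
  have hz1 : z ≠ 1 := fun h => hab (cm_eq_one_iff.mp h)
  have hzN : z ∈ Subgroup.zpowers a := S.cmN a (α a)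
  have hzM : z ∈ Subgroup.zpowers (α a) := S.cmM a (α a)
  obtain ⟨m, hm⟩ := S.exists_order
  obtain ⟨r, hr⟩ := (IsPGroup.iff_orderOf.mp S.hQ) z
  obtain ⟨hm1, hr1, hzu, hu1⟩ := invol_of_mem hm hzN hz1 hr
  obtain ⟨-, huv, -⟩ := S.u_eq_v hzN hzM hz1 hm
  -- all commutators are powers of `z`
  have hall : ∀ x y : Q, cm x y ∈ Subgroup.zpowers z := by
    have h1 : ∀ y, y ∈ cmPre hcm a (Subgroup.zpowers z) := by
      intro y
      apply S.gen_mem
      · rw [mem_cmPre hcm, cm_self]; exact one_mem _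
      · rw [mem_cmPre hcm]; exact Subgroup.mem_zpowers z
    have h2 : ∀ y, y ∈ cmPre hcm (α a) (Subgroup.zpowers z) := by
      intro y
      apply S.gen_mem
      · rw [mem_cmPre hcm, ← cm_inv_swap]; exact inv_mem (Subgroup.mem_zpowers z)
      · rw [mem_cmPre hcm, cm_self]; exact one_mem _
    intro x
    have h3 : x ∈ cmAll hcm (Subgroup.zpowers z) := by
      apply S.gen_mem
      · rw [mem_cmAll hcm]; exact fun y => h1 y
      · rw [mem_cmAll hcm]; exact fun y => h2 y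
    exact (mem_cmAll hcm).mp h3
  have hzr : z ^ (2 ^ r) = 1 := by rw [← hr]; exact pow_orderOf_eq_one z
  have hpow : ∀ x y : Q, (cm x y) ^ (2 ^ r) = 1 := by
    intro x y
    obtain ⟨k, hk⟩ := Subgroup.mem_zpowers_iff.mp (hall x y)
    rw [← hk]
    exact zpow_pow_eq_one hzr k
  have h5 : m ≤ r + 1 := by
    by_contra h
    have hk : r + 1 ≤ m - 1 := by omega
    exact hu1 (S.pow_eq_one_of_mul _ (pow_mul_of_cm hcm r (m - 1) hpow hk) huv)
  have h6 : r + r ≤ m := by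
    obtain ⟨i, hi⟩ := Subgroup.mem_zpowers_iff.mp hzN
    have hzi : z ^ i = 1 := by
      have h1 : cm (a ^ i) (α a) = z ^ i := cm_zpow_left hcm a (α a) i
      rw [hi] at h1
      rw [← h1, cm_eq_one_iff]
      exact (Subgroup.mem_center_iff.mp (hcm a (α a)) (α a)).symm
    have hdvd : (orderOf z : ℤ) ∣ i := orderOf_dvd_iff_zpow_eq_one.mpr hzi
    rw [hr] at hdvd
    obtain ⟨i', hi'⟩ := hdvd
    have hrm : r ≤ m := by
      have : orderOf z ∣ orderOf a := orderOf_dvd_of_mem_zpowers hzN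
      rw [hr, hm] at this
      exact (Nat.pow_dvd_pow_iff_le_right (by norm_num)).mp this
    have h2 : z ^ (2 ^ (m - r)) = 1 := by
      rw [← hi, hi', ← zpow_natCast, ← zpow_mul]
      have h3 : ((2 ^ r : ℕ) : ℤ) * i' * ((2 ^ (m - r) : ℕ) : ℤ) = ((2 ^ m : ℕ) : ℤ) * i' := by
        have : 2 ^ m = 2 ^ r * 2 ^ (m - r) := by rw [← pow_add]; congr 1; omega
        rw [this]; push_cast; ring
      rw [h3, zpow_mul, zpow_natCast, ← hm, pow_orderOf_eq_one, one_zpow]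
    have h3 : orderOf z ∣ 2 ^ (m - r) := orderOf_dvd_of_pow_eq_one h2
    rw [hr] at h3
    have := (Nat.pow_dvd_pow_iff_le_right (by norm_num)).mp h3
    omega
  have hm2 : m = 2 := by omega
  have hr1' : r = 1 := by omega
  subst hm2; subst hr1'
  have hza : z = a ^ 2 := by simpa using hzu
  have hba : (α a) ^ 2 = a ^ 2 := by simpa using huv
  have ha4 : a ^ 4 = 1 := by
    rw [show (4 : ℕ) = 2 ^ 2 by norm_num, ← hm]; exact pow_orderOf_eq_one a
  refine ⟨a, α a, by rw [hm]; norm_num, ?_, hba⟩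
  have h7 : a⁻¹ * (α a)⁻¹ * a * (α a) = a ^ 2 := by rw [← hza]; rfl
  have h8 : (α a)⁻¹ * a * (α a) = a⁻¹ := by
    calc (α a)⁻¹ * a * (α a) = a * (a⁻¹ * (α a)⁻¹ * a * (α a)) := by group
      _ = a * a ^ 2 := by rw [h7]
      _ = a ^ 4 * a⁻¹ := by group
      _ = a⁻¹ := by rw [ha4, one_mul]
  calc (α a) * a * (α a)⁻¹ = ((α a) * a⁻¹ * (α a)⁻¹)⁻¹ := by group
    _ = ((α a) * ((α a)⁻¹ * a * (α a)) * (α a)⁻¹)⁻¹ := by rw [h8]
    _ = a⁻¹ := by group

end Setting

end Cfsg.Agent.Helper65.MetaTwoA
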