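import Cfsg.Agent.Helper65.Metacyclic

/-!
# Metacyclic `p`-groups, `p` odd: power subgroups and class sizes

For a finite metacyclic `p`-group `G` with `|G'| = p ^ n` and `s ≤ n`, the subgroup generated by the
`p ^ s`-th powers is the set of elements whose class has at most `p ^ (n - s)` elements, and it has
index `p ^ (2 * s)`.
-/

set_option autoImplicit false

namespace Cfsg.Agent.Helper65

open Subgroup

section Cyclic

variable {G : Type*} [Group G]

theorem orderOf_eq_of_forall_pow {x : G} {N : ℕ} (h : ∀ e : ℕ, x ^ e = 1 ↔ N ∣ e) : orderOf x = N :=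
  Nat.dvd_antisymm (orderOf_dvd_of_pow_eq_one ((h N).mpr dvd_rfl)) ((h _).mp (pow_orderOf_eq_one x))

/-- in a cyclic group of order `p ^ n` generated by `x`: `x ^ e ∈ ⟨x ^ (p ^ s)⟩ ↔ p ^ s ∣ e`. -/
theorem pow_mem_zpowers_pow_iff {p : ℕ} [hp : Fact p.Prime] {x : G} {n s : ℕ}
    (hx : orderOf x = p ^ n) (hs : s ≤ n) (e : ℕ) : x ^ e ∈ zpowers (x ^ p ^ s) ↔ p ^ s ∣ e := by
  constructor
  · intro h
    obtain ⟨k, hk⟩ := Subgroup.mem_zpowers_iff.mp h
    have h0 : (x ^ p ^ s) ^ p ^ (n - s) = 1 := by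
      rw [← pow_mul, ← pow_add, Nat.add_sub_cancel' hs, ← hx, pow_orderOf_eq_one]
    have h1 : (x ^ e) ^ p ^ (n - s) = 1 := by
      rw [← hk, ← zpow_natCast, ← zpow_mul, mul_comm, zpow_mul, zpow_natCast, h0, one_zpow]
    rw [← pow_mul, ← orderOf_dvd_iff_pow_eq_one, hx] at h1
    have h2 : p ^ s * p ^ (n - s) ∣ e * p ^ (n - s) := by
      rwa [← pow_add, Nat.add_sub_cancel' hs]
    exact Nat.dvd_of_mul_dvd_mul_right (pow_pos hp.out.pos _) h2
  · rintro ⟨k, rfl⟩
    rw [pow_mul]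
    exact Subgroup.pow_mem _ (Subgroup.mem_zpowers _) k

theorem mem_zpowers_pow_iff {p : ℕ} [hp : Fact p.Prime] {x : G} {n s : ℕ}
    (hx : orderOf x = p ^ n) (hs : s ≤ n) {d : G} (hd : d ∈ zpowers x) :
    d ∈ zpowers (x ^ p ^ s) ↔ d ^ p ^ (n - s) = 1 := by
  have hfin : IsOfFinOrder x := by
    rw [← orderOf_pos_iff, hx]; exact pow_pos hp.out.pos _
  rw [← hfin.mem_powers_iff_mem_zpowers] at hd
  obtain ⟨e, rfl⟩ := hd
  rw [pow_mem_zpowers_pow_iff hx hs, ← pow_mul, ← orderOf_dvd_iff_pow_eq_one, hx]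
  have h2 : p ^ n = p ^ s * p ^ (n - s) := by rw [← pow_add, Nat.add_sub_cancel' hs]
  rw [h2, Nat.mul_dvd_mul_iff_right (pow_pos hp.out.pos _)]

theorem normal_zpowers_of_conj {x : G} (h : ∀ g : G, ∃ t : ℕ, g * x * g⁻¹ = x ^ t) :
    (zpowers x).Normal := by
  refine ⟨fun z hz g => ?_⟩
  obtain ⟨k, rfl⟩ := Subgroup.mem_zpowers_iff.mp hz
  obtain ⟨t, hc⟩ := h g
  have : g * x ^ k * g⁻¹ = (g * x * g⁻¹) ^ k := by simp
  rw [this, hc]
  exact Subgroup.zpow_mem _ (Subgroup.pow_mem _ (Subgroup.mem_zpowers _) _) _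

end Cyclic

/-! ### Class sizes -/

section ClassSize

variable {G : Type*} [Group G]

/-- if all commutators `[y, g]` lie in `T`, the class of `g` has at most `|T|` elements. -/
theorem index_centralizer_le_card [Finite G] (g : G) (T : Subgroup G)
    (h : ∀ y : G, y * g * y⁻¹ * g⁻¹ ∈ T) : (centralizer ({g} : Set G)).index ≤ Nat.card T := by
  rw [Subgroup.index_eq_card]
  let φ : G ⧸ centralizer ({g} : Set G) → T := fun q =>
    Quotient.liftOn' q (fun y => (⟨y * g * y⁻¹ * g⁻¹, h y⟩ : T)) (by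
      intro x y hxy
      rw [QuotientGroup.leftRel_apply, Subgroup.mem_centralizer_singleton_iff] at hxy
      apply Subtype.ext
      simp only
      have h1 : y * g * y⁻¹ = x * g * x⁻¹ := by
        have : y = x * (x⁻¹ * y) := by group
        rw [this, mul_assoc x, mul_assoc x, hxy]; group
      rw [h1])
  apply Nat.card_le_card_of_injective φ
  intro q₁ q₂
  induction q₁ using QuotientGroup.induction_on with | _ x => ?_
  induction q₂ using QuotientGroup.induction_on with | _ y => ?_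
  intro hφ
  have h1 : x * g * x⁻¹ * g⁻¹ = y * g * y⁻¹ * g⁻¹ := congrArg Subtype.val hφ
  rw [QuotientGroup.eq, Subgroup.mem_centralizer_singleton_iff]
  have h2 : x * g * x⁻¹ = y * g * y⁻¹ := mul_right_cancel h1
  calc x⁻¹ * y * g = x⁻¹ * (y * g * y⁻¹) * y := by group
    _ = x⁻¹ * (x * g * x⁻¹) * y := by rw [h2]
    _ = g * (x⁻¹ * y) := by group

/-- if `y ^ e ∈ C` forces `N ∣ e`, then `C` has index at least `N`. -/
theorem le_index_of_pow_mem [Finite G] (C : Subgroup G) (y : G) (N : ℕ)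
    (h : ∀ e : ℕ, y ^ e ∈ C → N ∣ e) : N ≤ C.index := by
  rw [Subgroup.index_eq_card]
  have hinj : Function.Injective (fun e : Fin N => (QuotientGroup.mk (y ^ (e : ℕ)) : G ⧸ C)) := by
    have key : ∀ e e' : ℕ, e ≤ e' → e' < N →
        (QuotientGroup.mk (y ^ e) : G ⧸ C) = QuotientGroup.mk (y ^ e') → e = e' := by
      intro e e' hle hlt heq
      rw [QuotientGroup.eq] at heq
      have h1 : y ^ (e' - e) ∈ C := by
        have : y ^ (e' - e) = (y ^ e)⁻¹ * y ^ e' := by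
          rw [eq_inv_mul_iff_mul_eq, ← pow_add, Nat.add_sub_cancel' hle]
        rw [this]; exact heq
      have h2 := h _ h1
      have h3 : e' - e = 0 := Nat.eq_zero_of_dvd_of_lt h2 (by omega)
      omega
    intro e e' heq
    apply Fin.ext
    rcases le_total (e : ℕ) (e' : ℕ) with hle | hle
    · exact key _ _ hle e'.2 heq
    · exact (key _ _ hle e.2 heq.symm).symm
  have := Nat.card_le_card_of_injective _ hinj
  rwa [Nat.card_fin] at this

end ClassSize

/-! ### The centre modulo a normal subgroup -/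

section CenterMod

variable {G : Type*} [Group G]

/-- the preimage of the centre of `G ⧸ T`. -/
def centerMod (T : Subgroup G) [T.Normal] : Subgroup G :=
  (center (G ⧸ T)).comap (QuotientGroup.mk' T)

theorem mem_centerMod_iff (T : Subgroup G) [T.Normal] (g : G) :
    g ∈ centerMod T ↔ ∀ y : G, y * g * y⁻¹ * g⁻¹ ∈ T := by
  rw [centerMod, Subgroup.mem_comap, Subgroup.mem_center_iff]
  constructor
  · intro h y
    rw [← QuotientGroup.eq_one_iff, ← QuotientGroup.mk'_apply, map_mul, map_mul, map_mul, map_inv,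
      map_inv, mul_inv_eq_one, mul_inv_eq_iff_eq_mul]
    exact h _
  · intro h q
    obtain ⟨y, rfl⟩ := QuotientGroup.mk'_surjective T q
    have := h y
    rw [← QuotientGroup.eq_one_iff, ← QuotientGroup.mk'_apply, map_mul, map_mul, map_mul, map_inv,
      map_inv, mul_inv_eq_one, mul_inv_eq_iff_eq_mul] at this
    exact this

theorem index_centerMod (T : Subgroup G) [T.Normal] :
    (centerMod T).index = (center (G ⧸ T)).index :=
  Subgroup.index_comap_of_surjective _ (QuotientGroup.mk'_surjective T)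

end CenterMod

namespace MCData

variable {G : Type*} [Group G] {p : ℕ} {a b : G} {r : ℕ}

/-- every element acts on every element of `⟨a⟩` as a power `≡ 1 [MOD p]`. -/
theorem conj_mem_gen [hp : Fact p.Prime] (h : MCData p a b r) (g : G) {d : G} (hd : d ∈ zpowers a) :
    ∃ t : ℕ, t % p = 1 ∧ g * d * g⁻¹ = d ^ t := by
  obtain ⟨t, ht, hc⟩ := h.conj_gen g
  obtain ⟨k, rfl⟩ := Subgroup.mem_zpowers_iff.mp hd
  refine ⟨t, ht, ?_⟩
  have : g * a ^ k * g⁻¹ = (g * a * g⁻¹) ^ k := by simp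
  rw [this, hc, ← zpow_natCast, ← zpow_mul, mul_comm, zpow_mul, zpow_natCast]

theorem normal_zpowers_of_mem [hp : Fact p.Prime] (h : MCData p a b r) {d : G} (hd : d ∈ zpowers a) :
    (zpowers d).Normal :=
  normal_zpowers_of_conj fun g => by
    obtain ⟨t, -, ht⟩ := h.conj_mem_gen g hd
    exact ⟨t, ht⟩

theorem c_pow_mem_zpowers_a (s : ℕ) : (a ^ (r - 1)) ^ s ∈ zpowers a :=
  Subgroup.pow_mem _ c_mem_zpowers_a _

/-- coordinates pass to quotients -/
theorem quotient (h : MCData p a b r) (K : Subgroup G) [K.Normal] :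
    MCData p (QuotientGroup.mk a : G ⧸ K) (QuotientGroup.mk b : G ⧸ K) r where
  mod := h.mod
  conj := by
    have := congrArg (QuotientGroup.mk' K) h.conj
    simpa using this
  gen := by
    intro q
    obtain ⟨g, rfl⟩ := QuotientGroup.mk_surjective q
    obtain ⟨i, j, rfl⟩ := h.gen g
    exact ⟨i, j, by simp⟩

/-- `[y ^ (p ^ s), z] ∈ ⟨c ^ (p ^ s)⟩`. -/
theorem comm_pow_mem [hp : Fact p.Prime] (hp2 : p ≠ 2) (h : MCData p a b r) (s : ℕ) (y z : G) :
    y ^ p ^ s * z * (y ^ p ^ s)⁻¹ * z⁻¹ ∈ zpowers ((a ^ (r - 1)) ^ p ^ s) := by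
  have hd : y * z * y⁻¹ * z⁻¹ ∈ zpowers (a ^ (r - 1)) := h.comm_mem y z
  obtain ⟨t, ht, hc⟩ := h.conj_mem_gen y ((zpowers_le.mpr c_mem_zpowers_a) hd)
  rw [comm_pow_eq rfl hc (p ^ s)]
  obtain ⟨m, hm⟩ := (pow_dvd_gs_iff hp2 ht s (p ^ s)).mpr dvd_rfl
  obtain ⟨k, hk⟩ := Subgroup.mem_zpowers_iff.mp hd
  rw [hm, pow_mul, ← hk]
  apply Subgroup.pow_mem
  have h1 : ((a ^ (r - 1)) ^ k) ^ p ^ s = ((a ^ (r - 1)) ^ p ^ s) ^ k := by
    rw [← zpow_natCast ((a ^ (r - 1)) ^ k), ← zpow_mul, mul_comm, zpow_mul, zpow_natCast]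
  rw [h1]
  exact Subgroup.zpow_mem _ (Subgroup.mem_zpowers _) _

/-- the set of `p ^ s`-th powers, as in the statements. -/
theorem closure_pow_le_centerMod [hp : Fact p.Prime] (hp2 : p ≠ 2) (h : MCData p a b r) (s : ℕ)
    [hT : (zpowers ((a ^ (r - 1)) ^ p ^ s)).Normal] :
    closure {x : G | ∃ y : G, y ^ p ^ s = x} ≤ centerMod (zpowers ((a ^ (r - 1)) ^ p ^ s)) := by
  rw [Subgroup.closure_le]
  rintro _ ⟨y, rfl⟩
  rw [SetLike.mem_coe, mem_centerMod_iff]
  intro z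
  have h1 := Subgroup.inv_mem _ (h.comm_pow_mem hp2 s y z)
  have h2 : (y ^ p ^ s * z * (y ^ p ^ s)⁻¹ * z⁻¹)⁻¹ = z * y ^ p ^ s * z⁻¹ * (y ^ p ^ s)⁻¹ := by group
  rwa [h2] at h1

theorem centerMod_le_closure_pow [hp : Fact p.Prime] (hp2 : p ≠ 2) (h : MCData p a b r) {n s : ℕ}
    (hn : orderOf (a ^ (r - 1)) = p ^ n) (hs : s ≤ n)
    [hT : (zpowers ((a ^ (r - 1)) ^ p ^ s)).Normal] :
    centerMod (zpowers ((a ^ (r - 1)) ^ p ^ s)) ≤ closure {x : G | ∃ y : G, y ^ p ^ s = x} := by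
  intro g hg
  rw [centerMod, Subgroup.mem_comap, Subgroup.mem_center_iff] at hg
  obtain ⟨i, j, rfl⟩ := h.gen g
  set π := QuotientGroup.mk' (zpowers ((a ^ (r - 1)) ^ p ^ s)) with hπ
  have hcg : ∀ q, Commute (π (a ^ i * b ^ j)) q := fun q => (hg q).symm
  have h1 : Commute (π (b ^ j)) (π a) := by
    have e1 : π (b ^ j) = (π (a ^ i))⁻¹ * π (a ^ i * b ^ j) := by rw [map_mul]; group
    rw [e1]
    refine Commute.mul_left (Commute.inv_left ?_) (hcg _)
    rw [map_pow]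
    exact (Commute.refl _).pow_left i
  have h2 : Commute (π (a ^ i)) (π b) := by
    have e1 : π (a ^ i) = π (a ^ i * b ^ j) * (π (b ^ j))⁻¹ := by rw [map_mul]; group
    rw [e1]
    refine Commute.mul_left (hcg _) (Commute.inv_left ?_)
    rw [map_pow]
    exact (Commute.refl _).pow_left j
  have hj : p ^ s ∣ j := by
    have h3 : π (b ^ j * a * (b ^ j)⁻¹ * a⁻¹) = 1 := by
      rw [map_mul, map_mul, map_mul, map_inv, map_inv, mul_inv_eq_one, mul_inv_eq_iff_eq_mul]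
      exact h1.eq
    rw [hπ, QuotientGroup.mk'_apply, QuotientGroup.eq_one_iff, h.comm_b_pow,
      pow_mem_zpowers_pow_iff hn hs, pow_dvd_gs_iff hp2 h.mod] at h3
    exact h3
  have hi : p ^ s ∣ i := by
    have h3 : π (b * a ^ i * b⁻¹ * (a ^ i)⁻¹) = 1 := by
      rw [map_mul, map_mul, map_mul, map_inv, map_inv, mul_inv_eq_one, mul_inv_eq_iff_eq_mul]
      exact h2.symm.eq
    rw [hπ, QuotientGroup.mk'_apply, QuotientGroup.eq_one_iff, h.comm_a_pow,
      pow_mem_zpowers_pow_iff hn hs] at h3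
    exact h3
  obtain ⟨i', rfl⟩ := hi
  obtain ⟨j', rfl⟩ := hj
  refine Subgroup.mul_mem _ (Subgroup.subset_closure ⟨a ^ i', ?_⟩) (Subgroup.subset_closure ⟨b ^ j', ?_⟩)
  · rw [← pow_mul, mul_comm]
  · rw [← pow_mul, mul_comm]

theorem closure_pow_eq_centerMod [hp : Fact p.Prime] (hp2 : p ≠ 2) (h : MCData p a b r) {n s : ℕ}
    (hn : orderOf (a ^ (r - 1)) = p ^ n) (hs : s ≤ n)
    [hT : (zpowers ((a ^ (r - 1)) ^ p ^ s)).Normal] :
    closure {x : G | ∃ y : G, y ^ p ^ s = x} = centerMod (zpowers ((a ^ (r - 1)) ^ p ^ s)) :=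
  le_antisymm (h.closure_pow_le_centerMod hp2 s) (h.centerMod_le_closure_pow hp2 hn hs)

theorem orderOf_c_pow [hp : Fact p.Prime] {n s : ℕ}
    (hn : orderOf (a ^ (r - 1)) = p ^ n) (hs : s ≤ n) :
    orderOf ((a ^ (r - 1)) ^ p ^ s) = p ^ (n - s) := by
  rw [orderOf_pow' _ (pow_ne_zero _ hp.out.ne_zero), hn, Nat.gcd_eq_right (pow_dvd_pow p hs),
    Nat.pow_div hs hp.out.pos]

/-- class sizes: `g` is central modulo `⟨c ^ (p ^ s)⟩` iff its class has at most `p ^ (n - s)`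
elements. -/
theorem mem_centerMod_iff_index_le [Finite G] [hp : Fact p.Prime] (hp2 : p ≠ 2) (hG : IsPGroup p G)
    (h : MCData p a b r) {n s : ℕ} (hn : orderOf (a ^ (r - 1)) = p ^ n) (hs : s ≤ n)
    [hT : (zpowers ((a ^ (r - 1)) ^ p ^ s)).Normal] (g : G) :
    g ∈ centerMod (zpowers ((a ^ (r - 1)) ^ p ^ s)) ↔
      (centralizer ({g} : Set G)).index ≤ p ^ (n - s) := by
  constructor
  · intro hg
    have h1 := index_centralizer_le_card g _ ((mem_centerMod_iff _ g).mp hg)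
    rwa [Nat.card_zpowers, orderOf_c_pow hn hs] at h1
  · intro hidx
    by_contra hg
    rw [mem_centerMod_iff] at hg
    push Not at hg
    obtain ⟨y, hy⟩ := hg
    have hd : y * g * y⁻¹ * g⁻¹ ∈ zpowers (a ^ (r - 1)) := h.comm_mem y g
    obtain ⟨t, ht, hc⟩ := h.conj_mem_gen y ((zpowers_le.mpr c_mem_zpowers_a) hd)
    obtain ⟨u, hu⟩ := (IsPGroup.iff_orderOf.mp hG) (y * g * y⁻¹ * g⁻¹)
    rw [mem_zpowers_pow_iff hn hs hd, ← orderOf_dvd_iff_pow_eq_one, hu,
      Nat.pow_dvd_pow_iff_le_right hp.out.one_lt] at hy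
    have hle : p ^ u ≤ (centralizer ({g} : Set G)).index := by
      apply le_index_of_pow_mem _ y
      intro e he
      rw [Subgroup.mem_centralizer_singleton_iff] at he
      have h1 : y ^ e * g * (y ^ e)⁻¹ * g⁻¹ = 1 := by
        rw [mul_inv_eq_one, mul_inv_eq_iff_eq_mul]; exact he
      rw [comm_pow_eq rfl hc e, ← orderOf_dvd_iff_pow_eq_one, hu, pow_dvd_gs_iff hp2 ht] at h1
      exact h1
    have hlt : p ^ (n - s) < p ^ u := Nat.pow_lt_pow_right hp.out.one_lt (by omega)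
    omega

/-- `⟨c ^ (p ^ s)⟩`-central elements form a subgroup of index `p ^ (2 * s)`. -/
theorem index_centerMod_eq [Finite G] [hp : Fact p.Prime] (hp2 : p ≠ 2) (hG : IsPGroup p G)
    (h : MCData p a b r) {n s : ℕ} (hn : orderOf (a ^ (r - 1)) = p ^ n) (hs : s ≤ n)
    [hT : (zpowers ((a ^ (r - 1)) ^ p ^ s)).Normal] :
    (centerMod (zpowers ((a ^ (r - 1)) ^ p ^ s))).index = p ^ (2 * s) := by
  rw [index_centerMod, (h.quotient _).index_center hp2 (hG.to_quotient _),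
    (h.quotient _).commutator_eq, Nat.card_zpowers]
  have h1 : orderOf ((QuotientGroup.mk a : G ⧸ zpowers ((a ^ (r - 1)) ^ p ^ s)) ^ (r - 1)) = p ^ s := by
    apply orderOf_eq_of_forall_pow
    intro e
    rw [← QuotientGroup.mk_pow, ← QuotientGroup.mk_pow, QuotientGroup.eq_one_iff,
      pow_mem_zpowers_pow_iff hn hs]
  rw [h1, ← pow_mul, mul_comm]

end MCData

/-! ### Coordinate-free statements -/

section Main

variable {G : Type*} [Group G] [Finite G] {p : ℕ} [hp : Fact p.Prime]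

theorem orderOf_c_of_card_commutator {a b : G} {r : ℕ} (h : MCData p a b r) {n : ℕ}
    (hGn : Nat.card (commutator G) = p ^ n) : orderOf (a ^ (r - 1)) = p ^ n := by
  rw [← hGn, h.commutator_eq, Nat.card_zpowers]

/-- `g ∈ ℧_s(G)` iff the class of `g` has at most `p ^ (n - s)` elements. -/
theorem mem_closure_pow_iff (hp2 : p ≠ 2) (hG : IsPGroup p G) (hmc : Cfsg.IsMetacyclic G) {n : ℕ}
    (hGn : Nat.card (commutator G) = p ^ n) {s : ℕ} (hs : s ≤ n) (g : G) :
    g ∈ closure {x : G | ∃ y : G, y ^ p ^ s = x} ↔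
      (centralizer ({g} : Set G)).index ≤ p ^ (n - s) := by
  obtain ⟨a, b, r, h⟩ := exists_mcdata hG hmc
  have hn := orderOf_c_of_card_commutator h hGn
  have hT : (zpowers ((a ^ (r - 1)) ^ p ^ s)).Normal :=
    h.normal_zpowers_of_mem (MCData.c_pow_mem_zpowers_a _)
  rw [h.closure_pow_eq_centerMod hp2 hn hs, h.mem_centerMod_iff_index_le hp2 hG hn hs]

/-- `℧_s(G)` has index `p ^ (2 * s)`. -/
theorem index_closure_pow (hp2 : p ≠ 2) (hG : IsPGroup p G) (hmc : Cfsg.IsMetacyclic G) {n : ℕ}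
    (hGn : Nat.card (commutator G) = p ^ n) {s : ℕ} (hs : s ≤ n) :
    (closure {x : G | ∃ y : G, y ^ p ^ s = x}).index = p ^ (2 * s) := by
  obtain ⟨a, b, r, h⟩ := exists_mcdata hG hmc
  have hn := orderOf_c_of_card_commutator h hGn
  have hT : (zpowers ((a ^ (r - 1)) ^ p ^ s)).Normal :=
    h.normal_zpowers_of_mem (MCData.c_pow_mem_zpowers_a _)
  rw [h.closure_pow_eq_centerMod hp2 hn hs, h.index_centerMod_eq hp2 hG hn hs]

/-- `℧_n(G) = Z(G)`. -/
theorem closure_pow_eq_center (hp2 : p ≠ 2) (hG : IsPGroup p G) (hmc : Cfsg.IsMetacyclic G) {n : ℕ}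
    (hGn : Nat.card (commutator G) = p ^ n) :
    closure {x : G | ∃ y : G, y ^ p ^ n = x} = center G := by
  obtain ⟨a, b, r, h⟩ := exists_mcdata hG hmc
  have hn := orderOf_c_of_card_commutator h hGn
  have hT : (zpowers ((a ^ (r - 1)) ^ p ^ n)).Normal :=
    h.normal_zpowers_of_mem (MCData.c_pow_mem_zpowers_a _)
  rw [h.closure_pow_eq_centerMod hp2 hn le_rfl]
  ext g
  rw [mem_centerMod_iff, Subgroup.mem_center_iff]
  have h1 : (a ^ (r - 1)) ^ p ^ n = 1 := by rw [← hn, pow_orderOf_eq_one]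
  simp only [h1, Subgroup.zpowers_one_eq_bot, Subgroup.mem_bot, mul_inv_eq_iff_eq_mul, one_mul]

end Main

end Cfsg.Agent.Helper65
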