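import Cfsg.Agent.Helper65.Metacyclic3
import Cfsg.Prelude.Def_BaumannBlocks

/-!
# Metacyclic `p`-groups, `p` odd: centrally large subgroups
-/

set_option autoImplicit false

namespace Cfsg.Agent.Helper65

open Subgroup

section Main

variable {G : Type*} [Group G] [Finite G] {p : ℕ} [hp : Fact p.Prime]

/-- `|R| · |Z(R)|` in terms of the exponents. -/
theorem card_mul_card_center (hp2 : p ≠ 2) (hG : IsPGroup p G) (hmc : Cfsg.IsMetacyclic G)
    (R : Subgroup G) {n u : ℕ} (hn : Nat.card (commutator G) = p ^ n) (hu : R.index = p ^ u) :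
    (u ≤ n → Nat.card R * Nat.card (center R) = (commutator G).index ^ 2) ∧
      (n < u → Nat.card R * Nat.card (center R) < (commutator G).index ^ 2) := by
  have hpp : p.Prime := hp.out
  have hR' := card_commutator_subgroup hp2 hG hmc hn u R hu
  have E1 := Subgroup.card_mul_index R
  rw [hu] at E1
  have E2 := Subgroup.card_mul_index (center R)
  rw [index_center_of_isMetacyclic hp2 (hG.to_subgroup R) (isMetacyclic_subgroup hmc R), hR'] at E2
  have E4 := Subgroup.card_mul_index (commutator G)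
  rw [hn] at E4
  set D := (commutator G).index with hD
  set z := Nat.card (center R) with hz
  set c := Nat.card R with hc
  have key : c * z * (p ^ (n - u)) ^ 2 * (p ^ u) ^ 2 = (p ^ n) ^ 2 * D ^ 2 := by
    calc c * z * (p ^ (n - u)) ^ 2 * (p ^ u) ^ 2 = c * (z * (p ^ (n - u)) ^ 2) * (p ^ u) ^ 2 := by ring
      _ = c * c * (p ^ u) ^ 2 := by rw [E2]
      _ = (c * p ^ u) ^ 2 := by ring
      _ = (p ^ n * D) ^ 2 := by rw [E1, E4]
      _ = (p ^ n) ^ 2 * D ^ 2 := by ring
  constructor
  · intro hle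
    have h1 : (p ^ (n - u)) ^ 2 * (p ^ u) ^ 2 = (p ^ n) ^ 2 := by
      rw [← mul_pow, ← pow_add, Nat.sub_add_cancel hle]
    have h2 : c * z * (p ^ n) ^ 2 = D ^ 2 * (p ^ n) ^ 2 := by
      calc c * z * (p ^ n) ^ 2 = c * z * ((p ^ (n - u)) ^ 2 * (p ^ u) ^ 2) := by rw [h1]
        _ = c * z * (p ^ (n - u)) ^ 2 * (p ^ u) ^ 2 := by ring
        _ = (p ^ n) ^ 2 * D ^ 2 := key
        _ = D ^ 2 * (p ^ n) ^ 2 := mul_comm _ _
    exact Nat.eq_of_mul_eq_mul_right (pow_pos (pow_pos hpp.pos n) 2) h2
  · intro hlt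
    have h0 : n - u = 0 := by omega
    rw [h0, pow_zero, one_pow, mul_one] at key
    have h1 : (p ^ n) ^ 2 < (p ^ u) ^ 2 :=
      Nat.pow_lt_pow_left (Nat.pow_lt_pow_right hpp.one_lt hlt) (by norm_num)
    have hDpos : 0 < D ^ 2 := pow_pos (Nat.pos_of_ne_zero Subgroup.index_ne_zero_of_finite) 2
    have h2 : c * z * (p ^ u) ^ 2 < D ^ 2 * (p ^ u) ^ 2 := by
      rw [key, mul_comm]
      exact Nat.mul_lt_mul_of_pos_left h1 hDpos
    exact Nat.lt_of_mul_lt_mul_right h2

theorem card_mul_card_center_le (hp2 : p ≠ 2) (hG : IsPGroup p G) (hmc : Cfsg.IsMetacyclic G)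
    (R : Subgroup G) : Nat.card R * Nat.card (center R) ≤ (commutator G).index ^ 2 := by
  obtain ⟨n, u, hn, hu, -⟩ := exists_exponents hp2 hG hmc R
  obtain ⟨h1, h2⟩ := card_mul_card_center hp2 hG hmc R hn hu
  rcases le_or_gt u n with h | h
  · exact (h1 h).le
  · exact (h2 h).le

theorem maxCentralProduct_eq (hp2 : p ≠ 2) (hG : IsPGroup p G) (hmc : Cfsg.IsMetacyclic G) :
    Cfsg.maxCentralProduct G = (commutator G).index ^ 2 := by
  apply IsGreatest.csSup_eq
  constructor
  · obtain ⟨n, hn⟩ : ∃ n, Nat.card (commutator G) = p ^ n :=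
      IsPGroup.iff_card.mp (hG.to_subgroup _)
    refine ⟨⊤, ?_⟩
    exact (card_mul_card_center hp2 hG hmc ⊤ hn (u := 0) (by simp)).1 (Nat.zero_le _)
  · rintro k ⟨R, rfl⟩
    exact card_mul_card_center_le hp2 hG hmc R

theorem isCentrallyLarge_iff (hp2 : p ≠ 2) (hG : IsPGroup p G) (hmc : Cfsg.IsMetacyclic G)
    (R : Subgroup G) : Cfsg.IsCentrallyLarge R ↔
      (¬ IsMulCommutative R ∨ Maximal (fun K : Subgroup G => IsMulCommutative K) R) := by
  have hpp : p.Prime := hp.out
  obtain ⟨n, u, hn, hu, hR'⟩ := exists_exponents hp2 hG hmc R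
  obtain ⟨h1, h2⟩ := card_mul_card_center hp2 hG hmc R hn hu
  have hcomm : IsMulCommutative R ↔ n ≤ u := by
    rw [isMulCommutative_iff_card_commutator, hR']
    constructor
    · intro h
      by_contra hne
      have : 1 < p ^ (n - u) := Nat.one_lt_pow (by omega) hpp.one_lt
      omega
    · intro h
      have : n - u = 0 := by omega
      rw [this, pow_zero]
  have hmax : Maximal (fun K : Subgroup G => IsMulCommutative K) R ↔ u = n := by
    rw [maximal_isMulCommutative_iff hp2 hG hmc]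
    have E1 := Subgroup.card_mul_index R
    rw [hu] at E1
    have E4 := Subgroup.card_mul_index (commutator G)
    rw [hn] at E4
    constructor
    · intro h
      rw [h, ← E4, mul_comm] at E1
      have := Nat.eq_of_mul_eq_mul_right (Nat.pos_of_ne_zero Subgroup.index_ne_zero_of_finite) E1
      exact Nat.pow_right_injective hpp.two_le this
    · intro h
      subst h
      rw [← E4, mul_comm] at E1
      exact Nat.eq_of_mul_eq_mul_left (pow_pos hpp.pos u) E1
  rw [Cfsg.IsCentrallyLarge, maxCentralProduct_eq hp2 hG hmc, hcomm, hmax]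
  constructor
  · intro h
    by_contra hcon
    push Not at hcon
    have hlt : n < u := lt_of_le_of_ne hcon.1 (Ne.symm hcon.2)
    have := h2 hlt
    omega
  · intro h
    apply h1
    omega

end Main

end Cfsg.Agent.Helper65
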