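import Cfsg.Agent.Helper65.Metacyclic3
import Cfsg.Prelude.Def_BaumannBlocks

/-!
# Metacyclic `p`-groups, `p` odd: the measure `|R| · |C_G(R)|`

If `R₀ ≤ R` are subgroups of a metacyclic `p`-group `G` (`p` odd) then
`|R₀| · |C_G(R₀)| ≤ |R| · |C_G(R)|`.  Hence `|R| · |C_G(R)| = |G| · |Z(G)|` whenever `Z(G) ≤ R`, and such
`R` are their own double centralizers.
-/

set_option autoImplicit false

namespace Cfsg.Agent.Helper65

open Subgroup

section General

variable {G : Type*} [Group G]

/-- relative class-size bound: if all `[y, x]`, `y ∈ H`, lie in `T`, then `|H| ≤ |T| · |C_H(x)|`. -/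
theorem card_le_card_mul_card_inf_centralizer [Finite G] (H T : Subgroup G) (x : G)
    (h : ∀ y ∈ H, y * x * y⁻¹ * x⁻¹ ∈ T) :
    Nat.card H ≤ Nat.card T * Nat.card (H ⊓ centralizer ({x} : Set G) : Subgroup G) := by
  set K : Subgroup H := (centralizer ({x} : Set G)).subgroupOf H with hK
  have h1 : Nat.card K * K.index = Nat.card H := Subgroup.card_mul_index K
  have h3 : Nat.card K = Nat.card (H ⊓ centralizer ({x} : Set G) : Subgroup G) := by
    rw [hK, ← Subgroup.inf_subgroupOf_left]
    exact Nat.card_congr (Subgroup.subgroupOfEquivOfLe inf_le_left).toEquiv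
  have h2 : K.index ≤ Nat.card T := by
    rw [Subgroup.index_eq_card]
    let φ : H ⧸ K → T := fun q =>
      Quotient.liftOn' q (fun y => (⟨(y : G) * x * (y : G)⁻¹ * x⁻¹, h y y.2⟩ : T)) (by
        intro y₁ y₂ hy
        rw [QuotientGroup.leftRel_apply, hK, Subgroup.mem_subgroupOf,
          Subgroup.mem_centralizer_singleton_iff] at hy
        apply Subtype.ext
        simp only
        have hy' : (y₁ : G)⁻¹ * (y₂ : G) * x = x * ((y₁ : G)⁻¹ * (y₂ : G)) := by
          simpa using hy
        have e1 : (y₂ : G) * x * (y₂ : G)⁻¹ = (y₁ : G) * x * (y₁ : G)⁻¹ := by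
          have : (y₂ : G) = (y₁ : G) * ((y₁ : G)⁻¹ * (y₂ : G)) := by group
          rw [this, mul_assoc (y₁ : G), mul_assoc (y₁ : G), hy']; group
        rw [e1])
    apply Nat.card_le_card_of_injective φ
    intro q₁ q₂
    induction q₁ using QuotientGroup.induction_on with | _ y₁ => ?_
    induction q₂ using QuotientGroup.induction_on with | _ y₂ => ?_
    intro hφ
    have e1 : (y₁ : G) * x * (y₁ : G)⁻¹ * x⁻¹ = (y₂ : G) * x * (y₂ : G)⁻¹ * x⁻¹ :=
      congrArg Subtype.val hφ
    rw [QuotientGroup.eq, hK, Subgroup.mem_subgroupOf, Subgroup.mem_centralizer_singleton_iff]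
    have e2 : (y₁ : G) * x * (y₁ : G)⁻¹ = (y₂ : G) * x * (y₂ : G)⁻¹ := mul_right_cancel e1
    simp only [Subgroup.coe_mul, Subgroup.coe_inv]
    calc (y₁ : G)⁻¹ * (y₂ : G) * x = (y₁ : G)⁻¹ * ((y₂ : G) * x * (y₂ : G)⁻¹) * (y₂ : G) := by group
      _ = (y₁ : G)⁻¹ * ((y₁ : G) * x * (y₁ : G)⁻¹) * (y₂ : G) := by rw [e2]
      _ = x * ((y₁ : G)⁻¹ * (y₂ : G)) := by group
  calc Nat.card H = Nat.card K * K.index := h1.symm
    _ ≤ Nat.card K * Nat.card T := Nat.mul_le_mul_left _ h2
    _ = Nat.card T * Nat.card (H ⊓ centralizer ({x} : Set G) : Subgroup G) := by rw [h3, mul_comm]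

theorem card_subgroupOf_of_le {A B : Subgroup G} (h : A ≤ B) :
    Nat.card (A.subgroupOf B) = Nat.card A :=
  Nat.card_congr (Subgroup.subgroupOfEquivOfLe h).toEquiv

theorem relIndex_mul_card {A B : Subgroup G} (h : A ≤ B) :
    A.relIndex B * Nat.card A = Nat.card B := by
  rw [Subgroup.relIndex, ← card_subgroupOf_of_le h, mul_comm]
  exact Subgroup.card_mul_index _

/-- chains of index-`p` steps in a finite `p`-group: a function on subgroups that is monotone along
index-`p` steps is monotone. -/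
theorem monotone_of_index_p_steps [Finite G] {p : ℕ} [hp : Fact p.Prime] (hG : IsPGroup p G)
    (f : Subgroup G → ℕ)
    (hstep : ∀ A B : Subgroup G, A ≤ B → A.relIndex B = p → f A ≤ f B) :
    ∀ A B : Subgroup G, A ≤ B → f A ≤ f B := by
  have hpp : p.Prime := hp.out
  have key : ∀ t : ℕ, ∀ A B : Subgroup G, A ≤ B → Nat.card B = Nat.card A * p ^ t → f A ≤ f B := by
    intro t
    induction t with
    | zero =>
      intro A B hAB hcard
      rw [pow_zero, mul_one] at hcard
      have : A = B := Subgroup.eq_of_le_of_card_ge hAB hcard.le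
      rw [this]
    | succ t ih =>
      intro A B hAB hcard
      obtain ⟨l, hl⟩ := IsPGroup.iff_card.mp (hG.to_subgroup A)
      have hA' : Nat.card (A.subgroupOf B) = p ^ l := by rw [card_subgroupOf_of_le hAB, hl]
      have hdvd : p ^ (l + 1) ∣ Nat.card B := by
        rw [hcard, hl, ← pow_add]
        exact pow_dvd_pow p (by omega)
      obtain ⟨K', hK'card, hAK'⟩ := Sylow.exists_subgroup_card_pow_succ hdvd hA'
      set K := K'.map B.subtype with hK
      have hKB : K ≤ B := Subgroup.map_subtype_le K'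
      have hAK : A ≤ K := by
        intro x hx
        exact ⟨⟨x, hAB hx⟩, hAK' (Subgroup.mem_subgroupOf.mpr hx), rfl⟩
      have hKcard : Nat.card K = p ^ (l + 1) := by
        rw [hK, Subgroup.card_map_of_injective B.subtype_injective, hK'card]
      have hrel : A.relIndex K = p := by
        have := relIndex_mul_card hAK
        rw [hKcard, hl, pow_succ, mul_comm] at this
        exact Nat.eq_of_mul_eq_mul_left (pow_pos hpp.pos l) this
      have hBK : Nat.card B = Nat.card K * p ^ t := by
        rw [hcard, hKcard, hl]; ring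
      exact (hstep A K hAK hrel).trans (ih K B hKB hBK)
  intro A B hAB
  obtain ⟨t, ht⟩ : ∃ t, Nat.card B = Nat.card A * p ^ t := by
    have h1 := relIndex_mul_card hAB
    obtain ⟨k, hk⟩ := IsPGroup.iff_card.mp (hG.to_subgroup B)
    have hdvd : A.relIndex B ∣ p ^ k := by rw [← hk, ← h1]; exact Dvd.intro _ rfl
    obtain ⟨t, -, ht⟩ := (Nat.dvd_prime_pow hpp).mp hdvd
    exact ⟨t, by rw [← h1, ht, mul_comm]⟩
  exact key t A B hAB ht

end General

namespace MCData

variable {G : Type*} [Group G] {p : ℕ} {a b : G} {r : ℕ}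

/-- the subgroup `Ω₁(G')`, in coordinates. -/
theorem exists_omega_c [Finite G] [hp : Fact p.Prime] (hG : IsPGroup p G) (a : G) (r : ℕ) :
    ∃ T : Subgroup G, Nat.card T ≤ p ∧ ∀ d ∈ zpowers (a ^ (r - 1)), d ^ p = 1 → d ∈ T := by
  obtain ⟨n, hn⟩ := exists_orderOf_c hG a r
  rcases Nat.eq_zero_or_pos n with h0 | h0
  · subst h0
    rw [pow_zero, orderOf_eq_one_iff] at hn
    refine ⟨⊥, by rw [Subgroup.card_bot]; exact hp.out.pos, ?_⟩
    intro d hd _
    rw [hn, Subgroup.zpowers_one_eq_bot] at hd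
    exact hd
  · refine ⟨zpowers ((a ^ (r - 1)) ^ p ^ (n - 1)), ?_, ?_⟩
    · rw [Nat.card_zpowers, orderOf_c_pow hn (Nat.sub_le n 1)]
      have : n - (n - 1) = 1 := by omega
      rw [this, pow_one]
    · intro d hd hdp
      rw [mem_zpowers_pow_iff hn (Nat.sub_le n 1) hd]
      have : n - (n - 1) = 1 := by omega
      rw [this, pow_one]
      exact hdp

/-- the step: if `|R : R₀| = p` then `|C_G(R₀)| ≤ p · |C_G(R)|`. -/
theorem card_centralizer_le_of_relIndex [Finite G] [hp : Fact p.Prime] (hp2 : p ≠ 2)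
    (hG : IsPGroup p G) (h : MCData p a b r) {R₀ R : Subgroup G} (hle : R₀ ≤ R)
    (hidx : R₀.relIndex R = p) :
    Nat.card (centralizer (R₀ : Set G)) ≤ p * Nat.card (centralizer (R : Set G)) := by
  have hpp : p.Prime := hp.out
  have hnot : ¬ R ≤ R₀ := by
    intro hRR
    rw [← Subgroup.relIndex_eq_one, hidx] at hRR
    exact hpp.ne_one hRR
  obtain ⟨x, hxR, hxR₀⟩ := SetLike.not_le_iff_exists.mp hnot
  have hxp : x ^ p ∈ R₀ := by
    have hnorm : (R₀.subgroupOf R).Normal := normal_of_index_eq_p (hG.to_subgroup R) hidx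
    have h1 := (R₀.subgroupOf R).pow_index_mem ⟨x, hxR⟩
    rw [show (R₀.subgroupOf R).index = p from hidx, Subgroup.mem_subgroupOf] at h1
    simpa using h1
  obtain ⟨T, hT2, hT1⟩ := exists_omega_c hG a r
  have key : ∀ y ∈ centralizer (R₀ : Set G), y * x * y⁻¹ * x⁻¹ ∈ T := by
    intro y hy
    have hd : x * y * x⁻¹ * y⁻¹ ∈ zpowers (a ^ (r - 1)) := h.comm_mem x y
    obtain ⟨ρ, hρ, hc⟩ := h.conj_mem_gen x ((zpowers_le.mpr c_mem_zpowers_a) hd)
    have h1 := comm_pow_eq rfl hc p
    have h2 : x ^ p * y * (x ^ p)⁻¹ * y⁻¹ = 1 := by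
      rw [mul_inv_eq_one, mul_inv_eq_iff_eq_mul]
      exact (Subgroup.mem_centralizer_iff.mp hy) _ hxp
    obtain ⟨w, hw⟩ := (IsPGroup.iff_orderOf.mp hG) (x * y * x⁻¹ * y⁻¹)
    rw [h1, ← orderOf_dvd_iff_pow_eq_one, hw, pow_dvd_gs_iff hp2 hρ, ← hw,
      orderOf_dvd_iff_pow_eq_one] at h2
    have h3 : y * x * y⁻¹ * x⁻¹ = (x * y * x⁻¹ * y⁻¹)⁻¹ := by group
    rw [h3]
    exact T.inv_mem (hT1 _ hd h2)
  have h3 := card_le_card_mul_card_inf_centralizer (centralizer (R₀ : Set G)) T x key
  have h4 : centralizer (R₀ : Set G) ⊓ centralizer ({x} : Set G) ≤ centralizer (R : Set G) := by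
    intro y hy
    obtain ⟨hy1, hy2⟩ := Subgroup.mem_inf.mp hy
    set K := R ⊓ centralizer ({y} : Set G) with hK
    have hR₀K : R₀ ≤ K := by
      intro z hz
      refine Subgroup.mem_inf.mpr ⟨hle hz, ?_⟩
      rw [Subgroup.mem_centralizer_singleton_iff]
      exact ((Subgroup.mem_centralizer_iff.mp hy1) z hz)
    have hxK : x ∈ K := by
      refine Subgroup.mem_inf.mpr ⟨hxR, ?_⟩
      rw [Subgroup.mem_centralizer_singleton_iff]
      exact (Subgroup.mem_centralizer_singleton_iff.mp hy2).symm
    have hKR : K ≤ R := inf_le_left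
    have hRK : R ≤ K := by
      have e := Subgroup.relIndex_mul_relIndex R₀ K R hR₀K hKR
      rw [hidx] at e
      have h1 : R₀.relIndex K ≠ 1 := by
        rw [Ne, Subgroup.relIndex_eq_one]
        intro hKR₀
        exact hxR₀ (hKR₀ hxK)
      have h2 := (Nat.Prime.eq_one_or_self_of_dvd hpp (R₀.relIndex K) ⟨_, e.symm⟩).resolve_left h1
      rw [h2] at e
      have h5 : K.relIndex R = 1 := by
        have : p * K.relIndex R = p * 1 := by rw [e, mul_one]
        exact Nat.eq_of_mul_eq_mul_left hpp.pos this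
      exact Subgroup.relIndex_eq_one.mp h5
    rw [Subgroup.mem_centralizer_iff]
    intro z hz
    have := (Subgroup.mem_inf.mp (hRK hz)).2
    rw [Subgroup.mem_centralizer_singleton_iff] at this
    exact this
  calc Nat.card (centralizer (R₀ : Set G))
      ≤ Nat.card T * Nat.card (centralizer (R₀ : Set G) ⊓ centralizer ({x} : Set G) : Subgroup G) := h3
    _ ≤ p * Nat.card (centralizer (R : Set G)) :=
        Nat.mul_le_mul hT2 (Subgroup.card_le_of_le h4)

end MCData

section Main

variable {G : Type*} [Group G] [Finite G] {p : ℕ} [hp : Fact p.Prime]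

/-- **Monotonicity of the measure** `|R| · |C_G(R)|`. -/
theorem card_mul_card_centralizer_mono (hp2 : p ≠ 2) (hG : IsPGroup p G)
    (hmc : Cfsg.IsMetacyclic G) {R₀ R : Subgroup G} (hle : R₀ ≤ R) :
    Nat.card R₀ * Nat.card (centralizer (R₀ : Set G)) ≤
      Nat.card R * Nat.card (centralizer (R : Set G)) := by
  obtain ⟨a, b, r, h⟩ := exists_mcdata hG hmc
  refine monotone_of_index_p_steps hG
    (fun R : Subgroup G => Nat.card R * Nat.card (centralizer (R : Set G))) ?_ R₀ R hle
  intro A B hAB hrel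
  have h1 := h.card_centralizer_le_of_relIndex hp2 hG hAB hrel
  have h2 := relIndex_mul_card hAB
  rw [hrel] at h2
  calc Nat.card A * Nat.card (centralizer (A : Set G))
      ≤ Nat.card A * (p * Nat.card (centralizer (B : Set G))) := Nat.mul_le_mul_left _ h1
    _ = Nat.card B * Nat.card (centralizer (B : Set G)) := by rw [← h2]; ring

theorem card_mul_card_centralizer_le (hp2 : p ≠ 2) (hG : IsPGroup p G)
    (hmc : Cfsg.IsMetacyclic G) (R : Subgroup G) :
    Nat.card R * Nat.card (centralizer (R : Set G)) ≤ Nat.card G * Nat.card (center G) := by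
  have h1 := card_mul_card_centralizer_mono hp2 hG hmc (le_top : R ≤ ⊤)
  rwa [Subgroup.coe_top, Subgroup.centralizer_univ, Subgroup.card_top] at h1

/-- **(★)** if `Z(G) ≤ R` then `|R| · |C_G(R)| = |G| · |Z(G)|`. -/
theorem card_mul_card_centralizer_eq (hp2 : p ≠ 2) (hG : IsPGroup p G)
    (hmc : Cfsg.IsMetacyclic G) {R : Subgroup G} (hZ : center G ≤ R) :
    Nat.card R * Nat.card (centralizer (R : Set G)) = Nat.card G * Nat.card (center G) := by
  apply le_antisymm (card_mul_card_centralizer_le hp2 hG hmc R)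
  have h1 := card_mul_card_centralizer_mono hp2 hG hmc hZ
  have h2 : centralizer ((center G : Subgroup G) : Set G) = ⊤ := by
    rw [Subgroup.centralizer_eq_top_iff_subset]
  rw [h2, Subgroup.card_top, mul_comm] at h1
  exact h1

/-- double centralizers of subgroups containing the centre. -/
theorem centralizer_centralizer_eq (hp2 : p ≠ 2) (hG : IsPGroup p G)
    (hmc : Cfsg.IsMetacyclic G) {R : Subgroup G} (hZ : center G ≤ R) :
    centralizer (centralizer (R : Set G) : Set G) = R := by
  have h1 := card_mul_card_centralizer_eq hp2 hG hmc hZ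
  have h2 := card_mul_card_centralizer_eq hp2 hG hmc
    (Subgroup.center_le_centralizer (R : Set G))
  have hle : R ≤ centralizer (centralizer (R : Set G) : Set G) :=
    Subgroup.le_centralizer_iff.mp le_rfl
  symm
  apply Subgroup.eq_of_le_of_card_ge hle
  have hpos : 0 < Nat.card (centralizer (R : Set G)) := Nat.card_pos
  have h3 : Nat.card (centralizer (R : Set G)) *
      Nat.card (centralizer (centralizer (R : Set G) : Set G)) =
      Nat.card (centralizer (R : Set G)) * Nat.card R := by
    rw [h2, ← h1, mul_comm]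
  exact (Nat.eq_of_mul_eq_mul_left hpos h3).le

/-- an abelian subgroup containing the centre is the centre of its centralizer. -/
theorem eq_center_centralizer (hp2 : p ≠ 2) (hG : IsPGroup p G)
    (hmc : Cfsg.IsMetacyclic G) (K : Subgroup G) (hK : IsMulCommutative K) (hZ : center G ≤ K) :
    K = centralizer (K : Set G) ⊓ centralizer (centralizer (K : Set G) : Set G) := by
  rw [centralizer_centralizer_eq hp2 hG hmc hZ]
  exact (inf_eq_right.mpr K.le_centralizer).symm

theorem maxCentralizerProduct_eq (hp2 : p ≠ 2) (hG : IsPGroup p G) (hmc : Cfsg.IsMetacyclic G) :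
    Cfsg.maxCentralizerProduct G = Nat.card G * Nat.card (center G) := by
  apply IsGreatest.csSup_eq
  constructor
  · refine ⟨⊤, ?_⟩
    rw [Subgroup.coe_top, Subgroup.centralizer_univ, Subgroup.card_top]
  · rintro k ⟨R, rfl⟩
    exact card_mul_card_centralizer_le hp2 hG hmc R

theorem isCentralizerLarge_iff (hp2 : p ≠ 2) (hG : IsPGroup p G) (hmc : Cfsg.IsMetacyclic G)
    (R : Subgroup G) : Cfsg.IsCentralizerLarge R ↔ center G ≤ R := by
  rw [Cfsg.IsCentralizerLarge, maxCentralizerProduct_eq hp2 hG hmc]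
  constructor
  · intro h
    have hC : centralizer ((R ⊔ center G : Subgroup G) : Set G) = centralizer (R : Set G) := by
      apply le_antisymm
      · exact Subgroup.centralizer_le (by exact_mod_cast (le_sup_left : R ≤ R ⊔ center G))
      · rw [Subgroup.le_centralizer_iff]
        exact sup_le (Subgroup.le_centralizer_iff.mp le_rfl) (Subgroup.center_le_centralizer _)
    have h1 := card_mul_card_centralizer_le hp2 hG hmc (R ⊔ center G)
    rw [hC, ← h] at h1
    have hpos : 0 < Nat.card (centralizer (R : Set G)) := Nat.card_pos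
    have h2 : Nat.card (R ⊔ center G : Subgroup G) ≤ Nat.card R := Nat.le_of_mul_le_mul_right h1 hpos
    have h3 : R = R ⊔ center G := Subgroup.eq_of_le_of_card_ge le_sup_left h2
    rw [h3]
    exact le_sup_right
  · intro hZ
    exact card_mul_card_centralizer_eq hp2 hG hmc hZ

end Main

end Cfsg.Agent.Helper65
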