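import Cfsg.Agent.Helper65.Metacyclic7
import Cfsg.Agent.Helper65.Metacyclic6
import Cfsg.Prelude.Def_PLocal
import Cfsg.Prelude.Def_Transfer

/-!
# Metacyclic `p`-groups, `p` odd: `Ω₁` of a non-cyclic group is elementary abelian of order `p ^ 2`
-/

set_option autoImplicit false

namespace Cfsg.Agent.Helper65

open Subgroup

namespace MCData

variable {G : Type*} [Group G] {p : ℕ} {a b : G} {r : ℕ}

theorem isCyclic_of_forall_mem_zpowers {x : G} (h : ∀ g : G, g ∈ zpowers x) : IsCyclic G :=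
  ⟨⟨x, h⟩⟩

/-- `Ω₁(G)` for non-cyclic `G`, in coordinates. -/
theorem omega_one [Finite G] [hp : Fact p.Prime] (hp2 : p ≠ 2) (hG : IsPGroup p G)
    (h : MCData p a b r) (hnc : ¬ IsCyclic G) :
    ∃ z₀ x₀ : G, z₀ * x₀ = x₀ * z₀ ∧ z₀ ^ p = 1 ∧ x₀ ^ p = 1 ∧
      zpowers z₀ ⊓ zpowers x₀ = ⊥ ∧ orderOf z₀ = p ∧ orderOf x₀ = p ∧ z₀ ∈ center G ∧
      ∀ x : G, x ^ p = 1 → x ∈ closure ({z₀, x₀} : Set G) := by
  have hpp : p.Prime := hp.out
  obtain ⟨k, hk, hcard⟩ := h.exists_k hG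
  obtain ⟨m, hm⟩ := (IsPGroup.iff_orderOf.mp hG) a
  have hapm : a ^ p ^ m = 1 := by rw [← hm, pow_orderOf_eq_one]
  -- k ≥ 1
  have hk0 : k ≠ 0 := by
    rintro rfl
    apply hnc
    apply isCyclic_of_forall_mem_zpowers (x := a)
    intro g
    obtain ⟨i, j, rfl⟩ := h.gen g
    exact Subgroup.mul_mem _ (Subgroup.pow_mem _ (Subgroup.mem_zpowers a) _)
      ((hk j).mpr (by simp))
  -- m ≥ 1
  have hm0 : m ≠ 0 := by
    rintro rfl
    rw [pow_zero, orderOf_eq_one_iff] at hm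
    apply hnc
    apply isCyclic_of_forall_mem_zpowers (x := b)
    intro g
    obtain ⟨i, j, rfl⟩ := h.gen g
    rw [hm, one_pow, one_mul]
    exact Subgroup.pow_mem _ (Subgroup.mem_zpowers b) _
  -- z = b ^ (p ^ k) = a ^ w with p ∣ w
  have hz : b ^ p ^ k ∈ zpowers a := (hk _).mpr dvd_rfl
  obtain ⟨w, hw0, hw⟩ : ∃ w : ℕ, w ≠ 0 ∧ a ^ w = b ^ p ^ k := by
    rw [← mem_powers_iff_mem_zpowers] at hz
    obtain ⟨w₀, hw₀⟩ := hz
    refine ⟨w₀ + p ^ m, by have := pow_pos hpp.pos m; omega, ?_⟩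
    rw [pow_add, hapm, mul_one]
    exact hw₀
  have hpw : p ∣ w := by
    by_contra hnd
    apply hnc
    apply isCyclic_of_forall_mem_zpowers (x := b)
    have h1 : zpowers (a ^ w) = zpowers a := by
      apply zpowers_pow_eq_of_coprime
      rw [hm]
      exact Nat.Coprime.pow_left m ((Nat.Prime.coprime_iff_not_dvd hpp).mpr hnd)
    have h2 : a ∈ zpowers b := by
      have : a ∈ zpowers (a ^ w) := by rw [h1]; exact Subgroup.mem_zpowers a
      rw [hw] at this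
      exact (zpowers_le.mpr (Subgroup.pow_mem _ (Subgroup.mem_zpowers b) _)) this
    intro g
    obtain ⟨i, j, rfl⟩ := h.gen g
    exact Subgroup.mul_mem _ (Subgroup.pow_mem _ h2 _) (Subgroup.pow_mem _ (Subgroup.mem_zpowers b) _)
  -- b₁
  set b₁ := b ^ p ^ (k - 1) with hb₁
  have hb₁p : b₁ ^ p = b ^ p ^ k := by
    rw [hb₁, ← pow_mul, ← pow_succ, Nat.sub_add_cancel (Nat.one_le_iff_ne_zero.mpr hk0)]
  have hb₁mem : ∀ e : ℕ, b₁ ^ e ∈ zpowers a ↔ p ∣ e := by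
    intro e
    rw [hb₁, ← pow_mul, hk]
    have : p ^ k = p ^ (k - 1) * p := by
      rw [← pow_succ, Nat.sub_add_cancel (Nat.one_le_iff_ne_zero.mpr hk0)]
    rw [this, Nat.mul_dvd_mul_iff_left (pow_pos hpp.pos _)]
  have hconj₁ := h.conj_b_pow (p ^ (k - 1))
  have hρ₁ : r ^ p ^ (k - 1) % p = 1 := h.pow_mod _
  have h1 : zpowers (a ^ gs (r ^ p ^ (k - 1)) p) = zpowers (a ^ p) := by
    apply zpowers_pow_eq_of_padicValNat_eq hG a (gs_ne_zero hpp.ne_zero) hpp.ne_zero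
    rw [padicValNat_gs hp2 hρ₁ hpp.ne_zero]
  have h2 : (b ^ p ^ k)⁻¹ ∈ zpowers (a ^ gs (r ^ p ^ (k - 1)) p) := by
    rw [h1, ← hw]
    apply Subgroup.inv_mem
    obtain ⟨w₁, rfl⟩ := hpw
    rw [pow_mul]
    exact Subgroup.pow_mem _ (Subgroup.mem_zpowers _) _
  rw [← mem_powers_iff_mem_zpowers] at h2
  obtain ⟨i, hi⟩ := h2
  have hi : (a ^ gs (r ^ p ^ (k - 1)) p) ^ i = (b ^ p ^ k)⁻¹ := hi
  set x₀ := a ^ i * b₁ with hx₀
  have hx₀p : x₀ ^ p = 1 := by
    rw [hx₀, mul_pow_eq hconj₁, mul_comm i, pow_mul, hi, hb₁p, inv_mul_cancel]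
  have hx₀mem : ∀ e : ℕ, x₀ ^ e ∈ zpowers a ↔ p ∣ e := by
    intro e
    rw [hx₀, mul_pow_mem_iff hconj₁, hb₁mem]
  have hx₀ord : orderOf x₀ = p := by
    apply orderOf_eq_of_forall_pow
    intro e
    constructor
    · intro he
      rw [← hx₀mem, he]
      exact Subgroup.one_mem _
    · rintro ⟨e', rfl⟩
      rw [pow_mul, hx₀p, one_pow]
  -- z₀
  set z₀ := a ^ p ^ (m - 1) with hz₀
  have hz₀p : z₀ ^ p = 1 := by
    rw [hz₀, ← pow_mul, ← pow_succ, Nat.sub_add_cancel (Nat.one_le_iff_ne_zero.mpr hm0), hapm]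
  have hz₀ord : orderOf z₀ = p := by
    rw [hz₀, orderOf_pow' _ (pow_ne_zero _ hpp.ne_zero), hm,
      Nat.gcd_eq_right (pow_dvd_pow p (Nat.sub_le m 1)), Nat.pow_div (Nat.sub_le m 1) hpp.pos]
    have : m - (m - 1) = 1 := by omega
    rw [this, pow_one]
  have hz₀N : z₀ ∈ zpowers a := Subgroup.pow_mem _ (Subgroup.mem_zpowers a) _
  have hz₀cen : z₀ ∈ center G := by
    apply h.mem_center_of_commute
    · exact (Commute.refl a).pow_left _
    · -- b z₀ b⁻¹ = z₀ ^ r = z₀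
      have h3 : b * z₀ * b⁻¹ = z₀ ^ r := by
        rw [hz₀, conj_pow_eq h.conj, ← pow_mul, mul_comm]
      have h4 : z₀ ^ r = z₀ := by
        have h5 : r % p = 1 % p := by rw [h.mod, Nat.one_mod_eq_one.mpr hpp.ne_one]
        obtain ⟨q, hq⟩ := (Nat.modEq_iff_dvd' h.one_le).mp h5.symm
        have h6 : r = 1 + p * q := by have := h.one_le; omega
        rw [h6, pow_add, pow_one, pow_mul, hz₀p, one_pow, mul_one]
      rw [h4, mul_inv_eq_iff_eq_mul] at h3
      exact h3.symm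
  have hcomm : z₀ * x₀ = x₀ * z₀ := ((Subgroup.mem_center_iff.mp hz₀cen) x₀).symm
  refine ⟨z₀, x₀, hcomm, hz₀p, hx₀p, ?_, hz₀ord, hx₀ord, hz₀cen, ?_⟩
  · rw [eq_bot_iff]
    intro g hg
    obtain ⟨hg1, hg2⟩ := Subgroup.mem_inf.mp hg
    rw [← mem_powers_iff_mem_zpowers] at hg2
    obtain ⟨e, he⟩ := hg2
    have he : x₀ ^ e = g := he
    have h3 : x₀ ^ e ∈ zpowers a := by
      rw [he]; exact (zpowers_le.mpr hz₀N) hg1
    obtain ⟨e', rfl⟩ := (hx₀mem e).mp h3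
    rw [Subgroup.mem_bot, ← he, pow_mul, hx₀p, one_pow]
  · intro x hx
    obtain ⟨i₁, j₁, rfl⟩ := h.gen x
    -- p ^ (k - 1) ∣ j₁
    have h3 : (a ^ i₁ * b ^ j₁) ^ p ∈ zpowers a := by rw [hx]; exact Subgroup.one_mem _
    rw [mul_pow_mem_iff (h.conj_b_pow j₁), ← pow_mul, hk] at h3
    have h4 : p ^ (k - 1) ∣ j₁ := by
      have : p ^ k = p ^ (k - 1) * p := by
        rw [← pow_succ, Nat.sub_add_cancel (Nat.one_le_iff_ne_zero.mpr hk0)]
      rw [this] at h3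
      exact Nat.dvd_of_mul_dvd_mul_right hpp.pos h3
    obtain ⟨j', rfl⟩ := h4
    -- x = n₁ * x₀ ^ j'
    set y := x₀ ^ j' with hy
    have hyp : y ^ p = 1 := by rw [hy, ← pow_mul, mul_comm, pow_mul, hx₀p, one_pow]
    have hy' : y = a ^ (i * gs (r ^ p ^ (k - 1)) j') * b₁ ^ j' := by
      rw [hy, hx₀, mul_pow_eq hconj₁]
    have hbj : b ^ (p ^ (k - 1) * j') = b₁ ^ j' := by rw [hb₁, pow_mul]
    have hn₁ : a ^ i₁ * b ^ (p ^ (k - 1) * j') * y⁻¹ ∈ zpowers a := by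
      rw [hbj, hy']
      have : a ^ i₁ * b₁ ^ j' * (a ^ (i * gs (r ^ p ^ (k - 1)) j') * b₁ ^ j')⁻¹ =
          a ^ i₁ * (a ^ (i * gs (r ^ p ^ (k - 1)) j'))⁻¹ := by group
      rw [this]
      exact Subgroup.mul_mem _ (Subgroup.pow_mem _ (Subgroup.mem_zpowers a) _)
        (Subgroup.inv_mem _ (Subgroup.pow_mem _ (Subgroup.mem_zpowers a) _))
    rw [← mem_powers_iff_mem_zpowers] at hn₁
    obtain ⟨i', hi'⟩ := hn₁
    have hi' : a ^ i' = a ^ i₁ * b ^ (p ^ (k - 1) * j') * y⁻¹ := hi'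
    have hxy : a ^ i₁ * b ^ (p ^ (k - 1) * j') = a ^ i' * y := by rw [hi']; group
    rw [hxy] at hx ⊢
    obtain ⟨t', ht', hcy⟩ := h.conj_gen y
    rw [mul_pow_eq hcy, hyp, mul_one, ← orderOf_dvd_iff_pow_eq_one, hm] at hx
    -- p ^ (m - 1) ∣ i'
    obtain ⟨v', hv', hgs⟩ := exists_pow_mul_of_padicValNat (p := p) (gs_ne_zero (r := t') hpp.ne_zero)
    rw [padicValNat_gs hp2 ht' hpp.ne_zero, padicValNat_self, pow_one] at hgs
    have h5 : p ^ (m - 1) ∣ i' := by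
      have h6 : p ^ (m - 1) * p ∣ (i' * v') * p := by
        rw [← pow_succ, Nat.sub_add_cancel (Nat.one_le_iff_ne_zero.mpr hm0)]
        rw [hgs] at hx
        rw [mul_assoc, mul_comm v' p]
        exact hx
      have h7 : p ^ (m - 1) ∣ i' * v' := Nat.dvd_of_mul_dvd_mul_right hpp.pos h6
      exact (Nat.Coprime.pow_left _ ((Nat.Prime.coprime_iff_not_dvd hpp).mpr hv')).dvd_of_dvd_mul_right h7
    obtain ⟨i'', rfl⟩ := h5
    apply Subgroup.mul_mem
    · rw [pow_mul]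
      exact Subgroup.pow_mem _ (Subgroup.subset_closure (Set.mem_insert z₀ _)) _
    · rw [hy]
      exact Subgroup.pow_mem _ (Subgroup.subset_closure
        (Set.mem_insert_of_mem _ (Set.mem_singleton x₀))) _

end MCData

/-- **`Ω₁` of a non-cyclic metacyclic `p`-group (`p` odd) is elementary abelian of order `p ^ 2`.** -/
theorem omegaOne_of_isMetacyclic {G : Type*} [Group G] [Finite G] {p : ℕ} [hp : Fact p.Prime]
    (hp2 : p ≠ 2) (hG : IsPGroup p G) (hmc : Cfsg.IsMetacyclic G) (hnc : ¬ IsCyclic G) :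
    Cfsg.IsElementaryAbelian p (Cfsg.omegaOne p (⊤ : Subgroup G)) ∧
      Nat.card (Cfsg.omegaOne p (⊤ : Subgroup G)) = p ^ 2 := by
  have hpp : p.Prime := hp.out
  obtain ⟨a, b, r, h⟩ := exists_mcdata hG hmc
  obtain ⟨z₀, x₀, hcomm, hz₀p, hx₀p, hinf, hz₀ord, hx₀ord, hz₀cen, hall⟩ :=
    h.omega_one hp2 hG hnc
  have hΩ : Cfsg.omegaOne p (⊤ : Subgroup G) = closure ({z₀, x₀} : Set G) := by
    unfold Cfsg.omegaOne
    apply le_antisymm
    · rw [Subgroup.closure_le]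
      rintro x ⟨-, hx⟩
      exact hall x hx
    · rw [Subgroup.closure_le]
      rintro x hx
      rcases hx with rfl | hx
      · exact Subgroup.subset_closure ⟨Subgroup.mem_top _, hz₀p⟩
      · rw [Set.mem_singleton_iff] at hx
        subst hx
        exact Subgroup.subset_closure ⟨Subgroup.mem_top _, hx₀p⟩
  rw [hΩ]
  have hcommE : IsMulCommutative (closure ({z₀, x₀} : Set G)) := by
    apply Subgroup.isMulCommutative_closure
    intro x hx y hy
    rcases hx with rfl | hx <;> rcases hy with rfl | hy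
    · rfl
    · rw [Set.mem_singleton_iff] at hy; subst hy; exact hcomm
    · rw [Set.mem_singleton_iff] at hx; subst hx; exact hcomm.symm
    · rw [Set.mem_singleton_iff] at hx hy; subst hx; subst hy; rfl
  refine ⟨⟨hcommE, ?_⟩, ?_⟩
  · intro x hx
    induction hx using Subgroup.closure_induction with
    | mem x hx =>
      rcases hx with rfl | hx
      · exact hz₀p
      · rw [Set.mem_singleton_iff] at hx; subst hx; exact hx₀p
    | one => exact one_pow _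
    | mul x y hx hy ihx ihy =>
      have hc : Commute x y := by
        have := hcommE.is_comm.comm ⟨x, hx⟩ ⟨y, hy⟩
        exact congrArg Subtype.val this
      rw [hc.mul_pow, ihx, ihy, one_mul]
    | inv x hx ih => rw [inv_pow, ih, inv_one]
  · have hE : closure ({z₀, x₀} : Set G) = zpowers x₀ ⊔ zpowers z₀ := by
      rw [Set.insert_eq, Subgroup.closure_union, ← Subgroup.zpowers_eq_closure,
        ← Subgroup.zpowers_eq_closure, sup_comm]
    have hKn : (zpowers z₀).Normal := by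
      refine ⟨fun n hn g => ?_⟩
      have hnc' : n ∈ center G := (zpowers_le.mpr hz₀cen) hn
      have : g * n * g⁻¹ = n := by
        rw [mul_inv_eq_iff_eq_mul]
        exact (Subgroup.mem_center_iff.mp hnc') g
      rw [this]
      exact hn
    rw [hE, ← relIndex_mul_card (le_sup_right : zpowers z₀ ≤ zpowers x₀ ⊔ zpowers z₀),
      Subgroup.relIndex_sup_right, ← Subgroup.inf_relIndex_right, hinf, Subgroup.relIndex_bot_left,
      Nat.card_zpowers, Nat.card_zpowers, hz₀ord, hx₀ord, sq]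

end Cfsg.Agent.Helper65
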