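import Mathlib
import Cfsg.Agent.Helper99.O9.Defs
import Cfsg.Agent.Helper99.O9.C7Defs
import Cfsg.Agent.Helper44.Spinor
import Cfsg.Agent.Helper44.QTypeProd
import Cfsg.Agent.Helper44.QTypeSim

set_option autoImplicit false
set_option linter.unusedSectionVars false
set_option linter.unusedVariables false

/-!
helper65, piece (CNT) of helper99's (C7) sub-farm #13864 for S2517: the number of vectors of a given non-zero norm in a
non-degenerate quadratic space of dimension `8` and type `+`.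
-/

namespace Cfsg.Agent.Helper65.O9

open Matrix Polynomial QuadraticMap Cfsg.Agent.Helper44 Cfsg.Agent.Helper44.QType Cfsg.Agent.Helper94
  Cfsg.Agent.Helper99.O9

universe u

variable {F : Type u} [Field F] [Fintype F]

/-- (CNT) route: `HasType` gives the number of zeros, `fc_zero_add` and `fc_eq_fc_one` of helper44's `QTypeProd`/`QTypeSim` the rest -/
theorem card_sphere_plus8 (hF : Odd (Fintype.card F)) {P : OPair F} (hP : P.ND) (ht : P.Typ 4 1)
    (c : F) (hc : c ≠ 0) :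
    Nat.card {v : P.ι → F // P.Q v = c} = Fintype.card F ^ 7 - Fintype.card F ^ 3 := by
  obtain ⟨hdim, hty⟩ := ht
  have hV : Module.finrank F (P.ι → F) = 2 * 4 := by
    rw [Module.finrank_fintype_fun_eq_card]
    exact hdim
  have h1 := fc_zero_add P.Q hV hP
  have h2 := fc_eq_fc_one P.Q hV hP c hc
  unfold HasType at hty
  have hq : Nat.card F = Fintype.card F := Nat.card_eq_fintype_card
  have hq2 : 2 ≤ Fintype.card F := Fintype.one_lt_card
  change fc (⇑P.Q) c = _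
  rw [h2]
  rw [hq] at h1 hty
  generalize Fintype.card F = q at *
  generalize fc (⇑P.Q) 1 = N at *
  generalize fc (⇑P.Q) 0 = Z at *
  have hq2' : (2 : ℤ) ≤ (q : ℤ) := by exact_mod_cast hq2
  have e8 : (q : ℤ) ^ (2 * 4) = (q : ℤ) ^ 8 := by norm_num
  rw [e8] at h1
  have h3 : ((q : ℤ) - 1) * (N : ℤ) = (q : ℤ) ^ 8 - (Z : ℤ) := by linarith
  have key : (q : ℤ) * ((q : ℤ) - 1) * (N : ℤ) =
      (q : ℤ) * ((q : ℤ) - 1) * ((q : ℤ) ^ 7 - (q : ℤ) ^ 3) := by
    calc (q : ℤ) * ((q : ℤ) - 1) * (N : ℤ) = (q : ℤ) * (((q : ℤ) - 1) * (N : ℤ)) := by ring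
      _ = (q : ℤ) * ((q : ℤ) ^ 8 - (Z : ℤ)) := by rw [h3]
      _ = (q : ℤ) ^ 9 - (Z : ℤ) * (q : ℤ) := by ring
      _ = (q : ℤ) ^ 9 - ((q : ℤ) ^ (2 * 4) + 1 * ((q : ℤ) ^ (4 + 1) - (q : ℤ) ^ 4)) := by rw [hty]
      _ = (q : ℤ) * ((q : ℤ) - 1) * ((q : ℤ) ^ 7 - (q : ℤ) ^ 3) := by ring
  have hq0 : (q : ℤ) * ((q : ℤ) - 1) ≠ 0 := by
    apply mul_ne_zero <;> omega
  have hN : (N : ℤ) = (q : ℤ) ^ 7 - (q : ℤ) ^ 3 := mul_left_cancel₀ hq0 key
  have hle : q ^ 3 ≤ q ^ 7 := Nat.pow_le_pow_right (by omega) (by norm_num)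
  zify [hle]
  exact hN

end Cfsg.Agent.Helper65.O9
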