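import Mathlib

/-!
helper65, piece (NDIV) of helper99's (C7) sub-farm #13864 for S2517: `p` does not divide the semisimple orders.
-/

set_option autoImplicit false
set_option linter.unusedVariables false

namespace Cfsg.Agent.Helper65.O9

/-- (NDIV) `p` does not divide the semisimple orders -/
theorem not_dvd_facts (q p : ℕ) (hq : Odd q) (hq3 : 3 ≤ q) (hp : p.Prime) (hpq : p ∣ q) :
    ¬ p ^ (0 + 1) ∣ Nat.lcm (q ^ 2 + 1) (q + 1) ∧ ¬ p ^ (0 + 1) ∣ Nat.lcm (q ^ 2 + 1) (q - 1) ∧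
    ¬ p ^ (0 + 1) ∣ Nat.lcm (q ^ 2 - 1) (q - 1) ∧ ¬ p ^ (1 + 1) ∣ Nat.lcm (q - 1) (q + 1) := by
  have hp1 : ¬ p ∣ 1 := fun h => hp.one_lt.ne' (Nat.dvd_one.mp h)
  have key : ∀ a b : ℕ, ¬ p ∣ a → ¬ p ∣ b → ¬ p ∣ Nat.lcm a b := by
    intro a b ha hb h
    have h2 : p ∣ a * b := dvd_trans h (Nat.lcm_dvd_mul a b)
    rcases (Nat.Prime.dvd_mul hp).mp h2 with h3 | h3
    · exact ha h3
    · exact hb h3
  have hq2 : p ∣ q ^ 2 := dvd_pow hpq (by norm_num)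
  have n1 : ¬ p ∣ q ^ 2 + 1 := fun h => hp1 ((Nat.dvd_add_right hq2).mp h)
  have n2 : ¬ p ∣ q + 1 := fun h => hp1 ((Nat.dvd_add_right hpq).mp h)
  have n3 : ¬ p ∣ q - 1 := by
    intro h
    have e : q - 1 + 1 = q := by omega
    have h' : p ∣ q - 1 + 1 := by rw [e]; exact hpq
    exact hp1 ((Nat.dvd_add_right h).mp h')
  have n4 : ¬ p ∣ q ^ 2 - 1 := by
    intro h
    have hpos : 1 ≤ q ^ 2 := Nat.one_le_pow _ _ (by omega)
    have e : q ^ 2 - 1 + 1 = q ^ 2 := by omega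
    have h' : p ∣ q ^ 2 - 1 + 1 := by rw [e]; exact hq2
    exact hp1 ((Nat.dvd_add_right h).mp h')
  refine ⟨?_, ?_, ?_, ?_⟩
  · rw [zero_add, pow_one]; exact key _ _ n1 n2
  · rw [zero_add, pow_one]; exact key _ _ n1 n3
  · rw [zero_add, pow_one]; exact key _ _ n4 n3
  · intro h
    exact key _ _ n3 n2 (dvd_trans (dvd_pow_self p (by norm_num)) h)

end Cfsg.Agent.Helper65.O9
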