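import Mathlib
import Cfsg.Agent.Helper5.OmBN.Defs

/-!
# S2549 (helper5), piece (MEMS): the representatives of the simple reflections are isometries.
-/

set_option autoImplicit false
set_option linter.unusedSectionVars false

namespace Cfsg.Agent.Helper65.OmBN

open Matrix Cfsg.Agent.Helper5.OmBN

variable {F : Type*} [Field F] {m : ℕ} {α β : F}

/-- invariance of `qd` under a permutation fixing the middle positions -/
theorem mems_qd (π : Equiv.Perm (Fin (2 * m + 2))) (h1 : π c1 = c1) (h2 : π c2 = c2)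
    (s : Fin (2 * m + 2)) : qd β (π s) = qd β s := by
  unfold qd
  have e1 : π s = c1 ↔ s = c1 := by
    constructor
    · intro h; exact π.injective (h.trans h1.symm)
    · intro h; rw [h, h1]
  have e2 : π s = c2 ↔ s = c2 := by
    constructor
    · intro h; exact π.injective (h.trans h2.symm)
    · intro h; rw [h, h2]
  simp only [e1, e2]

/-- invariance of the Gram matrix under a permutation fixing the middle positions and commuting with `rev` -/
theorem mems_Jm (π : Equiv.Perm (Fin (2 * m + 2))) (h1 : π c1 = c1) (h2 : π c2 = c2)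
    (hrev : ∀ x, π (Fin.rev x) = Fin.rev (π x)) (r s : Fin (2 * m + 2)) :
    Jm α β (π r) (π s) = Jm α β r s := by
  unfold Jm
  have e1 : ∀ x, π x = c1 ↔ x = c1 := by
    intro x
    constructor
    · intro h; exact π.injective (h.trans h1.symm)
    · intro h; rw [h, h1]
  have e2 : ∀ x, π x = c2 ↔ x = c2 := by
    intro x
    constructor
    · intro h; exact π.injective (h.trans h2.symm)
    · intro h; rw [h, h2]
  have e3 : π s = Fin.rev (π r) ↔ s = Fin.rev r := by
    rw [← hrev]
    constructor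
    · intro h; exact π.injective h
    · intro h; rw [h]
  simp only [e1, e2, e3]

/-- a permutation matrix of a permutation fixing the middle positions and commuting with `rev` is an isometry -/
theorem mems_pMat_isO (π : Equiv.Perm (Fin (2 * m + 2))) (h1 : π c1 = c1) (h2 : π c2 = c2)
    (hrev : ∀ x, π (Fin.rev x) = Fin.rev (π x)) : IsO α β (pMat π : Matrix _ _ F) := by
  have hcol : ∀ s : Fin (2 * m + 2), (fun i => (pMat π : Matrix _ _ F) i s) = Pi.single (π s) 1 := by
    intro s
    funext i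
    rw [pMat_apply, Pi.single_apply]
  rw [isO_iff]
  constructor
  · intro s
    rw [hcol, Qm_single, mems_qd π h1 h2]
  · intro r s
    rw [hcol, hcol, Bm_single_single, mems_Jm π h1 h2 hrev]

theorem mems_sPerm_c1 (k : Fin m) (hk : k.val + 1 < m) : sPerm k (c1 : Fin (2 * m + 2)) = c1 := by
  apply Fin.ext
  rw [val_sPerm k hk, val_c1]
  split_ifs <;> omega

theorem mems_sPerm_c2 (k : Fin m) (hk : k.val + 1 < m) : sPerm k (c2 : Fin (2 * m + 2)) = c2 := by
  apply Fin.ext
  rw [val_sPerm k hk, val_c2]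
  split_ifs <;> omega

/-- the swap `lo k ↔ hi k` -/
theorem mems_swap_c1 (k : Fin m) : Equiv.swap (lo k) (hi k) (c1 : Fin (2 * m + 2)) = c1 :=
  Equiv.swap_apply_of_ne_of_ne (lo_ne_c1 k).symm (hi_ne_c1 k).symm

theorem mems_swap_c2 (k : Fin m) : Equiv.swap (lo k) (hi k) (c2 : Fin (2 * m + 2)) = c2 :=
  Equiv.swap_apply_of_ne_of_ne (lo_ne_c2 k).symm (hi_ne_c2 k).symm

theorem mems_swap_rev (k : Fin m) (x : Fin (2 * m + 2)) :
    Equiv.swap (lo k) (hi k) (Fin.rev x) = Fin.rev (Equiv.swap (lo k) (hi k) x) := by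
  by_cases h1 : x = lo k
  · rw [h1, rev_lo, Equiv.swap_apply_right, Equiv.swap_apply_left, rev_hi]
  · by_cases h2 : x = hi k
    · rw [h2, rev_hi, Equiv.swap_apply_left, Equiv.swap_apply_right, rev_lo]
    · have h3 : Fin.rev x ≠ lo k := by
        intro h; apply h2; rw [← rev_lo, ← h, Fin.rev_rev]
      have h4 : Fin.rev x ≠ hi k := by
        intro h; apply h1; rw [← rev_lo] at h; exact Fin.rev_injective h
      rw [Equiv.swap_apply_of_ne_of_ne h3 h4, Equiv.swap_apply_of_ne_of_ne h1 h2]

/-- the column `c2` of `sVMat` -/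
def mems_v (α : F) : Fin (2 * m + 2) → F := fun i => if i = c1 then α else if i = c2 then -1 else 0

theorem mems_v_lo (i : Fin m) : mems_v (m := m) α (lo i) = 0 := by
  unfold mems_v; rw [if_neg (lo_ne_c1 i), if_neg (lo_ne_c2 i)]

theorem mems_v_hi (i : Fin m) : mems_v (m := m) α (hi i) = 0 := by
  unfold mems_v; rw [if_neg (hi_ne_c1 i), if_neg (hi_ne_c2 i)]

theorem mems_v_c1 : mems_v (m := m) α c1 = α := by
  unfold mems_v; rw [if_pos rfl]

theorem mems_v_c2 : mems_v (m := m) α c2 = -1 := by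
  unfold mems_v; rw [if_neg c1_ne_c2.symm, if_pos rfl]

theorem mems_Qm_v : Qm α β (mems_v (m := m) α) = β := by
  unfold Qm Nf
  rw [mems_v_c1, mems_v_c2]
  have : ∑ i : Fin m, mems_v (m := m) α (lo i) * mems_v α (hi i) = 0 := by
    apply Finset.sum_eq_zero
    intro i _
    rw [mems_v_lo, zero_mul]
  rw [this]
  ring

theorem mems_Bm_v_v : Bm α β (mems_v (m := m) α) (mems_v α) = 2 * β := by
  unfold Bm Nb
  rw [mems_v_c1, mems_v_c2]
  have : ∑ i : Fin m, (mems_v (m := m) α (lo i) * mems_v α (hi i) +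
      mems_v α (hi i) * mems_v α (lo i)) = 0 := by
    apply Finset.sum_eq_zero
    intro i _
    rw [mems_v_lo, mems_v_hi]
    ring
  rw [this]
  ring

/-- polar products of the column `c2` with the basis vectors -/
theorem mems_Bm_v_single (x : Fin (2 * m + 2)) (hx : x ≠ c2) :
    Bm α β (mems_v (m := m) α) (Pi.single x 1) = Jm α β c2 x := by
  unfold Jm
  rw [if_neg c1_ne_c2.symm, if_pos rfl, if_neg hx]
  rcases pos_cases x with ⟨i, rfl⟩ | ⟨i, rfl⟩ | rfl | rfl
  · rw [Bm_single_lo, mems_v_hi, if_neg (lo_ne_c1 i)]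
  · rw [Bm_single_hi, mems_v_lo, if_neg (hi_ne_c1 i)]
  · rw [Bm_single_c1, mems_v_c1, mems_v_c2, if_pos rfl]
    ring
  · exact absurd rfl hx

theorem mems_Jm_symm (r s : Fin (2 * m + 2)) : Jm α β r s = Jm α β s r := by
  rw [← Bm_single_single, Bm_comm, Bm_single_single]

/-- `sVMat` is an isometry -/
theorem mems_sVMat_isO (k : Fin m) : IsO α β (sVMat α k : Matrix _ _ F) := by
  have hcol : ∀ s : Fin (2 * m + 2), s ≠ c2 →
      (fun i => (sVMat α k : Matrix _ _ F) i s) = Pi.single (Equiv.swap (lo k) (hi k) s) 1 := by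
    intro s hs
    funext i
    rw [sVMat_apply, if_neg hs, Pi.single_apply]
  have hcol2 : (fun i => (sVMat α k : Matrix _ _ F) i c2) = mems_v α := by
    funext i
    rw [sVMat_apply, if_pos rfl]
    rfl
  have hs2 : ∀ s : Fin (2 * m + 2), s ≠ c2 → Equiv.swap (lo k) (hi k) s ≠ c2 := by
    intro s hs h
    apply hs
    exact (Equiv.swap (lo k) (hi k)).injective (h.trans (mems_swap_c2 k).symm)
  have hJ2 : ∀ s : Fin (2 * m + 2), Jm α β c2 (Equiv.swap (lo k) (hi k) s) = Jm α β c2 s := by
    intro s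
    have := mems_Jm (α := α) (β := β) (Equiv.swap (lo k) (hi k)) (mems_swap_c1 k) (mems_swap_c2 k)
      (mems_swap_rev k) c2 s
    rwa [mems_swap_c2] at this
  rw [isO_iff]
  constructor
  · intro s
    by_cases hs : s = c2
    · rw [hs, hcol2, mems_Qm_v]
      unfold qd
      rw [if_neg c1_ne_c2.symm, if_pos rfl]
    · rw [hcol s hs, Qm_single, mems_qd _ (mems_swap_c1 k) (mems_swap_c2 k)]
  · intro r s
    by_cases hr : r = c2
    · by_cases hs : s = c2
      · rw [hr, hs, hcol2, mems_Bm_v_v]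
        unfold Jm
        rw [if_neg c1_ne_c2.symm, if_pos rfl, if_neg c1_ne_c2.symm, if_pos rfl]
      · rw [hr, hcol2, hcol s hs, mems_Bm_v_single _ (hs2 s hs), hJ2]
    · by_cases hs : s = c2
      · rw [hs, hcol2, hcol r hr, Bm_comm, mems_Bm_v_single _ (hs2 r hr), hJ2, mems_Jm_symm]
      · rw [hcol r hr, hcol s hs, Bm_single_single,
          mems_Jm _ (mems_swap_c1 k) (mems_swap_c2 k) (mems_swap_rev k)]

/-- (MEMS) the representatives of the simple reflections are isometries -/
theorem sMat_isO (k : Fin m) : IsO α β (sMat α k) := by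
  rcases Nat.lt_or_ge (k.val + 1) m with hk | hk
  · rw [sMat_of_lt α k hk]
    exact mems_pMat_isO (sPerm k) (mems_sPerm_c1 k hk) (mems_sPerm_c2 k hk) (sPerm_rev k hk)
  · have hk' : k.val + 1 = m := by have := k.2; omega
    rw [sMat_of_eq α k hk']
    exact mems_sVMat_isO k

end Cfsg.Agent.Helper65.OmBN
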