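import Cfsg.Agent.Helper65.Suzuki3

/-!
# Groups with a fixed-point-free automorphism of order three: general lemmas
-/

set_option autoImplicit false

namespace Cfsg.Agent.Helper65.Ord64

open Cfsg.Agent.Helper65.Suz

variable {G : Type*} [Group G]

/-- `ρ` has order dividing three and fixes only the identity. -/
structure Fpf3 (ρ : MulAut G) : Prop where
  h3 : ∀ g, ρ (ρ (ρ g)) = g
  hfp : ∀ g, ρ g = g → g = 1

namespace Fpf3

variable {ρ : MulAut G}

theorem surj [Finite G] (h : Fpf3 ρ) (g : G) : ∃ t, t⁻¹ * ρ t = g := by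
  have hinj : Function.Injective (fun t : G => t⁻¹ * ρ t) := by
    intro s t hst
    simp only at hst
    have h1 : ρ (s * t⁻¹) = s * t⁻¹ := by
      rw [map_mul, map_inv]
      calc ρ s * (ρ t)⁻¹ = s * (s⁻¹ * ρ s) * (ρ t)⁻¹ := by group
        _ = s * (t⁻¹ * ρ t) * (ρ t)⁻¹ := by rw [hst]
        _ = s * t⁻¹ := by group
    exact mul_inv_eq_one.mp (h.hfp _ h1)
  exact (Finite.injective_iff_surjective.mp hinj) g

theorem prod [Finite G] (h : Fpf3 ρ) (g : G) : g * ρ g * ρ (ρ g) = 1 := by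
  obtain ⟨t, rfl⟩ := h.surj g
  simp only [map_mul, map_inv, h.h3]
  group

theorem prod' [Finite G] (h : Fpf3 ρ) (g : G) : ρ (ρ g) * ρ g * g = 1 := by
  have h1 := h.prod g⁻¹
  simp only [map_inv] at h1
  have h2 : (ρ (ρ g) * ρ g * g)⁻¹ = 1 := by rw [← h1]; group
  exact inv_eq_one.mp h2

theorem rr_eq [Finite G] (h : Fpf3 ρ) (g : G) : ρ (ρ g) = (g * ρ g)⁻¹ :=
  eq_inv_of_mul_eq_one_right (h.prod g)

theorem rr_eq' [Finite G] (h : Fpf3 ρ) (g : G) : ρ (ρ g) = (ρ g * g)⁻¹ := by
  have h1 := h.prod' g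
  rw [mul_assoc] at h1
  exact eq_inv_of_mul_eq_one_left h1

theorem comm [Finite G] (h : Fpf3 ρ) (g : G) : g * ρ g = ρ g * g := by
  have h1 := h.rr_eq g
  rw [h.rr_eq' g] at h1
  exact (inv_injective h1).symm

theorem comm2 [Finite G] (h : Fpf3 ρ) (g : G) : g * ρ (ρ g) = ρ (ρ g) * g := by
  have h1 := h.comm (ρ (ρ g))
  rw [h.h3] at h1
  exact h1.symm

theorem ne_one (h : Fpf3 ρ) {g : G} (hg : g ≠ 1) : ρ g ≠ 1 := by
  intro h1
  apply hg
  have : ρ g = ρ 1 := by rw [h1, map_one]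
  exact ρ.injective this

theorem ne_self (h : Fpf3 ρ) {g : G} (hg : g ≠ 1) : ρ g ≠ g := fun h1 => hg (h.hfp g h1)

theorem rr_ne_self (h : Fpf3 ρ) {g : G} (hg : g ≠ 1) : ρ (ρ g) ≠ g := by
  intro h1
  apply h.ne_self hg
  have h2 := congrArg ρ h1
  rw [h.h3] at h2
  exact h2.symm

/-- an invariant subgroup has order `≡ 1 mod 3`. -/
theorem card_mod_three [Finite G] (h : Fpf3 ρ) (H : Subgroup G) (hH : ∀ g ∈ H, ρ g ∈ H) :
    Nat.card H % 3 = 1 := by
  classical
  haveI : Fintype H := Fintype.ofFinite H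
  let f : Function.End H := fun g => ⟨ρ g.1, hH g.1 g.2⟩
  have hf : f ^ 3 ^ 1 = 1 := by
    funext g
    apply Subtype.ext
    show ρ (ρ (ρ g.1)) = g.1
    exact h.h3 g.1
  have h1 := Equiv.Perm.card_fixedPoints_modEq (p := 3) (n := 1) hf
  have h2 : Fintype.card (Function.fixedPoints f) = 1 := by
    rw [Fintype.card_eq_one_iff]
    refine ⟨⟨1, ?_⟩, ?_⟩
    · show f 1 = 1
      apply Subtype.ext
      show ρ 1 = 1
      exact map_one ρ
    · rintro ⟨y, hy⟩
      apply Subtype.ext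
      apply Subtype.ext
      have h3 : f y = y := hy
      have h4 : ρ y.1 = y.1 := congrArg Subtype.val h3
      exact h.hfp _ h4
  rw [h2, ← Nat.card_eq_fintype_card] at h1
  exact h1

/-- an invariant subgroup of index four and an element outside it generate the group. -/
theorem closure_eq_top [Finite G] (h : Fpf3 ρ) (H : Subgroup G) (hH : ∀ g ∈ H, ρ g ∈ H) (t : G)
    (ht : t ∉ H) (hcard : Nat.card G = 4 * Nat.card H) :
    Subgroup.closure ((H : Set G) ∪ {t, ρ t}) = ⊤ := by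
  set K := Subgroup.closure ((H : Set G) ∪ {t, ρ t}) with hK
  have hHK : H ≤ K := by
    intro g hg
    exact Subgroup.subset_closure (Or.inl hg)
  have htK : t ∈ K := Subgroup.subset_closure (Or.inr (Or.inl rfl))
  have hrtK : ρ t ∈ K := Subgroup.subset_closure (Or.inr (Or.inr rfl))
  have hKinv : ∀ g ∈ K, ρ g ∈ K := by
    intro g hg
    induction hg using Subgroup.closure_induction with
    | mem y hy =>
      rcases hy with hy | hy | hy
      · exact hHK (hH y hy)
      · rw [hy]; exact hrtK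
      · have hy' : y = ρ t := hy
        rw [hy', h.rr_eq]
        exact K.inv_mem (K.mul_mem htK hrtK)
    | one => rw [map_one]; exact K.one_mem
    | mul y z _ _ hy hz => rw [map_mul]; exact K.mul_mem hy hz
    | inv y _ hy => rw [map_inv]; exact K.inv_mem hy
  have h1 := h.card_mod_three K hKinv
  have h2 := h.card_mod_three H hH
  have h3 : Nat.card H ∣ Nat.card K := Subgroup.card_dvd_of_le hHK
  have h4 : Nat.card K ∣ Nat.card G := Subgroup.card_subgroup_dvd_card K
  have h5 : Nat.card K ≠ Nat.card H := by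
    intro h5
    have h6 : H = K := Subgroup.eq_of_le_of_card_ge hHK h5.le
    apply ht
    rw [h6]
    exact htK
  obtain ⟨m, hm⟩ := h3
  have hpos : 0 < Nat.card H := Nat.card_pos
  rw [hcard, hm, mul_comm 4] at h4
  have h6 : m ∣ 4 := Nat.dvd_of_mul_dvd_mul_left hpos h4
  have h7 : m ≤ 4 := Nat.le_of_dvd (by norm_num) h6
  rw [← Subgroup.card_eq_iff_eq_top, hcard, hm]
  interval_cases m
  · omega
  · omega
  · omega
  · omega
  · ring

end Fpf3

end Cfsg.Agent.Helper65.Ord64
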