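import Cfsg.Agent.Helper65.Ord64A

/-!
# Nonabelian groups of order 64 with a fixed-point-free automorphism of order three

They have class two, centre of order four, and the centre and the central quotient are elementary
abelian.
-/

set_option autoImplicit false

namespace Cfsg.Agent.Helper65.Ord64

open Cfsg.Agent.Helper65.Suz

variable {T : Type*} [Group T]

theorem central_conj {c : T} (hc : c ∈ Subgroup.center T) (g : T) : g⁻¹ * c * g = c := by
  have h1 := Subgroup.mem_center_iff.mp hc g
  rw [mul_assoc, ← h1, ← mul_assoc, inv_mul_cancel, one_mul]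

theorem cm_one_left' (g : T) : cm (1 : T) g = 1 := by unfold cm; group

theorem cm_one_right' (g : T) : cm g (1 : T) = 1 := by unfold cm; group

theorem cm_inv_swap (a b : T) : (cm a b)⁻¹ = cm b a := by unfold cm; group

/-- the elements whose commutators all lie in the normal subgroup `N`. -/
def zup (N : Subgroup T) [hN : N.Normal] : Subgroup T where
  carrier := {a | ∀ b, cm a b ∈ N}
  one_mem' := by
    intro b
    rw [cm_one_left']
    exact N.one_mem
  mul_mem' := by
    intro a a' ha ha' b
    rw [cm_mul_left]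
    refine N.mul_mem ?_ (ha' b)
    have := hN.conj_mem _ (ha b) a'⁻¹
    simpa using this
  inv_mem' := by
    intro a ha b
    have h1 : cm a⁻¹ b = a * (cm a b)⁻¹ * a⁻¹ := by unfold cm; group
    rw [h1]
    exact hN.conj_mem _ (N.inv_mem (ha b)) a

theorem mem_zup {N : Subgroup T} [N.Normal] {a : T} : a ∈ zup N ↔ ∀ b, cm a b ∈ N := Iff.rfl

/-- the elements whose commutator with `t` lies in the normal subgroup `N`. -/
def cmSub (N : Subgroup T) [hN : N.Normal] (t : T) : Subgroup T where
  carrier := {b | cm t b ∈ N}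
  one_mem' := by
    show cm t 1 ∈ N
    rw [cm_one_right']
    exact N.one_mem
  mul_mem' := by
    intro b b' hb hb'
    show cm t (b * b') ∈ N
    rw [cm_mul_right, mul_assoc, mul_assoc]
    refine N.mul_mem hb' ?_
    have := hN.conj_mem _ hb b'⁻¹
    simpa [mul_assoc] using this
  inv_mem' := by
    intro b hb
    show cm t b⁻¹ ∈ N
    have h1 : cm t b⁻¹ = b * (cm t b)⁻¹ * b⁻¹ := by unfold cm; group
    rw [h1]
    exact hN.conj_mem _ (N.inv_mem hb) b

theorem mem_cmSub {N : Subgroup T} [N.Normal] {t b : T} : b ∈ cmSub N t ↔ cm t b ∈ N := Iff.rfl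

variable {ρ : MulAut T}

theorem zup_inv (h : Fpf3 ρ) (N : Subgroup T) [N.Normal] (hN : ∀ g ∈ N, ρ g ∈ N) :
    ∀ g ∈ zup N, ρ g ∈ zup N := by
  intro g hg b
  have h1 : cm (ρ g) b = ρ (cm g (ρ (ρ b))) := by
    rw [map_cm, h.h3]
  rw [h1]
  exact hN _ (hg _)

/-- the key index obstruction. -/
theorem card_ne_four_mul_zup [Finite T] (h : Fpf3 ρ) (N : Subgroup T) [N.Normal]
    (hN : ∀ g ∈ N, ρ g ∈ N) : Nat.card T ≠ 4 * Nat.card (zup N) := by
  intro hcard
  have hne : zup N ≠ ⊤ := by
    intro h1
    rw [← Subgroup.card_eq_iff_eq_top] at h1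
    have : 0 < Nat.card (zup N) := Nat.card_pos
    omega
  obtain ⟨t, ht⟩ : ∃ t, t ∉ zup N := by
    by_contra hall
    push Not at hall
    exact hne (eq_top_iff.mpr fun g _ => hall g)
  have hcl := h.closure_eq_top (zup N) (zup_inv h N hN) t ht hcard
  have hle : Subgroup.closure (((zup N : Subgroup T) : Set T) ∪ {t, ρ t}) ≤ cmSub N t := by
    rw [Subgroup.closure_le]
    rintro b (hb | hb | hb)
    · show cm t b ∈ N
      rw [← cm_inv_swap]
      exact N.inv_mem (hb t)
    · rw [hb]
      show cm t t ∈ N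
      rw [cm_self]
      exact N.one_mem
    · have hb' : b = ρ t := hb
      rw [hb']
      show cm t (ρ t) ∈ N
      rw [cm_eq_one_iff.mpr (h.comm t)]
      exact N.one_mem
  rw [hcl] at hle
  apply ht
  intro b
  exact hle (Subgroup.mem_top b)

theorem zup_bot : zup (⊥ : Subgroup T) = Subgroup.center T := by
  ext a
  rw [mem_zup, Subgroup.mem_center_iff]
  constructor
  · intro ha b
    have := ha b
    rw [Subgroup.mem_bot, cm_eq_one_iff] at this
    exact this.symm
  · intro ha b
    rw [Subgroup.mem_bot, cm_eq_one_iff]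
    exact (ha b).symm

theorem center_inv (h : Fpf3 ρ) : ∀ z ∈ Subgroup.center T, ρ z ∈ Subgroup.center T := by
  intro z hz
  rw [Subgroup.mem_center_iff] at hz ⊢
  intro g
  have := congrArg ρ (hz (ρ (ρ g)))
  rwa [map_mul, map_mul, h.h3] at this

/-- possible orders of invariant subgroups. -/
theorem card_cases [Finite T] (h : Fpf3 ρ) (hT : Nat.card T = 64) (H : Subgroup T)
    (hH : ∀ g ∈ H, ρ g ∈ H) :
    Nat.card H = 1 ∨ Nat.card H = 4 ∨ Nat.card H = 16 ∨ Nat.card H = 64 := by
  have h1 := h.card_mod_three H hH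
  have h2 : Nat.card H ∣ 2 ^ 6 := by
    have := Subgroup.card_subgroup_dvd_card H
    rwa [hT] at this
  obtain ⟨k, hk, hk'⟩ := (Nat.dvd_prime_pow Nat.prime_two).mp h2
  rw [hk'] at h1 ⊢
  interval_cases k <;> simp_all

/-- the structure of `T`. -/
structure Cl2 (T : Type*) [Group T] : Prop where
  hcm : ∀ a b : T, cm a b ∈ Subgroup.center T
  hsq : ∀ a : T, a * a ∈ Subgroup.center T
  hcsq : ∀ z ∈ Subgroup.center T, z * z = 1

theorem card_center [Finite T] (h : Fpf3 ρ) (hT : Nat.card T = 64)
    (hna : ¬ ∀ a b : T, a * b = b * a) : Nat.card (Subgroup.center T) = 4 := by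
  have hp : IsPGroup 2 T := IsPGroup.of_card (n := 6) (by rw [hT]; norm_num)
  haveI : Nontrivial T := by
    rw [← Finite.one_lt_card_iff_nontrivial, hT]
    norm_num
  haveI := hp.center_nontrivial
  have h1 : 1 < Nat.card (Subgroup.center T) := Finite.one_lt_card
  rcases card_cases h hT (Subgroup.center T) (center_inv h) with h2 | h2 | h2 | h2
  · omega
  · exact h2
  · exfalso
    have h3 := card_ne_four_mul_zup h (⊥ : Subgroup T) (by
      intro g hg
      rw [Subgroup.mem_bot] at hg ⊢
      rw [hg, map_one])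
    rw [zup_bot, h2, hT] at h3
    exact h3 rfl
  · exfalso
    apply hna
    intro a b
    have h3 : Subgroup.center T = ⊤ := by
      rw [← Subgroup.card_eq_iff_eq_top, h2, hT]
    have h4 : b ∈ Subgroup.center T := by rw [h3]; exact Subgroup.mem_top b
    exact Subgroup.mem_center_iff.mp h4 a

theorem hcm_of_card [Finite T] (h : Fpf3 ρ) (hT : Nat.card T = 64)
    (hna : ¬ ∀ a b : T, a * b = b * a) (a b : T) : cm a b ∈ Subgroup.center T := by
  have hZ := card_center h hT hna
  have hp : IsPGroup 2 T := IsPGroup.of_card (n := 6) (by rw [hT]; norm_num)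
  -- the second centre
  have hle : Subgroup.center T ≤ zup (Subgroup.center T) := by
    intro z hz b
    rw [cm_eq_one_iff.mpr (Subgroup.mem_center_iff.mp hz b).symm]
    exact Subgroup.one_mem _
  have hne : zup (Subgroup.center T) ≠ Subgroup.center T := by
    intro heq
    have hpQ : IsPGroup 2 (T ⧸ Subgroup.center T) := hp.to_quotient _
    have hcardQ : Nat.card (T ⧸ Subgroup.center T) = 16 := by
      have := Subgroup.card_eq_card_quotient_mul_card_subgroup (Subgroup.center T)
      rw [hT, hZ] at this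
      omega
    haveI : Nontrivial (T ⧸ Subgroup.center T) := by
      rw [← Finite.one_lt_card_iff_nontrivial, hcardQ]
      norm_num
    haveI := hpQ.center_nontrivial
    obtain ⟨⟨v, hv⟩, hv1⟩ := exists_ne (1 : Subgroup.center (T ⧸ Subgroup.center T))
    obtain ⟨t, rfl⟩ := QuotientGroup.mk_surjective v
    have ht : t ∈ zup (Subgroup.center T) := by
      intro b
      rw [← QuotientGroup.eq_one_iff]
      have h1 := Subgroup.mem_center_iff.mp hv (b : T ⧸ Subgroup.center T)
      unfold cm
      rw [QuotientGroup.mk_mul, QuotientGroup.mk_mul, QuotientGroup.mk_mul, QuotientGroup.mk_inv,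
        QuotientGroup.mk_inv]
      calc ((t : T ⧸ Subgroup.center T))⁻¹ * (b : T ⧸ Subgroup.center T)⁻¹ * t * b
          = ((t : T ⧸ Subgroup.center T))⁻¹ * (b : T ⧸ Subgroup.center T)⁻¹ * (t * b) := by group
        _ = ((t : T ⧸ Subgroup.center T))⁻¹ * (b : T ⧸ Subgroup.center T)⁻¹ * (b * t) := by
            rw [h1]
        _ = 1 := by group
    rw [heq] at ht
    apply hv1
    apply Subtype.ext
    exact (QuotientGroup.eq_one_iff t).mpr ht
  have hinv := zup_inv h (Subgroup.center T) (center_inv h)
  have h4 : Nat.card (Subgroup.center T) ∣ Nat.card (zup (Subgroup.center T)) :=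
    Subgroup.card_dvd_of_le hle
  have htop : zup (Subgroup.center T) = ⊤ := by
    rcases card_cases h hT _ hinv with h2 | h2 | h2 | h2
    · exfalso
      rw [h2, hZ] at h4
      omega
    · exfalso
      apply hne
      exact (Subgroup.eq_of_le_of_card_ge hle (by rw [h2, hZ])).symm
    · exfalso
      have h3 := card_ne_four_mul_zup h (Subgroup.center T) (center_inv h)
      rw [h2, hT] at h3
      exact h3 rfl
    · rw [← Subgroup.card_eq_iff_eq_top, h2, hT]
  have : a ∈ zup (Subgroup.center T) := by rw [htop]; exact Subgroup.mem_top a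
  exact this b

/-- the elements of the centre of order at most two. -/
def omegaZ (T : Type*) [Group T] : Subgroup T where
  carrier := {z | z ∈ Subgroup.center T ∧ z * z = 1}
  one_mem' := ⟨Subgroup.one_mem _, one_mul 1⟩
  mul_mem' := by
    rintro z z' ⟨hz, hz2⟩ ⟨hz', hz2'⟩
    refine ⟨Subgroup.mul_mem _ hz hz', ?_⟩
    have h1 := Subgroup.mem_center_iff.mp hz z'
    calc z * z' * (z * z') = z * (z' * z) * z' := by group
      _ = z * (z * z') * z' := by rw [h1]
      _ = (z * z) * (z' * z') := by group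
      _ = 1 := by rw [hz2, hz2', one_mul]
  inv_mem' := by
    rintro z ⟨hz, hz2⟩
    refine ⟨Subgroup.inv_mem _ hz, ?_⟩
    rw [← mul_inv_rev, hz2, inv_one]

theorem cl2_of_card [Finite T] (h : Fpf3 ρ) (hT : Nat.card T = 64)
    (hna : ¬ ∀ a b : T, a * b = b * a) : Cl2 T := by
  have hZ := card_center h hT hna
  have hcm := hcm_of_card h hT hna
  have hcsq : ∀ z ∈ Subgroup.center T, z * z = 1 := by
    have hle : omegaZ T ≤ Subgroup.center T := fun z hz => hz.1
    have hinv : ∀ g ∈ omegaZ T, ρ g ∈ omegaZ T := by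
      rintro g ⟨hg, hg2⟩
      refine ⟨center_inv h g hg, ?_⟩
      rw [← map_mul, hg2, map_one]
    have hdvd : Nat.card (omegaZ T) ∣ Nat.card (Subgroup.center T) := Subgroup.card_dvd_of_le hle
    have hne : Nat.card (omegaZ T) ≠ 1 := by
      intro h1
      have hbot : omegaZ T = ⊥ := Subgroup.eq_bot_of_card_eq _ h1
      haveI : Fact (Nat.Prime 2) := ⟨Nat.prime_two⟩
      obtain ⟨z, hz⟩ := exists_prime_orderOf_dvd_card' (G := Subgroup.center T) 2 (by rw [hZ]; norm_num)
      have hz2 : z * z = 1 := by rw [← pow_two, ← hz]; exact pow_orderOf_eq_one z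
      have hmem : z.1 ∈ omegaZ T := ⟨z.2, congrArg Subtype.val hz2⟩
      rw [hbot, Subgroup.mem_bot] at hmem
      have hz1 : z = 1 := Subtype.ext hmem
      rw [hz1, orderOf_one] at hz
      omega
    have heq : omegaZ T = Subgroup.center T := by
      rcases card_cases h hT _ hinv with h2 | h2 | h2 | h2
      · exact absurd h2 hne
      · exact Subgroup.eq_of_le_of_card_ge hle (by rw [h2, hZ])
      · rw [h2, hZ] at hdvd; omega
      · rw [h2, hZ] at hdvd; omega
    intro z hz
    rw [← heq] at hz
    exact hz.2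
  refine ⟨hcm, ?_, hcsq⟩
  intro t
  rw [Subgroup.mem_center_iff]
  intro s
  have h1 : cm (t * t) s = 1 := by
    rw [cm_mul_left, central_conj (hcm t s)]
    exact hcsq _ (hcm t s)
  exact (cm_eq_one_iff.mp h1).symm

end Cfsg.Agent.Helper65.Ord64
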