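import Cfsg.Agent.Helper65.Ord64B
import Cfsg.Agent.Helper27.GF4
import Cfsg.Agent.Helper14.AutSylow3

/-!
# Identification with the unitriangular group of degree three over the field of order four
-/

set_option autoImplicit false

namespace Cfsg.Agent.Helper65.Ord64

open Cfsg.Agent.Helper65.Suz Cfsg.Agent.Helper27 Cfsg.Agent.Helper14.AutPSL

namespace Tbl

@[simp] theorem add_z_z : (GF4.z + GF4.z : GF4) = GF4.z := rfl
@[simp] theorem add_z_o : (GF4.z + GF4.o : GF4) = GF4.o := rfl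
@[simp] theorem add_z_w : (GF4.z + GF4.w : GF4) = GF4.w := rfl
@[simp] theorem add_z_w2 : (GF4.z + GF4.w2 : GF4) = GF4.w2 := rfl
@[simp] theorem add_o_z : (GF4.o + GF4.z : GF4) = GF4.o := rfl
@[simp] theorem add_o_o : (GF4.o + GF4.o : GF4) = GF4.z := rfl
@[simp] theorem add_o_w : (GF4.o + GF4.w : GF4) = GF4.w2 := rfl
@[simp] theorem add_o_w2 : (GF4.o + GF4.w2 : GF4) = GF4.w := rfl
@[simp] theorem add_w_z : (GF4.w + GF4.z : GF4) = GF4.w := rfl
@[simp] theorem add_w_o : (GF4.w + GF4.o : GF4) = GF4.w2 := rfl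
@[simp] theorem add_w_w : (GF4.w + GF4.w : GF4) = GF4.z := rfl
@[simp] theorem add_w_w2 : (GF4.w + GF4.w2 : GF4) = GF4.o := rfl
@[simp] theorem add_w2_z : (GF4.w2 + GF4.z : GF4) = GF4.w2 := rfl
@[simp] theorem add_w2_o : (GF4.w2 + GF4.o : GF4) = GF4.w := rfl
@[simp] theorem add_w2_w : (GF4.w2 + GF4.w : GF4) = GF4.o := rfl
@[simp] theorem add_w2_w2 : (GF4.w2 + GF4.w2 : GF4) = GF4.z := rfl
@[simp] theorem mul_z_z : (GF4.z * GF4.z : GF4) = GF4.z := rfl
@[simp] theorem mul_z_o : (GF4.z * GF4.o : GF4) = GF4.z := rfl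
@[simp] theorem mul_z_w : (GF4.z * GF4.w : GF4) = GF4.z := rfl
@[simp] theorem mul_z_w2 : (GF4.z * GF4.w2 : GF4) = GF4.z := rfl
@[simp] theorem mul_o_z : (GF4.o * GF4.z : GF4) = GF4.z := rfl
@[simp] theorem mul_o_o : (GF4.o * GF4.o : GF4) = GF4.o := rfl
@[simp] theorem mul_o_w : (GF4.o * GF4.w : GF4) = GF4.w := rfl
@[simp] theorem mul_o_w2 : (GF4.o * GF4.w2 : GF4) = GF4.w2 := rfl
@[simp] theorem mul_w_z : (GF4.w * GF4.z : GF4) = GF4.z := rfl
@[simp] theorem mul_w_o : (GF4.w * GF4.o : GF4) = GF4.w := rfl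
@[simp] theorem mul_w_w : (GF4.w * GF4.w : GF4) = GF4.w2 := rfl
@[simp] theorem mul_w_w2 : (GF4.w * GF4.w2 : GF4) = GF4.o := rfl
@[simp] theorem mul_w2_z : (GF4.w2 * GF4.z : GF4) = GF4.z := rfl
@[simp] theorem mul_w2_o : (GF4.w2 * GF4.o : GF4) = GF4.w2 := rfl
@[simp] theorem mul_w2_w : (GF4.w2 * GF4.w : GF4) = GF4.o := rfl
@[simp] theorem mul_w2_w2 : (GF4.w2 * GF4.w2 : GF4) = GF4.w := rfl

end Tbl

variable {T : Type*} [Group T] {ρ : MulAut T}

theorem mul_eq_mul_cm (x y : T) : x * y = y * x * cm x y := by unfold cm; group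

namespace Cl2

theorem cm_mul_left (hC : Cl2 T) (a b c : T) : cm (a * b) c = cm a c * cm b c := by
  rw [Suz.cm_mul_left, central_conj (hC.hcm a c)]

theorem cm_mul_right (hC : Cl2 T) (a b c : T) : cm a (b * c) = cm a b * cm a c := by
  rw [Suz.cm_mul_right, mul_assoc, mul_assoc, ← mul_assoc c⁻¹, central_conj (hC.hcm a b)]
  exact (Subgroup.mem_center_iff.mp (hC.hcm a b) _)

theorem cm_sq (hC : Cl2 T) (a b : T) : cm a b * cm a b = 1 := hC.hcsq _ (hC.hcm a b)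

theorem cm_swap (hC : Cl2 T) (a b : T) : cm b a = cm a b := by
  rw [← cm_inv_swap a b]
  exact inv_eq_of_mul_eq_one_left (hC.cm_sq a b)

theorem cm_central_left (hC : Cl2 T) {z : T} (hz : z ∈ Subgroup.center T) (b : T) : cm z b = 1 :=
  cm_eq_one_iff.mpr (Subgroup.mem_center_iff.mp hz b).symm

theorem cm_central_right (hC : Cl2 T) {z : T} (hz : z ∈ Subgroup.center T) (b : T) :
    cm b z = 1 :=
  cm_eq_one_iff.mpr (Subgroup.mem_center_iff.mp hz b)

end Cl2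

theorem key0 [Finite T] (h : Fpf3 ρ) (hC : Cl2 T) (s t : T) : cm t (ρ s) = cm (ρ t) s := by
  have h0 := h.comm (s * t)
  rw [map_mul] at h0
  have hc1 := Subgroup.mem_center_iff.mp (hC.hcm t (ρ s))
  have hc2 := Subgroup.mem_center_iff.mp (hC.hcm (ρ t) s)
  have e1 : s * t * (ρ s * ρ t) = s * ρ s * t * ρ t * cm t (ρ s) := by
    calc s * t * (ρ s * ρ t) = s * (t * ρ s) * ρ t := by group
      _ = s * (ρ s * t * cm t (ρ s)) * ρ t := by rw [← mul_eq_mul_cm]
      _ = s * ρ s * t * (cm t (ρ s) * ρ t) := by group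
      _ = s * ρ s * t * (ρ t * cm t (ρ s)) := by rw [← hc1 (ρ t)]
      _ = s * ρ s * t * ρ t * cm t (ρ s) := by group
  have e2 : ρ s * ρ t * (s * t) = s * ρ s * t * ρ t * cm (ρ t) s := by
    calc ρ s * ρ t * (s * t) = ρ s * (ρ t * s) * t := by group
      _ = ρ s * (s * ρ t * cm (ρ t) s) * t := by rw [← mul_eq_mul_cm]
      _ = (ρ s * s) * ρ t * (cm (ρ t) s * t) := by group
      _ = (s * ρ s) * ρ t * (t * cm (ρ t) s) := by rw [← hc2 t, ← h.comm s]
      _ = s * ρ s * (ρ t * t) * cm (ρ t) s := by group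
      _ = s * ρ s * (t * ρ t) * cm (ρ t) s := by rw [← h.comm t]
      _ = s * ρ s * t * ρ t * cm (ρ t) s := by group
  exact mul_left_cancel (e1.symm.trans (h0.trans e2))

theorem key_rr [Finite T] (h : Fpf3 ρ) (hC : Cl2 T) (s t : T) : cm (ρ s) (ρ t) = ρ (cm s t) :=
  (map_cm ρ s t).symm

theorem key1 [Finite T] (h : Fpf3 ρ) (hC : Cl2 T) (s t : T) : cm s (ρ (ρ t)) = ρ (cm s t) := by
  rw [key0 h hC (ρ t) s, ← map_cm]

theorem key2 [Finite T] (h : Fpf3 ρ) (hC : Cl2 T) (s t : T) : cm s (ρ t) = ρ (ρ (cm s t)) := by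
  rw [key0 h hC t s]
  have h1 : cm (ρ s) t = ρ (cm s (ρ (ρ t))) := by rw [map_cm, h.h3]
  rw [h1, key1 h hC]

theorem key2' [Finite T] (h : Fpf3 ρ) (hC : Cl2 T) (s t : T) : cm (ρ s) t = ρ (ρ (cm s t)) := by
  rw [← key0 h hC t s, key2 h hC]

/-- the four-group spanned by the orbit of `u`. -/
def quad (ρ : MulAut T) (u : T) : GF4 → T
  | .z => 1
  | .o => u
  | .w => ρ u
  | .w2 => ρ (ρ u)

theorem Fpf3.mul_r [Finite T] (h : Fpf3 ρ) {v : T} (hv : v * v = 1) : v * ρ v = ρ (ρ v) := by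
  have h1 : ρ (ρ v) * ρ (ρ v) = 1 := by rw [← map_mul, ← map_mul, hv, map_one, map_one]
  rw [h.rr_eq v]
  have h2 := h.rr_eq v
  rw [h2] at h1
  have h3 : (v * ρ v)⁻¹ = v * ρ v := by
    have : (v * ρ v) * (v * ρ v) = 1 := by
      have h4 := congrArg (fun y => y⁻¹) h1
      simp only [mul_inv_rev, inv_inv, inv_one] at h4
      exact h4
    exact inv_eq_of_mul_eq_one_left this
  exact h3.symm

theorem quad_add [Finite T] (h : Fpf3 ρ) {u : T} (hu : u * u = 1) (x y : GF4) :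
    quad ρ u (x + y) = quad ρ u x * quad ρ u y := by
  have e1 : ρ u * ρ u = 1 := by rw [← map_mul, hu, map_one]
  have e2 : ρ (ρ u) * ρ (ρ u) = 1 := by rw [← map_mul, e1, map_one]
  have e3 : u * ρ u = ρ (ρ u) := h.mul_r hu
  have e4 : ρ u * u = ρ (ρ u) := by rw [← h.comm u]; exact e3
  have e5 : ρ u * ρ (ρ u) = u := by rw [h.mul_r e1, h.h3]
  have e6 : ρ (ρ u) * ρ u = u := by rw [← h.comm (ρ u)]; exact e5
  have e7 : ρ (ρ u) * u = ρ u := by
    have := h.mul_r e2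
    rwa [h.h3] at this
  have e8 : u * ρ (ρ u) = ρ u := by rw [h.comm2 u]; exact e7
  cases x <;> cases y <;> simp [quad, hu, e1, e2, e3, e4, e5, e6, e7, e8]

theorem quad_zero (u : T) : quad ρ u 0 = 1 := rfl

theorem quad_mem_center (h : Fpf3 ρ) {u : T} (hu : u ∈ Subgroup.center T) (x : GF4) :
    quad ρ u x ∈ Subgroup.center T := by
  cases x
  · exact Subgroup.one_mem _
  · exact hu
  · exact center_inv h _ hu
  · exact center_inv h _ (center_inv h _ hu)

theorem quad_eq_one (h : Fpf3 ρ) {u : T} (hu : u ≠ 1) {x : GF4} (hx : quad ρ u x = 1) : x = 0 := by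
  cases x
  · rfl
  · exact absurd hx hu
  · exact absurd hx (h.ne_one hu)
  · exact absurd hx (h.ne_one (h.ne_one hu))

theorem cm_quad [Finite T] (h : Fpf3 ρ) (hC : Cl2 T) (a b : T) (x y : GF4) :
    cm (quad ρ a x) (quad ρ b y) = quad ρ (cm a b) ((x * y) * (x * y)) := by
  have r1 := key_rr h hC
  have r2 := key2 h hC
  have r3 := key2' h hC
  cases x <;> cases y <;> simp [quad, cm_one_left', cm_one_right', r1, r2, r3, h.h3]

theorem gf4_sq_add : ∀ x y : GF4, (x + y) * (x + y) = x * x + y * y := by decide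

theorem gf4_sq_eq_zero : ∀ x : GF4, x * x = 0 → x = 0 := by decide

section Phi

variable (ρ) (a b : T)

/-- the coordinate map. -/
def phi (g : UT 3 GF4) : T :=
  quad ρ b (g.1.1 1 2) * quad ρ a (g.1.1 0 1) * quad ρ (cm a b) (g.1.1 0 2 * g.1.1 0 2)

end Phi

theorem phi_aux {A A' B B' Z1 Z2 Z3 : T} (h1 : ∀ g, g * Z1 = Z1 * g) (h3 : ∀ g, g * Z3 = Z3 * g)
    (hAB : A * B' = B' * A * Z3) :
    (B * B') * (A * A') * (Z1 * Z3 * Z2) = (B * A * Z1) * (B' * A' * Z2) := by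
  symm
  calc (B * A * Z1) * (B' * A' * Z2) = B * A * (Z1 * B') * A' * Z2 := by group
    _ = B * A * (B' * Z1) * A' * Z2 := by rw [← h1 B']
    _ = B * (A * B') * (Z1 * A') * Z2 := by group
    _ = B * (B' * A * Z3) * (A' * Z1) * Z2 := by rw [hAB, ← h1 A']
    _ = B * B' * A * (Z3 * A') * Z1 * Z2 := by group
    _ = B * B' * A * (A' * Z3) * Z1 * Z2 := by rw [← h3 A']
    _ = B * B' * A * A' * (Z3 * Z1) * Z2 := by group
    _ = B * B' * A * A' * (Z1 * Z3) * Z2 := by rw [h1 Z3]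
    _ = (B * B') * (A * A') * (Z1 * Z3 * Z2) := by group

theorem ut_entries (g : UT 3 GF4) :
    g.1.1 0 0 = 1 ∧ g.1.1 1 1 = 1 ∧ g.1.1 2 2 = 1 ∧ g.1.1 1 0 = 0 ∧ g.1.1 2 0 = 0 ∧
      g.1.1 2 1 = 0 := by
  have h := mem_UT.mp g.2
  refine ⟨?_, ?_, ?_, ?_, ?_, ?_⟩
  · exact h 0 0 (by decide)
  · exact h 1 1 (by decide)
  · exact h 2 2 (by decide)
  · exact h 1 0 (by decide)
  · exact h 2 0 (by decide)
  · exact h 2 1 (by decide)

theorem ut_mul_entries (g g' : UT 3 GF4) :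
    (g * g').1.1 0 1 = g.1.1 0 1 + g'.1.1 0 1 ∧ (g * g').1.1 1 2 = g.1.1 1 2 + g'.1.1 1 2 ∧
      (g * g').1.1 0 2 = g.1.1 0 2 + g.1.1 0 1 * g'.1.1 1 2 + g'.1.1 0 2 := by
  obtain ⟨h00, h11, h22, h10, h20, h21⟩ := ut_entries g
  obtain ⟨k00, k11, k22, k10, k20, k21⟩ := ut_entries g'
  have hmul : (g * g').1.1 = g.1.1 * g'.1.1 := rfl
  refine ⟨?_, ?_, ?_⟩
  · rw [hmul, Matrix.mul_apply, Fin.sum_univ_three, h00, k11, k21]
    ring
  · rw [hmul, Matrix.mul_apply, Fin.sum_univ_three, h10, h11, k22]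
    ring
  · rw [hmul, Matrix.mul_apply, Fin.sum_univ_three, h00, k22]
    ring

theorem phi_mul [Finite T] (h : Fpf3 ρ) (hC : Cl2 T) {a b : T} (ha : a * a = 1) (hb : b * b = 1)
    (g g' : UT 3 GF4) : phi ρ a b (g * g') = phi ρ a b g * phi ρ a b g' := by
  obtain ⟨e1, e2, e3⟩ := ut_mul_entries g g'
  have hc : cm a b * cm a b = 1 := hC.cm_sq a b
  unfold phi
  rw [e1, e2, e3, gf4_sq_add, gf4_sq_add, quad_add h ha, quad_add h hb, quad_add h hc,
    quad_add h hc]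
  have hz : ∀ x : GF4, ∀ t : T, t * quad ρ (cm a b) x = quad ρ (cm a b) x * t := fun x t =>
    Subgroup.mem_center_iff.mp (quad_mem_center h (hC.hcm a b) x) t
  apply phi_aux (hz _) (hz _)
  rw [mul_eq_mul_cm (quad ρ a (g.1.1 0 1)) (quad ρ b (g'.1.1 1 2)), cm_quad h hC]

/-- the coordinate map as a homomorphism. -/
def phiHom [Finite T] (h : Fpf3 ρ) (hC : Cl2 T) {a b : T} (ha : a * a = 1) (hb : b * b = 1) :
    UT 3 GF4 →* T :=
  MonoidHom.mk' (phi ρ a b) (phi_mul h hC ha hb)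

theorem phi_injective [Finite T] (h : Fpf3 ρ) (hC : Cl2 T) {a b : T} (ha : a * a = 1)
    (hb : b * b = 1) (hab : cm a b ≠ 1) : Function.Injective (phiHom h hC ha hb) := by
  rw [injective_iff_map_eq_one]
  intro g hg
  have hg' : phi ρ a b g = 1 := hg
  unfold phi at hg'
  set x := g.1.1 0 1 with hx
  set y := g.1.1 1 2 with hy
  set w' := g.1.1 0 2 with hw
  have hzc : ∀ v : GF4, quad ρ (cm a b) v ∈ Subgroup.center T :=
    fun v => quad_mem_center h (hC.hcm a b) v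
  -- `x = 0`
  have hx0 : x = 0 := by
    have h1 : quad ρ a x = (quad ρ b y)⁻¹ * (quad ρ (cm a b) (w' * w'))⁻¹ := by
      have : quad ρ a x = (quad ρ b y)⁻¹ * (quad ρ b y * quad ρ a x * quad ρ (cm a b) (w' * w')) *
          (quad ρ (cm a b) (w' * w'))⁻¹ := by group
      rw [this, hg', mul_one]
    have h2 : cm (quad ρ a x) (quad ρ b 1) = 1 := by
      rw [h1, hC.cm_mul_left, hC.cm_central_left (Subgroup.inv_mem _ (hzc _)), mul_one]
      rw [cm_eq_one_iff]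
      have h3 : quad ρ b y * quad ρ b 1 = quad ρ b 1 * quad ρ b y := by
        rw [← quad_add h hb, ← quad_add h hb, add_comm]
      calc (quad ρ b y)⁻¹ * quad ρ b 1
          = (quad ρ b y)⁻¹ * (quad ρ b 1 * quad ρ b y) * (quad ρ b y)⁻¹ := by group
        _ = (quad ρ b y)⁻¹ * (quad ρ b y * quad ρ b 1) * (quad ρ b y)⁻¹ := by rw [h3]
        _ = quad ρ b 1 * (quad ρ b y)⁻¹ := by group
    rw [cm_quad h hC, mul_one] at h2
    exact gf4_sq_eq_zero _ (quad_eq_one h hab h2)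
  rw [hx0, quad_zero, mul_one] at hg'
  have hy0 : y = 0 := by
    have h1 : quad ρ b y = (quad ρ (cm a b) (w' * w'))⁻¹ := eq_inv_of_mul_eq_one_left hg'
    have h2 : cm (quad ρ a 1) (quad ρ b y) = 1 := by
      rw [h1]
      exact hC.cm_central_right (Subgroup.inv_mem _ (hzc _)) _
    rw [cm_quad h hC, one_mul] at h2
    exact gf4_sq_eq_zero _ (quad_eq_one h hab h2)
  rw [hy0, quad_zero, one_mul] at hg'
  have hw0 : w' = 0 := gf4_sq_eq_zero _ (quad_eq_one h hab hg')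
  obtain ⟨h00, h11, h22, h10, h20, h21⟩ := ut_entries g
  apply Subtype.ext
  apply Subtype.ext
  ext i j
  show g.1.1 i j = (1 : Matrix (Fin 3) (Fin 3) GF4) i j
  fin_cases i <;> fin_cases j
  · simpa using h00
  · simpa using hx0
  · simpa using hw0
  · simpa using h10
  · simpa using h11
  · simpa using hy0
  · simpa using h20
  · simpa using h21
  · simpa using h22

theorem card_UT3 : Nat.card (UT 3 GF4) = 64 := by
  rw [card_UT, GF4.card_eq]
  decide

/-- **the core identification.** -/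
theorem core_equiv [Finite T] (h : Fpf3 ρ) (hC : Cl2 T) (hT : Nat.card T = 64) {a b : T}
    (ha : a * a = 1) (hb : b * b = 1) (hab : cm a b ≠ 1) : Nonempty (T ≃* UT 3 GF4) := by
  have hinj := phi_injective h hC ha hb hab
  have hbij : Function.Bijective (phiHom h hC ha hb) :=
    hinj.bijective_of_nat_card_le (by rw [hT, card_UT3])
  exact ⟨(MulEquiv.ofBijective _ hbij).symm⟩

theorem gf4_card' : Fintype.card GF4 = 2 ^ 2 := by rw [GF4.card_eq]; norm_num

/-- the unitriangular group as a Sylow subgroup of `PSL₃(4)`. -/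
theorem ut_equiv_sylow :
    Nonempty (UT 3 GF4 ≃* ↥((sylUT (p := 2) (f := 2) gf4_card' (by norm_num) 3 (by norm_num) :
      Sylow 2 (Matrix.ProjectiveSpecialLinearGroup (Fin 3) GF4)) :
        Subgroup (Matrix.ProjectiveSpecialLinearGroup (Fin 3) GF4))) := by
  rw [coe_sylUT]
  have hbij : Function.Bijective ((prj (ι := Fin 3) (F := GF4)).subgroupMap (UT 3 GF4)) := by
    refine ⟨?_, MonoidHom.subgroupMap_surjective _ _⟩
    intro g g' hgg
    have h1 : prj g.1 = prj g'.1 := congrArg Subtype.val hgg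
    exact Subtype.ext (eq_of_prj_eq_of_mem_UT (by norm_num) g.2 g'.2 h1)
  exact ⟨MulEquiv.ofBijective _ hbij⟩

end Cfsg.Agent.Helper65.Ord64
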