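import Cfsg.Agent.Helper65.Ord64C

/-!
# The involution inverting the automorphism of order three: its fixed points
-/

set_option autoImplicit false

namespace Cfsg.Agent.Helper65.Ord64

open Cfsg.Agent.Helper65.Suz

variable {T : Type*} [Group T] {ρ x : MulAut T}

theorem aut_center (k : MulAut T) {z : T} (hz : z ∈ Subgroup.center T) :
    k z ∈ Subgroup.center T := by
  rw [Subgroup.mem_center_iff] at hz ⊢
  intro g
  have := congrArg k (hz (k.symm g))
  rwa [map_mul, map_mul, k.apply_symm_apply] at this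

/-- the data of the involution. -/
structure XData (ρ x : MulAut T) (C : Subgroup T) : Prop where
  hx2 : ∀ g, x (x g) = g
  hxρ : ∀ g, x (ρ g) = ρ (ρ (x g))
  hC : ∀ y, y ∈ C ↔ x y = y

theorem prod_injective (D : Subgroup T) (hD : ∀ d ∈ D, ρ d ∈ D → d = 1) :
    Function.Injective (fun p : D × D => p.1.1 * ρ p.2.1) := by
  rintro ⟨⟨d, hd⟩, ⟨e, he⟩⟩ ⟨⟨d', hd'⟩, ⟨e', he'⟩⟩ hf
  have h1 : d * ρ e = d' * ρ e' := hf
  have h2 : ρ (e' * e⁻¹) = d'⁻¹ * d := by
    rw [map_mul, map_inv]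
    calc ρ e' * (ρ e)⁻¹ = d'⁻¹ * (d' * ρ e') * (ρ e)⁻¹ := by group
      _ = d'⁻¹ * (d * ρ e) * (ρ e)⁻¹ := by rw [h1]
      _ = d'⁻¹ * d := by group
  have h3 : e' * e⁻¹ = 1 := by
    apply hD _ (D.mul_mem he' (D.inv_mem he))
    rw [h2]
    exact D.mul_mem (D.inv_mem hd') hd
  have h4 : e' = e := mul_inv_eq_one.mp h3
  subst h4
  have h5 : d = d' := mul_right_cancel h1
  subst h5
  rfl

/-- a counting bound for subgroups meeting their image trivially. -/
theorem card_sq_le [Finite T] (D M : Subgroup T) (hDM : D ≤ M) (hρD : ∀ d ∈ D, ρ d ∈ M)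
    (hD : ∀ d ∈ D, ρ d ∈ D → d = 1) : Nat.card D * Nat.card D ≤ Nat.card M := by
  rw [← Nat.card_prod]
  let f : D × D → M := fun p => ⟨p.1.1 * ρ p.2.1, M.mul_mem (hDM p.1.2) (hρD _ p.2.2)⟩
  apply Nat.card_le_card_of_injective f
  intro p q hf
  exact prod_injective D hD (congrArg Subtype.val hf)

theorem eq_or_eq_of_card_le_two [Finite T] {H : Subgroup T} (hcard : Nat.card H ≤ 2) {a : T}
    (ha : a ∈ H) (ha1 : a ≠ 1) {g : T} (hg : g ∈ H) : g = 1 ∨ g = a := by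
  by_contra hcon
  push Not at hcon
  have h1 : ({g, 1, a} : Set T) ⊆ (H : Set T) := by
    rintro y (hy | hy | hy)
    · rw [hy]; exact hg
    · rw [hy]; exact H.one_mem
    · rw [hy]; exact ha
  have h2 : ({g, 1, a} : Set T).ncard = 3 :=
    Set.ncard_eq_three.mpr ⟨g, 1, a, hcon.1, hcon.2, ha1.symm, rfl⟩
  have h3 := Set.ncard_le_ncard h1 (Set.toFinite _)
  have h4 : (H : Set T).ncard = Nat.card H := (Nat.card_coe_set_eq (H : Set T)).symm
  omega

namespace XData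

variable {C : Subgroup T}

theorem inter_eq_one (hX : XData ρ x C) (h : Fpf3 ρ) {d : T} (hd : d ∈ C) (hd' : ρ d ∈ C) :
    d = 1 := by
  rw [hX.hC] at hd hd'
  rw [hX.hxρ, hd] at hd'
  have h1 : ρ d = d := ρ.injective hd'
  exact h.hfp d h1

theorem card_le [Finite T] (hX : XData ρ x C) (h : Fpf3 ρ) (hT : Nat.card T = 64) :
    Nat.card C ≤ 8 := by
  have h1 := card_sq_le (ρ := ρ) C ⊤ le_top (fun _ _ => Subgroup.mem_top _)
    (fun d hd hd' => hX.inter_eq_one h hd hd')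
  rw [Subgroup.card_top, hT] at h1
  nlinarith

/-- the fixed points in the centre. -/
theorem exists_z1 [Finite T] (hX : XData ρ x C) (hC2 : Cl2 T)
    (hZ : Nat.card (Subgroup.center T) = 4) :
    ∃ z1 ∈ Subgroup.center T, z1 ≠ 1 ∧ x z1 = z1 := by
  have hne : Subgroup.center T ≠ ⊥ := by
    rw [← Subgroup.one_lt_card_iff_ne_bot, hZ]
    norm_num
  obtain ⟨⟨z, hz⟩, hz1⟩ := (Subgroup.ne_bot_iff_exists_ne_one.mp hne)
  have hz1' : z ≠ 1 := fun h => hz1 (Subtype.ext h)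
  by_cases hxz : x z = z
  · exact ⟨z, hz, hz1', hxz⟩
  · refine ⟨z * x z, Subgroup.mul_mem _ hz (aut_center x hz), ?_, ?_⟩
    · intro h1
      apply hxz
      have h2 : z * z = 1 := hC2.hcsq z hz
      have h3 : x z = z⁻¹ := eq_inv_of_mul_eq_one_right h1
      rw [h3]
      exact inv_eq_of_mul_eq_one_left h2
    · rw [map_mul, hX.hx2]
      exact Subgroup.mem_center_iff.mp hz (x z)

theorem fixZ_cases [Finite T] (hX : XData ρ x C) (h : Fpf3 ρ)
    (hZ : Nat.card (Subgroup.center T) = 4) {z1 : T} (hz1 : z1 ∈ Subgroup.center T)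
    (hz11 : z1 ≠ 1) (hxz1 : x z1 = z1) {z : T} (hz : z ∈ Subgroup.center T) (hxz : x z = z) :
    z = 1 ∨ z = z1 := by
  have h1 := card_sq_le (ρ := ρ) (C ⊓ Subgroup.center T) (Subgroup.center T) inf_le_right
    (fun d hd => center_inv h d hd.2) (fun d hd hd' => hX.inter_eq_one h hd.1 hd'.1)
  rw [hZ] at h1
  have h2 : Nat.card (C ⊓ Subgroup.center T : Subgroup T) ≤ 2 := by nlinarith
  exact eq_or_eq_of_card_le_two h2 ⟨(hX.hC z1).mpr hxz1, hz1⟩ hz11 ⟨(hX.hC z).mpr hxz, hz⟩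

/-- correcting an almost fixed element by a central element. -/
theorem adjust [Finite T] (hX : XData ρ x C) (h : Fpf3 ρ) (hC2 : Cl2 T)
    (hZ : Nat.card (Subgroup.center T) = 4) {z1 : T} (hz1 : z1 ∈ Subgroup.center T)
    (hz11 : z1 ≠ 1) (hxz1 : x z1 = z1) (n c : T) (hc : c ∈ Subgroup.center T)
    (hn : x n = n * c) (hxc : x c = c) : ∃ y, (y = 1 ∨ y = ρ z1) ∧ n * y ∈ C := by
  rcases hX.fixZ_cases h hZ hz1 hz11 hxz1 hc hxc with h1 | h1
  · refine ⟨1, Or.inl rfl, ?_⟩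
    rw [mul_one, hX.hC, hn, h1, mul_one]
  · refine ⟨ρ z1, Or.inr rfl, ?_⟩
    rw [hX.hC, map_mul, hn, hX.hxρ, hxz1, h1, mul_assoc]
    have hsq : z1 * z1 = 1 := hC2.hcsq z1 hz1
    have h2 : z1 * ρ (ρ z1) = ρ z1 := by
      have h3 := h.mul_r (show ρ (ρ z1) * ρ (ρ z1) = 1 by
        rw [← map_mul, ← map_mul, hsq, map_one, map_one])
      rw [h.h3] at h3
      rw [h.comm2 z1]
      exact h3
    rw [h2]

end XData

end Cfsg.Agent.Helper65.Ord64
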