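import Cfsg.Agent.Helper65.Ord64D

/-!
# The fixed points of the involution have order eight and do not commute
-/

set_option autoImplicit false

namespace Cfsg.Agent.Helper65.Ord64

open Cfsg.Agent.Helper65.Suz

variable {T : Type*} [Group T] {ρ x : MulAut T}

theorem Cl2.sq_mul (hC2 : Cl2 T) (s t : T) : (s * t) * (s * t) = (s * s) * (t * t) * cm t s := by
  have hc := Subgroup.mem_center_iff.mp (hC2.hcm t s)
  calc (s * t) * (s * t) = s * (t * s) * t := by group
    _ = s * (s * t * cm t s) * t := by rw [← mul_eq_mul_cm]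
    _ = s * s * t * (cm t s * t) := by group
    _ = s * s * t * (t * cm t s) := by rw [← hc t]
    _ = (s * s) * (t * t) * cm t s := by group

namespace XData

variable {C : Subgroup T}

/-- `C` has at least eight elements. -/
theorem card_ge [Finite T] (hX : XData ρ x C) (h : Fpf3 ρ) (hC2 : Cl2 T) (hT : Nat.card T = 64)
    (hZ : Nat.card (Subgroup.center T) = 4) : 8 ≤ Nat.card C := by
  obtain ⟨z1, hz1, hz11, hxz1⟩ := hX.exists_z1 hC2 hZ
  have hρz1 : ρ z1 ∈ Subgroup.center T := center_inv h z1 hz1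
  have hρz1sq : ρ z1 * ρ z1 = 1 := by rw [← map_mul, hC2.hcsq z1 hz1, map_one]
  let mkV : T →* T ⧸ Subgroup.center T := QuotientGroup.mk' (Subgroup.center T)
  have hmk1 : ∀ t, mkV t = 1 ↔ t ∈ Subgroup.center T := fun t => QuotientGroup.eq_one_iff t
  have hVcomm : ∀ u v : T ⧸ Subgroup.center T, u * v = v * u := by
    intro u v
    obtain ⟨a, rfl⟩ := QuotientGroup.mk_surjective u
    obtain ⟨b, rfl⟩ := QuotientGroup.mk_surjective v
    show mkV a * mkV b = mkV b * mkV a
    rw [← map_mul, mul_eq_mul_cm a b, map_mul, map_mul, (hmk1 _).mpr (hC2.hcm a b), mul_one]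
  let μ : T →* T ⧸ Subgroup.center T := MonoidHom.mk' (fun t => mkV t * mkV (x t)) (by
    intro a b
    simp only [map_mul]
    rw [mul_assoc, mul_assoc, ← mul_assoc (mkV b), hVcomm (mkV b) (mkV (x a)), mul_assoc])
  have hμ : ∀ t, μ t = mkV (t * x t) := fun t => (map_mul mkV t (x t)).symm
  -- the norm is almost fixed
  have hnorm : ∀ t : T, ∃ y, (y = 1 ∨ y = ρ z1) ∧ t * x t * y ∈ C := by
    intro t
    apply hX.adjust h hC2 hZ hz1 hz11 hxz1 (t * x t) (cm (x t) t) (hC2.hcm _ _)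
    · rw [map_mul, hX.hx2]
      exact mul_eq_mul_cm (x t) t
    · rw [map_cm, hX.hx2]
      exact hC2.cm_swap _ _
  -- elements of the kernel are almost fixed
  have hker : ∀ t : T, t * x t ∈ Subgroup.center T → ∃ y, (y = 1 ∨ y = ρ z1) ∧ t * y ∈ C := by
    intro t ht
    have hc : t⁻¹ * x t ∈ Subgroup.center T := by
      have : t⁻¹ * x t = (t * t)⁻¹ * (t * x t) := by group
      rw [this]
      exact Subgroup.mul_mem _ (Subgroup.inv_mem _ (hC2.hsq t)) ht
    apply hX.adjust h hC2 hZ hz1 hz11 hxz1 t (t⁻¹ * x t) hc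
    · group
    · rw [map_mul, map_inv, hX.hx2]
      have h1 : (x t)⁻¹ * t = (t⁻¹ * x t)⁻¹ := by group
      rw [h1]
      exact inv_eq_of_mul_eq_one_left (hC2.hcsq _ hc)
  let f : C →* T ⧸ Subgroup.center T := mkV.comp C.subtype
  have hrange : μ.range ≤ f.range := by
    rintro _ ⟨t, rfl⟩
    obtain ⟨y, hy, hmem⟩ := hnorm t
    have hyc : y ∈ Subgroup.center T := by
      rcases hy with hy | hy
      · rw [hy]; exact Subgroup.one_mem _
      · rw [hy]; exact hρz1
    refine ⟨⟨t * x t * y, hmem⟩, ?_⟩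
    show mkV (t * x t * y) = μ t
    rw [hμ, map_mul, (hmk1 y).mpr hyc, mul_one]
  have h1 : Nat.card μ.ker * Nat.card μ.range = 64 := by
    rw [← Subgroup.index_ker, Subgroup.card_mul_index, hT]
  have h2 : Nat.card μ.range ≤ Nat.card f.range := Subgroup.card_le_of_le hrange
  have h3 : Nat.card f.ker * Nat.card f.range = Nat.card C := by
    rw [← Subgroup.index_ker, Subgroup.card_mul_index]
  have h4 : 2 ≤ Nat.card f.ker := by
    have hne : f.ker ≠ ⊥ := by
      intro hbot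
      have hmem : (⟨z1, (hX.hC z1).mpr hxz1⟩ : C) ∈ f.ker := by
        rw [MonoidHom.mem_ker]
        show mkV z1 = 1
        exact (hmk1 z1).mpr hz1
      rw [hbot, Subgroup.mem_bot] at hmem
      exact hz11 (congrArg Subtype.val hmem)
    have := (Subgroup.one_lt_card_iff_ne_bot f.ker).mpr hne
    omega
  have h5 : Nat.card μ.ker ≤ 2 * Nat.card C := by
    have hsub : (μ.ker : Set T) ⊆ (C : Set T) ∪ (fun c => c * ρ z1) '' (C : Set T) := by
      intro t ht
      have ht' : t * x t ∈ Subgroup.center T := by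
        rw [← hmk1, ← hμ]
        exact ht
      obtain ⟨y, hy | hy, hmem⟩ := hker t ht'
      · left
        rwa [hy, mul_one] at hmem
      · right
        refine ⟨t * y, hmem, ?_⟩
        show t * y * ρ z1 = t
        rw [hy, mul_assoc, hρz1sq, mul_one]
    have e1 : Nat.card μ.ker = (μ.ker : Set T).ncard := Nat.card_coe_set_eq _
    have e2 : Nat.card C = (C : Set T).ncard := Nat.card_coe_set_eq _
    have e3 := Set.ncard_le_ncard hsub (Set.toFinite _)
    have e4 := Set.ncard_union_le (C : Set T) ((fun c => c * ρ z1) '' (C : Set T))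
    have e5 := Set.ncard_image_le (f := fun c => c * ρ z1) (Set.toFinite (C : Set T))
    omega
  by_contra hlt
  push Not at hlt
  have h6 : Nat.card f.range ≤ 3 := by nlinarith
  have h7 : Nat.card μ.ker ≤ 14 := by omega
  have h8 : Nat.card μ.range ≤ 3 := h2.trans h6
  have h9 : Nat.card μ.ker * Nat.card μ.range ≤ 14 * 3 := Nat.mul_le_mul h7 h8
  omega

theorem card_eq [Finite T] (hX : XData ρ x C) (h : Fpf3 ρ) (hC2 : Cl2 T) (hT : Nat.card T = 64)
    (hZ : Nat.card (Subgroup.center T) = 4) : Nat.card C = 8 :=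
  le_antisymm (hX.card_le h hT) (hX.card_ge h hC2 hT hZ)

theorem exists_prod [Finite T] (hX : XData ρ x C) (h : Fpf3 ρ) (hT : Nat.card T = 64)
    (hcard : Nat.card C = 8) (t : T) : ∃ d ∈ C, ∃ e ∈ C, t = d * ρ e := by
  have hinj := prod_injective (ρ := ρ) C (fun d hd hd' => hX.inter_eq_one h hd hd')
  have hbij := hinj.bijective_of_nat_card_le (by rw [Nat.card_prod, hcard, hT])
  obtain ⟨⟨⟨d, hd⟩, ⟨e, he⟩⟩, hp⟩ := hbij.2 t
  exact ⟨d, hd, e, he, hp.symm⟩

theorem exists_noncomm [Finite T] (hX : XData ρ x C) (h : Fpf3 ρ) (hC2 : Cl2 T)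
    (hT : Nat.card T = 64) (hZ : Nat.card (Subgroup.center T) = 4) :
    ∃ c1 ∈ C, ∃ c2 ∈ C, cm c1 c2 ≠ 1 := by
  have hcard := hX.card_eq h hC2 hT hZ
  by_contra hcon
  push Not at hcon
  have hle : C ≤ Subgroup.center T := by
    intro c hc
    rw [Subgroup.mem_center_iff]
    intro t
    obtain ⟨d, hd, e, he, rfl⟩ := hX.exists_prod h hT hcard t
    have h1 : cm c (d * ρ e) = 1 := by
      rw [hC2.cm_mul_right, hcon c hc d hd, key2 h hC2, hcon c hc e he, map_one, map_one,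
        mul_one]
    exact (cm_eq_one_iff.mp h1).symm
  have := Subgroup.card_le_of_le hle
  omega

/-- two non-commuting involutions. -/
theorem exists_involutions [Finite T] (hX : XData ρ x C) (h : Fpf3 ρ) (hC2 : Cl2 T)
    (hT : Nat.card T = 64) (hZ : Nat.card (Subgroup.center T) = 4) :
    ∃ a b : T, a * a = 1 ∧ b * b = 1 ∧ cm a b ≠ 1 := by
  obtain ⟨z1, hz1, hz11, hxz1⟩ := hX.exists_z1 hC2 hZ
  obtain ⟨c1, hc1, c2, hc2, hne⟩ := hX.exists_noncomm h hC2 hT hZ
  have hfix : ∀ g ∈ C, g ∈ Subgroup.center T → g = 1 ∨ g = z1 := fun g hg hgz =>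
    hX.fixZ_cases h hZ hz1 hz11 hxz1 hgz ((hX.hC g).mp hg)
  have hx1 := (hX.hC c1).mp hc1
  have hx2 := (hX.hC c2).mp hc2
  have hcc : cm c1 c2 = z1 := by
    have hmem : cm c1 c2 ∈ C := by
      rw [hX.hC, map_cm, hx1, hx2]
    rcases hfix _ hmem (hC2.hcm _ _) with h1 | h1
    · exact absurd h1 hne
    · exact h1
  have hcc' : cm c2 c1 = z1 := by rw [hC2.cm_swap c1 c2, hcc]
  have hz1sq : z1 * z1 = 1 := hC2.hcsq z1 hz1
  rcases hfix _ (C.mul_mem hc1 hc1) (hC2.hsq c1) with e1 | e1 <;>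
    rcases hfix _ (C.mul_mem hc2 hc2) (hC2.hsq c2) with e2 | e2
  · exact ⟨c1, c2, e1, e2, hne⟩
  · refine ⟨c1, c1 * c2, e1, ?_, ?_⟩
    · rw [hC2.sq_mul, e1, e2, hcc', one_mul, hz1sq]
    · rw [hC2.cm_mul_right, cm_self, one_mul]
      exact hne
  · refine ⟨c1 * c2, c2, ?_, e2, ?_⟩
    · rw [hC2.sq_mul, e1, e2, hcc', mul_one, hz1sq]
    · rw [hC2.cm_mul_left, cm_self, mul_one]
      exact hne
  · have hr1 : ρ z1 * ρ z1 = 1 := by rw [← map_mul, hz1sq, map_one]
    refine ⟨c1 * ρ c2, c1 * ρ (ρ c2), ?_, ?_, ?_⟩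
    · rw [hC2.sq_mul, e1, ← map_mul, e2, key2' h hC2, hcc']
      exact h.prod z1
    · rw [hC2.sq_mul, e1, ← map_mul, ← map_mul, e2, hC2.cm_swap c1 (ρ (ρ c2)), key1 h hC2, hcc,
        mul_assoc, ← Subgroup.mem_center_iff.mp hz1 (ρ (ρ z1) * ρ z1)]
      exact h.prod' z1
    · rw [hC2.cm_mul_left, hC2.cm_mul_right, hC2.cm_mul_right, cm_self, one_mul, key1 h hC2, hcc,
        key2' h hC2, hcc', key_rr h hC2, cm_eq_one_iff.mpr (h.comm c2), map_one, mul_one]
      have h2 := h.mul_r hr1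
      rw [h.h3] at h2
      rw [h2]
      exact hz11

end XData

end Cfsg.Agent.Helper65.Ord64
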