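import Mathlib
import Cfsg.Agent.Helper45.Dihedral
import Cfsg.Agent.Helper5.Q8Recog

/-!
# Nonabelian groups of order eight are dihedral or quaternion
-/

set_option autoImplicit false

namespace Cfsg.Agent.Helper65.Ord64

/-- a nonabelian group of order eight is dihedral or quaternion. -/
theorem nonabelian_card_eight {C : Type*} [Group C] [Finite C] (hcard : Nat.card C = 8)
    (hna : ¬ ∀ a b : C, a * b = b * a) :
    Nonempty (C ≃* DihedralGroup 4) ∨ Nonempty (C ≃* QuaternionGroup 2) := by
  classical
  have hord : ∀ g : C, orderOf g = 1 ∨ orderOf g = 2 ∨ orderOf g = 4 := by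
    intro g
    have hdvd : orderOf g ∣ 2 ^ 3 := by
      have := orderOf_dvd_natCard g
      rwa [hcard] at this
    obtain ⟨k, hk3, hk⟩ := (Nat.dvd_prime_pow Nat.prime_two).mp hdvd
    interval_cases k
    · left; simpa using hk
    · right; left; simpa using hk
    · right; right; simpa using hk
    · exfalso
      apply hna
      haveI : IsCyclic C := isCyclic_of_orderOf_eq_card g (by rw [hk, hcard]; norm_num)
      intro a b
      exact (IsCyclic.commGroup (α := C)).mul_comm a b
  have h4 : ∀ g : C, g ^ 4 = 1 := by
    intro g
    apply orderOf_dvd_iff_pow_eq_one.mp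
    rcases hord g with h | h | h <;> rw [h] <;> norm_num
  obtain ⟨a, ha⟩ : ∃ a : C, orderOf a = 4 := by
    by_contra hno
    push Not at hno
    apply hna
    have h2 : ∀ g : C, orderOf g ∣ 2 := by
      intro g
      rcases hord g with h | h | h
      · rw [h]; norm_num
      · rw [h]
      · exact absurd h (hno g)
    intro y x'
    exact (Commute.of_orderOf_dvd_two h2 y x').eq
  have ha4 : a ^ 4 = 1 := h4 a
  have ha2 : a ^ 2 ≠ 1 := pow_ne_one_of_lt_orderOf (by norm_num) (by rw [ha]; norm_num)
  have ha1 : a ≠ 1 := by
    intro h
    rw [h, orderOf_one] at ha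
    omega
  set A := Subgroup.zpowers a with hA
  have hcardA : Nat.card A = 4 := by rw [Nat.card_zpowers, ha]
  have hidx : A.index = 2 := by
    have := Subgroup.card_mul_index A
    rw [hcardA, hcard] at this
    omega
  have hAel : ∀ g ∈ A, g = 1 ∨ g = a ∨ g = a ^ 2 ∨ g = a ^ 3 := by
    intro g hg
    rw [hA, mem_zpowers_iff_mem_range_orderOf, ha, Finset.mem_image] at hg
    obtain ⟨k, hk, rfl⟩ := hg
    rw [Finset.mem_range] at hk
    interval_cases k
    · left; exact pow_zero a
    · right; left; exact pow_one a
    · right; right; left; rfl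
    · right; right; right; rfl
  have hgen : ∀ x : C, x ∉ A → ∀ g : C, g ∈ A ∨ x * g ∈ A := by
    intro x hx g
    by_cases hg : g ∈ A
    · exact Or.inl hg
    · right
      rw [Subgroup.mul_mem_iff_of_index_two hidx]
      exact ⟨fun h => absurd h hx, fun h => absurd h hg⟩
  by_cases hinv : ∃ x : C, x ∉ A ∧ x * x = 1
  · left
    obtain ⟨x, hxA, hx2⟩ := hinv
    haveI : A.Normal := Subgroup.normal_of_index_eq_two hidx
    have hconj : x * a * x⁻¹ ∈ A :=
      Subgroup.Normal.conj_mem inferInstance a (Subgroup.mem_zpowers a) x
    have hrel : x * a * x⁻¹ = a⁻¹ := by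
      rcases hAel _ hconj with h | h | h | h
      · exfalso
        exact ha1 (conj_eq_one_iff.mp h)
      · exfalso
        apply hna
        have hc : Commute x a := by
          show x * a = a * x
          calc x * a = (x * a * x⁻¹) * x := by group
            _ = a * x := by rw [h]
        have hall : ∀ g : C, Commute g a ∧ Commute g x := by
          intro g
          rcases hgen x hxA g with hg | hg
          · obtain ⟨k, rfl⟩ := Subgroup.mem_zpowers_iff.mp hg
            exact ⟨(Commute.refl a).zpow_left k, hc.symm.zpow_left k⟩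
          · obtain ⟨k, hk⟩ := Subgroup.mem_zpowers_iff.mp hg
            have hg' : g = x⁻¹ * a ^ k := by rw [hk]; group
            rw [hg']
            exact ⟨hc.inv_left.mul_left ((Commute.refl a).zpow_left k),
              (Commute.refl x).inv_left.mul_left (hc.symm.zpow_left k)⟩
        intro g g'
        rcases hgen x hxA g' with hg | hg
        · obtain ⟨k, rfl⟩ := Subgroup.mem_zpowers_iff.mp hg
          exact ((hall g).1.zpow_right k).eq
        · obtain ⟨k, hk⟩ := Subgroup.mem_zpowers_iff.mp hg
          have hg' : g' = x⁻¹ * a ^ k := by rw [hk]; group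
          rw [hg']
          exact ((hall g).2.inv_right.mul_right ((hall g).1.zpow_right k)).eq
      · exfalso
        have h1 : (x * a * x⁻¹) ^ 2 = 1 := by
          rw [h, ← pow_mul]
          exact ha4
        rw [conj_pow] at h1
        exact ha2 (conj_eq_one_iff.mp h1)
      · rw [h]
        apply eq_inv_of_mul_eq_one_left
        rw [← pow_succ]
        exact ha4
    exact Cfsg.Agent.Helper45.nonempty_mulEquiv_dihedral 4 a x ha hx2 hrel hxA (hgen x hxA)
  · right
    push Not at hinv
    apply Cfsg.Agent.Helper5.quaternion_of_unique_involution hcard (a ^ 2) _ h4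
    intro g hg
    by_cases hgA : g ∈ A
    · rcases hAel g hgA with h | h | h | h
      · exact Or.inl h
      · exfalso
        rw [h] at hg
        exact ha2 hg
      · exact Or.inr h
      · exfalso
        rw [h, ← pow_mul] at hg
        apply ha2
        calc a ^ 2 = a ^ 4 * a ^ 2 := by rw [ha4, one_mul]
          _ = a ^ (3 * 2) := by rw [← pow_add]
          _ = 1 := hg
    · exfalso
      apply hinv g hgA
      rw [← pow_two]
      exact hg

end Cfsg.Agent.Helper65.Ord64
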