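import Mathlib
import Cfsg.Agent.Helper52.PQDefs
import Cfsg.Agent.Helper32.PQSQ
import Cfsg.Agent.Helper80.PQSR
import Cfsg.Agent.Helper79.PQNS
import Cfsg.Agent.Helper38.PQFA
import Cfsg.Agent.Helper65.PQBS

/-!
# (BS) for helper52 (S4306): exact skeleton signature
-/

set_option autoImplicit false

namespace Cfsg.Agent.Helper65.PQ

open Subgroup Cfsg.Agent.Helper1.Shult Cfsg.Agent.Helper52.PQ

variable {H : Type*} [Group H] [Finite H] {s t ℓ w u : ℕ} [Fact ℓ.Prime] [Fact w.Prime]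
  [Fact u.Prime] {σ τ : H} {V Q R : Subgroup H}

/-- (BS) `Q` nonabelian, a hyperplane of `σ`-type. -/
theorem caseB_sigma (c : CoreCfg s t ℓ w u σ τ V Q R) (D : Subgroup H)
    (hD : IsHyp w ⁅Q, Q⁆ ⊥ D) (hVD : V ⊓ centralizer (D : Set H) ≠ ⊥)
    (hσD : σ ∈ normalizer (D : Set H))
    (hfix : (V ⊓ centralizer (D : Set H)) ⊓ centralizer {σ} = ⊥) : False :=
  caseB_sigma_of c (Cfsg.Agent.Helper38.PQFA.frob_dvd_pred c.hF)
    (Cfsg.Agent.Helper38.PQFA.frob_conj_sigma c.hF)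
    (Cfsg.Agent.Helper32.PQ.struct_Q c).1 (Cfsg.Agent.Helper32.PQ.struct_Q c).2.1
    (Cfsg.Agent.Helper80.PQ.struct_R c) (Cfsg.Agent.Helper79.PQ.not_sigma_central c)
    D hD hVD hσD hfix

end Cfsg.Agent.Helper65.PQ
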