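import Mathlib
import Cfsg.Agent.Helper52.PQDefs
import Cfsg.Agent.Helper32.PQSQ
import Cfsg.Agent.Helper65.PQOB

/-!
# (OB) for helper52 (S4306): exact skeleton signature
-/

set_option autoImplicit false

namespace Cfsg.Agent.Helper65.PQ

open Subgroup Cfsg.Agent.Helper1.Shult Cfsg.Agent.Helper52.PQ

variable {H : Type*} [Group H] [Finite H] {s t ℓ w u : ℕ} [Fact ℓ.Prime] [Fact w.Prime]
  [Fact u.Prime] {σ τ : H} {V Q R : Subgroup H}

/-- (OB) `Q` nonabelian: the `⟨σ,τ⟩`-conjugates of `V_D` generate `V`, in the form used. -/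
theorem caseB_orbit_faithful (c : CoreCfg s t ℓ w u σ τ V Q R) (D : Subgroup H)
    (hD : IsHyp w ⁅Q, Q⁆ ⊥ D) (hVD : V ⊓ centralizer (D : Set H) ≠ ⊥) :
    ∀ g ∈ Q, (∀ a ∈ closure ({σ, τ} : Set H),
      a * g * a⁻¹ ∈ centralizer ((V ⊓ centralizer (D : Set H) : Subgroup H) : Set H)) → g = 1 :=
  caseB_orbit_faithful_of c (Cfsg.Agent.Helper32.PQ.struct_Q c).1
    (Cfsg.Agent.Helper32.PQ.struct_Q c).2.1 D hD hVD

end Cfsg.Agent.Helper65.PQ
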