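import Cfsg.Agent.Helper88.PSL3Fus

/-!
# Semidihedral Sylow 2-subgroups of `GL₂(F)`: central involutions (piece (S2) for helper88, S5318)
-/

set_option autoImplicit false

namespace Cfsg.Agent.Helper65.PSL3S

open Matrix Cfsg.Agent.Helper37.PSL3Inv Cfsg.Agent.Helper37.SU3Inv Cfsg.Agent.Helper37.GL2S2
  Cfsg.Agent.Helper85 Cfsg.Agent.Helper88.PSL3F

variable {F : Type*} [Field F]

/-- `x` and `y` do not commute. -/
theorem sd_not_comm {P : Subgroup (GL (Fin 2) F)} {x y : GL (Fin 2) F} {b : ℕ}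
    (h : SdData P x y b) : y * x * y⁻¹ ≠ x := by
  intro hc
  rw [h.hyx] at hc
  have hb := h.hb
  have h2 : (4 : ℕ) ≤ 2 ^ b := by
    calc (4 : ℕ) = 2 ^ 2 := by norm_num
      _ ≤ 2 ^ b := Nat.pow_le_pow_right (by norm_num) hb
  have h1 : x ^ (2 ^ b - 2) = 1 := by
    have h3 : x ^ (2 ^ b - 1) = x ^ (2 ^ b - 2) * x := by
      rw [← pow_succ]
      congr 1
      omega
    rw [h3] at hc
    exact mul_eq_right.mp hc
  have h4 := orderOf_dvd_of_pow_eq_one h1
  rw [h.hx] at h4
  have h5 := Nat.le_of_dvd (by omega) h4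
  rw [pow_succ] at h5
  omega

/-- conjugation of a power of `x` by `y`. -/
theorem sd_conj_pow {P : Subgroup (GL (Fin 2) F)} {x y : GL (Fin 2) F} {b : ℕ}
    (h : SdData P x y b) (i : ℕ) : y * x ^ i * y⁻¹ = x ^ ((2 ^ b - 1) * i) := by
  rw [pow_mul, ← h.hyx]
  exact (conj_pow (a := y) (b := x) (i := i)).symm

theorem sd_x_mem {P : Subgroup (GL (Fin 2) F)} {x y : GL (Fin 2) F} {b : ℕ}
    (h : SdData P x y b) : x ∈ P := (h.mem x).mpr ⟨1, Or.inl (pow_one x).symm⟩

theorem sd_y_mem {P : Subgroup (GL (Fin 2) F)} {x y : GL (Fin 2) F} {b : ℕ}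
    (h : SdData P x y b) : y ∈ P := (h.mem y).mpr ⟨0, Or.inr (by rw [pow_zero, one_mul])⟩

/-- **(S2)** the only central involution is `-1`. -/
theorem sd_cen {P : Subgroup (GL (Fin 2) F)} {x y : GL (Fin 2) F} {b : ℕ} (h : SdData P x y b) :
    ∀ z ∈ P, (∀ w ∈ P, z * w = w * z) → z * z = 1 → z = 1 ∨ z = -1 := by
  intro z hz hc _
  have hb := h.hb
  obtain ⟨i, hi | hi⟩ := (h.mem z).mp hz
  · -- `z = x ^ i` commutes with `y`
    have h1 := hc y (sd_y_mem h)
    rw [hi] at h1
    have h2 : y * x ^ i * y⁻¹ = x ^ i := by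
      rw [← h1, mul_inv_cancel_right]
    rw [sd_conj_pow h] at h2
    have h3 := (pow_eq_pow_iff_modEq.mp h2)
    rw [h.hx] at h3
    -- `(2 ^ b - 1) * i ≡ i [MOD 2 ^ (b + 1)]`
    have h4 : 2 ^ b ∣ i := by
      have h5 : (2 ^ b - 1) * i = (2 ^ b - 2) * i + i := by
        have : 2 ^ b - 1 = (2 ^ b - 2) + 1 := by
          have : (4 : ℕ) ≤ 2 ^ b := by
            calc (4 : ℕ) = 2 ^ 2 := by norm_num
              _ ≤ 2 ^ b := Nat.pow_le_pow_right (by norm_num) hb
          omega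
        rw [this, add_mul, one_mul]
      rw [h5] at h3
      have h6 : 2 ^ (b + 1) ∣ (2 ^ b - 2) * i := by
        have := (Nat.modEq_iff_dvd' (Nat.le_add_left _ _)).mp h3.symm
        rwa [Nat.add_sub_cancel] at this
      have h7 : 2 ^ b - 2 = 2 * (2 ^ (b - 1) - 1) := by
        have : 2 ^ b = 2 * 2 ^ (b - 1) := by
          rw [← pow_succ']
          congr 1
          omega
        rw [this]
        omega
      rw [h7, pow_succ', mul_assoc] at h6
      have h8 : 2 ^ b ∣ (2 ^ (b - 1) - 1) * i := Nat.dvd_of_mul_dvd_mul_left (by norm_num) h6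
      have hodd : Nat.Coprime (2 ^ b) (2 ^ (b - 1) - 1) := by
        apply Nat.Coprime.pow_left
        rw [Nat.coprime_two_left]
        have h9 : 2 ≤ 2 ^ (b - 1) := by
          calc 2 = 2 ^ 1 := by norm_num
            _ ≤ 2 ^ (b - 1) := Nat.pow_le_pow_right (by norm_num) (by omega)
        have h10 : Even (2 ^ (b - 1)) := (Nat.even_pow' (by omega)).mpr even_two
        exact Nat.Even.sub_odd (by omega) h10 odd_one
      exact hodd.dvd_of_dvd_mul_left h8
    obtain ⟨k, hk⟩ := h4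
    rw [hi, hk, pow_mul, h.hneg]
    rcases Nat.even_or_odd k with he | ho
    · left; exact he.neg_one_pow
    · right; exact ho.neg_one_pow
  · -- `z = x ^ i * y` commutes with `x`
    exfalso
    apply sd_not_comm h
    have h1 := hc x (sd_x_mem h)
    rw [hi] at h1
    -- `x ^ i * y * x = x * (x ^ i * y)`
    have h2 : y * x = x * y := by
      have h3 : x ^ i * (y * x) = x ^ i * (x * y) := by
        calc x ^ i * (y * x) = x ^ i * y * x := by rw [mul_assoc]
          _ = x * (x ^ i * y) := h1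
          _ = x * x ^ i * y := by rw [mul_assoc]
          _ = x ^ i * x * y := by rw [← pow_succ, ← pow_succ']
          _ = x ^ i * (x * y) := by rw [mul_assoc]
      exact mul_left_cancel h3
    rw [h2, mul_inv_cancel_right]

end Cfsg.Agent.Helper65.PSL3S
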