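import Cfsg.Agent.Helper65.PSL3S2

/-!
# Semidihedral Sylow 2-subgroups of `GL₂(F)`: the normalizer (piece (S3) for helper88, S5318)
-/

set_option autoImplicit false

namespace Cfsg.Agent.Helper65.PSL3S

open Matrix Cfsg.Agent.Helper37.PSL3Inv Cfsg.Agent.Helper37.SU3Inv Cfsg.Agent.Helper37.GL2S2
  Cfsg.Agent.Helper85 Cfsg.Agent.Helper88.PSL3F

/-- a `p`-element normalizing a Sylow `p`-subgroup lies in it. -/
theorem mem_sylow_of_mem_normalizer {G : Type*} [Group G] {p : ℕ} [Fact p.Prime] (P : Sylow p G)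
    {u : G} {N : ℕ} (hu : u ^ p ^ N = 1)
    (hn : u ∈ Subgroup.normalizer ((P : Subgroup G) : Set G)) : u ∈ (P : Subgroup G) := by
  have h1 : IsPGroup p (Subgroup.zpowers u) := by
    rintro ⟨y, hy⟩
    obtain ⟨k, rfl⟩ := Subgroup.mem_zpowers_iff.mp hy
    refine ⟨N, Subtype.ext ?_⟩
    show (u ^ k) ^ p ^ N = 1
    rw [← zpow_natCast, ← _root_.zpow_mul, mul_comm, _root_.zpow_mul, zpow_natCast, hu, _root_.one_zpow]
  have h2 : Subgroup.zpowers u ≤ Subgroup.normalizer ((P : Subgroup G) : Set G) := by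
    rw [Subgroup.zpowers_le]
    exact hn
  have h3 := h1.to_sup_of_normal_right' P.isPGroup' h2
  have h4 := P.is_maximal' h3 le_sup_right
  have h5 : u ∈ Subgroup.zpowers u ⊔ (P : Subgroup G) :=
    Subgroup.mem_sup_left (Subgroup.mem_zpowers u)
  rw [h4] at h5
  exact h5

/-- if the `p'`-elements of `N_G(P)` centralize the Sylow `p`-subgroup `P` then
`N_G(P) = P C_G(P)`. -/
theorem selfNorm_of_coprime_cent {G : Type*} [Group G] [Finite G] (p : ℕ) [Fact p.Prime]
    (P : Sylow p G)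
    (h : ∀ g ∈ Subgroup.normalizer ((P : Subgroup G) : Set G), (orderOf g).Coprime p →
      g ∈ Subgroup.centralizer ((P : Subgroup G) : Set G)) : SelfNorm (P : Subgroup G) := by
  have hp : p.Prime := Fact.out
  intro g hg
  obtain ⟨k, m, hm, hkm⟩ := Nat.exists_eq_pow_mul_and_not_dvd (orderOf_pos g).ne' p hp.ne_one
  have hcop : Nat.Coprime (p ^ k) m := ((Nat.Prime.coprime_iff_not_dvd hp).mpr hm).pow_left k
  obtain ⟨u, v, huv⟩ := Nat.isCoprime_iff_coprime.mpr hcop
  -- `huv : u * ↑(p ^ k) + v * ↑m = 1`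
  have hN := Subgroup.zpow_mem _ hg
  obtain ⟨c, hc⟩ : ∃ c, c = g ^ (u * ((p ^ k : ℕ) : ℤ)) := ⟨_, rfl⟩
  obtain ⟨s, hs⟩ : ∃ s, s = g ^ (v * (m : ℤ)) := ⟨_, rfl⟩
  have hgsc : g = s * c := by
    rw [hs, hc, ← _root_.zpow_add, add_comm, huv, zpow_one]
  have hcm : c ^ m = 1 := by
    rw [hc, ← zpow_natCast, ← _root_.zpow_mul, mul_assoc, mul_comm, _root_.zpow_mul]
    have : (((p ^ k : ℕ) : ℤ) * (m : ℤ)) = ((orderOf g : ℕ) : ℤ) := by
      rw [hkm]; push_cast; ring
    rw [this, zpow_natCast, pow_orderOf_eq_one, _root_.one_zpow]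
  have hsp : s ^ p ^ k = 1 := by
    rw [hs, ← zpow_natCast, ← _root_.zpow_mul, mul_assoc, mul_comm, _root_.zpow_mul]
    have : ((m : ℤ) * ((p ^ k : ℕ) : ℤ)) = ((orderOf g : ℕ) : ℤ) := by
      rw [hkm]; push_cast; ring
    rw [this, zpow_natCast, pow_orderOf_eq_one, _root_.one_zpow]
  have hcN : c ∈ Subgroup.normalizer ((P : Subgroup G) : Set G) := by rw [hc]; exact hN _
  have hsN : s ∈ Subgroup.normalizer ((P : Subgroup G) : Set G) := by rw [hs]; exact hN _
  have hcC : c ∈ Subgroup.centralizer ((P : Subgroup G) : Set G) := by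
    apply h c hcN
    have h1 : orderOf c ∣ m := orderOf_dvd_of_pow_eq_one hcm
    exact Nat.Coprime.coprime_dvd_left h1 ((Nat.Prime.coprime_iff_not_dvd hp).mpr hm).symm
  have hsP : s ∈ (P : Subgroup G) := mem_sylow_of_mem_normalizer P hsp hsN
  refine ⟨s, hsP, fun x hx => ?_⟩
  have hcx : x * c = c * x := Subgroup.mem_centralizer_iff.mp hcC x hx
  rw [hgsc]
  calc s * c * x * (s * c)⁻¹ = s * (c * x) * c⁻¹ * s⁻¹ := by group
    _ = s * (x * c) * c⁻¹ * s⁻¹ := by rw [hcx]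
    _ = s * x * s⁻¹ := by group

variable {F : Type*} [Field F] [Fintype F]

/-- **(S3)** the normalizer of a semidihedral Sylow 2-subgroup of `GL₂(F)`. -/
theorem sd_selfNorm {P : Sylow 2 (GL (Fin 2) F)} {x y : GL (Fin 2) F} {b : ℕ}
    (h : SdData (P : Subgroup (GL (Fin 2) F)) x y b) : SelfNorm (P : Subgroup (GL (Fin 2) F)) := by
  haveI : Fact (Nat.Prime 2) := ⟨Nat.prime_two⟩
  apply selfNorm_of_coprime_cent 2 P
  intro g hg hodd
  have hb := h.hb
  obtain ⟨m, hm⟩ : ∃ m, m = orderOf g := ⟨_, rfl⟩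
  rw [← hm] at hodd
  have hgm : g ^ m = 1 := by rw [hm]; exact pow_orderOf_eq_one g
  have h8 : 8 ≤ 2 ^ (b + 1) := by
    calc 8 = 2 ^ (2 + 1) := by norm_num
      _ ≤ 2 ^ (b + 1) := Nat.pow_le_pow_right (by norm_num) (by omega)
  have hnorm : ∀ w, w ∈ (P : Subgroup (GL (Fin 2) F)) → g * w * g⁻¹ ∈ (P : Subgroup (GL (Fin 2) F)) :=
    fun w hw => (Subgroup.mem_normalizer_iff.mp hg w).mp hw
  have hord : ∀ w : GL (Fin 2) F, orderOf (g * w * g⁻¹) = orderOf w := by
    intro w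
    have := (MulAut.conj g).orderOf_eq w
    rwa [MulAut.conj_apply] at this
  -- squares of the elements outside the cyclic subgroup
  have hsq : ∀ i : ℕ, (x ^ i * y) ^ 4 = 1 := by
    intro i
    have h1 : (x ^ i * y) * (x ^ i * y) = x ^ (2 ^ b * i) := by
      have h2 : y * x ^ i = x ^ ((2 ^ b - 1) * i) * y := by
        rw [← sd_conj_pow h, inv_mul_cancel_right]
      calc (x ^ i * y) * (x ^ i * y) = x ^ i * (y * x ^ i) * y := by group
        _ = x ^ i * (x ^ ((2 ^ b - 1) * i) * y) * y := by rw [h2]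
        _ = x ^ i * x ^ ((2 ^ b - 1) * i) * (y * y) := by group
        _ = x ^ (2 ^ b * i) := by
            rw [h.hy, mul_one, ← pow_add]
            congr 1
            have : 1 ≤ 2 ^ b := Nat.one_le_two_pow
            calc i + (2 ^ b - 1) * i = (1 + (2 ^ b - 1)) * i := by ring
              _ = 2 ^ b * i := by congr 1; omega
    have h3 : (x ^ i * y) ^ 4 = ((x ^ i * y) * (x ^ i * y)) * ((x ^ i * y) * (x ^ i * y)) := by
      rw [show (4 : ℕ) = 2 + 2 from rfl, pow_add, pow_two]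
    rw [h3, h1, ← pow_add, ← two_mul, ← mul_assoc, ← pow_succ', pow_mul, ← h.hx,
      pow_orderOf_eq_one, one_pow]
  -- `g` maps `x` to a power of `x`
  obtain ⟨k, hk⟩ : ∃ k : ℕ, g * x * g⁻¹ = x ^ k := by
    obtain ⟨i, hi | hi⟩ := (h.mem _).mp (hnorm x (sd_x_mem h))
    · exact ⟨i, hi⟩
    · exfalso
      have h1 := orderOf_dvd_of_pow_eq_one (hsq i)
      rw [← hi, hord, h.hx] at h1
      have := Nat.le_of_dvd (by norm_num) h1
      omega
  have hkcop : Nat.Coprime k (2 ^ (b + 1)) := by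
    have h1 : orderOf (x ^ k) = orderOf x := by rw [← hk, hord]
    rw [orderOf_pow, h.hx] at h1
    have h2 : Nat.gcd (2 ^ (b + 1)) k = 1 := by
      have hpos : 2 ^ (b + 1) ≠ 0 := by positivity
      rcases Nat.div_eq_self.mp h1 with h0 | h0
      · exact absurd h0 hpos
      · exact h0
    rw [Nat.coprime_comm]
    exact h2
  have hpowk : ∀ j : ℕ, g ^ j * x * (g ^ j)⁻¹ = x ^ (k ^ j) := by
    intro j
    induction j with
    | zero => simp
    | succ j ih =>
      calc g ^ (j + 1) * x * (g ^ (j + 1))⁻¹ = g * (g ^ j * x * (g ^ j)⁻¹) * g⁻¹ := by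
            rw [pow_succ']; group
        _ = g * x ^ (k ^ j) * g⁻¹ := by rw [ih]
        _ = (g * x * g⁻¹) ^ (k ^ j) := (conj_pow (a := g) (b := x) (i := k ^ j)).symm
        _ = x ^ (k ^ (j + 1)) := by rw [hk, ← pow_mul, ← pow_succ']
  have hkm : k ^ m ≡ 1 [MOD 2 ^ (b + 1)] := by
    have h1 := hpowk m
    rw [hgm, inv_one, one_mul, mul_one] at h1
    have h2 : x ^ (k ^ m) = x ^ 1 := by rw [← h1, pow_one]
    rw [pow_eq_pow_iff_modEq, h.hx] at h2
    exact h2
  have hk1 : k ≡ 1 [MOD 2 ^ (b + 1)] := by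
    obtain ⟨u, hu⟩ : ∃ u : (ZMod (2 ^ (b + 1)))ˣ, u = ZMod.unitOfCoprime k hkcop := ⟨_, rfl⟩
    have hu1 : u ^ m = 1 := by
      apply Units.ext
      rw [Units.val_pow_eq_pow_val, hu, ZMod.coe_unitOfCoprime, Units.val_one]
      have := (ZMod.natCast_eq_natCast_iff (k ^ m) 1 (2 ^ (b + 1))).mpr hkm
      push_cast at this
      exact this
    have hu2 : u ^ 2 ^ b = 1 := by
      have := ZMod.pow_totient u
      rw [Nat.totient_prime_pow Nat.prime_two (by omega : 0 < b + 1)] at this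
      simpa using this
    have hu3 : orderOf u ∣ Nat.gcd m (2 ^ b) :=
      Nat.dvd_gcd (orderOf_dvd_of_pow_eq_one hu1) (orderOf_dvd_of_pow_eq_one hu2)
    have hgcd : Nat.gcd m (2 ^ b) = 1 := Nat.Coprime.pow_right b hodd
    rw [hgcd, Nat.dvd_one, orderOf_eq_one_iff] at hu3
    have h4 : ((k : ℕ) : ZMod (2 ^ (b + 1))) = ((1 : ℕ) : ZMod (2 ^ (b + 1))) := by
      have := congrArg Units.val hu3
      rw [hu, ZMod.coe_unitOfCoprime, Units.val_one] at this
      rw [this, Nat.cast_one]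
    exact (ZMod.natCast_eq_natCast_iff k 1 (2 ^ (b + 1))).mp h4
  have hgx : g * x * g⁻¹ = x := by
    rw [hk]
    have : x ^ k = x ^ 1 := by
      rw [pow_eq_pow_iff_modEq, h.hx]
      exact hk1
    rw [this, pow_one]
  have hgx' : g * x = x * g := by
    calc g * x = g * x * g⁻¹ * g := by group
      _ = x * g := by rw [hgx]
  have hgxi : ∀ i : ℕ, g * x ^ i = x ^ i * g := by
    intro i
    exact ((Commute.pow_right hgx' i) : Commute g (x ^ i)).eq
  -- `g` fixes `y`
  obtain ⟨i, hi⟩ : ∃ i : ℕ, g * y * g⁻¹ = x ^ i * y := by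
    obtain ⟨i, hi | hi⟩ := (h.mem _).mp (hnorm y (sd_y_mem h))
    · exfalso
      apply sd_not_comm h
      have h1 : y = x ^ i := by
        calc y = g⁻¹ * (g * y * g⁻¹) * g := by group
          _ = g⁻¹ * x ^ i * g := by rw [hi]
          _ = g⁻¹ * (x ^ i * g) := by rw [mul_assoc]
          _ = g⁻¹ * (g * x ^ i) := by rw [hgxi]
          _ = x ^ i := by group
      rw [h1, ← pow_succ, pow_succ', mul_inv_cancel_right]
    · exact ⟨i, hi⟩
  have hpowy : ∀ j : ℕ, g ^ j * y * (g ^ j)⁻¹ = x ^ (j * i) * y := by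
    intro j
    induction j with
    | zero => simp
    | succ j ih =>
      calc g ^ (j + 1) * y * (g ^ (j + 1))⁻¹ = g * (g ^ j * y * (g ^ j)⁻¹) * g⁻¹ := by
            rw [pow_succ']; group
        _ = g * (x ^ (j * i) * y) * g⁻¹ := by rw [ih]
        _ = (g * x ^ (j * i)) * y * g⁻¹ := by group
        _ = x ^ (j * i) * g * y * g⁻¹ := by rw [hgxi]
        _ = x ^ (j * i) * (g * y * g⁻¹) := by group
        _ = x ^ (j * i) * (x ^ i * y) := by rw [hi]
        _ = x ^ ((j + 1) * i) * y := by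
            rw [← mul_assoc, ← pow_add]
            congr 2
            ring
  have hxi : x ^ i = 1 := by
    have h1 := hpowy m
    rw [hgm, inv_one, one_mul, mul_one] at h1
    have h2 : x ^ (m * i) = 1 := by
      have : x ^ (m * i) * y = 1 * y := by rw [one_mul, ← h1]
      exact mul_right_cancel this
    have h3 := orderOf_dvd_of_pow_eq_one h2
    rw [h.hx] at h3
    have hcop : Nat.Coprime (2 ^ (b + 1)) m := (Nat.Coprime.pow_right (b + 1) hodd).symm
    have h4 : 2 ^ (b + 1) ∣ i := hcop.dvd_of_dvd_mul_left h3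
    rw [← h.hx] at h4
    exact orderOf_dvd_iff_pow_eq_one.mp h4
  have hgy : g * y = y * g := by
    rw [hxi, one_mul] at hi
    calc g * y = g * y * g⁻¹ * g := by group
      _ = y * g := by rw [hi]
  -- conclusion
  rw [Subgroup.mem_centralizer_iff]
  intro w hw
  obtain ⟨j, hj | hj⟩ := (h.mem w).mp hw
  · rw [hj]; exact (hgxi j).symm
  · rw [hj]
    calc x ^ j * y * g = x ^ j * (y * g) := by rw [mul_assoc]
      _ = x ^ j * (g * y) := by rw [hgy]
      _ = (x ^ j * g) * y := by rw [mul_assoc]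
      _ = g * x ^ j * y := by rw [hgxi]
      _ = g * (x ^ j * y) := by rw [mul_assoc]

end Cfsg.Agent.Helper65.PSL3S
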