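import Cfsg.Agent.Helper88.PSp4Hyp

/-!
# (F1) for helper88 (S5320): the elements of `S = Q ≀ 2` central modulo `±1` are `±1, ±t₀`
-/

set_option autoImplicit false

namespace Cfsg.Agent.Helper65.PSp4

open Matrix Equiv Cfsg.Agent.Helper42 Cfsg.Agent.Helper85 Cfsg.Agent.Helper84
  Cfsg.Agent.Helper88.PSp4F

variable {F : Type*} [Field F]

/-- (F1) -/
theorem hF1 (h2 : (2 : F) ≠ 0) (Q : Subgroup (SL2 F)) (hneg : negOneSL F ∈ Q) (hb : HQb Q)
    (hc : ∃ c ∈ Q, c * c = negOneSL F) : HF1 Q := by
  have hne : negOneSL F ≠ 1 := negOneSL_ne_one h2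
  have hsq : negOneSL F * negOneSL F = 1 := negOneSL_mul_self
  intro x hx hcomm
  obtain ⟨a, ha, b, hbQ, hab | hab⟩ := mem_SQ.1 hx
  · -- `x = io a b`
    subst hab
    have hxinv : (io a b)⁻¹ = io a⁻¹ b⁻¹ := io_inv a b
    have ha' : a = 1 ∨ a = negOneSL F := by
      apply hb
      intro c hcQ
      have h1 := hcomm (io c 1) (io_mem_SQ hcQ Q.one_mem)
      rw [io_inv, io_inv, io_mul, io_mul, io_mul] at h1
      have h3 : a * c * a⁻¹ * c⁻¹ = 1 := by
        rcases h1 with h1 | h1
        · rw [← io_one] at h1
          exact (io_injective h1).1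
        · rw [← io_neg_neg] at h1
          have h4 := (io_injective h1).2
          rw [mul_one, inv_one, mul_one, mul_inv_cancel] at h4
          exact absurd h4.symm hne
      calc a * c = (a * c * a⁻¹ * c⁻¹) * c * a := by group
        _ = c * a := by rw [h3, one_mul]
    have hb' : b = 1 ∨ b = negOneSL F := by
      apply hb
      intro c hcQ
      have h1 := hcomm (io 1 c) (io_mem_SQ Q.one_mem hcQ)
      rw [io_inv, io_inv, io_mul, io_mul, io_mul] at h1
      have h3 : b * c * b⁻¹ * c⁻¹ = 1 := by
        rcases h1 with h1 | h1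
        · rw [← io_one] at h1
          exact (io_injective h1).2
        · rw [← io_neg_neg] at h1
          have h4 := (io_injective h1).1
          rw [mul_one, inv_one, mul_one, mul_inv_cancel] at h4
          exact absurd h4.symm hne
      calc b * c = (b * c * b⁻¹ * c⁻¹) * c * b := by group
        _ = c * b := by rw [h3, one_mul]
    rcases ha' with rfl | rfl <;> rcases hb' with rfl | rfl
    · left; exact io_one
    · right; right; right; exact nI_mul_t0.symm
    · right; right; left; rfl
    · right; left; exact io_neg_neg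
  · -- `x = io a b * tw`: impossible
    exfalso
    subst hab
    obtain ⟨c, hcQ, hcc⟩ := hc
    have h1 := hcomm (io c 1) (io_mem_SQ hcQ Q.one_mem)
    have e : io a b * tw * io c 1 * (io a b * tw)⁻¹ * (io c 1)⁻¹ =
        io c⁻¹ (b * c * b⁻¹) := by
      have e1 : io a b * tw * io c 1 * (io a b * tw)⁻¹ =
          io a b * (tw * io c 1 * tw⁻¹) * (io a b)⁻¹ := by group
      rw [e1, tw_io_tw, io_inv, io_inv, io_mul, io_mul, io_mul]
      congr 1
      · group
      · group
    rw [e] at h1
    rcases h1 with h1 | h1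
    · rw [← io_one] at h1
      have h3 := (io_injective h1).1
      have h4 : c = 1 := inv_eq_one.mp h3
      rw [h4, mul_one] at hcc
      exact hne hcc.symm
    · rw [← io_neg_neg] at h1
      have h3 := (io_injective h1).1
      have h4 : c = (negOneSL F)⁻¹ := by rw [← h3, inv_inv]
      have h5 : (negOneSL F)⁻¹ = negOneSL F := inv_eq_of_mul_eq_one_right hsq
      rw [h4, h5, hsq] at hcc
      exact hne hcc.symm

end Cfsg.Agent.Helper65.PSp4
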