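import Mathlib
import Cfsg.Agent.Helper5.SuBN.Main
import Cfsg.Agent.Helper6.BN
import Cfsg.Agent.Helper9.PronAU.Defs

/-!
Helper65 for helper9, BLOCK AU of S2225/S2226, piece (BR): Bruhat decomposition `G = U N U` with `N`
monomial.
-/

set_option autoImplicit false
set_option linter.unusedSectionVars false
set_option linter.unusedVariables false

namespace Cfsg.Agent.Helper65.PronAU

open Matrix Cfsg.Agent.Helper5.SuBN Cfsg.Agent.Helper5.SuBN.Pair Cfsg.Agent.Helper5.SuBN.Main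
  Cfsg.Agent.Helper9.PronAU

section matrix

variable {F : Type*} [Field F] {n : ℕ} {σ : F →+* F}

/-- (BR) Bruhat decomposition `G = U N U` with `N` monomial. -/
theorem exists_Usub_Mono_Usub (hσ : ∀ x, σ (σ x) = x) (c : F) (hc0 : c ≠ 0) (hc : σ c = -c) (g : UG n σ) :
    ∃ u ∈ Usub n σ, ∃ m ∈ Mono n σ, ∃ u' ∈ Usub n σ, g = u * m * u' := by
  obtain ⟨m, hm, hg⟩ := Cfsg.Agent.Helper6.bruhat_exists (bnPair (n := n) hσ c hc0 hc) g
  rw [Cfsg.Agent.Helper6.mem_dc] at hg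
  obtain ⟨b, hb, b', hb', rfl⟩ := hg
  have hb1 : b ∈ Bsub n σ := hb
  have hb2 : b'⁻¹ ∈ Bsub n σ := (Bsub n σ).inv_mem hb'
  have hmN : m ∈ Nsub n σ c := hm
  obtain ⟨u, hu, t, ht, rfl⟩ := exists_Usub_mul_Tsub b hb1
  obtain ⟨u', hu', t', ht', hbt⟩ := exists_Usub_mul_Tsub b'⁻¹ hb2
  have hb'eq : b' = t'⁻¹ * u'⁻¹ := by
    rw [← _root_.mul_inv_rev, ← hbt, inv_inv]
  refine ⟨u, hu, t * m * t'⁻¹, ?_, u'⁻¹, (Usub n σ).inv_mem hu', ?_⟩
  · exact (Mono n σ).mul_mem ((Mono n σ).mul_mem (Tsub_le_Mono ht) (Nsub_le_Mono c hmN))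
      ((Mono n σ).inv_mem (Tsub_le_Mono ht'))
  · rw [hb'eq]
    group

end matrix

end Cfsg.Agent.Helper65.PronAU
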