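import Mathlib
import Cfsg.Agent.Helper5.SuBN.Main
import Cfsg.Agent.Helper6.BN
import Cfsg.Agent.Helper9.PronAU.Defs

/-!
Helper65 for helper9, BLOCK AU of S2225/S2226, piece (SY): `p` does not divide `|G : U|`.
-/

set_option autoImplicit false
set_option linter.unusedSectionVars false
set_option linter.unusedVariables false

namespace Cfsg.Agent.Helper65.PronAU

open Matrix Cfsg.Agent.Helper5.SuBN Cfsg.Agent.Helper5.SuBN.Pair Cfsg.Agent.Helper5.SuBN.Main
  Cfsg.Agent.Helper9.PronAU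

section matrix

variable {F : Type*} [Field F] {n : ℕ} {σ : F →+* F}

/-- the normaliser-type criterion `h10` of `steinberg_UG`: if `g⁻¹ U g ⊆ B` then `g ∈ B` -/
theorem SY_mem_Bsub_of_conj (hσ : ∀ x, σ (σ x) = x) (c : F) (hc0 : c ≠ 0) (hc : σ c = -c)
    (g : UG n σ) (hg : ∀ u ∈ Usub n σ, g⁻¹ * u * g ∈ Bsub n σ) : g ∈ Bsub n σ := by
  classical
  have hdec : ∀ s : (bnPair (n := n) hσ c hc0 hc).S, ∀ b ∈ (bnPair (n := n) hσ c hc0 hc).B,
      ∃ y x : UG n σ, b = y * x ∧ s.1 * y * s.1⁻¹ ∈ (bnPair (n := n) hσ c hc0 hc).B ∧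
      x ∈ Xset σ (Classical.choose s.2) :=
    fun s b hb => exists_factor hσ c hc0 hc (Classical.choose s.2) s.1 (Classical.choose_spec s.2) b hb
  exact mem_B_of_conj_gen (bnPair (n := n) hσ c hc0 hc) (fun s => Xset σ (Classical.choose s.2)) hdec
    (Usub n σ) (fun b hb u hu => conj_mem_Usub b hb u hu) (fun s => Xset_subset_Usub _) g hg

/-- (SY) `U` is a Sylow `p`-subgroup: `p ∤ |G : U|`. -/
theorem not_dvd_index_Usub [Fintype F] (hσ : ∀ x, σ (σ x) = x) (c : F) (hc0 : c ≠ 0) (hc : σ c = -c)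
    (p : ℕ) [Fact p.Prime] [CharP F p] : ¬ p ∣ (Usub n σ).index := by
  classical
  have h11 : ¬ p ∣ (Bsub n σ).index :=
    Cfsg.Agent.Helper55.SpBNP11.not_dvd_index_of_fixed p (Usub n σ) (Bsub n σ) Usub_le_Bsub
      (Usub_isPGroup p) (fun g hg => SY_mem_Bsub_of_conj hσ c hc0 hc g hg)
  have hcardB := Cfsg.Agent.Helper55.SpBNP13.card_eq_mul_of_factor (Usub n σ) (Tsub n σ) (Bsub n σ)
    Usub_le_Bsub Tsub_le_Bsub (fun b hb => exists_Usub_mul_Tsub b hb)
    (fun g hu ht => Usub_inf_Tsub g hu ht)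
  have h1 := (Bsub n σ).card_mul_index
  have h2 := (Usub n σ).card_mul_index
  have h3 : (Usub n σ).index = Nat.card (Tsub n σ) * (Bsub n σ).index := by
    have hpos : 0 < Nat.card (Usub n σ) := Nat.card_pos
    apply Nat.eq_of_mul_eq_mul_left hpos
    rw [h2, ← h1, hcardB, mul_assoc]
  rw [h3]
  intro hdvd
  rcases (Nat.Prime.dvd_mul (Fact.out : p.Prime)).mp hdvd with h | h
  · exact not_dvd_card_Tsub (σ := σ) (n := n) p h
  · exact h11 h

end matrix

end Cfsg.Agent.Helper65.PronAU
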