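import Cfsg.Agent.Helper44.OmegaIndex
import Cfsg.Prelude.Def_GeometricClasses

/-!
# (IDX1) of #8823 for helper13's S5977/S5978: the index bookkeeping for `N ∩ Ω` inside `O(Q)`
-/

set_option autoImplicit false

namespace Cfsg.Agent.Helper65.QFEIDX1

open Matrix Cfsg Cfsg.Geo QuadraticMap Polynomial
open Cfsg.Agent.Helper44

universe u

variable {F : Type u} [Field F] {ι : Type} [Fintype ι] [DecidableEq ι]

/-- (IDX1) -/
theorem mul_dvd_card_of_dvd_relIndex [Fintype F] (h2 : (2 : F) ≠ 0)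
    (Q : QuadraticForm F (ι → F)) (hQ : (polarBilin Q).Nondegenerate)
    (hn : 2 ≤ Fintype.card ι) (N : Subgroup (GL ι F)) (r : ℕ)
    (hr : r ∣ N.relIndex (omegaGL ⇑Q)) (A : ℕ)
    (hA : A ∣ Nat.card ↥(N.subgroupOf (Cfsg.isometryGroup F ⇑Q))) :
    r * A ∣ Nat.card ↥(Cfsg.isometryGroup F ⇑Q) := by
  have hfr : 2 ≤ Module.finrank F (ι → F) := by
    rw [Module.finrank_fintype_fun_eq_card]
    exact hn
  have h4 : (Cfsg.Omega F ⇑Q).index = 4 := index_Omega_eq_four (Q := Q) h2 hQ hfr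
  obtain ⟨Om, hOm⟩ : ∃ Om : Subgroup ↥(Cfsg.isometryGroup F ⇑Q), Om = Cfsg.Omega F ⇑Q := ⟨_, rfl⟩
  obtain ⟨N', hN'⟩ : ∃ N' : Subgroup ↥(Cfsg.isometryGroup F ⇑Q),
      N' = N.subgroupOf (Cfsg.isometryGroup F ⇑Q) := ⟨_, rfl⟩
  have hnormal : Om.Normal := by
    rw [hOm]
    infer_instance
  rw [← hOm] at h4
  rw [← hN'] at hA
  -- `r ∣ [Om : N' ⊓ Om]`
  have hr' : r ∣ N'.relIndex Om := by
    have : N'.relIndex Om = N.relIndex (omegaGL ⇑Q) := by
      rw [hN', hOm]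
      exact Subgroup.relIndex_comap (H := N) (Cfsg.isometryGroup F ⇑Q).subtype (Cfsg.Omega F ⇑Q)
    rw [this]
    exact hr
  -- cardinalities
  have hcO : Nat.card ↥(Cfsg.isometryGroup F ⇑Q) = 4 * Nat.card Om := by
    rw [← h4, Subgroup.index_mul_card]
  have hcOm : Nat.card Om = Nat.card ↥(N' ⊓ Om) * N'.relIndex Om := by
    rw [← Subgroup.relIndex_bot_left, ← Subgroup.relIndex_bot_left,
      ← Subgroup.inf_relIndex_right (H := N') (K := Om)]
    exact (Subgroup.relIndex_mul_relIndex ⊥ (N' ⊓ Om) Om bot_le inf_le_right).symm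
  have hcN : Nat.card N' = Nat.card ↥(N' ⊓ Om) * Om.relIndex N' := by
    rw [← Subgroup.relIndex_bot_left, ← Subgroup.relIndex_bot_left,
      ← Subgroup.inf_relIndex_left (H := N') (K := Om)]
    exact (Subgroup.relIndex_mul_relIndex ⊥ (N' ⊓ Om) N' bot_le inf_le_left).symm
  have hk : Om.relIndex N' ∣ 4 := by
    rw [← h4]
    exact Subgroup.relIndex_dvd_index_of_normal Om N'
  rw [hcO, hcOm]
  rw [hcN] at hA
  obtain ⟨k', hk'⟩ := hk
  obtain ⟨r', hr''⟩ := hr'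
  obtain ⟨A', hA'⟩ := hA
  refine ⟨k' * r' * A', ?_⟩
  rw [hr'']
  have h5 : 4 * (Nat.card ↥(N' ⊓ Om) * (r * r')) =
      r * r' * k' * (Nat.card ↥(N' ⊓ Om) * Om.relIndex N') := by
    rw [hk']
    ring
  rw [h5, hA']
  ring

end Cfsg.Agent.Helper65.QFEIDX1
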