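import Mathlib
import Cfsg.Agent.Helper81.RO0

/-!
# (Q1) for helper81's S4581: `ConjSign` lifts from a quotient

If `n̄ ∈ G/V` normalizes the image of the Sylow subgroup `P = ι(S)` then some lift `n` of `n̄`
normalizes `P` (Sylow conjugacy in `P ⊔ V`).
-/

set_option autoImplicit false

namespace Cfsg.Agent.Helper65.ROQ1

open Cfsg Cfsg.Agent.Helper81.RO
open scoped Pointwise

/-- a lift normalizing the Sylow subgroup. -/
theorem exists_lift_normalizing {G : Type*} [Group G] [Finite G] {p : ℕ} [Fact p.Prime]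
    (P : Subgroup G) (hP : IsPGroup p P) (hidx : ¬ p ∣ P.index) (V : Subgroup G) [V.Normal]
    (g : G) (hg : ∀ y ∈ P, g * y * g⁻¹ ∈ P ⊔ V) :
    ∃ v ∈ V, ∀ y ∈ P, (v * g) * y * (v * g)⁻¹ ∈ P := by
  set H := P ⊔ V with hH
  let P1 : Sylow p G := hP.toSylow hidx
  have hP1 : ∀ y, y ∈ (P1 : Subgroup G) ↔ y ∈ P := fun y => IsPGroup.mem_toSylow hP hidx
  let Q1 : Sylow p G := g • P1
  have hQ1 : ∀ y ∈ P, g * y * g⁻¹ ∈ (Q1 : Subgroup G) := by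
    intro y hy
    have h1 : MulAut.conj g • y ∈ MulAut.conj g • (P1 : Subgroup G) :=
      Subgroup.smul_mem_pointwise_smul y (MulAut.conj g) _ ((hP1 y).mpr hy)
    exact h1
  have hQ1' : ∀ z ∈ (Q1 : Subgroup G), ∃ y ∈ P, z = g * y * g⁻¹ := by
    intro z hz
    have h1 : z ∈ MulAut.conj g • (P1 : Subgroup G) := hz
    obtain ⟨y, hy, rfl⟩ := (Subgroup.mem_smul_pointwise_iff_exists _ _ _).mp h1
    exact ⟨y, (hP1 y).mp hy, rfl⟩
  have hP1H : (P1 : Subgroup G) ≤ H := by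
    intro y hy
    exact (le_sup_left : P ≤ P ⊔ V) ((hP1 y).mp hy)
  have hQ1H : (Q1 : Subgroup G) ≤ H := by
    intro z hz
    obtain ⟨y, hy, rfl⟩ := hQ1' z hz
    exact hg y hy
  let P2 : Sylow p H := P1.subtype hP1H
  let Q2 : Sylow p H := Q1.subtype hQ1H
  obtain ⟨w, hw⟩ := MulAction.exists_smul_eq H Q2 P2
  have hmem : ∀ y : H, y ∈ (Q2 : Subgroup H) → w * y * w⁻¹ ∈ (P2 : Subgroup H) := by
    intro y hy
    have h1 : MulAut.conj w • y ∈ MulAut.conj w • (Q2 : Subgroup H) :=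
      Subgroup.smul_mem_pointwise_smul y (MulAut.conj w) _ hy
    have h2 : w * y * w⁻¹ ∈ ((w • Q2 : Sylow p H) : Subgroup H) := h1
    rwa [hw] at h2
  -- decompose `w`
  have hwH : (w : G) ∈ ((P ⊔ V : Subgroup G) : Set G) := w.2
  rw [Subgroup.mul_normal, Set.mem_mul] at hwH
  obtain ⟨a, ha, v, hv, hav⟩ := hwH
  refine ⟨v, hv, ?_⟩
  intro y hy
  have h1 : g * y * g⁻¹ ∈ (Q1 : Subgroup G) := hQ1 y hy
  have h2 : (⟨g * y * g⁻¹, hQ1H h1⟩ : H) ∈ (Q2 : Subgroup H) := by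
    show (⟨g * y * g⁻¹, hQ1H h1⟩ : H) ∈ (Q1 : Subgroup G).subgroupOf H
    rw [Subgroup.mem_subgroupOf]
    exact h1
  have h3 := hmem _ h2
  have h4 : ((w * ⟨g * y * g⁻¹, hQ1H h1⟩ * w⁻¹ : H) : G) ∈ (P1 : Subgroup G) := by
    have : (w * ⟨g * y * g⁻¹, hQ1H h1⟩ * w⁻¹ : H) ∈ (P1 : Subgroup G).subgroupOf H := h3
    rwa [Subgroup.mem_subgroupOf] at this
  rw [hP1] at h4
  have h5 : ((w * ⟨g * y * g⁻¹, hQ1H h1⟩ * w⁻¹ : H) : G) = (w : G) * (g * y * g⁻¹) * (w : G)⁻¹ :=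
    rfl
  rw [h5, ← hav] at h4
  have h6 : (v * g) * y * (v * g)⁻¹ = a⁻¹ * (a * v * (g * y * g⁻¹) * (a * v)⁻¹) * a := by group
  rw [h6]
  exact P.mul_mem (P.mul_mem (P.inv_mem ha) h4) ha

universe u

variable {S G : Type u}

/-- **(Q1)**: `ConjSign` lifts from the quotient by a normal subgroup. -/
theorem conjSign_of_quotient [Group S] [Group G] [Finite G] (hS : IsPGroup 2 S) (ι : S →* G)
    (hidx : ¬ 2 ∣ ι.range.index) (V : Subgroup G) [V.Normal] (ν ν' : S →* ℂˣ)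
    (h : ConjSign ((QuotientGroup.mk' V).comp ι) ν ν') : ConjSign ι ν ν' := by
  obtain ⟨nbar, h1, h2⟩ := h
  obtain ⟨g, rfl⟩ := QuotientGroup.mk_surjective nbar
  have hP : IsPGroup 2 ι.range := hS.of_surjective ι.rangeRestrict ι.rangeRestrict_surjective
  have hg : ∀ y ∈ ι.range, g * y * g⁻¹ ∈ ι.range ⊔ V := by
    rintro _ ⟨s, rfl⟩
    obtain ⟨s', hs'⟩ := h1 s
    have h3 : ((ι s' : G) : G ⧸ V) = ((g * ι s * g⁻¹ : G) : G ⧸ V) := by
      rw [QuotientGroup.mk_mul, QuotientGroup.mk_mul, QuotientGroup.mk_inv]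
      exact hs'
    have h4 : (ι s')⁻¹ * (g * ι s * g⁻¹) ∈ V := QuotientGroup.eq.mp h3
    have h5 : g * ι s * g⁻¹ = ι s' * ((ι s')⁻¹ * (g * ι s * g⁻¹)) := by group
    rw [h5]
    exact Subgroup.mul_mem_sup ⟨s', rfl⟩ h4
  obtain ⟨v, hv, hn⟩ := exists_lift_normalizing (p := 2) ι.range hP hidx V g hg
  refine ⟨v * g, ?_, ?_⟩
  · intro s
    obtain ⟨s', hs'⟩ := hn (ι s) ⟨s, rfl⟩
    exact ⟨s', hs'⟩
  · intro s s' hss'
    apply h2 s s'
    show ((ι s' : G) : G ⧸ V) = (g : G ⧸ V) * ((ι s : G) : G ⧸ V) * (g : G ⧸ V)⁻¹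
    rw [hss']
    have hvg : ((v * g : G) : G ⧸ V) = (g : G ⧸ V) := by
      rw [QuotientGroup.mk_mul, (QuotientGroup.eq_one_iff v).mpr hv, one_mul]
    rw [QuotientGroup.mk_mul, QuotientGroup.mk_mul, QuotientGroup.mk_inv, hvg]

end Cfsg.Agent.Helper65.ROQ1
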