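import Mathlib

/-!
# (G3b) for helper3 (S3805): local control of products of non-conjugate elements of order 3

`lc_of_tri` has the conclusion of (G3a) `tri333` as a hypothesis.
-/

set_option autoImplicit false

namespace Cfsg.Agent.Helper65.S3S3

open Subgroup
open scoped Pointwise

universe u

/-- vanishing of `H¹` of a group of order three on a finite abelian `3'`-group (additive form). -/
theorem h90_add {B : Type*} [AddCommGroup B] [Finite B] (h3 : ¬ 3 ∣ Nat.card B) (φ : B →+ B)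
    (p : B) (hN : φ (φ p) + φ p + p = 0) : ∃ c : B, φ c - c = p := by
  have hcopN : Nat.Coprime 3 (Nat.card B) :=
    (Nat.Prime.coprime_iff_not_dvd Nat.prime_three).mpr h3
  have hcop : IsCoprime (3 : ℤ) (Nat.card B : ℤ) := by
    have := Nat.isCoprime_iff_coprime.mpr hcopN
    simpa using this
  obtain ⟨x, y, hxy⟩ := hcop
  have hcard : ∀ z : B, (Nat.card B : ℤ) • z = 0 := by
    intro z
    rw [natCast_zsmul]
    exact card_nsmul_eq_zero'
  have hdiv : ∀ z : B, (3 : ℤ) • (x • z) = z := by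
    intro z
    calc (3 : ℤ) • (x • z) = (x * 3) • z := by rw [smul_smul, mul_comm]
      _ = (x * 3) • z + y • ((Nat.card B : ℤ) • z) := by rw [hcard, smul_zero, add_zero]
      _ = (x * 3 + y * (Nat.card B : ℤ)) • z := by rw [add_smul, mul_smul y]
      _ = z := by rw [hxy, one_smul]
  have hinj : ∀ w : B, (3 : ℤ) • w = 0 → w = 0 := by
    intro w hw
    rw [← hdiv w, smul_comm, hw, smul_zero]
  set b : B := p + p + φ p with hb
  have h1 : φ (φ p) = -φ p - p := by
    have := hN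
    rw [add_assoc] at this
    rw [eq_neg_of_add_eq_zero_left this]
    abel
  have h3c : (3 : ℤ) • (-(x • b)) = -b := by rw [smul_neg, hdiv]
  refine ⟨-(x • b), ?_⟩
  have hkey : (3 : ℤ) • (φ (-(x • b)) - -(x • b) - p) = 0 := by
    calc (3 : ℤ) • (φ (-(x • b)) - -(x • b) - p)
        = φ ((3 : ℤ) • (-(x • b))) - (3 : ℤ) • (-(x • b)) - (3 : ℤ) • p := by
          rw [smul_sub, smul_sub, map_zsmul]
      _ = φ (-b) - (-b) - (3 : ℤ) • p := by rw [h3c]
      _ = 0 := by
          rw [hb, map_neg, map_add, map_add, h1]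
          abel
  have := hinj _ hkey
  exact sub_eq_zero.mp this

/-- the multiplicative form. -/
theorem h90_mul {A : Type*} [CommGroup A] [Finite A] (h3 : ¬ 3 ∣ Nat.card A) (φ : A →* A)
    (p : A) (hN : φ (φ p) * φ p * p = 1) : ∃ c : A, φ c / c = p := by
  obtain ⟨c, hc⟩ := h90_add (B := Additive A) h3 (MonoidHom.toAdditive φ) (Additive.ofMul p) hN
  exact ⟨Additive.toMul c, hc⟩

variable {G : Type u} [Group G]

/-- the elements of order dividing three of an abelian subgroup. -/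
def omega3 (A : Subgroup G) (hA : ∀ s ∈ A, ∀ t ∈ A, s * t = t * s) : Subgroup G where
  carrier := {z | z ∈ A ∧ z ^ 3 = 1}
  mul_mem' := by
    rintro a b ⟨ha, ha3⟩ ⟨hb, hb3⟩
    refine ⟨A.mul_mem ha hb, ?_⟩
    have hc : Commute a b := hA a ha b hb
    rw [hc.mul_pow, ha3, hb3, one_mul]
  one_mem' := ⟨A.one_mem, one_pow 3⟩
  inv_mem' := by
    rintro a ⟨ha, ha3⟩
    exact ⟨A.inv_mem ha, by rw [inv_pow, ha3, inv_one]⟩

theorem mem_omega3 (A : Subgroup G) (hA : ∀ s ∈ A, ∀ t ∈ A, s * t = t * s) (z : G) :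
    z ∈ omega3 A hA ↔ z ∈ A ∧ z ^ 3 = 1 := Iff.rfl

/-- membership in a conjugate Sylow subgroup. -/
theorem conj_mem_smul_sylow {p : ℕ} (Q : Sylow p G) (g y : G) (hy : y ∈ (Q : Subgroup G)) :
    g * y * g⁻¹ ∈ ((g • Q : Sylow p G) : Subgroup G) := by
  rw [Sylow.coe_subgroup_smul, Subgroup.mem_pointwise_smul_iff_inv_smul_mem, MulAut.smul_def,
    MulAut.conj_inv_apply]
  have e : g⁻¹ * (g * y * g⁻¹) * g = y := by group
  rw [e]
  exact hy

/-- a `p`-element normalising a Sylow `p`-subgroup lies in it. -/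
theorem mem_sylow_of_pow_eq_one [Finite G] {p : ℕ} [Fact p.Prime] (P : Sylow p G) (x : G)
    (hx : x ∈ normalizer ((P : Subgroup G) : Set G)) (k : ℕ) (hk : x ^ p ^ k = 1) :
    x ∈ (P : Subgroup G) := by
  have hz : IsPGroup p (zpowers x) := by
    rintro ⟨y, hy⟩
    obtain ⟨j, rfl⟩ := mem_zpowers_iff.mp hy
    refine ⟨k, Subtype.ext ?_⟩
    show (x ^ j) ^ p ^ k = 1
    rw [← zpow_natCast, ← zpow_mul, mul_comm, zpow_mul, zpow_natCast, hk, one_zpow]
  have hle : zpowers x ≤ normalizer ((P : Subgroup G) : Set G) := by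
    rw [zpowers_le]; exact hx
  have hsup : IsPGroup p (zpowers x ⊔ (P : Subgroup G) : Subgroup G) :=
    IsPGroup.to_sup_of_normal_right' hz P.isPGroup' hle
  have := P.is_maximal' hsup le_sup_right
  have h1 : zpowers x ≤ (P : Subgroup G) := by
    rw [← this]; exact le_sup_left
  exact h1 (mem_zpowers x)

/-- (G3b) with the conclusion of (G3a) as a hypothesis. -/
theorem lc_of_tri [Finite G] (T : Sylow 3 G)
    (hcomm : ∀ s ∈ (T : Subgroup G), ∀ t ∈ (T : Subgroup G), s * t = t * s)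
    (hloc : ∀ t ∈ (T : Subgroup G), t ≠ 1 →
      Subgroup.centralizer ({t} : Set G) ≤ Subgroup.normalizer ((T : Subgroup G) : Set G))
    (u v : G) (hu : u ^ 3 = 1) (hv : v ^ 3 = 1) (hu1 : u ≠ 1)
    (hnc : ¬ IsConj u v)
    (htri : ∃ A : Subgroup G, (∀ s ∈ A, ∀ t ∈ A, s * t = t * s) ∧
      u ∈ Subgroup.normalizer (A : Set G) ∧ u * v⁻¹ ∈ A) :
    ∃ g : G, g * u * g⁻¹ ∈ (T : Subgroup G) ∧ g * v * g⁻¹ ∈ (T : Subgroup G) := by
  haveI : Fact (Nat.Prime 3) := ⟨Nat.prime_three⟩
  obtain ⟨A, hA, huA, hpA⟩ := htri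
  by_cases h3 : 3 ∣ Nat.card A
  · -- `A` has an element of order three
    obtain ⟨z, hz⟩ := exists_prime_orderOf_dvd_card' 3 h3
    have hz3 : (z : G) ^ 3 = 1 := by
      have h := pow_orderOf_eq_one z
      rw [hz] at h
      have := congrArg Subtype.val h
      simpa using this
    have hz1 : (z : G) ≠ 1 := by
      intro h
      have hz' : z = 1 := Subtype.ext h
      rw [hz', orderOf_one] at hz
      norm_num at hz
    have hzΩ : (z : G) ∈ omega3 A hA := ⟨z.2, hz3⟩
    have huΩ : u ∈ normalizer ((omega3 A hA : Subgroup G) : Set G) := by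
      rw [mem_normalizer_iff]
      intro h
      rw [mem_omega3, mem_omega3, ← (mem_normalizer_iff.mp huA h), conj_pow]
      constructor
      · rintro ⟨h1, h2⟩
        exact ⟨h1, by rw [h2, mul_one, mul_inv_cancel]⟩
      · rintro ⟨h1, h2⟩
        refine ⟨h1, ?_⟩
        have : h ^ 3 = u⁻¹ * (u * h ^ 3 * u⁻¹) * u := by group
        rw [this, h2, mul_one, inv_mul_cancel]
    have hΩp : IsPGroup 3 (omega3 A hA) := by
      rintro ⟨y, hy⟩
      exact ⟨1, Subtype.ext (by rw [pow_one]; exact hy.2)⟩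
    have hup : IsPGroup 3 (zpowers u) := by
      apply IsPGroup.of_card (n := 1)
      rw [Nat.card_zpowers, orderOf_eq_prime hu hu1, pow_one]
    have hsup : IsPGroup 3 (zpowers u ⊔ omega3 A hA : Subgroup G) :=
      IsPGroup.to_sup_of_normal_right' hup hΩp (by rw [zpowers_le]; exact huΩ)
    obtain ⟨Q, hQ⟩ := hsup.exists_le_sylow
    obtain ⟨g, hg⟩ := MulAction.exists_smul_eq G Q T
    have hconj : ∀ y ∈ (Q : Subgroup G), g * y * g⁻¹ ∈ (T : Subgroup G) := by
      intro y hy
      rw [← hg]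
      exact conj_mem_smul_sylow Q g y hy
    have huQ : u ∈ (Q : Subgroup G) := hQ (le_sup_left (a := zpowers u) (mem_zpowers u))
    have hzQ : (z : G) ∈ (Q : Subgroup G) := hQ (le_sup_right (a := zpowers u) hzΩ)
    refine ⟨g, hconj u huQ, ?_⟩
    have huz : u * (z : G) = (z : G) * u := by
      have h := hcomm _ (hconj u huQ) _ (hconj z hzQ)
      have e1 : g * u * g⁻¹ * (g * (z : G) * g⁻¹) = g * (u * (z : G)) * g⁻¹ := by group
      have e2 : g * (z : G) * g⁻¹ * (g * u * g⁻¹) = g * ((z : G) * u) * g⁻¹ := by group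
      rw [e1, e2] at h
      exact mul_left_cancel (mul_right_cancel h)
    have hpz : Commute (u * v⁻¹) (z : G) := hA _ hpA _ z.2
    have hvz : v * (z : G) = (z : G) * v := by
      have hvdef : v = (u * v⁻¹)⁻¹ * u := by group
      have hc2 : Commute u (z : G) := huz
      have hc : Commute ((u * v⁻¹)⁻¹ * u) (z : G) := (hpz.inv_left).mul_left hc2
      rw [← hvdef] at hc
      exact hc.eq
    have hz1' : g * (z : G) * g⁻¹ ≠ 1 := by
      intro h
      apply hz1
      have : (z : G) = g⁻¹ * (g * (z : G) * g⁻¹) * g := by group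
      rw [this, h, mul_one, inv_mul_cancel]
    have hN := hloc _ (hconj z hzQ) hz1'
    have hvC : g * v * g⁻¹ ∈ centralizer ({g * (z : G) * g⁻¹} : Set G) := by
      rw [mem_centralizer_iff]
      intro y hy
      rw [Set.mem_singleton_iff] at hy
      subst hy
      have e1 : g * (z : G) * g⁻¹ * (g * v * g⁻¹) = g * ((z : G) * v) * g⁻¹ := by group
      have e2 : g * v * g⁻¹ * (g * (z : G) * g⁻¹) = g * (v * (z : G)) * g⁻¹ := by group
      rw [e1, e2, hvz]
    exact mem_sylow_of_pow_eq_one T _ (hN hvC) 1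
      (by rw [pow_one, conj_pow, hv, mul_one, mul_inv_cancel])
  · -- `3 ∤ |A|`: then `v` is conjugate to `u` under `A`
    exfalso
    apply hnc
    letI : CommGroup A :=
      { (inferInstance : Group A) with
        mul_comm := fun a b => Subtype.ext (hA a a.2 b b.2) }
    let φ : A →* A := MonoidHom.mk'
      (fun a => ⟨u * a * u⁻¹, (mem_normalizer_iff.mp huA a).1 a.2⟩)
      (fun a b => by
        apply Subtype.ext
        show u * (a * b : G) * u⁻¹ = (u * a * u⁻¹) * (u * b * u⁻¹)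
        group)
    let p : A := ⟨u * v⁻¹, hpA⟩
    have hN : φ (φ p) * φ p * p = 1 := by
      apply Subtype.ext
      show u * (u * (u * v⁻¹) * u⁻¹) * u⁻¹ * (u * (u * v⁻¹) * u⁻¹) * (u * v⁻¹) = 1
      have e : u * (u * (u * v⁻¹) * u⁻¹) * u⁻¹ * (u * (u * v⁻¹) * u⁻¹) * (u * v⁻¹) =
          u * u * u * (v * v * v)⁻¹ := by group
      have hu' : u * u * u = 1 := by rw [← hu, pow_succ, pow_succ, pow_one]
      have hv' : v * v * v = 1 := by rw [← hv, pow_succ, pow_succ, pow_one]
      rw [e, hu', hv', inv_one, mul_one]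
    obtain ⟨c, hc⟩ := h90_mul h3 φ p hN
    have hc' : u * (c : G) * u⁻¹ * (c : G)⁻¹ = u * v⁻¹ := by
      have h := congrArg Subtype.val hc
      rw [div_eq_mul_inv] at h
      exact h
    rw [isConj_iff]
    refine ⟨(c : G), ?_⟩
    have h1 : (c : G) * u⁻¹ * (c : G)⁻¹ = v⁻¹ := by
      calc (c : G) * u⁻¹ * (c : G)⁻¹ = u⁻¹ * (u * (c : G) * u⁻¹ * (c : G)⁻¹) := by group
        _ = v⁻¹ := by rw [hc']; group
    calc (c : G) * u * (c : G)⁻¹ = ((c : G) * u⁻¹ * (c : G)⁻¹)⁻¹ := by group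
      _ = v := by rw [h1, inv_inv]

end Cfsg.Agent.Helper65.S3S3
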