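import Mathlib

/-!
Helper65 for helper62, S3331 BLOCK N (SC3-N): the arithmetic lemma, parts (N1) `omega_le`
(the odd part of `T = w u` is at most `17`) and (N2) `cutoff` / `wf_le` (`w f ≤ 150`).
-/

set_option autoImplicit false
set_option linter.unusedVariables false

namespace Cfsg.Agent.Helper65.SC3N

/-- (N1) the odd part of `T = w u` is at most `17` -/
theorem omega_le (f w u a ω N₂ : ℕ) (c : ℤ) (hf4 : 4 ≤ f) (hw : 0 < w)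
    (hc1 : -(f : ℤ) - 2 ≤ 3 * c) (hc2 : 3 * c ≤ (f : ℤ) - 4)
    (hu : (u : ℤ) = f - c)
    (hT : w * u = 2 ^ a * ω)
    (hN₂ : (3 * (N₂ : ℤ)) = w ^ 2 * (f ^ 2 + 2 * f + c * (2 * f + 1)))
    (hA : N₂ + 2 * (w * u) ≤ (w * u) * 2 ^ a) : ω ≤ 17 := by
  by_contra hcon
  have hω18 : (18 : ℤ) ≤ (ω : ℤ) := by
    have : 18 ≤ ω := by omega
    exact_mod_cast this
  have hF4 : (4 : ℤ) ≤ (f : ℤ) := by exact_mod_cast hf4
  have hW : (1 : ℤ) ≤ (w : ℤ) := by exact_mod_cast hw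
  have hU1 : (1 : ℤ) ≤ (u : ℤ) := by rw [hu]; linarith
  have hU3 : 3 * (u : ℤ) ≤ 4 * f + 2 := by rw [hu]; linarith
  have hTz : (w : ℤ) * u = 2 ^ a * ω := by exact_mod_cast hT
  have hAz : (N₂ : ℤ) + 2 * ((w : ℤ) * u) ≤ ((w : ℤ) * u) * 2 ^ a := by exact_mod_cast hA
  have hWU : (1 : ℤ) ≤ (w : ℤ) * u := by nlinarith
  -- multiply `hA` by `3 ω`
  have h1 : (3 * (N₂ : ℤ)) * ω + 6 * ((w : ℤ) * u) * ω ≤ 3 * (((w : ℤ) * u) * ((w : ℤ) * u)) := by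
    have h0 : ((N₂ : ℤ) + 2 * ((w : ℤ) * u)) * (3 * ω) ≤ (((w : ℤ) * u) * 2 ^ a) * (3 * ω) :=
      mul_le_mul_of_nonneg_right hAz (by linarith)
    have h2 : (((w : ℤ) * u) * 2 ^ a) * (3 * ω) = 3 * (((w : ℤ) * u) * ((w : ℤ) * u)) := by
      rw [show (((w : ℤ) * u) * 2 ^ a) * (3 * ω) = 3 * (((w : ℤ) * u) * (2 ^ a * ω)) by ring, ← hTz]
    linarith
  -- hence `w² Q ω < 3 w² u²`
  set Q : ℤ := (f : ℤ) ^ 2 + 2 * f + c * (2 * f + 1) with hQ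
  have h3 : (w : ℤ) ^ 2 * (Q * ω) < (w : ℤ) ^ 2 * (3 * (u : ℤ) ^ 2) := by
    have h4 : (0 : ℤ) < 6 * ((w : ℤ) * u) * ω := by positivity
    rw [hN₂] at h1
    nlinarith
  have hW2 : (0 : ℤ) < (w : ℤ) ^ 2 := by positivity
  have h5 : Q * ω < 3 * (u : ℤ) ^ 2 := lt_of_mul_lt_mul_left h3 hW2.le
  -- lower bound for `Q`
  have h6 : ((f : ℤ) - 1) * (f + 2) ≤ 3 * Q := by
    have : 0 ≤ (3 * c + f + 2) * (2 * (f : ℤ) + 1) := mul_nonneg (by linarith) (by linarith)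
    rw [hQ]
    nlinarith
  have h7 : (0 : ℤ) < ((f : ℤ) - 1) * (f + 2) := by nlinarith
  -- upper bound for `u`
  have h8 : (3 * (u : ℤ)) ^ 2 ≤ (4 * (f : ℤ) + 2) ^ 2 := by
    apply pow_le_pow_left₀ (by linarith) hU3
  have h9 : 18 * (((f : ℤ) - 1) * (f + 2)) ≤ 3 * Q * ω := by
    nlinarith
  nlinarith

theorem cutoff_aux (k X Y Z T A o₁ o₂ f hm : ℕ)
    (hB : k ≤ 1 + X + 2 * (A - 1) + 2 * (o₁ - 1) + 2 * (o₂ - 1) + 2 * (hm - 1))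
    (hB1 : X ≤ Y) (hB2 : 2 * Y ≤ Z) (hAT : A ≤ T) (ho₁ : o₁ ≤ f) (ho₂ : o₂ ≤ f + 1) :
    2 * k ≤ 2 + Z + 4 * T + 4 * f + 4 * (f + 1) + 4 * hm := by
  omega

/-- `hm (hm + 1) ≤ f (f + 1) w²` gives `hm < w (f + 1)` -/
theorem cutoff_hm (f w hm : ℕ) (hw : 0 < w) (hhm : hm * (hm + 1) ≤ f * (f + 1) * w ^ 2) :
    hm + 1 ≤ w * (f + 1) := by
  by_contra h
  have h1 : w * (f + 1) ≤ hm := by omega
  have h2 : w * (f + 1) * (w * (f + 1) + 1) ≤ hm * (hm + 1) :=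
    Nat.mul_le_mul h1 (by omega)
  have h3 : f * (f + 1) * w ^ 2 < w * (f + 1) * (w * (f + 1) + 1) := by nlinarith
  omega

/-- the final contradiction, in `n = w f`, `w`, `cm` -/
theorem cutoff_final (n w cm : ℕ) (hn : 151 ≤ n) (h4w : 4 * w ≤ n)
    (hmain : 2 * n ^ 2 ≤ 18 + (cm + 1) * (4 * n + 2 * w) + 16 * n + 8 * w + 24 * n + 12 * (n + w))
    (hcm2 : 6 * cm ^ 2 ≤ 17 * (4 * n + 2 * w)) : False := by
  have hA : 4 * n ^ 2 ≤ 12 + 9 * cm * n + 123 * n := by nlinarith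
  have hB : 12 * cm ^ 2 ≤ 153 * n := by nlinarith
  have hC : 4 * n ≤ 9 * cm + 124 := by
    by_contra h
    have h1 : 9 * cm + 125 ≤ 4 * n := by omega
    nlinarith
  have hD : 480 ≤ 9 * cm := by omega
  nlinarith

/-- (N2) the cutoff `w f ≤ 150` -/
theorem cutoff (f w u a ω o₁ o₂ b b' cm hm k : ℕ) (c : ℤ) (hf4 : 4 ≤ f) (hw : 0 < w)
    (hc1 : -(f : ℤ) - 2 ≤ 3 * c)
    (hu : (u : ℤ) = f - c)
    (hT : w * u = 2 ^ a * ω) (hω1 : 1 ≤ ω) (hω17 : ω ≤ 17)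
    (hfo : f = 2 ^ b * o₁) (hfo' : f + 1 = 2 ^ b' * o₂)
    (hk : 3 * k = w ^ 2 * (f ^ 2 + f + 1))
    (hcm : 2 * cm ^ 2 ≤ ω ^ 2 * 2 ^ a)
    (hhm : hm * (hm + 1) ≤ f * (f + 1) * w ^ 2)
    (hB : k ≤ 1 + (cm + 1) * (w * u / 2 - 1) + 2 * (2 ^ a - 1) + 2 * (o₁ - 1) + 2 * (o₂ - 1)
      + 2 * (hm - 1)) : w * f ≤ 150 := by
  by_contra hcon
  have hn : 151 ≤ w * f := by omega
  -- elementary bounds
  have hA1 : 1 ≤ 2 ^ a := Nat.one_le_two_pow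
  have hb1 : 1 ≤ 2 ^ b := Nat.one_le_two_pow
  have hb'1 : 1 ≤ 2 ^ b' := Nat.one_le_two_pow
  have ho₁ : o₁ ≤ f := by
    rw [hfo]; exact Nat.le_mul_of_pos_left _ (by omega)
  have ho₂ : o₂ ≤ f + 1 := by
    rw [hfo']; exact Nat.le_mul_of_pos_left _ (by omega)
  have hAT : 2 ^ a ≤ w * u := by
    rw [hT]; exact Nat.le_mul_of_pos_right _ (by omega)
  -- `3 T ≤ 4 n + 2 w`
  have hU3 : 3 * (u : ℤ) ≤ 4 * f + 2 := by rw [hu]; linarith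
  have hU3n : 3 * u ≤ 4 * f + 2 := by exact_mod_cast hU3
  have hT3 : 3 * (w * u) ≤ 4 * (w * f) + 2 * w := by nlinarith
  -- `hm + 1 ≤ w (f + 1)`
  have hhm' : hm + 1 ≤ w * (f + 1) := cutoff_hm f w hm hw hhm
  -- `2 cm² ≤ 17 T`
  have hcm' : 2 * cm ^ 2 ≤ 17 * (w * u) := by
    have h1 : ω ^ 2 * 2 ^ a = ω * (w * u) := by rw [hT]; ring
    rw [h1] at hcm
    have h2 : ω * (w * u) ≤ 17 * (w * u) := Nat.mul_le_mul_right _ hω17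
    exact le_trans hcm h2
  -- simplify `hB`
  have hB1 : (cm + 1) * (w * u / 2 - 1) ≤ (cm + 1) * (w * u / 2) :=
    Nat.mul_le_mul_left _ (Nat.sub_le _ _)
  have hhalf : 2 * (w * u / 2) ≤ w * u := Nat.mul_div_le _ _
  have hB2 : 2 * ((cm + 1) * (w * u / 2)) ≤ (cm + 1) * (w * u) := by
    calc 2 * ((cm + 1) * (w * u / 2)) = (cm + 1) * (2 * (w * u / 2)) := by ring
      _ ≤ (cm + 1) * (w * u) := Nat.mul_le_mul_left _ hhalf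
  have hB3 : 2 * k ≤ 2 + (cm + 1) * (w * u) + 4 * (w * u) + 4 * f + 4 * (f + 1) + 4 * hm :=
    cutoff_aux k _ _ _ _ _ o₁ o₂ f hm hB hB1 hB2 hAT ho₁ ho₂
  -- everything in terms of `n = w f`, `w`, `cm`
  have h4w : 4 * w ≤ w * f := by
    rw [mul_comm 4 w]; exact Nat.mul_le_mul_left _ hf4
  have hfn : f ≤ w * f := Nat.le_mul_of_pos_left _ hw
  -- `6 k = 2 n² + 2 n w + 2 w²`
  have hk6 : 6 * k = 2 * (w * f) ^ 2 + 2 * (w * f) * w + 2 * w ^ 2 := by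
    have : 6 * k = 2 * (3 * k) := by ring
    rw [this, hk]; ring
  have h1 : (cm + 1) * (3 * (w * u)) ≤ (cm + 1) * (4 * (w * f) + 2 * w) :=
    Nat.mul_le_mul_left _ hT3
  have h2 : hm ≤ w * f + w := by
    have : w * (f + 1) = w * f + w := by ring
    rw [this] at hhm'
    exact Nat.le_of_succ_le hhm'
  have hmain : 2 * (w * f) ^ 2 ≤ 18 + (cm + 1) * (4 * (w * f) + 2 * w) + 16 * (w * f) + 8 * w
      + 24 * (w * f) + 12 * (w * f + w) := by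
    have e1 : (cm + 1) * (3 * (w * u)) = 3 * ((cm + 1) * (w * u)) := by ring
    have h3 : 0 ≤ 2 * (w * f) * w + 2 * w ^ 2 := Nat.zero_le _
    linarith
  have hcm2 : 6 * cm ^ 2 ≤ 17 * (4 * (w * f) + 2 * w) := by linarith
  exact cutoff_final (w * f) w cm hn h4w hmain hcm2

/-- (N1)+(N2): under the hypotheses of `arith`, `w f ≤ 150` -/
theorem wf_le (f w u a b b' e ω o₁ o₂ w' cm hm k N₂ : ℕ) (c : ℤ)
    (hf3 : f % 3 = 1) (hf4 : 4 ≤ f) (hw : 0 < w)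
    (hc1 : -(f : ℤ) - 2 ≤ 3 * c) (hc2 : 3 * c ≤ (f : ℤ) - 4)
    (hu : (u : ℤ) = f - c)
    (hT3 : ¬ 3 ∣ w * u)
    (hT : w * u = 2 ^ a * ω) (hω : ω % 2 = 1)
    (hfo : f = 2 ^ b * o₁) (ho₁ : o₁ % 2 = 1)
    (hfo' : f + 1 = 2 ^ b' * o₂) (ho₂ : o₂ % 2 = 1)
    (hwo : w = 2 ^ e * w') (hw' : w' % 2 = 1)
    (ha : a = b + b' + 2 * e)
    (hN₂ : (3 * (N₂ : ℤ)) = w ^ 2 * (f ^ 2 + 2 * f + c * (2 * f + 1)))
    (hA : N₂ + 2 * (w * u) ≤ (w * u) * 2 ^ a)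
    (hk : 3 * k = w ^ 2 * (f ^ 2 + f + 1))
    (hcm : 2 * cm ^ 2 ≤ ω ^ 2 * 2 ^ a)
    (hhm : hm * (hm + 1) ≤ f * (f + 1) * w ^ 2) (hhm1 : ω = 1 → hm ≤ 1)
    (hB : k ≤ 1 + (cm + 1) * (w * u / 2 - 1) + 2 * (2 ^ a - 1) + 2 * (o₁ - 1) + 2 * (o₂ - 1)
      + 2 * (hm - 1)) :
    w * f ≤ 150 :=
  cutoff f w u a ω o₁ o₂ b b' cm hm k c hf4 hw hc1 hu hT (by omega)
    (omega_le f w u a ω N₂ c hf4 hw hc1 hc2 hu hT hN₂ hA) hfo hfo' hk hcm hhm hB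

end Cfsg.Agent.Helper65.SC3N
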