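import Mathlib
import Cfsg.Prelude.Def_CaseTheorems
import Cfsg.Agent.Helper54.SCG.Defs
import Cfsg.Agent.Helper66.SCG_RA
import Cfsg.Agent.Helper66.SCG_RB
import Cfsg.Agent.Helper47.SCG_RG

set_option autoImplicit false

/-!
# S3921 (helper54's SCG farm), assembly (RF) by helper65, core version: the leaves (NTC) (RC) (RD) (RE) enter as
hypotheses (for the given field); (RA) (RB) (RG) are imported.
-/

namespace Cfsg.Agent.Helper65.SCG

open Matrix Cfsg.Agent.Helper54.SCG

/-- the image of a cyclic subgroup is cyclic -/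
theorem RF_isCyclic_map {X Y : Type*} [Group X] [Group Y] (f : X →* Y) (A : Subgroup X)
    (hA : IsCyclic ↥A) : IsCyclic ↥(A.map f) :=
  isCyclic_of_surjective (f.subgroupMap A) (f.subgroupMap_surjective A)

/-- a subgroup of a cyclic subgroup is cyclic -/
theorem RF_isCyclic_of_le {X : Type*} [Group X] (A T : Subgroup X) (h : A ≤ T) (hT : IsCyclic ↥T) :
    IsCyclic ↥A := by
  have e : ↥(A.subgroupOf T) ≃* ↥A := Subgroup.subgroupOfEquivOfLe h
  exact isCyclic_of_surjective e e.surjective

/-- (RF), core: `SC` holds in `PSL₂(q)` for `q = 4`, `9` or a Fermat or Mersenne prime. -/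
theorem RF_core {F : Type*} [Field F] [Fintype F]
    (hNTC : ∀ q : ℕ, Odd q → (q = 9 ∨ (q.Prime ∧ ∃ k : ℕ, q = 2 ^ k + 1 ∨ q = 2 ^ k - 1)) →
      (q % 4 = 1 → ∃ k : ℕ, q - 1 = 2 ^ k) ∧ (q % 4 = 3 → ∃ k : ℕ, q + 1 = 2 ^ k))
    (hRC : ∀ g : Matrix.SpecialLinearGroup (Fin 2) F,
      (Matrix.trace (g : Matrix (Fin 2) (Fin 2) F)) ^ 2 ≠ 4 →
      IsCyclic ↥(Subgroup.centralizer ({g} : Set (Matrix.SpecialLinearGroup (Fin 2) F))))
    (hRD : ∀ g : Matrix.SpecialLinearGroup (Fin 2) F,
      (Matrix.trace (g : Matrix (Fin 2) (Fin 2) F)) ^ 2 = 4 →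
      g ∉ Subgroup.center (Matrix.SpecialLinearGroup (Fin 2) F) →
      Nat.card ↥((Subgroup.centralizer ({g} : Set (Matrix.SpecialLinearGroup (Fin 2) F))).map
        (QuotientGroup.mk' (Subgroup.center (Matrix.SpecialLinearGroup (Fin 2) F)))) ∣
        Fintype.card F)
    (hRE : Odd (Fintype.card F) →
      (Fintype.card F % 4 = 1 → ∃ k : ℕ, Fintype.card F - 1 = 2 ^ k) →
      (Fintype.card F % 4 = 3 → ∃ k : ℕ, Fintype.card F + 1 = 2 ^ k) →
      ∀ g : Matrix.SpecialLinearGroup (Fin 2) F,
      Matrix.trace (g : Matrix (Fin 2) (Fin 2) F) = 0 →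
      ∀ Hh : Subgroup (Matrix.SpecialLinearGroup (Fin 2) F),
      Subgroup.center (Matrix.SpecialLinearGroup (Fin 2) F) ≤ Hh →
      (∀ h ∈ Hh, h * g * h⁻¹ = g ∨
        ((h * g * h⁻¹ : Matrix.SpecialLinearGroup (Fin 2) F) : Matrix (Fin 2) (Fin 2) F) =
          - (g : Matrix (Fin 2) (Fin 2) F)) →
      g ∉ Hh →
      IsCyclic ↥(Hh.map (QuotientGroup.mk' (Subgroup.center (Matrix.SpecialLinearGroup (Fin 2) F)))))
    (hq : Fintype.card F = 4 ∨ Fintype.card F = 9 ∨ ((Fintype.card F).Prime ∧
      ∃ k : ℕ, Fintype.card F = 2 ^ k + 1 ∨ Fintype.card F = 2 ^ k - 1)) :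
    SC (Matrix.ProjectiveSpecialLinearGroup (Fin 2) F) := by
  intro H hH x hx
  -- notation
  set Z := Subgroup.center (Matrix.SpecialLinearGroup (Fin 2) F) with hZ
  set π := QuotientGroup.mk' Z with hπ
  have hπs : Function.Surjective π := QuotientGroup.mk'_surjective Z
  obtain ⟨g, rfl⟩ := hπs x
  set Hh : Subgroup (Matrix.SpecialLinearGroup (Fin 2) F) := H.comap π with hHh
  have hmap : Hh.map π = H := Subgroup.map_comap_eq_self_of_surjective hπs H
  have hcen : Z ≤ Hh := by
    intro z hz
    rw [hHh, Subgroup.mem_comap]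
    have : π z = 1 := (QuotientGroup.eq_one_iff z).mpr hz
    rw [this]
    exact H.one_mem
  have hgmem : g ∈ Hh ↔ π g ∈ H := Subgroup.mem_comap
  -- every element of `Hh` centralises `g` up to sign
  have hconj : ∀ h ∈ Hh, h * g * h⁻¹ = g ∨
      ((h * g * h⁻¹ : Matrix.SpecialLinearGroup (Fin 2) F) : Matrix (Fin 2) (Fin 2) F) =
        - (g : Matrix (Fin 2) (Fin 2) F) := by
    intro h hh
    apply Cfsg.Agent.Helper66.SCG.RA_conj_eq_or_neg g h
    exact (Subgroup.mem_centralizer_iff.mp hx) (π h) (Subgroup.mem_comap.mp hh)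
  -- the case `Hh ≤ C(g)`
  have caseI : Hh ≤ Subgroup.centralizer ({g} : Set (Matrix.SpecialLinearGroup (Fin 2) F)) →
      π g ∈ H := by
    intro hle
    by_cases hgZ : g ∈ Z
    · have : π g = 1 := (QuotientGroup.eq_one_iff g).mpr hgZ
      rw [this]
      exact H.one_mem
    by_cases hd : (Matrix.trace (g : Matrix (Fin 2) (Fin 2) F)) ^ 2 = 4
    · -- unipotent up to sign
      have hcard := hRD g hd hgZ
      set K := (Subgroup.centralizer ({g} : Set (Matrix.SpecialLinearGroup (Fin 2) F))).map π with hK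
      have hHK : H ≤ K := by
        rw [← hmap]
        exact Subgroup.map_mono hle
      have hq' : Fintype.card F = 4 ∨ Fintype.card F = 9 ∨ (Fintype.card F).Prime := by
        rcases hq with h | h | h
        · exact Or.inl h
        · exact Or.inr (Or.inl h)
        · exact Or.inr (Or.inr h.1)
      have hHeq : H = K := Cfsg.Agent.Helper47.SCG.RG_eq_of_card H K hHK hH (Fintype.card F) hcard hq'
      rw [hHeq]
      exact Subgroup.mem_map_of_mem π (Subgroup.mem_centralizer_singleton_iff.mpr rfl)
    · -- semisimple: cyclic centralizer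
      exfalso
      apply hH
      have hT := hRC g hd
      have hcyc : IsCyclic ↥Hh := RF_isCyclic_of_le Hh _ hle hT
      rw [← hmap]
      exact RF_isCyclic_map π Hh hcyc
  -- reduce to the cases
  by_cases h2 : (2 : F) = 0
  · -- characteristic 2: `-g = g`
    apply caseI
    intro h hh
    rw [Subgroup.mem_centralizer_singleton_iff]
    have key : h * g * h⁻¹ = g := by
      rcases hconj h hh with e | e
      · exact e
      · apply Subtype.ext
        rw [e]
        have hneg : (-1 : F) = 1 := by
          rw [neg_eq_iff_add_eq_zero, one_add_one_eq_two, h2]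
        ext i j
        rw [Matrix.neg_apply, ← neg_one_mul, hneg, one_mul]
    exact mul_inv_eq_iff_eq_mul.mp key
  · by_cases htr : Matrix.trace (g : Matrix (Fin 2) (Fin 2) F) = 0
    · -- the involution case
      by_contra hxH
      apply hH
      have hgH : g ∉ Hh := fun hg => hxH (hgmem.mp hg)
      -- `q` is odd, `9` or a Fermat / Mersenne prime
      have hcast : ((Fintype.card F : ℕ) : F) = 0 := Nat.cast_card_eq_zero F
      have hq9 : Fintype.card F = 9 ∨ ((Fintype.card F).Prime ∧
          ∃ k : ℕ, Fintype.card F = 2 ^ k + 1 ∨ Fintype.card F = 2 ^ k - 1) := by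
        rcases hq with h | h | h
        · exfalso
          rw [h] at hcast
          have h4 : (2 : F) * 2 = 0 := by
            have : ((4 : ℕ) : F) = (2 : F) * 2 := by norm_num
            rw [← this]; exact hcast
          rcases mul_eq_zero.mp h4 with h' | h' <;> exact h2 h'
        · exact Or.inl h
        · exact Or.inr h
      have hodd : Odd (Fintype.card F) := by
        rcases hq9 with h | ⟨hp, -⟩
        · rw [h]; decide
        · rcases hp.eq_two_or_odd' with h | h
          · exfalso
            rw [h] at hcast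
            apply h2
            exact_mod_cast hcast
          · exact h
      obtain ⟨h1, h3⟩ := hNTC (Fintype.card F) hodd hq9
      have := hRE hodd h1 h3 g htr Hh hcen hconj hgH
      rw [hmap] at this
      exact this
    · -- non-zero trace: the sign is `+`
      apply caseI
      intro h hh
      rw [Subgroup.mem_centralizer_singleton_iff]
      have key : h * g * h⁻¹ = g := by
        rcases hconj h hh with e | e
        · exact e
        · exact absurd (Cfsg.Agent.Helper66.SCG.RB_trace_eq_zero h2 g h e) htr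
      exact mul_inv_eq_iff_eq_mul.mp key

end Cfsg.Agent.Helper65.SCG
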