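import Mathlib
import Cfsg.Prelude.Def_CaseTheorems
import Cfsg.Agent.Helper54.SCG.Defs
import Cfsg.Agent.Helper65.SCG_RFCore
import Cfsg.Agent.Helper30.SCG_NTC
import Cfsg.Agent.Helper29.SCG_RC
import Cfsg.Agent.Helper55.SCG_RD
import Cfsg.Agent.Helper84.SCG_RE

set_option autoImplicit false

/-!
# S3921 (helper54's SCG farm), assembly (RF) by helper65: `SC` holds in `PSL₂(q)` for `q = 4`, `9` or a Fermat or
Mersenne prime.  From (RA) (RB) (RG) (in `SCG_RFCore`) and (NTC) (RC) (RD) (RE).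
-/

namespace Cfsg.Agent.Helper65.SCG

open Matrix Cfsg.Agent.Helper54.SCG

/-- (RF) ASSEMBLY of the converse from (RA) (RB) (RC) (RD) (RG) (RE) (NTC). -/
theorem RF_sc_psl2 {F : Type*} [Field F] [Fintype F]
    (hq : Fintype.card F = 4 ∨ Fintype.card F = 9 ∨ ((Fintype.card F).Prime ∧
      ∃ k : ℕ, Fintype.card F = 2 ^ k + 1 ∨ Fintype.card F = 2 ^ k - 1)) :
    SC (Matrix.ProjectiveSpecialLinearGroup (Fin 2) F) :=
  RF_core
    (fun q hodd h => Cfsg.Agent.Helper30.SCG.NTC_two_pow q hodd h)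
    (fun g hd => Cfsg.Agent.Helper29.SCG.RC_isCyclic_centralizer g hd)
    (fun g hd hg => Cfsg.Agent.Helper55.SCG.RD_card_map_centralizer_dvd g hd hg)
    (fun hodd h1 h3 g htr Hh hcen hH hg =>
      Cfsg.Agent.Helper84.SCG.RE_involution_case hodd h1 h3 g htr Hh hcen hH hg)
    hq

end Cfsg.Agent.Helper65.SCG
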