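import Cfsg.Agent.Helper65.SPWW9core

/-!
# (W9a)/(W9b) of helper6's S2347 part W, core forms

The determinant characters of the group `weilGrp ψ` on the odd and on the even functions, taking
the stability (W6d) and the dimension (W6c) as hypotheses.
-/

set_option autoImplicit false

namespace Cfsg.Agent.Helper65.SPweil

open Matrix Module Cfsg.Agent.Helper6.SPweil

variable {F : Type*} [Field F] {n : ℕ}

/-- the second projection of `weilGrp ψ` -/
def weilSnd (ψ : AddChar F ℂ) :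
    ↥(weilGrp (n := n) ψ) →* (((Fin n → F) → ℂ) ≃ₗ[ℂ] ((Fin n → F) → ℂ)) :=
  (MonoidHom.snd _ _).comp (weilGrp (n := n) ψ).subtype

theorem weilSnd_apply (ψ : AddChar F ℂ) (e : ↥(weilGrp (n := n) ψ)) :
    weilSnd ψ e = (e : Matrix.symplecticGroup (Fin n) F ×
        (((Fin n → F) → ℂ) ≃ₗ[ℂ] ((Fin n → F) → ℂ))).2 := rfl

/-- core form of (W9a)/(W9b): any submodule stable under all intertwiners -/
theorem exists_det_weilGrp (ψ : AddChar F ℂ) (W : Submodule ℂ ((Fin n → F) → ℂ)) (k : ℕ)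
    (hk : finrank ℂ W = k)
    (hW : ∀ (g : Matrix.symplecticGroup (Fin n) F)
      (T : ((Fin n → F) → ℂ) ≃ₗ[ℂ] ((Fin n → F) → ℂ)), Intertwines ψ g T →
      ∀ f : (Fin n → F) → ℂ, f ∈ W → T f ∈ W) :
    ∃ d : ↥(weilGrp (n := n) ψ) →* ℂˣ, ∀ (e : ↥(weilGrp (n := n) ψ)) (c : ℂˣ),
      (∀ f, (e : Matrix.symplecticGroup (Fin n) F ×
        (((Fin n → F) → ℂ) ≃ₗ[ℂ] ((Fin n → F) → ℂ))).2 f = (c : ℂ) • f) →
      d e = c ^ k := by
  obtain ⟨d, hd⟩ := exists_det_of_stable (weilSnd (n := n) ψ) W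
    (fun e f hf => hW _ _ ((mem_weilGrp ψ _).1 e.2) f hf)
  refine ⟨d, fun e c hc => ?_⟩
  rw [← hk]
  exact hd e c hc

end Cfsg.Agent.Helper65.SPweil
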