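import Cfsg.Agent.Helper6.SPweil1

/-!
# Core of (W9a)/(W9b) of helper6's S2347 part W: the determinant on a stable subspace

For a group `E` acting on a module `M` by linear automorphisms and stabilising a submodule `W`,
the determinant of the restriction to `W` is a homomorphism `E →* ℂˣ`; on an element acting
by the scalar `c` it takes the value `c ^ finrank W`.
-/

set_option autoImplicit false

namespace Cfsg.Agent.Helper65.SPweil

open Module

/-- the determinant character of a stable subspace -/
theorem exists_det_of_stable {E : Type*} [Group E] {M : Type*} [AddCommGroup M] [Module ℂ M]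
    (T : E →* (M ≃ₗ[ℂ] M)) (W : Submodule ℂ M) (hW : ∀ (e : E) (f : M), f ∈ W → T e f ∈ W) :
    ∃ d : E →* ℂˣ, ∀ (e : E) (c : ℂˣ), (∀ f, T e f = (c : ℂ) • f) →
      d e = c ^ finrank ℂ W := by
  classical
  -- the restriction
  let r : E → (W →ₗ[ℂ] W) := fun e => ((T e : M ≃ₗ[ℂ] M) : M →ₗ[ℂ] M).restrict (hW e)
  have hr : ∀ e (x : W), ((r e x : W) : M) = T e (x : M) := fun e x => rfl
  have r1 : r 1 = 1 := by
    apply LinearMap.ext
    intro x
    apply Subtype.ext
    rw [hr, map_one]
    rfl
  have rmul : ∀ a b, r (a * b) = r a * r b := by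
    intro a b
    apply LinearMap.ext
    intro x
    apply Subtype.ext
    rw [hr, map_mul, Module.End.mul_apply, hr, hr]
    rfl
  let d0 : E →* ℂ :=
    { toFun := fun e => LinearMap.det (r e)
      map_one' := by
        show LinearMap.det (r 1) = 1
        rw [r1, map_one]
      map_mul' := by
        intro a b
        show LinearMap.det (r (a * b)) = LinearMap.det (r a) * LinearMap.det (r b)
        rw [rmul, map_mul] }
  refine ⟨d0.toHomUnits, ?_⟩
  intro e c hc
  apply Units.ext
  rw [MonoidHom.coe_toHomUnits, Units.val_pow_eq_pow_val]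
  show LinearMap.det (r e) = (c : ℂ) ^ finrank ℂ W
  have hre : r e = (c : ℂ) • (1 : W →ₗ[ℂ] W) := by
    apply LinearMap.ext
    intro x
    apply Subtype.ext
    rw [hr, hc]
    rfl
  rw [hre, LinearMap.det_smul, map_one, mul_one]

end Cfsg.Agent.Helper65.SPweil
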