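import Mathlib
import Cfsg.Agent.Helper84.SU3P.Words

/-!
# S2289 (helper84), piece (MR1): `u^p` is in the central root group.
Also: the additive `a`-coordinate on upper unitriangular elements of the model.
-/

set_option autoImplicit false
set_option linter.unusedSectionVars false
set_option linter.unusedVariables false
set_option linter.unusedSimpArgs false
set_option linter.unnecessarySeqFocus false

namespace Cfsg.Agent.Helper65.SU3P

open Matrix Polynomial Cfsg.Agent.Helper84.RU3 Cfsg.Agent.Helper96.SLPres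
  Cfsg.Agent.Helper96.StemSLTwo Cfsg.Agent.Helper96.StPres Cfsg.Agent.Helper84.SU3P

variable {K : Type*} [Field K] (bar : K →+* K)

theorem uM_mul_uM (a b a' b' : K) :
    uM bar a b * uM bar a' b' = uM bar (a + a') (b + b' - bar a * a') := by
  unfold uM
  ext i j
  fin_cases i <;> fin_cases j <;>
    simp [Matrix.mul_apply, Fin.sum_univ_three] <;> ring

theorem uM_zero_zero : uM bar (0 : K) 0 = 1 := by
  unfold uM
  ext i j
  fin_cases i <;> fin_cases j <;> simp [Matrix.one_apply]

theorem uM_mul_neg (a b : K) : uM bar a b * uM bar (-a) (-b - bar a * a) = 1 := by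
  rw [uM_mul_uM, ← uM_zero_zero bar]
  congr 1 <;> ring

/-- `g` is upper unitriangular with `a`-coordinate `a` -/
def HasA (g : SUJ bar) (a : K) : Prop := ∃ b : K, mt bar g = uM bar a b

theorem hasA_one : HasA bar (1 : SUJ bar) 0 := ⟨0, by rw [mt_one, uM_zero_zero]⟩

theorem hasA_mul {g g' : SUJ bar} {a a' : K} (h : HasA bar g a) (h' : HasA bar g' a') :
    HasA bar (g * g') (a + a') := by
  obtain ⟨b, hg⟩ := h
  obtain ⟨b', hg'⟩ := h'
  exact ⟨b + b' - bar a * a', by rw [mt_mul, hg, hg', uM_mul_uM]⟩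

theorem hasA_inv {g : SUJ bar} {a : K} (h : HasA bar g a) : HasA bar g⁻¹ (-a) := by
  obtain ⟨b, hg⟩ := h
  refine ⟨-b - bar a * a, ?_⟩
  calc mt bar g⁻¹ = mt bar g⁻¹ * (uM bar a b * uM bar (-a) (-b - bar a * a)) := by
        rw [uM_mul_neg, Matrix.mul_one]
    _ = (mt bar g⁻¹ * mt bar g) * uM bar (-a) (-b - bar a * a) := by rw [hg, Matrix.mul_assoc]
    _ = uM bar (-a) (-b - bar a * a) := by rw [mt_inv_mul, Matrix.one_mul]

theorem hasA_congr {g : SUJ bar} {a a' : K} (h : HasA bar g a) (e : a = a') : HasA bar g a' :=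
  e ▸ h

theorem hasA_pow {g : SUJ bar} {a : K} (h : HasA bar g a) (n : ℕ) :
    HasA bar (g ^ n) ((n : K) * a) := by
  induction n with
  | zero => rw [pow_zero, Nat.cast_zero, zero_mul]; exact hasA_one bar
  | succ n ih =>
    rw [pow_succ]
    exact hasA_congr bar (hasA_mul bar ih h) (by push_cast; ring)

theorem hasA_zpow {g : SUJ bar} {a : K} (h : HasA bar g a) (n : ℤ) :
    HasA bar (g ^ n) ((n : K) * a) := by
  cases n with
  | ofNat n =>
    rw [Int.ofNat_eq_natCast, zpow_natCast, Int.cast_natCast]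
    exact hasA_pow bar h n
  | negSucc n =>
    rw [zpow_negSucc]
    exact hasA_congr bar (hasA_inv bar (hasA_pow bar h (n + 1))) (by
      rw [Int.cast_negSucc]; push_cast; ring)

variable (hb : ∀ x, bar (bar x) = x)
include hb

/-- (MR1) `u^p` is in the central root group -/
theorem rel_U1 {p : ℕ} [Fact p.Prime] [Algebra (ZMod p) K] (U₀ : SUJ bar) {a₀ b₀ : K}
    (hU₀ : mt bar U₀ = uM bar a₀ b₀) : ∃ s : K, mt bar (U₀ ^ p) = uM bar 0 s := by
  haveI : CharP K p := charP_of_injective_algebraMap (algebraMap (ZMod p) K).injective p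
  have h := hasA_pow bar (⟨b₀, hU₀⟩ : HasA bar U₀ a₀) p
  rw [CharP.cast_eq_zero K p, zero_mul] at h
  exact h

end Cfsg.Agent.Helper65.SU3P
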