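import Mathlib
import Cfsg.Agent.Helper84.SU3P.Words
import Cfsg.Agent.Helper37.SU3P_UZ
import Cfsg.Agent.Helper65.SU3P_MR1

/-!
# S2289 (helper84), piece (MR3): the window relation holds modulo the central root group.
-/

set_option autoImplicit false
set_option linter.unusedSectionVars false
set_option linter.unusedVariables false

namespace Cfsg.Agent.Helper65.SU3P

open Matrix Polynomial Cfsg.Agent.Helper84.RU3 Cfsg.Agent.Helper96.SLPres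
  Cfsg.Agent.Helper96.StemSLTwo Cfsg.Agent.Helper96.StPres Cfsg.Agent.Helper84.SU3P

variable {K : Type*} [Field K] (bar : K →+* K) (hb : ∀ x, bar (bar x) = x)
include hb

/-- (MR3) the window relation holds modulo the central root group -/
theorem rel_U4 (U₀ H₀ : SUJ bar) {a₀ b₀ ζ : K} (hζ0 : ζ ≠ 0) (hU₀ : mt bar U₀ = uM bar a₀ b₀)
    (hH₀ : mt bar H₀ = hM bar ζ) (k : ℕ) (c : ℤ) (hc : c = 1 ∨ c = -1)
    (hk : (bar ζ ^ 2 / ζ) ^ k = (bar ζ ^ 2 / ζ + (c : K)) ^ 3) :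
    ∃ s : K, mt bar ((uz H₀ U₀ 3 * uz H₀ U₀ 2 ^ (3 * c) * uz H₀ U₀ 1 ^ (3 : ℤ) * uz H₀ U₀ 0 ^ c)⁻¹ *
      uz H₀ U₀ k) = uM bar 0 s := by
  obtain ⟨θ, hθ⟩ : ∃ θ : K, θ = bar ζ ^ 2 / ζ := ⟨_, rfl⟩
  rw [← hθ] at hk
  have hz : ∀ i : ℤ, HasA bar (uz H₀ U₀ i) (a₀ * θ ^ i) := fun i =>
    ⟨_, by rw [hθ]; exact Cfsg.Agent.Helper37.SU3P.mt_uz bar hb U₀ H₀ a₀ b₀ ζ hζ0 hU₀ hH₀ i⟩
  have h3 := hz 3
  have h2 := hasA_zpow bar (hz 2) (3 * c)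
  have h1 := hasA_zpow bar (hz 1) 3
  have h0 := hasA_zpow bar (hz 0) c
  have hprod := hasA_mul bar (hasA_mul bar (hasA_mul bar h3 h2) h1) h0
  have hk' := hz (k : ℤ)
  have hall := hasA_mul bar (hasA_inv bar hprod) hk'
  refine hasA_congr bar hall ?_
  have e3 : θ ^ (3 : ℤ) = θ ^ 3 := zpow_ofNat θ 3
  have e2 : θ ^ (2 : ℤ) = θ ^ 2 := zpow_ofNat θ 2
  rw [zpow_natCast, hk, e3, e2, zpow_one, zpow_zero]
  rcases hc with rfl | rfl
  · push_cast; ring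
  · push_cast; ring

end Cfsg.Agent.Helper65.SU3P
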