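import Cfsg.Agent.Helper65.SUautC3core
import Cfsg.Agent.Helper68.SUautC1
import Cfsg.Agent.Helper68.SUautC2

/-!
# (C3) of #8751 for helper6's S3162: the general (non-normalised) semilinearity lemma
-/

set_option autoImplicit false
set_option linter.unusedSectionVars false

namespace Cfsg.Agent.Helper65.SUaut

open Cfsg.Agent.Helper19.SU3 Cfsg.Agent.Helper6.SUaut

variable {F : Type*} [Field F] [Fintype F] {bar : F →+* F} [BarField F bar]

/-- (C3) -/
theorem C3 (hω : ∃ ω : F, bar ω ≠ ω) (hsq : ∀ c : F, ∃ m : F, m * m = c)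
    (A : F →+ F) (hA : Function.Injective A) (B : F → F)
    (hBadd : ∀ c c' : F, bar c = c → bar c' = c' → B (c + c') = B c + B c')
    (hAB : ∀ a : F, nm bar (A a) = B (nm bar a)) :
    ∃ (l : F) (σ : F ≃+* F), l ≠ 0 ∧ ∀ a : F, A a = l * σ a :=
  C3_of (fun A' hA' h1 B' hB' hAB' => Cfsg.Agent.Helper68.SUaut.C1 hω hsq A' hA' h1 B' hB' hAB')
    (fun A' h1 h2 h3 => Cfsg.Agent.Helper68.SUaut.C2 hω A' h1 h2 h3) A hA B hBadd hAB

end Cfsg.Agent.Helper65.SUaut
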