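import Mathlib

/-!
# Soft subgroups of `p`-groups (Héthelyi), part 1

`E` is *soft* in `G` if it is abelian, contains its centralizer, and has index `p` in its
normalizer.  Basic lemmas: every overgroup contains the normalizer, and the second normalizer
has index `p` over the first.
-/

set_option autoImplicit false

namespace Cfsg.Agent.Helper65

open Subgroup

variable {G : Type*} [Group G]

/-- `E` is a soft subgroup of `G` (for the prime `p`). -/
structure IsSoft (p : ℕ) (E : Subgroup G) : Prop where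
  comm : ∀ a ∈ E, ∀ b ∈ E, a * b = b * a
  cent : centralizer (E : Set G) ≤ E
  norm : E.relIndex (normalizer (E : Set G)) = p

/-- In a finite group, `g E g⁻¹ ⊆ E` already puts `g` in the normalizer. -/
theorem mem_normalizer_of_forall_conj_mem [Finite G] {E : Subgroup G} {g : G}
    (h : ∀ e ∈ E, g * e * g⁻¹ ∈ E) : g ∈ normalizer (E : Set G) := by
  rw [Subgroup.mem_normalizer_iff]
  intro x
  refine ⟨fun hx => h x hx, fun hx => ?_⟩
  -- the map `e ↦ g e g⁻¹` on `E` is injective hence surjective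
  let φ : E → E := fun e => ⟨g * e * g⁻¹, h e e.2⟩
  have hinj : Function.Injective φ := by
    intro a b hab
    have : g * (a : G) * g⁻¹ = g * (b : G) * g⁻¹ := congrArg Subtype.val hab
    apply Subtype.ext
    have h2 := congrArg (fun y => g⁻¹ * y * g) this
    simpa [mul_assoc] using h2
  have hsurj : Function.Surjective φ := Finite.surjective_of_injective hinj
  obtain ⟨e, he⟩ := hsurj ⟨g * x * g⁻¹, hx⟩
  have : g * (e : G) * g⁻¹ = g * x * g⁻¹ := congrArg Subtype.val he
  have h2 := congrArg (fun y => g⁻¹ * y * g) this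
  have h3 : (e : G) = x := by simpa [mul_assoc] using h2
  rw [← h3]; exact e.2

/-- A subgroup between `E` and `N` where `[N : E]` is prime is one of the two. -/
theorem eq_or_eq_of_relIndex_prime {p : ℕ} (hp : p.Prime) {E H N : Subgroup G}
    (hEH : E ≤ H) (hHN : H ≤ N) (h : E.relIndex N = p) : H = E ∨ H = N := by
  have h1 := Subgroup.relIndex_mul_relIndex E H N hEH hHN
  rw [h] at h1
  have h2 : E.relIndex H ∣ p := Dvd.intro _ h1
  rcases (Nat.dvd_prime hp).mp h2 with h3 | h3
  · left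
    exact le_antisymm (Subgroup.relIndex_eq_one.mp h3) hEH
  · right
    rw [h3] at h1
    have h4 : H.relIndex N = 1 := by
      have hp0 : 0 < p := hp.pos
      nlinarith [h1]
    exact le_antisymm hHN (Subgroup.relIndex_eq_one.mp h4)

variable {p : ℕ} [hp : Fact p.Prime]

theorem IsSoft.le_normalizer {E : Subgroup G} (_h : IsSoft p E) : E ≤ normalizer (E : Set G) :=
  Subgroup.le_normalizer

theorem IsSoft.lt_normalizer {E : Subgroup G} (h : IsSoft p E) : E < normalizer (E : Set G) := by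
  refine lt_of_le_of_ne Subgroup.le_normalizer fun heq => ?_
  have h1 : E.relIndex (normalizer (E : Set G)) = 1 :=
    Subgroup.relIndex_eq_one.mpr (le_of_eq heq.symm)
  rw [h.norm] at h1
  exact hp.out.one_lt.ne' h1

/-- Lemma A: every subgroup properly containing a soft subgroup contains its normalizer. -/
theorem IsSoft.normalizer_le [Finite G] (hG : IsPGroup p G) {E K : Subgroup G} (h : IsSoft p E)
    (hEK : E < K) : normalizer (E : Set G) ≤ K := by
  haveI : Group.IsNilpotent K := (hG.to_subgroup K).isNilpotent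
  have hlt : E.subgroupOf K < ⊤ := by
    refine lt_of_le_of_ne le_top fun heq => ?_
    exact hEK.not_ge (Subgroup.subgroupOf_eq_top.mp heq)
  have hnc := (Group.normalizerCondition_of_isNilpotent (G := K)) (E.subgroupOf K) hlt
  obtain ⟨k, hk1, hk2⟩ := Set.exists_of_ssubset hnc
  -- `k ∈ K` normalizes `E` but is not in `E`
  have hkN : (k : G) ∈ normalizer (E : Set G) := by
    apply mem_normalizer_of_forall_conj_mem
    intro e he
    have := (Subgroup.mem_normalizer_iff.mp hk1 ⟨e, hEK.le he⟩).mp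
      (by rw [Subgroup.mem_subgroupOf]; exact he)
    rw [Subgroup.mem_subgroupOf] at this
    simpa using this
  have hkE : (k : G) ∉ E := fun hkE => hk2 (by
    show k ∈ E.subgroupOf K
    rw [Subgroup.mem_subgroupOf]; exact hkE)
  set H := K ⊓ normalizer (E : Set G) with hH
  have hEH : E ≤ H := le_inf hEK.le Subgroup.le_normalizer
  rcases eq_or_eq_of_relIndex_prime hp.out hEH inf_le_right h.norm with h1 | h1
  · exfalso
    apply hkE
    rw [← h1]
    exact ⟨k.2, hkN⟩
  · rw [← h1]; exact inf_le_left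


/-! ### Conjugate subgroups -/

/-- The conjugate `g E g⁻¹`. -/
def conjSub (g : G) (E : Subgroup G) : Subgroup G := E.map (MulAut.conj g).toMonoidHom

theorem mem_conjSub {g x : G} {E : Subgroup G} : x ∈ conjSub g E ↔ ∃ e ∈ E, g * e * g⁻¹ = x := by
  unfold conjSub
  rw [Subgroup.mem_map]
  simp [MulAut.conj_apply]

theorem conj_mem_conjSub {g e : G} {E : Subgroup G} (he : e ∈ E) : g * e * g⁻¹ ∈ conjSub g E :=
  mem_conjSub.mpr ⟨e, he, rfl⟩

theorem card_conjSub (g : G) (E : Subgroup G) : Nat.card (conjSub g E) = Nat.card E := by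
  unfold conjSub
  exact Subgroup.card_map_of_injective (MulAut.conj g).injective

theorem softRelIndex_mul_card {A B : Subgroup G} (h : A ≤ B) :
    A.relIndex B * Nat.card A = Nat.card B := by
  have h1 : Nat.card (A.subgroupOf B) = Nat.card A :=
    Nat.card_congr (Subgroup.subgroupOfEquivOfLe h).toEquiv
  rw [Subgroup.relIndex, ← h1, mul_comm]
  exact Subgroup.card_mul_index _

/-- Lemma B: if `N = N_G(E) ≠ G` for a soft `E`, then `[N_G(N) : N] = p`. -/
theorem IsSoft.relIndex_normalizer_normalizer [Finite G] (hG : IsPGroup p G) {E : Subgroup G}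
    (h : IsSoft p E) (hN : normalizer (E : Set G) ≠ ⊤) :
    (normalizer (E : Set G)).relIndex (normalizer ((normalizer (E : Set G) : Subgroup G) : Set G)) = p := by
  have hpp : p.Prime := hp.out
  set N : Subgroup G := normalizer (E : Set G) with hNdef
  set T : Subgroup G := normalizer (N : Set G) with hTdef
  have hEN : E ≤ N := Subgroup.le_normalizer
  have hNT : N ≤ T := Subgroup.le_normalizer
  haveI : Group.IsNilpotent G := hG.isNilpotent
  have hNltT : N < T :=
    (Group.normalizerCondition_of_isNilpotent (G := G)) N (lt_of_le_of_ne le_top hN)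
  obtain ⟨g, hgT, hgN⟩ := Set.exists_of_ssubset hNltT
  -- the centre of `N` as a subgroup of `G`
  set Zc : Subgroup G := N ⊓ centralizer (N : Set G) with hZc
  have hZcN : Zc ≤ N := inf_le_left
  have hZcE : Zc ≤ E := fun z hz =>
    h.cent (Subgroup.centralizer_le (by exact_mod_cast hEN) (Subgroup.mem_inf.mp hz).2)
  -- conjugation by elements of `T` preserves `N`
  have hTN : ∀ t ∈ T, ∀ a ∈ N, t * a * t⁻¹ ∈ N := fun t ht a ha =>
    (Subgroup.mem_normalizer_iff.mp ht a).mp ha
  -- `T` normalizes `Zc`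
  have hZcT : ∀ t ∈ T, ∀ z ∈ Zc, t * z * t⁻¹ ∈ Zc := by
    intro t ht z hz
    have hz' := Subgroup.mem_inf.mp hz
    refine Subgroup.mem_inf.mpr ⟨hTN t ht z hz'.1, ?_⟩
    rw [Subgroup.mem_centralizer_iff]
    intro a ha
    have ha' : t⁻¹ * a * t ∈ N := by
      have := hTN t⁻¹ (T.inv_mem ht) a ha
      simpa using this
    have hc := (Subgroup.mem_centralizer_iff.mp hz'.2) _ ha'
    calc a * (t * z * t⁻¹) = t * ((t⁻¹ * a * t) * z) * t⁻¹ := by group
      _ = t * (z * (t⁻¹ * a * t)) * t⁻¹ := by rw [hc]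
      _ = t * z * t⁻¹ * a := by group
  -- for `u ∈ T \ N`, `E ⊓ uEu⁻¹ ≤ Zc`
  have hconjN : ∀ u ∈ T, conjSub u E ≤ N := by
    intro u hu x hx
    obtain ⟨e, he, rfl⟩ := mem_conjSub.mp hx
    exact hTN u hu e (hEN he)
  have hinter : ∀ u ∈ T, u ∉ N → ∀ x ∈ E, x ∈ conjSub u E → x ∈ Zc := by
    intro u hu huN x hxE hxF
    have hsup : E ⊔ conjSub u E = N := by
      rcases eq_or_eq_of_relIndex_prime hpp (le_sup_left : E ≤ E ⊔ conjSub u E)
        (sup_le hEN (hconjN u hu)) h.norm with h1 | h1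
      · exfalso
        apply huN
        apply mem_normalizer_of_forall_conj_mem
        intro e he
        have : u * e * u⁻¹ ∈ E ⊔ conjSub u E := Subgroup.mem_sup_right (conj_mem_conjSub he)
        rwa [h1] at this
      · exact h1
    refine Subgroup.mem_inf.mpr ⟨hEN hxE, ?_⟩
    have h1 : E ≤ centralizer ({x} : Set G) := by
      intro e he
      rw [Subgroup.mem_centralizer_singleton_iff]
      exact h.comm e he x hxE
    have h2 : conjSub u E ≤ centralizer ({x} : Set G) := by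
      intro y hy
      rw [Subgroup.mem_centralizer_singleton_iff]
      obtain ⟨e, he, rfl⟩ := mem_conjSub.mp hy
      obtain ⟨e', he', rfl⟩ := mem_conjSub.mp hxF
      have := h.comm e he e' he'
      calc u * e * u⁻¹ * (u * e' * u⁻¹) = u * (e * e') * u⁻¹ := by group
        _ = u * (e' * e) * u⁻¹ := by rw [this]
        _ = u * e' * u⁻¹ * (u * e * u⁻¹) := by group
    have h3 : N ≤ centralizer ({x} : Set G) := hsup ▸ sup_le h1 h2
    rw [Subgroup.mem_centralizer_iff]
    intro a ha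
    exact Subgroup.mem_centralizer_singleton_iff.mp (h3 ha)
  -- an element of `E` outside `Zc`
  obtain ⟨e₁, he₁E, he₁Z⟩ : ∃ e₁ ∈ E, e₁ ∉ Zc := by
    by_contra hcon
    push Not at hcon
    apply hgN
    apply mem_normalizer_of_forall_conj_mem
    intro e he
    exact hZcE (hZcT g hgT e (hcon e he))
  -- index bound `[N : Zc] ≤ p²`
  have hidx : Zc.relIndex N ≤ p * p := by
    set F := conjSub g E with hF
    have hFN : F ≤ N := hconjN g hgT
    have h1 : E ⊓ F ≤ Zc := fun x hx =>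
      hinter g hgT hgN x (Subgroup.mem_inf.mp hx).1 (Subgroup.mem_inf.mp hx).2
    have h2 : Zc.relIndex N ∣ (E ⊓ F).relIndex N := Subgroup.relIndex_dvd_of_le_left N h1
    have h3 : (E ⊓ F).relIndex N = (E ⊓ F).relIndex E * p := by
      rw [← h.norm]
      exact (Subgroup.relIndex_mul_relIndex (E ⊓ F) E N inf_le_left hEN).symm
    have h4 : (E ⊓ F).relIndex E = F.relIndex E := by
      rw [inf_comm]; exact Subgroup.inf_relIndex_right F E
    have h5 : F.relIndex N = p := by
      have e1 := softRelIndex_mul_card hFN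
      have e2 := softRelIndex_mul_card hEN
      rw [card_conjSub] at e1
      rw [h.norm] at e2
      have hcE : 0 < Nat.card E := Nat.card_pos
      have : F.relIndex N * Nat.card E = p * Nat.card E := by rw [e1, e2]
      exact Nat.eq_of_mul_eq_mul_right hcE this
    have h6 : F.relIndex E ≤ p := by
      rw [← h5]
      exact Subgroup.relIndex_le_of_le_right hEN (by rw [h5]; exact hpp.ne_zero)
    have h7 : (E ⊓ F).relIndex N ≤ p * p := by
      rw [h3, h4]; exact Nat.mul_le_mul_right p h6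
    have h8 : (E ⊓ F).relIndex N ≠ 0 := Subgroup.index_ne_zero_of_finite
    exact le_trans (Nat.le_of_dvd (Nat.pos_of_ne_zero h8) h2) h7
  -- commutators of `E` with `N` lie in `Zc`
  have hcommZ : ∀ n ∈ N, ∀ e ∈ E, e⁻¹ * (n * e * n⁻¹) ∈ Zc := by
    let D : Subgroup G :=
      { carrier := {n | n ∈ N ∧ ∀ e ∈ E, e⁻¹ * (n * e * n⁻¹) ∈ Zc}
        mul_mem' := by
          rintro n m ⟨hn, hn'⟩ ⟨hm, hm'⟩
          refine ⟨N.mul_mem hn hm, fun e he => ?_⟩
          have h1 := hn' e he
          have h2 := hZcT n (hNT hn) _ (hm' e he)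
          have : e⁻¹ * (n * m * e * (n * m)⁻¹) =
              (e⁻¹ * (n * e * n⁻¹)) * (n * (e⁻¹ * (m * e * m⁻¹)) * n⁻¹) := by group
          rw [this]
          exact Zc.mul_mem h1 h2
        one_mem' := ⟨N.one_mem, fun e _ => by simp⟩
        inv_mem' := by
          rintro n ⟨hn, hn'⟩
          refine ⟨N.inv_mem hn, fun e he => ?_⟩
          have h1 := Zc.inv_mem (hn' e he)
          have h2 := hZcT n⁻¹ (T.inv_mem (hNT hn)) _ h1
          have : e⁻¹ * (n⁻¹ * e * n⁻¹⁻¹) = n⁻¹ * (e⁻¹ * (n * e * n⁻¹))⁻¹ * n⁻¹⁻¹ := by group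
          rw [this]
          exact h2 }
    have hED : E ≤ D := by
      intro n hn
      refine ⟨hEN hn, fun e he => ?_⟩
      have : n * e * n⁻¹ = e := by rw [h.comm n hn e he]; group
      rw [this]; simp
    have hFD : conjSub g E ≤ D := by
      intro n hn
      have hnN : n ∈ N := hconjN g hgT hn
      refine ⟨hnN, fun e he => ?_⟩
      apply hinter g hgT hgN
      · -- in `E`
        have : n * e * n⁻¹ ∈ E :=
          (Subgroup.mem_normalizer_iff.mp hnN e).mp he
        exact E.mul_mem (E.inv_mem he) this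
      · -- in `g E g⁻¹`
        obtain ⟨e', he', rfl⟩ := mem_conjSub.mp hn
        have hgeN : g⁻¹ * e * g ∈ N := by
          have := hTN g⁻¹ (T.inv_mem hgT) e (hEN he)
          simpa using this
        have h1 : (g⁻¹ * e * g)⁻¹ * e' * (g⁻¹ * e * g)⁻¹⁻¹ ∈ E :=
          (Subgroup.mem_normalizer_iff.mp (N.inv_mem hgeN) e').mp he'
        have h2 : (g⁻¹ * e * g)⁻¹ * e' * (g⁻¹ * e * g)⁻¹⁻¹ * e'⁻¹ ∈ E :=
          E.mul_mem h1 (E.inv_mem he')
        have h3 := conj_mem_conjSub (g := g) h2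
        have : e⁻¹ * (g * e' * g⁻¹ * e * (g * e' * g⁻¹)⁻¹) =
            g * ((g⁻¹ * e * g)⁻¹ * e' * (g⁻¹ * e * g)⁻¹⁻¹ * e'⁻¹) * g⁻¹ := by group
        rw [this]
        exact h3
    have hsup : E ⊔ conjSub g E = N := by
      rcases eq_or_eq_of_relIndex_prime hpp (le_sup_left : E ≤ E ⊔ conjSub g E)
        (sup_le hEN (hconjN g hgT)) h.norm with h1 | h1
      · exfalso
        apply hgN
        apply mem_normalizer_of_forall_conj_mem
        intro e he
        have : g * e * g⁻¹ ∈ E ⊔ conjSub g E := Subgroup.mem_sup_right (conj_mem_conjSub he)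
        rwa [h1] at this
      · exact h1
    have hND : N ≤ D := hsup ▸ sup_le hED hFD
    intro n hn e he
    exact (hND hn).2 e he
  -- the injection `T/N → N/Zc` missing one point
  have hlt : N.relIndex T < Zc.relIndex N := by
    classical
    rw [Subgroup.relIndex, Subgroup.relIndex, Subgroup.index_eq_card, Subgroup.index_eq_card]
    have hmemN : ∀ t : T, e₁⁻¹ * ((t : G) * e₁ * (t : G)⁻¹) ∈ N := fun t =>
      N.mul_mem (N.inv_mem (hEN he₁E)) (hTN t t.2 e₁ (hEN he₁E))
    -- key: if `u ∈ T` and `u e₁ u⁻¹ ∈ e₁ Zc` then `u ∈ N`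
    have hkey : ∀ u ∈ T, e₁⁻¹ * (u * e₁ * u⁻¹) ∈ Zc → u ∈ N := by
      intro u hu hmem
      by_contra huN
      have h1 : u * e₁ * u⁻¹ ∈ E := by
        have : u * e₁ * u⁻¹ = e₁ * (e₁⁻¹ * (u * e₁ * u⁻¹)) := by group
        rw [this]
        exact E.mul_mem he₁E (hZcE hmem)
      have h2 : u * e₁ * u⁻¹ ∈ Zc := hinter u hu huN _ h1 (conj_mem_conjSub he₁E)
      have h3 := hZcT u⁻¹ (T.inv_mem hu) _ h2
      apply he₁Z
      have : u⁻¹ * (u * e₁ * u⁻¹) * u⁻¹⁻¹ = e₁ := by group
      rwa [this] at h3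
    let φ : (T ⧸ N.subgroupOf T) → (N ⧸ Zc.subgroupOf N) := fun q =>
      Quotient.liftOn' q
        (fun t => ((⟨e₁⁻¹ * ((t : G) * e₁ * (t : G)⁻¹), hmemN t⟩ : N) : N ⧸ Zc.subgroupOf N))
        (by
          intro t s hts
          rw [QuotientGroup.leftRel_apply, Subgroup.mem_subgroupOf] at hts
          apply QuotientGroup.eq.mpr
          rw [Subgroup.mem_subgroupOf]
          have hn : ((t : G)⁻¹ * (s : G)) ∈ N := by simpa using hts
          have hc := hcommZ _ hn e₁ he₁E
          have h2 := hZcT t t.2 _ hc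
          have : (((⟨e₁⁻¹ * ((t : G) * e₁ * (t : G)⁻¹), hmemN t⟩ : N)⁻¹ *
              (⟨e₁⁻¹ * ((s : G) * e₁ * (s : G)⁻¹), hmemN s⟩ : N) : N) : G) =
              (t : G) * (e₁⁻¹ * ((t : G)⁻¹ * (s : G) * e₁ * ((t : G)⁻¹ * (s : G))⁻¹)) * (t : G)⁻¹ := by
            simp only [Subgroup.coe_mul, Subgroup.coe_inv]
            group
          rw [this]
          exact h2)
    have hinj : Function.Injective φ := by
      intro q₁ q₂
      induction q₁ using QuotientGroup.induction_on with | _ t => ?_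
      induction q₂ using QuotientGroup.induction_on with | _ s => ?_
      intro hφ
      have hφ' : ((⟨e₁⁻¹ * ((t : G) * e₁ * (t : G)⁻¹), hmemN t⟩ : N) : N ⧸ Zc.subgroupOf N) =
          ((⟨e₁⁻¹ * ((s : G) * e₁ * (s : G)⁻¹), hmemN s⟩ : N) : N ⧸ Zc.subgroupOf N) := hφ
      have h1 := QuotientGroup.eq.mp hφ'
      rw [Subgroup.mem_subgroupOf] at h1
      have h2 : (t : G) * (e₁⁻¹ * ((t : G)⁻¹ * (s : G) * e₁ * ((t : G)⁻¹ * (s : G))⁻¹)) * (t : G)⁻¹ ∈ Zc := by
        have : (((⟨e₁⁻¹ * ((t : G) * e₁ * (t : G)⁻¹), hmemN t⟩ : N)⁻¹ *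
            (⟨e₁⁻¹ * ((s : G) * e₁ * (s : G)⁻¹), hmemN s⟩ : N) : N) : G) =
            (t : G) * (e₁⁻¹ * ((t : G)⁻¹ * (s : G) * e₁ * ((t : G)⁻¹ * (s : G))⁻¹)) * (t : G)⁻¹ := by
          simp only [Subgroup.coe_mul, Subgroup.coe_inv]
          group
        rwa [this] at h1
      have h3 := hZcT (t : G)⁻¹ (T.inv_mem t.2) _ h2
      have h4 : e₁⁻¹ * ((t : G)⁻¹ * (s : G) * e₁ * ((t : G)⁻¹ * (s : G))⁻¹) ∈ Zc := by
        have : (t : G)⁻¹ * ((t : G) * (e₁⁻¹ * ((t : G)⁻¹ * (s : G) * e₁ * ((t : G)⁻¹ * (s : G))⁻¹)) *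
            (t : G)⁻¹) * (t : G)⁻¹⁻¹ = e₁⁻¹ * ((t : G)⁻¹ * (s : G) * e₁ * ((t : G)⁻¹ * (s : G))⁻¹) := by
          group
        rwa [this] at h3
      have h5 : (t : G)⁻¹ * (s : G) ∈ N :=
        hkey _ (T.mul_mem (T.inv_mem t.2) s.2) h4
      apply QuotientGroup.eq.mpr
      rw [Subgroup.mem_subgroupOf]
      simpa using h5
    have hmiss : ((⟨e₁⁻¹, N.inv_mem (hEN he₁E)⟩ : N) : N ⧸ Zc.subgroupOf N) ∉ Set.range φ := by
      rintro ⟨q, hq⟩
      induction q using QuotientGroup.induction_on with | _ t => ?_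
      have hq' : ((⟨e₁⁻¹ * ((t : G) * e₁ * (t : G)⁻¹), hmemN t⟩ : N) : N ⧸ Zc.subgroupOf N) =
          ((⟨e₁⁻¹, N.inv_mem (hEN he₁E)⟩ : N) : N ⧸ Zc.subgroupOf N) := hq
      have h1 := QuotientGroup.eq.mp hq'
      rw [Subgroup.mem_subgroupOf] at h1
      have h2 : (t : G) * e₁⁻¹ * (t : G)⁻¹ ∈ Zc := by
        have : (((⟨e₁⁻¹ * ((t : G) * e₁ * (t : G)⁻¹), hmemN t⟩ : N)⁻¹ *
            (⟨e₁⁻¹, N.inv_mem (hEN he₁E)⟩ : N) : N) : G) = (t : G) * e₁⁻¹ * (t : G)⁻¹ := by
          simp only [Subgroup.coe_mul, Subgroup.coe_inv]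
          group
        rwa [this] at h1
      have h3 := hZcT (t : G)⁻¹ (T.inv_mem t.2) _ h2
      have h4 : e₁⁻¹ ∈ Zc := by
        have : (t : G)⁻¹ * ((t : G) * e₁⁻¹ * (t : G)⁻¹) * (t : G)⁻¹⁻¹ = e₁⁻¹ := by group
        rwa [this] at h3
      exact he₁Z (by simpa using Zc.inv_mem h4)
    haveI : Fintype (T ⧸ N.subgroupOf T) := Fintype.ofFinite _
    haveI : Fintype (N ⧸ Zc.subgroupOf N) := Fintype.ofFinite _
    rw [Nat.card_eq_fintype_card, Nat.card_eq_fintype_card]
    exact Fintype.card_lt_of_injective_of_notMem φ hinj hmiss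
  -- conclude
  obtain ⟨k, hk⟩ := (hG.to_subgroup T).index (N.subgroupOf T)
  have hk' : N.relIndex T = p ^ k := hk
  have hk0 : k ≠ 0 := by
    rintro rfl
    rw [pow_zero] at hk'
    exact hNltT.not_ge (Subgroup.relIndex_eq_one.mp hk')
  have hk2 : p ^ k < p ^ 2 := by
    rw [← hk', pow_two]
    exact lt_of_lt_of_le hlt hidx
  have hk3 : k < 2 := (Nat.pow_lt_pow_iff_right hpp.one_lt).mp hk2
  have hk1 : k = 1 := by omega
  rw [hk', hk1, pow_one]

end Cfsg.Agent.Helper65
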