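import Cfsg.Agent.Helper65.Soft

/-!
# Soft subgroups, part 2: quotients, the normalizer tower, the chain of overgroups
-/

set_option autoImplicit false

namespace Cfsg.Agent.Helper65

open Subgroup

universe u

variable {G : Type*} [Group G] {H : Type*} [Group H]

theorem map_normalizer_of_ker_le {f : G →* H} (hf : Function.Surjective f) {E : Subgroup G}
    (hker : f.ker ≤ E) : (normalizer (E : Set G)).map f = normalizer ((E.map f : Subgroup H) : Set H) := by
  have h1 := Subgroup.comap_normalizer_eq_of_surjective (E.map f) hf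
  rw [Subgroup.comap_map_eq_self hker] at h1
  rw [← h1, Subgroup.map_comap_eq_self_of_surjective hf]

theorem relIndex_map_map_of_ker_le (f : G →* H) {E : Subgroup G} (K : Subgroup G)
    (hker : f.ker ≤ E) : (E.map f).relIndex (K.map f) = E.relIndex K := by
  have h1 := Subgroup.relIndex_comap (E.map f) f K
  rw [Subgroup.comap_map_eq_self hker] at h1
  exact h1.symm

theorem map_ne_top_of_ker_le {f : G →* H} {K : Subgroup G} (hker : f.ker ≤ K) (hK : K ≠ ⊤) :
    K.map f ≠ ⊤ := by
  intro h
  apply hK
  have := Subgroup.comap_map_eq_self hker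
  rw [h, Subgroup.comap_top] at this
  exact this.symm

variable {p : ℕ} [hp : Fact p.Prime]

/-- Q1: if `Y ≤ E` is normal in `G` and some commutator `[g, e]`, `g ∈ N_G(E)`, `e ∈ E` is outside
`Y`, then `E/Y` is soft in `G/Y`. -/
theorem IsSoft.map_mk [Finite G] {E : Subgroup G} (h : IsSoft p E) (Y : Subgroup G) [Y.Normal]
    (hYE : Y ≤ E)
    (hex : ∃ g ∈ normalizer (E : Set G), ∃ e ∈ E, g * e * g⁻¹ * e⁻¹ ∉ Y) :
    IsSoft p (E.map (QuotientGroup.mk' Y)) := by
  have hpp : p.Prime := hp.out
  set π := QuotientGroup.mk' Y with hπ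
  have hsurj : Function.Surjective π := QuotientGroup.mk'_surjective Y
  have hker : π.ker ≤ E := by rw [hπ, QuotientGroup.ker_mk']; exact hYE
  have hkerY : ∀ x : G, π x = 1 ↔ x ∈ Y := fun x => by
    rw [← MonoidHom.mem_ker, hπ, QuotientGroup.ker_mk']
  refine ⟨?_, ?_, ?_⟩
  · rintro _ ⟨a, ha, rfl⟩ _ ⟨b, hb, rfl⟩
    rw [← map_mul, ← map_mul, h.comm a ha b hb]
  · intro q hq
    obtain ⟨g, rfl⟩ := hsurj q
    -- `[g, e] ∈ Y` for all `e ∈ E`
    have hge : ∀ e ∈ E, g * e * g⁻¹ * e⁻¹ ∈ Y := by
      intro e he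
      have h1 := (Subgroup.mem_centralizer_iff.mp hq) (π e) (Subgroup.mem_map_of_mem π he)
      rw [← hkerY]
      simp only [map_mul, map_inv]
      rw [← h1]; group
    have hgN : g ∈ normalizer (E : Set G) := by
      apply mem_normalizer_of_forall_conj_mem
      intro e he
      have : g * e * g⁻¹ = (g * e * g⁻¹ * e⁻¹) * e := by group
      rw [this]
      exact E.mul_mem (hYE (hge e he)) he
    -- the subgroup of such `g`
    set C : Subgroup G := (centralizer ((E.map π : Subgroup (G ⧸ Y)) : Set (G ⧸ Y))).comap π ⊓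
      normalizer (E : Set G) with hC
    have hEC : E ≤ C := by
      intro e he
      refine Subgroup.mem_inf.mpr ⟨?_, Subgroup.le_normalizer he⟩
      rw [Subgroup.mem_comap, Subgroup.mem_centralizer_iff]
      rintro _ ⟨b, hb, rfl⟩
      rw [← map_mul, ← map_mul, h.comm b hb e he]
    have hgC : g ∈ C := Subgroup.mem_inf.mpr ⟨hq, hgN⟩
    rcases eq_or_eq_of_relIndex_prime hpp hEC inf_le_right h.norm with h1 | h1
    · exact Subgroup.mem_map_of_mem π (h1 ▸ hgC)
    · exfalso
      obtain ⟨g', hg', e, he, hne⟩ := hex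
      apply hne
      have hg'C : g' ∈ C := h1 ▸ hg'
      have h2 := (Subgroup.mem_inf.mp hg'C).1
      rw [Subgroup.mem_comap, Subgroup.mem_centralizer_iff] at h2
      have h3 := h2 (π e) (Subgroup.mem_map_of_mem π he)
      rw [← hkerY]
      simp only [map_mul, map_inv]
      rw [← h3]; group
  · rw [← map_normalizer_of_ker_le hsurj hker, relIndex_map_map_of_ker_le π _ hker]
    exact h.norm

/-- Q2: if `Y ≤ E` is normal in `G`, `N = N_G(E)` is abelian modulo `Y` and `[N_G(N) : N] = p`,
then `N/Y` is soft in `G/Y`. -/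
theorem IsSoft.map_mk_normalizer [Finite G] {E : Subgroup G} (h : IsSoft p E) (Y : Subgroup G)
    [Y.Normal] (hYE : Y ≤ E)
    (hab : ∀ a ∈ normalizer (E : Set G), ∀ b ∈ normalizer (E : Set G), a * b * a⁻¹ * b⁻¹ ∈ Y)
    (hstep : (normalizer (E : Set G)).relIndex
      (normalizer ((normalizer (E : Set G) : Subgroup G) : Set G)) = p) :
    IsSoft p ((normalizer (E : Set G)).map (QuotientGroup.mk' Y)) := by
  set π := QuotientGroup.mk' Y with hπ
  set N : Subgroup G := normalizer (E : Set G) with hN
  have hEN : E ≤ N := Subgroup.le_normalizer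
  have hsurj : Function.Surjective π := QuotientGroup.mk'_surjective Y
  have hker : π.ker ≤ N := by rw [hπ, QuotientGroup.ker_mk']; exact hYE.trans hEN
  have hkerY : ∀ x : G, π x = 1 ↔ x ∈ Y := fun x => by
    rw [← MonoidHom.mem_ker, hπ, QuotientGroup.ker_mk']
  refine ⟨?_, ?_, ?_⟩
  · rintro _ ⟨a, ha, rfl⟩ _ ⟨b, hb, rfl⟩
    have h1 := (hkerY _).mpr (hab a ha b hb)
    simp only [map_mul, map_inv] at h1
    calc π a * π b = (π a * π b * (π a)⁻¹ * (π b)⁻¹) * (π b * π a) := by group
      _ = π b * π a := by rw [h1, one_mul]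
  · intro q hq
    obtain ⟨g, rfl⟩ := hsurj q
    have hge : ∀ e ∈ E, g * e * g⁻¹ * e⁻¹ ∈ Y := by
      intro e he
      have h1 := (Subgroup.mem_centralizer_iff.mp hq) (π e) (Subgroup.mem_map_of_mem π (hEN he))
      rw [← hkerY]
      simp only [map_mul, map_inv]
      rw [← h1]; group
    have hgN : g ∈ N := by
      apply mem_normalizer_of_forall_conj_mem
      intro e he
      have : g * e * g⁻¹ = (g * e * g⁻¹ * e⁻¹) * e := by group
      rw [this]
      exact E.mul_mem (hYE (hge e he)) he
    exact Subgroup.mem_map_of_mem π hgN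
  · rw [← map_normalizer_of_ker_le hsurj hker, relIndex_map_map_of_ker_le π _ hker]
    exact hstep


/-- If `E/Y` is central in `N/Y` (`N = N_G(E)`), then `N/Y` is abelian. -/
theorem IsSoft.comm_mod_of_central {E : Subgroup G} (h : IsSoft p E) (Y : Subgroup G)
    [Y.Normal]
    (hI : ∀ g ∈ normalizer (E : Set G), ∀ e ∈ E, g * e * g⁻¹ * e⁻¹ ∈ Y) :
    ∀ a ∈ normalizer (E : Set G), ∀ b ∈ normalizer (E : Set G), a * b * a⁻¹ * b⁻¹ ∈ Y := by
  have hpp : p.Prime := hp.out
  set π := QuotientGroup.mk' Y with hπ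
  set N : Subgroup G := normalizer (E : Set G) with hN
  have hEN : E ≤ N := Subgroup.le_normalizer
  have hkerY : ∀ x : G, π x = 1 ↔ x ∈ Y := fun x => by
    rw [← MonoidHom.mem_ker, hπ, QuotientGroup.ker_mk']
  -- `π g` commutes with `π e`
  have hcomm : ∀ g ∈ N, ∀ e ∈ E, π e * π g = π g * π e := by
    intro g hg e he
    have h1 := (hkerY _).mpr (hI g hg e he)
    simp only [map_mul, map_inv] at h1
    calc π e * π g = (π g * π e * (π g)⁻¹ * (π e)⁻¹)⁻¹ * (π g * π e) := by group
      _ = π g * π e := by rw [h1, inv_one, one_mul]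
  obtain ⟨x, hxN, hxE⟩ := Set.exists_of_ssubset h.lt_normalizer
  have hsup : E ⊔ zpowers x = N := by
    rcases eq_or_eq_of_relIndex_prime hpp (le_sup_left : E ≤ E ⊔ zpowers x)
      (sup_le hEN (by rw [Subgroup.zpowers_le]; exact hxN)) h.norm with h1 | h1
    · exfalso
      apply hxE
      have : x ∈ E ⊔ zpowers x := Subgroup.mem_sup_right (Subgroup.mem_zpowers x)
      rwa [h1] at this
    · exact h1
  -- everything in `N` commutes with `x` modulo `Y`
  have hx : ∀ a ∈ N, π x * π a = π a * π x := by
    have hle : N ≤ (centralizer ({π x} : Set (G ⧸ Y))).comap π := by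
      rw [← hsup]
      refine sup_le ?_ ?_
      · intro e he
        rw [Subgroup.mem_comap, Subgroup.mem_centralizer_singleton_iff]
        exact hcomm x hxN e he
      · rw [Subgroup.zpowers_le, Subgroup.mem_comap, Subgroup.mem_centralizer_singleton_iff]
    intro a ha
    have := hle ha
    rw [Subgroup.mem_comap, Subgroup.mem_centralizer_singleton_iff] at this
    exact this.symm
  intro a ha b hb
  have hle : N ≤ (centralizer ({π a} : Set (G ⧸ Y))).comap π := by
    rw [← hsup]
    refine sup_le ?_ ?_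
    · intro e he
      rw [Subgroup.mem_comap, Subgroup.mem_centralizer_singleton_iff]
      exact hcomm a ha e he
    · rw [Subgroup.zpowers_le, Subgroup.mem_comap, Subgroup.mem_centralizer_singleton_iff]
      exact hx a ha
  have h1 := hle hb
  rw [Subgroup.mem_comap, Subgroup.mem_centralizer_singleton_iff] at h1
  -- h1 : π b * π a = π a * π b
  rw [← hkerY]
  simp only [map_mul, map_inv]
  rw [← h1]; group

/-- The normalizer tower over a soft subgroup has all steps of index `p`. -/
theorem IsSoft.relIndex_normalizer_of_le : ∀ (n : ℕ) (G : Type u) [Group G] [Finite G],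
    Nat.card G = n → IsPGroup p G → ∀ E : Subgroup G, IsSoft p E → ∀ K : Subgroup G, E ≤ K →
    K ≠ ⊤ → K.relIndex (normalizer (K : Set G)) = p := by
  intro n
  induction n using Nat.strong_induction_on with
  | _ n ih =>
    intro G _ _ hn hG E h K hEK hK
    have hpp : p.Prime := hp.out
    by_cases hKE : K = E
    · rw [hKE]; exact h.norm
    have hEltK : E < K := lt_of_le_of_ne hEK (Ne.symm hKE)
    set N : Subgroup G := normalizer (E : Set G) with hN
    have hNK : N ≤ K := h.normalizer_le hG hEltK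
    have hNtop : N ≠ ⊤ := fun hh => hK (top_le_iff.mp (hh ▸ hNK))
    haveI : Nontrivial G := by
      by_contra hcon
      rw [not_nontrivial_iff_subsingleton] at hcon
      exact hK (Subsingleton.elim _ _)
    set Y : Subgroup G := center G with hY
    have hYE : Y ≤ E := fun z hz => h.cent (Subgroup.center_le_centralizer _ hz)
    have hYnt : Nontrivial Y := hG.center_nontrivial
    have hcard : Nat.card (G ⧸ Y) < n := by
      rw [← hn, ← Subgroup.card_mul_index Y, ← Subgroup.index_eq_card]
      have h1 : 1 < Nat.card Y := Finite.one_lt_card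
      have h2 : 0 < Y.index := Nat.pos_of_ne_zero Subgroup.index_ne_zero_of_finite
      nlinarith
    have hGq : IsPGroup p (G ⧸ Y) := hG.to_quotient Y
    set π := QuotientGroup.mk' Y with hπ
    have hsurj : Function.Surjective π := QuotientGroup.mk'_surjective Y
    have hkerK : π.ker ≤ K := by rw [hπ, QuotientGroup.ker_mk']; exact hYE.trans hEK
    have hKtop : K.map π ≠ ⊤ := map_ne_top_of_ker_le hkerK hK
    -- transfer back
    have htransfer : (K.map π).relIndex (normalizer ((K.map π : Subgroup (G ⧸ Y)) : Set (G ⧸ Y))) =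
        K.relIndex (normalizer (K : Set G)) := by
      rw [← map_normalizer_of_ker_le hsurj hkerK, relIndex_map_map_of_ker_le π _ hkerK]
    rw [← htransfer]
    by_cases hI : ∀ g ∈ N, ∀ e ∈ E, g * e * g⁻¹ * e⁻¹ ∈ Y
    · -- case (I): `N/Y` is soft
      have hab := h.comm_mod_of_central Y hI
      have hstep := h.relIndex_normalizer_normalizer hG hNtop
      have hsoft := h.map_mk_normalizer Y hYE hab hstep
      exact ih _ hcard (G ⧸ Y) rfl hGq _ hsoft (K.map π) (Subgroup.map_mono hNK) hKtop
    · -- case (II): `E/Y` is soft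
      push Not at hI
      obtain ⟨g, hg, e, he, hne⟩ := hI
      have hsoft := h.map_mk Y hYE ⟨g, hg, e, he, hne⟩
      exact ih _ hcard (G ⧸ Y) rfl hGq _ hsoft (K.map π) (Subgroup.map_mono hEK) hKtop

/-- The subgroups containing a soft subgroup form a chain. -/
theorem IsSoft.le_total [Finite G] (hG : IsPGroup p G) {E : Subgroup G} (h : IsSoft p E)
    (K L : Subgroup G) (hK : E ≤ K) (hL : E ≤ L) : K ≤ L ∨ L ≤ K := by
  have hpp : p.Prime := hp.out
  by_contra hcon
  push Not at hcon
  obtain ⟨hKL, hLK⟩ := hcon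
  set D := K ⊓ L with hD
  have hED : E ≤ D := le_inf hK hL
  have hDK : D < K := lt_of_le_of_ne inf_le_left fun heq => hKL (heq ▸ inf_le_right)
  have hDL : D < L := lt_of_le_of_ne inf_le_right fun heq => hLK (heq ▸ inf_le_left)
  have hDtop : D ≠ ⊤ := fun hh => by
    rw [hh] at hDK
    exact hDK.not_ge le_top
  have hidx := IsSoft.relIndex_normalizer_of_le (p := p) _ G rfl hG E h D hED hDtop
  -- `N_K(D) > D`
  have key : ∀ M : Subgroup G, D < M → normalizer (D : Set G) ≤ M := by
    intro M hDM
    haveI : Group.IsNilpotent M := (hG.to_subgroup M).isNilpotent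
    have hlt : D.subgroupOf M < ⊤ := by
      refine lt_of_le_of_ne le_top fun heq => ?_
      exact hDM.not_ge (Subgroup.subgroupOf_eq_top.mp heq)
    have hnc := (Group.normalizerCondition_of_isNilpotent (G := M)) (D.subgroupOf M) hlt
    obtain ⟨k, hk1, hk2⟩ := Set.exists_of_ssubset hnc
    have hkN : (k : G) ∈ normalizer (D : Set G) := by
      apply mem_normalizer_of_forall_conj_mem
      intro e he
      have := (Subgroup.mem_normalizer_iff.mp hk1 ⟨e, hDM.le he⟩).mp
        (by rw [Subgroup.mem_subgroupOf]; exact he)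
      rw [Subgroup.mem_subgroupOf] at this
      simpa using this
    have hkD : (k : G) ∉ D := fun hkD => hk2 (by
      show k ∈ D.subgroupOf M
      rw [Subgroup.mem_subgroupOf]; exact hkD)
    set H := M ⊓ normalizer (D : Set G) with hH
    have hDH : D ≤ H := le_inf hDM.le Subgroup.le_normalizer
    rcases eq_or_eq_of_relIndex_prime hpp hDH inf_le_right hidx with h1 | h1
    · exfalso
      apply hkD
      rw [← h1]
      exact Subgroup.mem_inf.mpr ⟨k.2, hkN⟩
    · rw [← h1]; exact inf_le_left
  have h1 : normalizer (D : Set G) ≤ D := le_inf (key K hDK) (key L hDL)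
  have h2 : D.relIndex (normalizer (D : Set G)) = 1 := Subgroup.relIndex_eq_one.mpr h1
  rw [hidx] at h2
  exact hpp.one_lt.ne' h2

end Cfsg.Agent.Helper65
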