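import Cfsg.Agent.Helper65.Soft2

/-!
# Soft subgroups, part 3: nilpotency class of the members of the normalizer tower
-/

set_option autoImplicit false

namespace Cfsg.Agent.Helper65

open Subgroup

universe u

variable {p : ℕ} [hp : Fact p.Prime]

/-- The derived subgroup of `N_G(E)` lies in every conjugate of the soft subgroup `E`. -/
theorem IsSoft.conj_commutator_mem : ∀ (n : ℕ) (G : Type u) [Group G] [Finite G],
    Nat.card G = n → IsPGroup p G → ∀ E : Subgroup G, IsSoft p E →
    ∀ a ∈ normalizer (E : Set G), ∀ b ∈ normalizer (E : Set G), ∀ t : G,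
      t * (a * b * a⁻¹ * b⁻¹) * t⁻¹ ∈ E := by
  intro n
  induction n using Nat.strong_induction_on with
  | _ n ih =>
    intro G _ _ hn hG E h a ha b hb t
    have hpp : p.Prime := hp.out
    set N : Subgroup G := normalizer (E : Set G) with hN
    haveI : Nontrivial G := by
      by_contra hcon
      rw [not_nontrivial_iff_subsingleton] at hcon
      have := h.lt_normalizer
      exact this.ne (Subsingleton.elim _ _)
    set Y : Subgroup G := center G with hY
    have hYE : Y ≤ E := fun z hz => h.cent (Subgroup.center_le_centralizer _ hz)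
    have hYnt : Nontrivial Y := hG.center_nontrivial
    have hcard : Nat.card (G ⧸ Y) < n := by
      rw [← hn, ← Subgroup.card_mul_index Y, ← Subgroup.index_eq_card]
      have h1 : 1 < Nat.card Y := Finite.one_lt_card
      have h2 : 0 < Y.index := Nat.pos_of_ne_zero Subgroup.index_ne_zero_of_finite
      nlinarith
    have hGq : IsPGroup p (G ⧸ Y) := hG.to_quotient Y
    set π := QuotientGroup.mk' Y with hπ
    have hsurj : Function.Surjective π := QuotientGroup.mk'_surjective Y
    have hkerE : π.ker ≤ E := by rw [hπ, QuotientGroup.ker_mk']; exact hYE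
    by_cases hI : ∀ g ∈ N, ∀ e ∈ E, g * e * g⁻¹ * e⁻¹ ∈ Y
    · have hab := h.comm_mod_of_central Y hI a ha b hb
      have hc : t * (a * b * a⁻¹ * b⁻¹) * t⁻¹ = a * b * a⁻¹ * b⁻¹ := by
        have := (Subgroup.mem_center_iff.mp hab) t
        rw [this]; group
      rw [hc]
      exact hYE hab
    · push Not at hI
      obtain ⟨g, hg, e, he, hne⟩ := hI
      have hsoft := h.map_mk Y hYE ⟨g, hg, e, he, hne⟩
      have hNmap : N.map π = normalizer ((E.map π : Subgroup (G ⧸ Y)) : Set (G ⧸ Y)) :=
        map_normalizer_of_ker_le hsurj hkerE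
      have ha' : π a ∈ normalizer ((E.map π : Subgroup (G ⧸ Y)) : Set (G ⧸ Y)) :=
        hNmap ▸ Subgroup.mem_map_of_mem π ha
      have hb' : π b ∈ normalizer ((E.map π : Subgroup (G ⧸ Y)) : Set (G ⧸ Y)) :=
        hNmap ▸ Subgroup.mem_map_of_mem π hb
      have := ih _ hcard (G ⧸ Y) rfl hGq _ hsoft (π a) ha' (π b) hb' (π t)
      have h2 : π (t * (a * b * a⁻¹ * b⁻¹) * t⁻¹) ∈ E.map π := by
        simpa only [map_mul, map_inv] using this
      have h3 : t * (a * b * a⁻¹ * b⁻¹) * t⁻¹ ∈ (E.map π).comap π := h2
      rwa [Subgroup.comap_map_eq_self hkerE] at h3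

variable {G : Type u} [Group G]

/-- Lower bound: the member of index `p^i` over `E` has class at least `i + 1`. -/
theorem IsSoft.le_nilpotencyClass [Finite G] (hG : IsPGroup p G) {E : Subgroup G}
    (h : IsSoft p E) (K : Subgroup G) (hEK : E ≤ K) (hK : K ≠ ⊤) (i : ℕ)
    (hi : E.relIndex K = p ^ i) [Group.IsNilpotent K] : i + 1 ≤ Group.nilpotencyClass K := by
  have hpp : p.Prime := hp.out
  by_contra hcon
  push Not at hcon
  have hcl : Group.nilpotencyClass K ≤ i := by omega
  have htop : Subgroup.upperCentralSeries K i = ⊤ :=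
    Subgroup.upperCentralSeries_eq_top_iff_nilpotencyClass_le.mpr hcl
  set Hs : ℕ → Subgroup G := fun j => E ⊔ (Subgroup.upperCentralSeries K j).map K.subtype with hHs
  have hHsK : ∀ j, Hs j ≤ K := fun j => sup_le hEK (Subgroup.map_subtype_le _)
  have hHsmono : ∀ j, Hs j ≤ Hs (j + 1) := fun j =>
    sup_le_sup_left (Subgroup.map_mono (Subgroup.upperCentralSeries_mono K (Nat.le_succ j))) E
  have hstar : ∀ j, (Hs j).relIndex (normalizer ((Hs j : Subgroup G) : Set G)) = p := fun j =>
    IsSoft.relIndex_normalizer_of_le (p := p) _ G rfl hG E h (Hs j) le_sup_left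
      (fun hh => hK (top_le_iff.mp (hh ▸ hHsK j)))
  have hnorm : ∀ j, Hs (j + 1) ≤ normalizer ((Hs j : Subgroup G) : Set G) := by
    intro j
    refine sup_le (le_sup_left.trans Subgroup.le_normalizer) ?_
    rintro _ ⟨z, hz, rfl⟩
    apply mem_normalizer_of_forall_conj_mem
    intro x hx
    have hxK : x ∈ K := hHsK j hx
    have h1 := (Subgroup.mem_upperCentralSeries_succ_iff.mp hz) ⟨x, hxK⟩
    rw [commutatorElement_def] at h1
    have h2 : (K.subtype (z * (⟨x, hxK⟩ : K) * z⁻¹ * (⟨x, hxK⟩ : K)⁻¹)) ∈ Hs j :=
      Subgroup.mem_sup_right (Subgroup.mem_map_of_mem _ h1)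
    have h3 : K.subtype z * x * (K.subtype z)⁻¹ =
        (K.subtype (z * (⟨x, hxK⟩ : K) * z⁻¹ * (⟨x, hxK⟩ : K)⁻¹)) * x := by
      simp
    rw [h3]
    exact (Hs j).mul_mem h2 hx
  have hbound : ∀ j, E.relIndex (Hs (j + 1)) ≤ p ^ j := by
    intro j
    induction j with
    | zero =>
      have : Hs 1 = E := by
        apply le_antisymm _ le_sup_left
        refine sup_le le_rfl ?_
        rintro _ ⟨z, hz, rfl⟩
        rw [Subgroup.upperCentralSeries_one] at hz
        apply h.cent
        rw [Subgroup.mem_centralizer_iff]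
        intro e he
        have := (Subgroup.mem_center_iff.mp hz) ⟨e, hEK he⟩
        exact congrArg Subtype.val this
      rw [this, Subgroup.relIndex_self, pow_zero]
    | succ j ihj =>
      have h1 := Subgroup.relIndex_mul_relIndex E (Hs (j + 1)) (Hs (j + 2)) le_sup_left
        (hHsmono (j + 1))
      have h2 : (Hs (j + 1)).relIndex (Hs (j + 2)) ≤ p := by
        rw [← hstar (j + 1)]
        exact Subgroup.relIndex_le_of_le_right (hnorm (j + 1))
          (by rw [hstar (j + 1)]; exact hpp.ne_zero)
      rw [← h1, pow_succ]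
      exact Nat.mul_le_mul ihj h2
  cases i with
  | zero =>
    -- `K` trivial, impossible
    rw [Subgroup.upperCentralSeries_zero] at htop
    haveI : Nontrivial G := by
      by_contra hc
      rw [not_nontrivial_iff_subsingleton] at hc
      exact hK (Subsingleton.elim _ _)
    have hYnt : Nontrivial (center G) := hG.center_nontrivial
    obtain ⟨z, hz⟩ := exists_ne (1 : center G)
    have hzE : (z : G) ∈ E := h.cent (Subgroup.center_le_centralizer _ z.2)
    have hzK : (⟨z, hEK hzE⟩ : K) ∈ (⊤ : Subgroup K) := Subgroup.mem_top _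
    rw [← htop, Subgroup.mem_bot] at hzK
    apply hz
    apply Subtype.ext
    have := congrArg Subtype.val hzK
    simpa using this
  | succ j =>
    have h1 : Hs (j + 1) = K := by
      apply le_antisymm (hHsK _)
      intro x hx
      apply Subgroup.mem_sup_right
      refine ⟨⟨x, hx⟩, ?_, rfl⟩
      rw [htop]; exact Subgroup.mem_top _
    have h2 := hbound j
    rw [h1, hi] at h2
    have : p ^ j < p ^ (j + 1) := Nat.pow_lt_pow_right hpp.one_lt (Nat.lt_succ_self j)
    omega


/-- Upper bound: a proper normal subgroup `M ⊇ E` with `[M : E] = p^i` has class at most `i + 1`. -/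
theorem IsSoft.nilpotencyClass_le_of_normal : ∀ (i : ℕ) (G : Type u) [Group G] [Finite G],
    IsPGroup p G → ∀ E M : Subgroup G, IsSoft p E → M.Normal → E ≤ M → M ≠ ⊤ →
    E.relIndex M = p ^ i → ∀ [Group.IsNilpotent M], Group.nilpotencyClass M ≤ i + 1 := by
  intro i
  induction i with
  | zero =>
    intro G _ _ hG E M h _ hEM _ hi _
    rw [pow_zero] at hi
    have hME : M ≤ E := Subgroup.relIndex_eq_one.mp hi
    rw [← Subgroup.upperCentralSeries_eq_top_iff_nilpotencyClass_le,
      Subgroup.upperCentralSeries_one, eq_top_iff]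
    intro x _
    rw [Subgroup.mem_center_iff]
    intro y
    apply Subtype.ext
    exact h.comm y (hME y.2) x (hME x.2)
  | succ i ih =>
    intro G _ _ hG E M h hMn hEM hMtop hi _
    have hpp : p.Prime := hp.out
    set N : Subgroup G := normalizer (E : Set G) with hN
    have hEN : E ≤ N := Subgroup.le_normalizer
    have hEltM : E < M := by
      refine lt_of_le_of_ne hEM fun heq => ?_
      rw [← heq, Subgroup.relIndex_self] at hi
      have : 1 < p ^ (i + 1) := Nat.one_lt_pow (Nat.succ_ne_zero i) hpp.one_lt
      omega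
    have hNM : N ≤ M := h.normalizer_le hG hEltM
    have hNtop : N ≠ ⊤ := fun hh => hMtop (top_le_iff.mp (hh ▸ hNM))
    -- the centre of `M` as a subgroup of `G`
    set Zm : Subgroup G := (center M).map M.subtype with hZm
    haveI hZmn : Zm.Normal := ConjAct.normal_of_characteristic_of_normal
    have hZmM : Zm ≤ M := Subgroup.map_subtype_le _
    have hZm_mem : ∀ x : G, x ∈ Zm ↔ x ∈ M ∧ ∀ m ∈ M, m * x = x * m := by
      intro x
      constructor
      · rintro ⟨z, hz, rfl⟩
        refine ⟨z.2, fun m hm => ?_⟩
        have := (Subgroup.mem_center_iff.mp hz) ⟨m, hm⟩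
        exact congrArg Subtype.val this
      · rintro ⟨hx, hc⟩
        refine ⟨⟨x, hx⟩, ?_, rfl⟩
        rw [SetLike.mem_coe, Subgroup.mem_center_iff]
        intro m
        apply Subtype.ext
        exact hc m m.2
    have hZmE : Zm ≤ E := by
      intro x hx
      apply h.cent
      rw [Subgroup.mem_centralizer_iff]
      intro e he
      exact ((hZm_mem x).mp hx).2 e (hEM he)
    -- `N' ≤ Zm`
    have hab : ∀ a ∈ N, ∀ b ∈ N, a * b * a⁻¹ * b⁻¹ ∈ Zm := by
      intro a ha b hb
      set c := a * b * a⁻¹ * b⁻¹ with hc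
      have hcM : c ∈ M := hNM (N.mul_mem (N.mul_mem (N.mul_mem ha hb) (N.inv_mem ha)) (N.inv_mem hb))
      have hconj : ∀ t : G, t * c * t⁻¹ ∈ E :=
        IsSoft.conj_commutator_mem (p := p) _ G rfl hG E h a ha b hb
      -- the normal subgroup generated by... use the centralizer of the normal core
      set D : Subgroup G := E.normalCore with hD
      have hcD : c ∈ D := hconj
      have hDE : D ≤ E := Subgroup.normalCore_le E
      set L : Subgroup G := centralizer (D : Set G) with hL
      haveI : L.Normal := Subgroup.normal_centralizer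
      have hEL : E ≤ L := by
        intro e he
        rw [Subgroup.mem_centralizer_iff]
        intro d hd
        exact h.comm d (hDE hd) e he
      have hML : M ≤ L := by
        rcases h.le_total hG L M hEL hEM with h1 | h1
        · by_contra hnot
          have hLM : L < M := lt_of_le_of_ne h1 fun heq => hnot (heq ▸ le_rfl)
          have hLtop : L ≠ ⊤ := fun hh => hMtop (top_le_iff.mp (hh ▸ h1))
          have h2 := IsSoft.relIndex_normalizer_of_le (p := p) _ G rfl hG E h L hEL hLtop
          rw [Subgroup.normalizer_eq_top, Subgroup.relIndex_top_right] at h2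
          have h3 := Subgroup.relIndex_mul_index h1
          rw [h2] at h3
          have h4 : L.relIndex M ≠ 1 := fun hh => hLM.not_ge (Subgroup.relIndex_eq_one.mp hh)
          have h5 : M.index ≠ 1 := fun hh => hMtop (Subgroup.index_eq_one.mp hh)
          rcases (Nat.dvd_prime hpp).mp (Dvd.intro _ h3) with h6 | h6
          · exact h4 h6
          · rw [h6] at h3
            have : M.index = 1 := by
              have hp0 : 0 < p := hpp.pos
              nlinarith [h3]
            exact h5 this
        · exact h1
      rw [hZm_mem]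
      refine ⟨hcM, fun m hm => ?_⟩
      have := (Subgroup.mem_centralizer_iff.mp (hML hm)) c hcD
      exact this.symm
    have hstep : N.relIndex (normalizer ((N : Subgroup G) : Set G)) = p :=
      IsSoft.relIndex_normalizer_of_le (p := p) _ G rfl hG E h N hEN hNtop
    have hsoft := h.map_mk_normalizer Zm hZmE hab hstep
    set π := QuotientGroup.mk' Zm with hπ
    have hsurj : Function.Surjective π := QuotientGroup.mk'_surjective Zm
    have hkerN : π.ker ≤ N := by rw [hπ, QuotientGroup.ker_mk']; exact hZmE.trans hEN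
    have hkerM : π.ker ≤ M := hkerN.trans hNM
    have hMq : (M.map π).Normal := Subgroup.Normal.map hMn π hsurj
    have hMqtop : M.map π ≠ ⊤ := map_ne_top_of_ker_le hkerM hMtop
    have hidx : (N.map π).relIndex (M.map π) = p ^ i := by
      rw [relIndex_map_map_of_ker_le π _ hkerN]
      have h1 := Subgroup.relIndex_mul_relIndex E N M hEN hNM
      rw [h.norm, hi, pow_succ, mul_comm] at h1
      exact Nat.eq_of_mul_eq_mul_right hpp.pos h1
    have hGq : IsPGroup p (G ⧸ Zm) := hG.to_quotient Zm
    haveI : Group.IsNilpotent (M.map π) := (hGq.to_subgroup _).isNilpotent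
    have hcl := ih (G ⧸ Zm) hGq (N.map π) (M.map π) hsoft hMq (Subgroup.map_mono hNM) hMqtop hidx
    -- lift along `M → M/Z(M)`
    have hkerf : (π.subgroupMap M).ker ≤ center M := by
      intro x hx
      rw [MonoidHom.mem_ker] at hx
      have h1 : π (x : G) = 1 := by
        have := congrArg Subtype.val hx
        simpa using this
      have h2 : (x : G) ∈ Zm := by
        rw [← QuotientGroup.ker_mk' Zm, MonoidHom.mem_ker]; exact h1
      obtain ⟨z, hz, hzx⟩ := h2
      have : z = x := Subtype.ext hzx
      rw [← this]; exact hz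
    have := Group.nilpotencyClass_le_of_ker_le_center (π.subgroupMap M) hkerf
    omega

/-- A soft subgroup stays soft in any subgroup containing its normalizer. -/
theorem IsSoft.subgroupOf {E : Subgroup G} (h : IsSoft p E) (T : Subgroup G)
    (hNT : normalizer (E : Set G) ≤ T) : IsSoft p (E.subgroupOf T) := by
  have hET : E ≤ T := Subgroup.le_normalizer.trans hNT
  refine ⟨?_, ?_, ?_⟩
  · intro a ha b hb
    apply Subtype.ext
    exact h.comm a (Subgroup.mem_subgroupOf.mp ha) b (Subgroup.mem_subgroupOf.mp hb)
  · intro x hx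
    rw [Subgroup.mem_subgroupOf]
    apply h.cent
    rw [Subgroup.mem_centralizer_iff]
    intro e he
    have := (Subgroup.mem_centralizer_iff.mp hx) ⟨e, hET he⟩
      (by rw [SetLike.mem_coe, Subgroup.mem_subgroupOf]; exact he)
    exact congrArg Subtype.val this
  · rw [← Subgroup.subgroupOf_normalizer_eq hET, Subgroup.relIndex_subgroupOf hNT]
    exact h.norm

end Cfsg.Agent.Helper65
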