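import Mathlib

/-!
# Suzuki 2-groups, part 1: set-up, central involutions, the polarization lemma

`G` a finite 2-group, `K` a group of automorphisms of `G` which is commutative, in which every
element is a square, and which permutes the involutions of `G` transitively.
-/

set_option autoImplicit false

namespace Cfsg.Agent.Helper65.Suz

variable {G : Type*} [Group G]

/-- the hypotheses on the group `K` of automorphisms. -/
structure SuzAct (G : Type*) [Group G] (K : Subgroup (MulAut G)) : Prop where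
  comm : ∀ a ∈ K, ∀ b ∈ K, a * b = b * a
  sq : ∀ a ∈ K, ∃ d ∈ K, d * d = a
  trans : ∀ x y : G, x ≠ 1 → x * x = 1 → y ≠ 1 → y * y = 1 → ∃ k ∈ K, (k : MulAut G) x = y

/-- `C` is invariant under `K`. -/
def KInv (K : Subgroup (MulAut G)) (C : Subgroup G) : Prop :=
  ∀ k ∈ K, ∀ x ∈ C, (k : MulAut G) x ∈ C

variable {K : Subgroup (MulAut G)}

theorem SuzAct.comm_apply (hS : SuzAct G K) {a b : MulAut G} (ha : a ∈ K) (hb : b ∈ K) (x : G) :
    a (b x) = b (a x) := by
  have h := hS.comm a ha b hb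
  have h1 : (a * b) x = (b * a) x := by rw [h]
  simpa [MulAut.mul_apply] using h1

theorem kInv_top : KInv K (⊤ : Subgroup G) := fun _ _ _ _ => Subgroup.mem_top _

theorem KInv.inf {C D : Subgroup G} (hC : KInv K C) (hD : KInv K D) : KInv K (C ⊓ D) :=
  fun k hk x hx => ⟨hC k hk x hx.1, hD k hk x hx.2⟩

theorem KInv.mem_iff {C : Subgroup G} (hC : KInv K C) {k : MulAut G} (hk : k ∈ K) (x : G) :
    k x ∈ C ↔ x ∈ C := by
  constructor
  · intro h
    have := hC k⁻¹ (K.inv_mem hk) _ h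
    simpa using this
  · exact hC k hk x

/-- the centralizer of a `K`-invariant subgroup is `K`-invariant. -/
theorem KInv.centralizer {C : Subgroup G} (hC : KInv K C) :
    KInv K (Subgroup.centralizer (C : Set G)) := by
  intro k hk x hx
  rw [Subgroup.mem_centralizer_iff] at hx ⊢
  intro c hc
  have hc' : k⁻¹ c ∈ C := hC k⁻¹ (K.inv_mem hk) c hc
  have h := hx _ hc'
  have h2 : k (k⁻¹ c * x) = k (x * k⁻¹ c) := by rw [h]
  simpa [map_mul] using h2

/-- an element of a 2-group different from `1` has a power which is an involution. -/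
theorem exists_involution_pow (hG : IsPGroup 2 G) {x : G} (hx : x ≠ 1) :
    ∃ j : ℕ, x ^ 2 ^ j ≠ 1 ∧ x ^ 2 ^ j * x ^ 2 ^ j = 1 := by
  obtain ⟨m, hm⟩ := hG x
  have hex : ∃ m : ℕ, x ^ 2 ^ m = 1 := ⟨m, hm⟩
  classical
  have hmin : ∀ m : ℕ, m < Nat.find hex → ¬ (x ^ 2 ^ m = 1) := fun m h => Nat.find_min hex h
  have hspec := Nat.find_spec hex
  set m0 := Nat.find hex with hm0
  rcases Nat.eq_zero_or_pos m0 with h0 | hpos
  · rw [h0] at hspec
    simp at hspec
    exact absurd hspec hx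
  · refine ⟨m0 - 1, ?_, ?_⟩
    · intro h
      exact hmin (m0 - 1) (by omega) h
    · rw [← pow_add, ← two_mul, ← pow_succ']
      have : m0 - 1 + 1 = m0 := by omega
      rw [this]
      exact hspec

section central

/-- every nontrivial `K`-invariant subgroup contains all involutions (transitivity only). -/
theorem mem_of_sq_eq_one_of_trans
    (htrans : ∀ x y : G, x ≠ 1 → x * x = 1 → y ≠ 1 → y * y = 1 → ∃ k ∈ K, (k : MulAut G) x = y)
    (hG : IsPGroup 2 G) {C : Subgroup G} (hC : KInv K C)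
    (hne : C ≠ ⊥) {x : G} (hx : x * x = 1) : x ∈ C := by
  by_cases hx1 : x = 1
  · rw [hx1]; exact C.one_mem
  obtain ⟨c, hcC, hc1⟩ := (Subgroup.ne_bot_iff_exists_ne_one).mp hne |>.imp
    (fun c hc => hc) |> fun ⟨c, hc⟩ => (⟨(c : G), c.2, fun h => hc (Subtype.ext h)⟩ :
      ∃ c : G, c ∈ C ∧ c ≠ 1)
  obtain ⟨j, hj1, hj2⟩ := exists_involution_pow hG hc1
  obtain ⟨k, hk, hkx⟩ := htrans _ x hj1 hj2 hx1 hx
  rw [← hkx]
  exact hC k hk _ (C.pow_mem hcC _)

/-- involutions are central (transitivity only). -/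
theorem central_of_sq_eq_one_of_trans [Finite G]
    (htrans : ∀ x y : G, x ≠ 1 → x * x = 1 → y ≠ 1 → y * y = 1 → ∃ k ∈ K, (k : MulAut G) x = y)
    (hG : IsPGroup 2 G) {x : G} (hx : x * x = 1)
    (g : G) : x * g = g * x := by
  by_cases hx1 : x = 1
  · rw [hx1]; simp
  have : Nontrivial G := ⟨⟨x, 1, hx1⟩⟩
  have hne : Subgroup.center G ≠ ⊥ := by
    have := hG.center_nontrivial
    exact (Subgroup.nontrivial_iff_ne_bot _).mp inferInstance
  have hinv : KInv K (Subgroup.center G) := by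
    intro k _ y hy
    rw [Subgroup.mem_center_iff] at hy ⊢
    intro g
    have h := hy (k⁻¹ g)
    have h2 : k (k⁻¹ g * y) = k (y * k⁻¹ g) := by rw [h]
    simpa [map_mul] using h2
  have := mem_of_sq_eq_one_of_trans htrans hG hinv hne hx
  rw [Subgroup.mem_center_iff] at this
  exact (this g).symm

/-- every nontrivial `K`-invariant subgroup contains all involutions. -/
theorem mem_of_sq_eq_one (hS : SuzAct G K) (hG : IsPGroup 2 G) {C : Subgroup G} (hC : KInv K C)
    (hne : C ≠ ⊥) {x : G} (hx : x * x = 1) : x ∈ C :=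
  mem_of_sq_eq_one_of_trans hS.trans hG hC hne hx

/-- involutions are central. -/
theorem central_of_sq_eq_one [Finite G] (hS : SuzAct G K) (hG : IsPGroup 2 G) {x : G}
    (hx : x * x = 1) (g : G) : x * g = g * x :=
  central_of_sq_eq_one_of_trans hS.trans hG hx g

end central

/-- **Polarization lemma.**  A `K`-equivariant bimultiplicative alternating map `γ` on a
`K`-invariant subgroup `Y` with values among the involutions, factoring through a
`K`-equivariant homomorphism `τ` from `Y` to the involutions, is trivial. -/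
theorem gamma_trivial (hS : SuzAct G K)
    (hcen : ∀ x : G, x * x = 1 → ∀ g : G, x * g = g * x)
    (Y : Subgroup G) (hY : KInv K Y) (τ : G → G) (γ : G → G → G)
    (hτ1 : ∀ y ∈ Y, τ y * τ y = 1)
    (hτm : ∀ y ∈ Y, ∀ y' ∈ Y, τ (y * y') = τ y * τ y')
    (hτK : ∀ k ∈ K, ∀ y ∈ Y, τ ((k : MulAut G) y) = (k : MulAut G) (τ y))
    (hγ1 : ∀ y ∈ Y, ∀ y' ∈ Y, γ y y' * γ y y' = 1)
    (hγl : ∀ y ∈ Y, ∀ y' ∈ Y, ∀ y'' ∈ Y, γ (y * y') y'' = γ y y'' * γ y' y'')
    (hγr : ∀ y ∈ Y, ∀ y' ∈ Y, ∀ y'' ∈ Y, γ y (y' * y'') = γ y y' * γ y y'')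
    (hγK : ∀ k ∈ K, ∀ y ∈ Y, ∀ y' ∈ Y,
      γ ((k : MulAut G) y) ((k : MulAut G) y') = (k : MulAut G) (γ y y'))
    (hγa : ∀ y ∈ Y, γ y y = 1)
    (hγker : ∀ y ∈ Y, ∀ y' ∈ Y, τ y' = 1 → γ y y' = 1)
    (hγker' : ∀ y ∈ Y, ∀ y' ∈ Y, τ y = 1 → γ y y' = 1) :
    ∀ y ∈ Y, ∀ y' ∈ Y, γ y y' = 1 := by
  -- τ 1 = 1 and τ of inverses
  have hτone : τ 1 = 1 := by
    have h := hτm 1 Y.one_mem 1 Y.one_mem
    rw [mul_one] at h
    exact (mul_eq_left.mp h.symm)
  have hτinv : ∀ y ∈ Y, τ y⁻¹ = (τ y)⁻¹ := by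
    intro y hy
    have h := hτm y hy y⁻¹ (Y.inv_mem hy)
    rw [mul_inv_cancel, hτone] at h
    exact (eq_inv_of_mul_eq_one_right h.symm)
  -- γ only depends on τ-classes
  have hR : ∀ y ∈ Y, ∀ y' ∈ Y, ∀ y'' ∈ Y, τ y' = τ y'' → γ y y' = γ y y'' := by
    intro y hy y' hy' y'' hy'' h
    have h1 : y' = y'' * (y''⁻¹ * y') := by group
    have h2 : τ (y''⁻¹ * y') = 1 := by
      rw [hτm _ (Y.inv_mem hy'') _ hy', hτinv _ hy'', h, inv_mul_cancel]
    rw [h1, hγr y hy y'' hy'' _ (Y.mul_mem (Y.inv_mem hy'') hy'),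
      hγker y hy _ (Y.mul_mem (Y.inv_mem hy'') hy') h2, mul_one]
  have hL : ∀ y ∈ Y, ∀ y' ∈ Y, ∀ y'' ∈ Y, τ y' = τ y'' → γ y' y = γ y'' y := by
    intro y hy y' hy' y'' hy'' h
    have h1 : y' = y'' * (y''⁻¹ * y') := by group
    have h2 : τ (y''⁻¹ * y') = 1 := by
      rw [hτm _ (Y.inv_mem hy'') _ hy', hτinv _ hy'', h, inv_mul_cancel]
    rw [h1, hγl y'' hy'' _ (Y.mul_mem (Y.inv_mem hy'') hy') y hy,
      hγker' _ (Y.mul_mem (Y.inv_mem hy'') hy') y hy h2, mul_one]
  -- additive closure of `K ∪ {0}` on involutions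
  have hadd : ∀ a ∈ K, ∀ b ∈ K, (∀ z : G, z * z = 1 → (a : MulAut G) z = (b : MulAut G) z) ∨
      ∃ c ∈ K, ∀ z : G, z * z = 1 →
        (a : MulAut G) z * (b : MulAut G) z = (c : MulAut G) z := by
    intro a ha b hb
    by_cases hex : ∃ z0 : G, z0 ≠ 1 ∧ z0 * z0 = 1
    · obtain ⟨z0, hz01, hz02⟩ := hex
      have haz : a z0 * a z0 = 1 := by rw [← map_mul, hz02, map_one]
      have hbz : b z0 * b z0 = 1 := by rw [← map_mul, hz02, map_one]
      set t := a z0 * b z0 with ht
      have htt : t * t = 1 := by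
        have hc := hcen _ haz (b z0)
        calc t * t = a z0 * (b z0 * a z0) * b z0 := by rw [ht]; group
          _ = a z0 * (a z0 * b z0) * b z0 := by rw [hc]
          _ = (a z0 * a z0) * (b z0 * b z0) := by group
          _ = 1 := by rw [haz, hbz, one_mul]
      by_cases ht1 : t = 1
      · left
        have hab : a z0 = b z0 := by
          have h1 : a z0 = (b z0)⁻¹ := eq_inv_of_mul_eq_one_left (ht ▸ ht1)
          have h2 : (b z0)⁻¹ = b z0 := by
            exact (eq_inv_of_mul_eq_one_left hbz).symm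
          rw [h1, h2]
        intro z hz
        by_cases hz1 : z = 1
        · rw [hz1, map_one, map_one]
        obtain ⟨k, hk, hkz⟩ := hS.trans z0 z hz01 hz02 hz1 hz
        rw [← hkz, hS.comm_apply ha hk, hS.comm_apply hb hk, hab]
      · right
        obtain ⟨c, hc, hcz⟩ := hS.trans z0 t hz01 hz02 ht1 htt
        refine ⟨c, hc, ?_⟩
        intro z hz
        by_cases hz1 : z = 1
        · rw [hz1, map_one, map_one, map_one, one_mul]
        obtain ⟨k, hk, hkz⟩ := hS.trans z0 z hz01 hz02 hz1 hz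
        rw [← hkz, hS.comm_apply ha hk, hS.comm_apply hb hk, hS.comm_apply hc hk, ← map_mul,
          ← ht, hcz]
    · left
      intro z hz
      have : z = 1 := by
        by_contra h
        exact hex ⟨z, h, hz⟩
      rw [this, map_one, map_one]
  -- polarization
  have hpol : ∀ a ∈ K, ∀ b ∈ K, ∀ y ∈ Y, ∀ y' ∈ Y,
      γ ((a : MulAut G) y) ((b : MulAut G) y') = γ ((b : MulAut G) y) ((a : MulAut G) y') := by
    intro a ha b hb y hy y' hy'
    have hay := hY a ha y hy
    have hby := hY b hb y hy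
    have hay' := hY a ha y' hy'
    have hby' := hY b hb y' hy'
    rcases hadd a ha b hb with h | ⟨c, hc, h⟩
    · have e1 : τ (a y) = τ (b y) := by rw [hτK a ha y hy, hτK b hb y hy, h _ (hτ1 y hy)]
      have e2 : τ (b y') = τ (a y') := by
        rw [hτK a ha y' hy', hτK b hb y' hy', h _ (hτ1 y' hy')]
      rw [hL _ hby' _ hay _ hby e1, hR _ hby _ hby' _ hay' e2]
    · have hcy := hY c hc y hy
      have hcy' := hY c hc y' hy'
      have e1 : τ (c y) = τ (a y * b y) := by
        rw [hτm _ hay _ hby, hτK a ha y hy, hτK b hb y hy, hτK c hc y hy, h _ (hτ1 y hy)]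
      have e2 : τ (c y') = τ (a y' * b y') := by
        rw [hτm _ hay' _ hby', hτK a ha y' hy', hτK b hb y' hy', hτK c hc y' hy',
          h _ (hτ1 y' hy')]
      have e3 : γ (c y) (c y') = γ (a y * b y) (a y' * b y') := by
        rw [hL _ hcy' _ hcy _ (Y.mul_mem hay hby) e1,
          hR _ (Y.mul_mem hay hby) _ hcy' _ (Y.mul_mem hay' hby') e2]
      rw [hγK c hc y hy y' hy', ← h _ (hγ1 y hy y' hy'), ← hγK a ha y hy y' hy',
        ← hγK b hb y hy y' hy', hγl _ hay _ hby _ (Y.mul_mem hay' hby'),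
        hγr _ hay _ hay' _ hby', hγr _ hby _ hay' _ hby'] at e3
      -- e3 : A * D = (A * B) * (C * D)
      set A := γ (a y) (a y') with hA
      set B := γ (a y) (b y') with hB
      set C' := γ (b y) (a y') with hC
      set D := γ (b y) (b y') with hD
      have hBc := hcen B (hγ1 _ hay _ hby')
      have hCc := hcen C' (hγ1 _ hby _ hay')
      have hBC : B * C' = 1 := by
        have h1 : A * D = A * (B * C') * D := by rw [e3]; group
        have h2 : A * (B * C') * D = A * D * (B * C') := by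
          calc A * (B * C') * D = A * (B * (C' * D)) := by group
            _ = A * (B * (D * C')) := by rw [hCc D]
            _ = A * ((B * D) * C') := by group
            _ = A * ((D * B) * C') := by rw [hBc D]
            _ = A * D * (B * C') := by group
        rw [h2] at h1
        exact (mul_eq_left.mp h1.symm)
      have h3 : B = C'⁻¹ := eq_inv_of_mul_eq_one_left hBC
      have h4 : C'⁻¹ = C' := (eq_inv_of_mul_eq_one_left (hγ1 _ hby _ hay')).symm
      rw [h3, h4]
  -- adjointness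
  have hadj : ∀ b ∈ K, ∀ y ∈ Y, ∀ y' ∈ Y, γ y ((b : MulAut G) y') = γ ((b : MulAut G) y) y' := by
    intro b hb y hy y' hy'
    have := hpol 1 K.one_mem b hb y hy y' hy'
    simpa using this
  have hkey : ∀ k ∈ K, ∀ y ∈ Y, γ y ((k : MulAut G) y) = 1 := by
    intro k hk y hy
    obtain ⟨d, hd, hdk⟩ := hS.sq k hk
    have h1 : k y = d (d y) := by rw [← hdk]; rfl
    rw [h1, hadj d hd y hy _ (hY d hd y hy)]
    exact hγa _ (hY d hd y hy)
  intro y hy y' hy'
  by_cases h1 : τ y' = 1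
  · exact hγker y hy y' hy' h1
  by_cases h2 : τ y = 1
  · exact hγker' y hy y' hy' h2
  obtain ⟨k, hk, hkz⟩ := hS.trans (τ y) (τ y') h2 (hτ1 y hy) h1 (hτ1 y' hy')
  have e : τ y' = τ (k y) := by rw [hτK k hk y hy, hkz]
  rw [hR y hy y' hy' _ (hY k hk y hy) e]
  exact hkey k hk y hy

end Cfsg.Agent.Helper65.Suz
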