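import Cfsg.Agent.Helper65.Suzuki9

/-!
# Suzuki 2-groups, part 10: the quadratic map of the "bad case" vanishes
-/

set_option autoImplicit false

namespace Cfsg.Agent.Helper65.Suz

section field

variable {F : Type*} [Field F] [Fintype F] [CharP F 2] [DecidableEq F]

theorem addMonoidHom_add_self (u : F →+ F) : u + u = 0 := by
  ext a
  simp only [AddMonoidHom.add_apply, AddMonoidHom.zero_apply]
  exact CharTwo.add_self_eq_zero _

/-- **The bad case.**  A quadratic map `Q` on a group `Γ` acting through a stable family `δ` of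
additive endomorphisms of `F`, subject to the relations `R1`, `R2`, vanishes. -/
theorem quad_vanish {Γ : Type*} [Group Γ] (n : ℕ) (hn : Fintype.card F = 2 ^ n)
    (δ : Γ → (F →+ F)) (Q : Γ → F) (B : Γ → Γ → F)
    (hδ : ∀ g h, δ (g * h) = δ g + δ h)
    (hst : ∀ y : Fˣ, ∀ g, ∃ g', δ g' = cj y (δ g))
    (hQ : ∀ g h, Q (g * h) = Q g + Q h + B g h)
    (hBl : ∀ g h m, B (g * h) m = B g m + B h m)
    (hBsymm : ∀ g h, B g h = B h g)
    (hker : ∀ g, δ g = 0 → Q g = 0 ∧ ∀ h, B g h = 0)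
    (hR1 : ∀ g, δ g (Q g) = 0)
    (hR2 : ∀ g h, δ g (Q h) = B g h + δ h (B g h))
    (hfree : ∀ g c, (∀ a, δ g a = c * a) → c = 0) :
    ∀ g, Q g = 0 := by
  have hδ1 : δ 1 = 0 := by
    have h := hδ 1 1
    rw [mul_one] at h
    exact left_eq_add.mp h
  have hδinv : ∀ g, δ g⁻¹ = δ g := by
    intro g
    have h := hδ g g⁻¹
    rw [mul_inv_cancel, hδ1] at h
    have h2 : δ g + δ g = 0 := addMonoidHom_add_self _
    have h3 : δ g + δ g⁻¹ = δ g + δ g := by rw [← h, h2]
    exact add_left_cancel h3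
  have hB1 : ∀ m, B 1 m = 0 := by
    intro m
    have h := hBl 1 1 m
    rw [mul_one] at h
    exact left_eq_add.mp h
  -- `B` only depends on `δ`
  have hBwd : ∀ g₁ g₂ m, δ g₁ = δ g₂ → B g₁ m = B g₂ m := by
    intro g₁ g₂ m h
    have h1 : δ (g₁ * g₂⁻¹) = 0 := by
      rw [hδ, hδinv, h]; exact addMonoidHom_add_self _
    have h2 : g₁ = (g₁ * g₂⁻¹) * g₂ := by group
    rw [h2, hBl, (hker _ h1).2 m, zero_add]
  -- the subgroup of values
  let U : AddSubgroup (F →+ F) :=
    { carrier := Set.range δ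
      zero_mem' := ⟨1, hδ1⟩
      add_mem' := by
        rintro _ _ ⟨g, rfl⟩ ⟨h, rfl⟩
        exact ⟨g * h, hδ g h⟩
      neg_mem' := by
        rintro _ ⟨g, rfl⟩
        refine ⟨g, ?_⟩
        have h2 : δ g + δ g = 0 := addMonoidHom_add_self _
        exact (neg_eq_of_add_eq_zero_left h2).symm }
  have hU : ∀ y : Fˣ, ∀ u ∈ U, cj y u ∈ U := by
    rintro y _ ⟨g, rfl⟩
    obtain ⟨g', hg'⟩ := hst y g
    exact ⟨g', hg'⟩
  -- pure elements
  have hA : ∀ j < n, ∀ c : F, ∀ h : Γ, δ h = fr j c → Q h = 0 := by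
    intro j hj c h hh
    by_cases hc : c = 0
    · rw [hc, fr_zero] at hh
      exact (hker h hh).1
    · have h1 := hR1 h
      rw [hh, fr_apply] at h1
      rcases mul_eq_zero.mp h1 with h2 | h2
      · exact absurd h2 hc
      · exact (pow_eq_zero_iff (by positivity)).mp h2
  have hzero : ∀ c : F, ∀ h : Γ, δ h = fr 0 c → c = 0 := by
    intro c h hh
    apply hfree h c
    intro a
    rw [hh, fr_apply, pow_zero, pow_one]
  -- cross terms
  have hBcross : ∀ j < n, ∀ j' < n, j ≠ j' → ∀ c d : F, ∀ h h' : Γ, δ h = fr j c →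
      δ h' = fr j' d → B h h' = 0 := by
    intro j hj j' hj' hjj c d h h' hh hh'
    by_contra hβ
    have hc0 : c ≠ 0 := by
      intro hc
      rw [hc, fr_zero] at hh
      exact hβ ((hker h hh).2 h')
    have hd0 : d ≠ 0 := by
      intro hd
      rw [hd, fr_zero] at hh'
      apply hβ
      rw [hBsymm]
      exact (hker h' hh').2 h
    have hj0 : 0 < j := by
      rcases Nat.eq_zero_or_pos j with h0 | hpos
      · exfalso
        rw [h0] at hh
        exact hc0 (hzero c h hh)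
      · exact hpos
    have hj'0 : 0 < j' := by
      rcases Nat.eq_zero_or_pos j' with h0 | hpos
      · exfalso
        rw [h0] at hh'
        exact hd0 (hzero d h' hh')
      · exact hpos
    -- the subgroup of coefficients of type `j`
    let A : AddSubgroup F :=
      { carrier := {c | ∃ h : Γ, δ h = fr j c}
        zero_mem' := ⟨1, by rw [hδ1, fr_zero]⟩
        add_mem' := by
          rintro c₁ c₂ ⟨h₁, e₁⟩ ⟨h₂, e₂⟩
          exact ⟨h₁ * h₂, by rw [hδ, e₁, e₂, fr_add]⟩
        neg_mem' := by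
          rintro c₁ ⟨h₁, e₁⟩
          refine ⟨h₁, ?_⟩
          rw [e₁, CharTwo.neg_eq] }
    have hAst : ∀ y : Fˣ, ∀ a ∈ A, (y : F) ^ (2 ^ j - 1) * a ∈ A := by
      rintro y a ⟨h₁, e₁⟩
      obtain ⟨g', hg'⟩ := hst y h₁
      exact ⟨g', by rw [hg', e₁, cj_fr]⟩
    have hAtop : ∀ b : F, b ∈ A := mem_of_stable n hn j hj0 hj A hAst ⟨h, hh⟩ hc0
      |> fun f => f
    choose hh₂ hhe using hAtop
    -- the additive map `ψ`
    have hψadd : ∀ c₂ c₃ : F, B (hh₂ (c₂ + c₃)) h' = B (hh₂ c₂) h' + B (hh₂ c₃) h' := by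
      intro c₂ c₃
      rw [← hBl]
      apply hBwd
      rw [hδ, hhe, hhe, hhe, fr_add]
    let ψ : F →+ F := AddMonoidHom.mk' (fun c₂ => B (hh₂ c₂) h') hψadd
    have hψ : ∀ c₂, ψ c₂ = B (hh₂ c₂) h' := fun _ => rfl
    have hrel1 : ∀ c₂ : F, ψ c₂ = d * (ψ c₂) ^ (2 ^ j') := by
      intro c₂
      have h1 := hR2 (hh₂ c₂) h'
      rw [hA j' hj' d h' hh', map_zero, hh', fr_apply, ← hψ] at h1
      have h2 : ψ c₂ + ψ c₂ = 0 := CharTwo.add_self_eq_zero _
      linear_combination h2 - h1.symm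
    have hrel2 : ∀ c₂ : F, ψ c₂ = c₂ * (ψ c₂) ^ (2 ^ j) := by
      intro c₂
      have h1 := hR2 h' (hh₂ c₂)
      rw [hA j hj c₂ _ (hhe c₂), map_zero, hhe, fr_apply, hBsymm, ← hψ] at h1
      have h2 : ψ c₂ + ψ c₂ = 0 := CharTwo.add_self_eq_zero _
      linear_combination h2 - h1.symm
    have hψc : ψ c = B h h' := by
      rw [hψ]
      apply hBwd
      rw [hhe, hh]
    -- `ψ` is not injective
    have hninj : ¬ Function.Injective ψ := by
      intro hinj
      have hsurj : Function.Surjective ψ := Finite.surjective_of_injective hinj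
      obtain ⟨c₂, hc₂⟩ := hsurj 1
      have h1 := hrel1 c₂
      rw [hc₂, one_pow, mul_one] at h1
      apply frob_ne_id n hn j' hj'0 hj'
      intro x
      obtain ⟨c₃, hc₃⟩ := hsurj x
      have h2 := hrel1 c₃
      rw [hc₃, ← h1, one_mul] at h2
      exact h2.symm
    obtain ⟨c₁, hc₁0, hc₁⟩ : ∃ c₁ : F, c₁ ≠ 0 ∧ ψ c₁ = 0 := by
      by_contra hno
      apply hninj
      rw [injective_iff_map_eq_zero]
      intro a ha
      by_contra ha0
      exact hno ⟨a, ha0, ha⟩
    have h1 := hrel2 (c + c₁)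
    have h2 := hrel2 c
    rw [map_add, hc₁, add_zero] at h1
    have h3 : c₁ * (ψ c) ^ (2 ^ j) = 0 := by linear_combination h2 - h1
    rcases mul_eq_zero.mp h3 with h4 | h4
    · exact hc₁0 h4
    · apply hβ
      rw [← hψc]
      exact (pow_eq_zero_iff (by positivity)).mp h4
  -- the final induction
  intro g
  obtain ⟨c, hc, hcU⟩ := exists_pure_decomp n hn U hU (δ g) ⟨g, rfl⟩
  have hex : ∀ j : ℕ, ∃ gj : Γ, j < n → δ gj = fr j (c j) := by
    intro j
    by_cases hj : j < n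
    · obtain ⟨gj, hgj⟩ := hcU j hj
      exact ⟨gj, fun _ => hgj⟩
    · exact ⟨1, fun h => absurd h hj⟩
  choose gj hgj using hex
  let p : ℕ → Γ := fun k => Nat.rec 1 (fun k pk => pk * gj k) k
  have hp0 : p 0 = 1 := rfl
  have hps : ∀ k, p (k + 1) = p k * gj k := fun _ => rfl
  have hind : ∀ k ≤ n, (δ (p k) = ∑ j ∈ Finset.range k, fr j (c j)) ∧ Q (p k) = 0 ∧
      ∀ m, B (p k) m = ∑ j ∈ Finset.range k, B (gj j) m := by
    intro k
    induction k with
    | zero =>
      intro _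
      refine ⟨by rw [hp0, hδ1]; simp, ?_, fun m => by rw [hp0, hB1]; simp⟩
      rw [hp0]
      exact (hker 1 hδ1).1
    | succ k ih =>
      intro hk
      obtain ⟨ih1, ih2, ih3⟩ := ih (by omega)
      have hkn : k < n := by omega
      refine ⟨?_, ?_, ?_⟩
      · rw [hps, hδ, ih1, Finset.sum_range_succ, hgj k hkn]
      · rw [hps, hQ, ih2, hA k hkn _ _ (hgj k hkn), ih3]
        rw [zero_add, zero_add]
        apply Finset.sum_eq_zero
        intro j hj
        have hjk : j < k := Finset.mem_range.mp hj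
        exact hBcross j (by omega) k hkn (by omega) _ _ _ _ (hgj j (by omega)) (hgj k hkn)
      · intro m
        rw [hps, hBl, ih3, Finset.sum_range_succ]
  obtain ⟨hn1, hn2, _⟩ := hind n le_rfl
  have hδg : δ g = δ (p n) := by
    rw [hn1]
    ext a
    rw [hc a, AddMonoidHom.finsetSum_apply]
    rfl
  have h1 : δ (g * (p n)⁻¹) = 0 := by
    rw [hδ, hδinv, hδg]; exact addMonoidHom_add_self _
  have h2 : g = (g * (p n)⁻¹) * p n := by group
  rw [h2, hQ, (hker _ h1).1, hn2, (hker _ h1).2, add_zero, add_zero]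

end field

end Cfsg.Agent.Helper65.Suz
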