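import Mathlib

/-!
# Suzuki 2-groups, part 11: a field from a commuting transitive set of endomorphisms
-/

set_option autoImplicit false

namespace Cfsg.Agent.Helper65.Suz

universe u

/-- A commuting set `S` of additive endomorphisms of a finite abelian group `A`, closed under
inverses and transitive on the non-zero elements, spans a field `F` with `F ≃+ A`, whose
non-zero elements are exactly the elements of `S`. -/
theorem exists_field_of_transitive {A : Type u} [AddCommGroup A] [Finite A]
    (S : Set (AddMonoid.End A))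
    (hcomm : ∀ s ∈ S, ∀ t ∈ S, ∀ a : A, s (t a) = t (s a))
    (hinv : ∀ s ∈ S, ∃ t ∈ S, ∀ a : A, t (s a) = a)
    (a₀ : A) (ha₀ : a₀ ≠ 0) (htrans : ∀ b : A, b ≠ 0 → ∃ s ∈ S, s a₀ = b) :
    ∃ (F : Type u) (_ : Field F) (_ : Fintype F) (ev : F →+ A), Function.Bijective ev ∧
      (∀ s ∈ S, ∃ y : Fˣ, ∀ r : F, s (ev r) = ev (y * r)) ∧
      (∀ y : Fˣ, ∃ s ∈ S, ∀ r : F, s (ev r) = ev (y * r)) := by
  classical
  let R : Subring (AddMonoid.End A) := Subring.closure S
  have hSR : ∀ s ∈ S, s ∈ R := fun s hs => Subring.subset_closure hs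
  have hmulS : ∀ s ∈ S, ∀ t ∈ S, s * t = t * s := by
    intro s hs t ht
    ext a
    exact hcomm s hs t ht a
  have hcommR : ∀ r ∈ R, ∀ s ∈ S, r * s = s * r := by
    intro r hr s hs
    have h1 : R ≤ Subring.centralizer (Set.centralizer S) :=
      Subring.closure_le_centralizer_centralizer S
    have h2 := h1 hr
    rw [Subring.mem_centralizer_iff] at h2
    have h3 : s ∈ Set.centralizer S := by
      intro t ht
      exact hmulS t ht s hs
    exact (h2 s h3).symm
  have hRS : ∀ r ∈ R, ∀ s ∈ S, ∀ a : A, r (s a) = s (r a) := by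
    intro r hr s hs a
    have := hcommR r hr s hs
    exact DFunLike.congr_fun this a
  have hker : ∀ r ∈ R, r a₀ = 0 → r = 0 := by
    intro r hr h0
    ext b
    by_cases hb : b = 0
    · rw [hb, map_zero, map_zero]
    · obtain ⟨s, hs, hsb⟩ := htrans b hb
      rw [← hsb, hRS r hr s hs, h0, map_zero]
      rfl
  have hform : ∀ r ∈ R, r ≠ 0 → r ∈ S := by
    intro r hr hr0
    have h1 : r a₀ ≠ 0 := fun h => hr0 (hker r hr h)
    obtain ⟨s, hs, hsb⟩ := htrans _ h1
    have h2 : r - s = 0 := by
      apply hker _ (R.sub_mem hr (hSR s hs))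
      show r a₀ - s a₀ = 0
      rw [hsb, sub_self]
    rw [sub_eq_zero.mp h2]
    exact hs
  have hone : (1 : AddMonoid.End A) ≠ 0 := by
    intro h
    have := DFunLike.congr_fun h a₀
    exact ha₀ this
  have hF : IsField R := by
    refine ⟨⟨0, 1, ?_⟩, ?_, ?_⟩
    · intro h
      exact hone (congrArg Subtype.val h).symm
    · intro x y
      apply Subtype.ext
      show x.1 * y.1 = y.1 * x.1
      by_cases hy : y.1 = 0
      · rw [hy, mul_zero, zero_mul]
      · exact hcommR x.1 x.2 y.1 (hform y.1 y.2 hy)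
    · intro x hx
      have hx0 : x.1 ≠ 0 := fun h => hx (Subtype.ext h)
      have hxS := hform x.1 x.2 hx0
      obtain ⟨t, ht, hts⟩ := hinv x.1 hxS
      refine ⟨⟨t, hSR t ht⟩, ?_⟩
      apply Subtype.ext
      show x.1 * t = 1
      ext a
      show x.1 (t a) = a
      rw [hcomm x.1 hxS t ht, hts]
  letI : Field R := hF.toField
  haveI : Finite (AddMonoid.End A) := DFunLike.finite _
  haveI : Finite R := Finite.of_injective (fun r : R => r.1) Subtype.val_injective
  letI : Fintype R := Fintype.ofFinite R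
  let ev : R →+ A :=
    { toFun := fun r => r.1 a₀
      map_zero' := rfl
      map_add' := fun _ _ => rfl }
  refine ⟨R, inferInstance, inferInstance, ev, ⟨?_, ?_⟩, ?_, ?_⟩
  · rw [injective_iff_map_eq_zero]
    intro r hr
    exact Subtype.ext (hker r.1 r.2 hr)
  · intro b
    by_cases hb : b = 0
    · exact ⟨0, hb ▸ rfl⟩
    · obtain ⟨s, hs, hsb⟩ := htrans b hb
      exact ⟨⟨s, hSR s hs⟩, hsb⟩
  · intro s hs
    have hs0 : (⟨s, hSR s hs⟩ : R) ≠ 0 := by
      intro h
      have h1 : s = 0 := congrArg Subtype.val h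
      obtain ⟨t, _, hts⟩ := hinv s hs
      have := hts a₀
      rw [h1] at this
      apply ha₀
      rw [← this]
      show t 0 = 0
      exact map_zero t
    exact ⟨Units.mk0 _ hs0, fun r => rfl⟩
  · intro y
    have hy0 : (y : R).1 ≠ 0 := by
      intro h
      exact y.ne_zero (Subtype.ext h)
    exact ⟨(y : R).1, hform _ (y : R).2 hy0, fun r => rfl⟩

end Cfsg.Agent.Helper65.Suz
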