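import Cfsg.Agent.Helper65.Suzuki6
import Cfsg.Agent.Helper65.Suzuki11

/-!
# Suzuki 2-groups, part 12: the field model of the involutions

The involutions (with `1`) are identified with the additive group of a finite field `F` on which
`K` acts as the multiplications by the non-zero elements.
-/

set_option autoImplicit false

namespace Cfsg.Agent.Helper65.Suz

universe u

variable {G : Type u} [Group G]

/-- `ι : F → G` identifies `(F, +)` with the group of involutions, `K` acting as `Fˣ`. -/
structure IsFModel (K : Subgroup (MulAut G)) {F : Type*} [Field F] (ι : F → G) : Prop where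
  ι_add : ∀ a b, ι (a + b) = ι a * ι b
  ι_inj : Function.Injective ι
  ι_sq : ∀ a, ι a * ι a = 1
  ι_surj : ∀ x : G, x * x = 1 → ∃ a, ι a = x
  act : ∀ k ∈ K, ∃ y : Fˣ, ∀ a, (k : MulAut G) (ι a) = ι (y * a)
  act' : ∀ y : Fˣ, ∃ k ∈ K, ∀ a, (k : MulAut G) (ι a) = ι (y * a)

/-- the group of involutions is commutative. -/
@[reducible] def invSubCommGroup (hcen : ∀ x : G, x * x = 1 → ∀ g : G, x * g = g * x) :
    CommGroup (invSub hcen) :=
  { (inferInstance : Group (invSub hcen)) with
    mul_comm := fun a b => Subtype.ext (hcen a.1 a.2 b.1) }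

section construction

variable (hcen : ∀ x : G, x * x = 1 → ∀ g : G, x * g = g * x)

attribute [local instance] invSubCommGroup

/-- the restriction of an automorphism to the involutions. -/
def resZ (k : MulAut G) : AddMonoid.End (Additive (invSub hcen)) :=
  AddMonoidHom.mk' (fun a => Additive.ofMul (⟨k (Additive.toMul a).1, by
      show k _ * k _ = 1
      rw [← map_mul]
      have := (Additive.toMul a).2
      have h2 : (Additive.toMul a).1 * (Additive.toMul a).1 = 1 := this
      rw [h2, map_one]⟩ : invSub hcen)) (by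
    intro a b
    apply congrArg Additive.ofMul
    apply Subtype.ext
    show k ((Additive.toMul a).1 * (Additive.toMul b).1) = k _ * k _
    rw [map_mul])

theorem resZ_apply (k : MulAut G) (a : Additive (invSub hcen)) :
    ((Additive.toMul (resZ hcen k a)) : invSub hcen).1 = k (Additive.toMul a).1 := rfl

end construction

theorem exists_fmodel [Finite G] {K : Subgroup (MulAut G)} (hS : SuzAct G K)
    (hG : IsPGroup 2 G) (hex : ∃ x : G, x ≠ 1 ∧ x * x = 1) :
    ∃ (F : Type u) (_ : Field F) (_ : Fintype F) (ι : F → G), IsFModel K ι := by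
  classical
  have hcen : ∀ x : G, x * x = 1 → ∀ g : G, x * g = g * x :=
    fun x hx g => central_of_sq_eq_one hS hG hx g
  letI := invSubCommGroup hcen
  obtain ⟨x₀, hx₀, hx₀2⟩ := hex
  let A := Additive (invSub hcen)
  let S : Set (AddMonoid.End A) := {f | ∃ k ∈ K, f = resZ hcen k}
  let a₀ : A := Additive.ofMul ⟨x₀, hx₀2⟩
  have key := exists_field_of_transitive (A := A) S
    (by
      rintro _ ⟨k, hk, rfl⟩ _ ⟨k', hk', rfl⟩ a
      apply congrArg Additive.ofMul
      apply Subtype.ext
      show k (k' _) = k' (k _)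
      exact hS.comm_apply hk hk' _)
    (by
      rintro _ ⟨k, hk, rfl⟩
      refine ⟨_, ⟨k⁻¹, K.inv_mem hk, rfl⟩, ?_⟩
      intro a
      apply congrArg Additive.ofMul
      apply Subtype.ext
      show k⁻¹ (k _) = _
      rw [MulAut.inv_apply_self]
      rfl)
    a₀
    (by
      intro h
      have h1 : (Additive.toMul a₀ : invSub hcen) = 1 := congrArg Additive.toMul h
      exact hx₀ (congrArg Subtype.val h1))
    (by
      intro b hb
      have hb1 : (Additive.toMul b).1 ≠ 1 := by
        intro h
        apply hb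
        have : Additive.toMul b = 1 := Subtype.ext h
        exact congrArg Additive.ofMul this
      have hb2 : (Additive.toMul b).1 * (Additive.toMul b).1 = 1 := (Additive.toMul b).2
      obtain ⟨k, hk, hkb⟩ := hS.trans x₀ _ hx₀ hx₀2 hb1 hb2
      refine ⟨_, ⟨k, hk, rfl⟩, ?_⟩
      apply congrArg Additive.ofMul
      apply Subtype.ext
      exact hkb)
  obtain ⟨F, instF, instFin, ev, hev, hact, hact'⟩ := key
  refine ⟨F, instF, instFin, fun r => (Additive.toMul (ev r)).1, ?_⟩
  refine ⟨?_, ?_, ?_, ?_, ?_, ?_⟩
  · intro a b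
    rw [map_add]
    rfl
  · intro a b h
    apply hev.1
    have : Additive.toMul (ev a) = Additive.toMul (ev b) := Subtype.ext h
    exact congrArg Additive.ofMul this
  · intro a
    exact (Additive.toMul (ev a)).2
  · intro x hx
    obtain ⟨r, hr⟩ := hev.2 (Additive.ofMul ⟨x, hx⟩)
    refine ⟨r, ?_⟩
    show (Additive.toMul (ev r)).1 = x
    rw [hr]
    rfl
  · intro k hk
    obtain ⟨y, hy⟩ := hact _ ⟨k, hk, rfl⟩
    refine ⟨y, fun a => ?_⟩
    show k (Additive.toMul (ev a)).1 = (Additive.toMul (ev (y * a))).1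
    rw [← hy a]
    rfl
  · intro y
    obtain ⟨_, ⟨k, hk, rfl⟩, hs⟩ := hact' y
    refine ⟨k, hk, fun a => ?_⟩
    show k (Additive.toMul (ev a)).1 = (Additive.toMul (ev (y * a))).1
    rw [← hs a]
    rfl

end Cfsg.Agent.Helper65.Suz
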