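import Cfsg.Agent.Helper65.Suzuki12
import Cfsg.Agent.Helper65.Suzuki10

/-!
# Suzuki 2-groups, part 13: the action on an abelian normal subgroup `W` of type `(4, …, 4)`
-/

set_option autoImplicit false

namespace Cfsg.Agent.Helper65.Suz

universe u

variable {G : Type u} [Group G] {K : Subgroup (MulAut G)}

namespace IsFModel

variable {F : Type*} [Field F] {ι : F → G} (M : IsFModel K ι)
include M

theorem ι_zero : ι 0 = 1 := by
  have h := M.ι_add 0 0
  rw [add_zero] at h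
  exact left_eq_mul.mp h

theorem two_eq_zero : (2 : F) = 0 := by
  apply M.ι_inj
  rw [← one_add_one_eq_two, M.ι_add, M.ι_sq, M.ι_zero]

theorem charP : CharP F 2 := CharTwo.of_one_ne_zero_of_two_eq_zero one_ne_zero M.two_eq_zero

theorem ι_invFun {x : G} (hx : x * x = 1) : ι (Function.invFun ι x) = x :=
  Function.invFun_eq (M.ι_surj x hx)

theorem invFun_ι (a : F) : Function.invFun ι (ι a) = a :=
  Function.leftInverse_invFun M.ι_inj a

theorem ι_eq_one_iff {a : F} : ι a = 1 ↔ a = 0 := by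
  constructor
  · intro h
    apply M.ι_inj
    rw [h, M.ι_zero]
  · intro h
    rw [h, M.ι_zero]

end IsFModel

/-- the hypotheses on `W`. -/
structure BadW (K : Subgroup (MulAut G)) (W : Subgroup G) : Prop where
  kinv : KInv K W
  comm : ∀ x ∈ W, ∀ y ∈ W, x * y = y * x
  sq : ∀ w ∈ W, (w * w) * (w * w) = 1
  cm_sq : ∀ w ∈ W, ∀ g : G, cm w g * cm w g = 1
  four : ∃ w₀ ∈ W, w₀ * w₀ ≠ 1

section badW

variable [Finite G] (hS : SuzAct G K) (hG : IsPGroup 2 G) {W : Subgroup G} (hW : BadW K W)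
include hS hG hW

theorem BadW.inv_mem {x : G} (hx : x * x = 1) : x ∈ W := by
  apply mem_of_sq_eq_one hS hG hW.kinv _ hx
  obtain ⟨w₀, hw₀, hw₀2⟩ := hW.four
  intro h
  rw [h, Subgroup.mem_bot] at hw₀
  rw [hw₀, mul_one] at hw₀2
  exact hw₀2 rfl

theorem BadW.exists_sqrt {z : G} (hz : z * z = 1) : ∃ w ∈ W, w * w = z := by
  obtain ⟨w₀, hw₀, hw₀2⟩ := hW.four
  have h1 : w₀ ^ 2 ^ (1 + 1) = 1 := by
    have := hW.sq w₀ hw₀
    calc w₀ ^ 2 ^ (1 + 1) = (w₀ * w₀) * (w₀ * w₀) := by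
          norm_num [pow_succ, mul_assoc]
      _ = 1 := this
  have h2 : w₀ ^ 2 ^ 1 ≠ 1 := by
    rw [pow_one, pow_two]; exact hw₀2
  obtain ⟨x, hx, hxz⟩ := exists_pow_eq_involution hS hW.kinv 1 hw₀ h1 h2 hz
  refine ⟨x, hx, ?_⟩
  rw [pow_one, pow_two] at hxz
  exact hxz

theorem BadW.central_sq {x : G} (hx : x * x = 1) (g : G) : x * g = g * x :=
  central_of_sq_eq_one hS hG hx g

theorem BadW.conj_mem {w : G} (hw : w ∈ W) (g : G) : g⁻¹ * w * g ∈ W := by
  rw [conj_eq_mul_cm]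
  exact W.mul_mem hw (hW.inv_mem hS hG (hW.cm_sq w hw g))

theorem BadW.cm_mem {w : G} (hw : w ∈ W) (g : G) : cm w g ∈ W :=
  hW.inv_mem hS hG (hW.cm_sq w hw g)

omit [Finite G] hS hG in
theorem BadW.sq_mul {x y : G} (hx : x ∈ W) (hy : y ∈ W) :
    (x * y) * (x * y) = (x * x) * (y * y) := by
  have h := hW.comm y hy x hx
  calc (x * y) * (x * y) = x * (y * x) * y := by group
    _ = x * (x * y) * y := by rw [h]
    _ = (x * x) * (y * y) := by group

/-- the commutator with `g` only depends on the square. -/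
theorem BadW.cm_eq_of_sq_eq {w w' : G} (hw : w ∈ W) (hw' : w' ∈ W) (h : w * w = w' * w')
    (g : G) : cm w g = cm w' g := by
  set u := w * w'⁻¹ with hu
  have huW : u ∈ W := W.mul_mem hw (W.inv_mem hw')
  have hu2 : u * u = 1 := by
    rw [hu, hW.sq_mul hw (W.inv_mem hw'), h]
    group
  have hucen := hW.central_sq hS hG hu2
  have hcu : cm u g = 1 := cm_eq_one_iff.mpr (hucen g)
  have hw1 : w = u * w' := by rw [hu]; group
  rw [hw1, cm_mul_left, hcu]
  group

/-- commutators with `g` are multiplicative on `W`. -/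
theorem BadW.cm_mul_W {x y : G} (hx : x ∈ W) (hy : y ∈ W) (g : G) :
    cm (x * y) g = cm x g * cm y g := by
  rw [cm_mul_left]
  have h := hW.central_sq hS hG (hW.cm_sq x hx g) y
  calc y⁻¹ * cm x g * y * cm y g = y⁻¹ * (cm x g * y) * cm y g := by group
    _ = y⁻¹ * (y * cm x g) * cm y g := by rw [h]
    _ = cm x g * cm y g := by group

/-- commutators of `w ∈ W` are multiplicative in the second variable. -/
theorem BadW.cm_mul_G {w : G} (hw : w ∈ W) (g h : G) :
    cm w (g * h) = cm w g * cm w h := by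
  rw [cm_mul_right]
  have h1 := hW.central_sq hS hG (hW.cm_sq w hw g) h
  have h2 := hW.central_sq hS hG (hW.cm_sq w hw g) (cm w h)
  calc cm w h * h⁻¹ * cm w g * h = cm w h * h⁻¹ * (cm w g * h) := by group
    _ = cm w h * h⁻¹ * (h * cm w g) := by rw [h1]
    _ = cm w h * cm w g := by group
    _ = cm w g * cm w h := h2.symm

end badW

/-- a choice of square roots in `W`. -/
structure IsSqrt {F : Type*} (W : Subgroup G) (ι : F → G) (sr : F → G) : Prop where
  mem : ∀ a, sr a ∈ W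
  sq : ∀ a, sr a * sr a = ι a

/-- the endomorphism of `F` induced by `g` (as a function). -/
noncomputable def dl {F : Type*} [Field F] (ι : F → G) (sr : F → G) (g : G) (a : F) : F :=
  Function.invFun ι (cm (sr a) g)

section dl

variable [Finite G] (hS : SuzAct G K) (hG : IsPGroup 2 G) {W : Subgroup G} (hW : BadW K W)
  {F : Type*} [Field F] {ι : F → G} (M : IsFModel K ι) {sr : F → G} (hsr : IsSqrt W ι sr)
include hS hG hW M hsr

theorem dl_spec {w : G} (hw : w ∈ W) {a : F} (hwa : w * w = ι a) (g : G) :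
    cm w g = ι (dl ι sr g a) := by
  unfold dl
  rw [M.ι_invFun (hW.cm_sq _ (hsr.mem a) g)]
  exact hW.cm_eq_of_sq_eq hS hG hw (hsr.mem a) (hwa.trans (hsr.sq a).symm) g

theorem dl_add (g : G) (a b : F) : dl ι sr g (a + b) = dl ι sr g a + dl ι sr g b := by
  apply M.ι_inj
  have h1 : (sr a * sr b) * (sr a * sr b) = ι (a + b) := by
    rw [hW.sq_mul (hsr.mem a) (hsr.mem b), hsr.sq, hsr.sq, M.ι_add]
  rw [← dl_spec hS hG hW M hsr (W.mul_mem (hsr.mem a) (hsr.mem b)) h1 g, M.ι_add,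
    hW.cm_mul_W hS hG (hsr.mem a) (hsr.mem b) g,
    dl_spec hS hG hW M hsr (hsr.mem a) (hsr.sq a) g,
    dl_spec hS hG hW M hsr (hsr.mem b) (hsr.sq b) g]

theorem dl_mul (g h : G) (a : F) : dl ι sr (g * h) a = dl ι sr g a + dl ι sr h a := by
  apply M.ι_inj
  rw [M.ι_add, ← dl_spec hS hG hW M hsr (hsr.mem a) (hsr.sq a) (g * h),
    ← dl_spec hS hG hW M hsr (hsr.mem a) (hsr.sq a) g,
    ← dl_spec hS hG hW M hsr (hsr.mem a) (hsr.sq a) h]
  exact hW.cm_mul_G hS hG (hsr.mem a) g h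

theorem dl_eq_zero_iff (g : G) : (∀ a, dl ι sr g a = 0) ↔ ∀ w ∈ W, w * g = g * w := by
  constructor
  · intro h w hw
    have hw2 : (w * w) * (w * w) = 1 := hW.sq w hw
    obtain ⟨a, ha⟩ := M.ι_surj _ hw2
    have := dl_spec hS hG hW M hsr hw ha.symm g
    rw [h a, M.ι_zero] at this
    exact cm_eq_one_iff.mp this
  · intro h a
    apply M.ι_inj
    rw [← dl_spec hS hG hW M hsr (hsr.mem a) (hsr.sq a) g, M.ι_zero]
    exact cm_eq_one_iff.mpr (h _ (hsr.mem a))

theorem dl_equiv {k : MulAut G} (hk : k ∈ K) {y : Fˣ} (hy : ∀ a, k (ι a) = ι (y * a)) (g : G)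
    (a : F) : dl ι sr (k g) ((y : F) * a) = (y : F) * dl ι sr g a := by
  apply M.ι_inj
  have h1 : k (sr a) * k (sr a) = ι ((y : F) * a) := by
    rw [← map_mul, hsr.sq, hy]
  rw [← dl_spec hS hG hW M hsr (hW.kinv k hk _ (hsr.mem a)) h1 (k g), ← map_cm, ← hy,
    dl_spec hS hG hW M hsr (hsr.mem a) (hsr.sq a) g]

end dl

end Cfsg.Agent.Helper65.Suz
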