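import Cfsg.Agent.Helper65.Suzuki13

/-!
# Suzuki 2-groups, part 14: the centralizer of `W`, free actions
-/

set_option autoImplicit false

namespace Cfsg.Agent.Helper65.Suz

universe u

variable {G : Type u} [Group G] {K : Subgroup (MulAut G)}

/-- a free action of `K` on an invariant subset `X` forces `|K|` to divide `|X|`. -/
theorem card_dvd_of_free [Finite G] (K : Subgroup (MulAut G)) (X : Set G)
    (hX : ∀ k ∈ K, ∀ x ∈ X, (k : MulAut G) x ∈ X)
    (hfree : ∀ k ∈ K, ∀ x ∈ X, (k : MulAut G) x = x → k = 1) : Nat.card K ∣ Nat.card X := by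
  classical
  letI : MulAction K X :=
    { smul := fun k x => ⟨(k : MulAut G) x.1, hX k.1 k.2 x.1 x.2⟩
      one_smul := fun x => Subtype.ext rfl
      mul_smul := fun k k' x => Subtype.ext rfl }
  have hstab : ∀ x : X, MulAction.stabilizer K x = ⊥ := by
    intro x
    rw [Subgroup.eq_bot_iff_forall]
    intro k hk
    rw [MulAction.mem_stabilizer_iff] at hk
    have h1 : (k : MulAut G) x.1 = x.1 := congrArg Subtype.val hk
    exact Subtype.ext (hfree k.1 k.2 x.1 x.2 h1)
  have e := MulAction.selfEquivOrbitsQuotientProd hstab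
  rw [Nat.card_congr e, Nat.card_prod]
  exact dvd_mul_left _ _

/-- freeness data of the action of `K`. -/
structure SuzFree (G : Type*) [Group G] (K : Subgroup (MulAut G)) : Prop where
  free : ∀ k ∈ K, ∀ x : G, x ≠ 1 → (k : MulAut G) x = x → k = 1
  odd : Odd (Nat.card K)
  one_lt : 1 < Nat.card K

/-- `|K|` divides `|B| - |A|` for `K`-invariant subgroups `A ≤ B`. -/
theorem SuzFree.not_dvd_two_pow [Finite G] (hF : SuzFree G K) (m : ℕ) :
    ¬ Nat.card K ∣ 2 ^ m := by
  intro h
  have hc : Nat.Coprime (Nat.card K) (2 ^ m) := by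
    apply Nat.Coprime.pow_right
    exact (Nat.coprime_comm.mp (Nat.coprime_two_left.mpr hF.odd))
  have := Nat.Coprime.eq_one_of_dvd hc h
  have := hF.one_lt
  omega

section badW

variable [Finite G] (hS : SuzAct G K) (hG : IsPGroup 2 G) {W : Subgroup G} (hW : BadW K W)
include hS hG hW

/-- an element of order dividing four centralizing `W` lies in `W`. -/
theorem BadW.mem_of_pow_four {x : G} (hx : ∀ w ∈ W, w * x = x * w)
    (hx4 : (x * x) * (x * x) = 1) : x ∈ W := by
  obtain ⟨w, hw, hwz⟩ := hW.exists_sqrt hS hG hx4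
  have hc := hx w hw
  have hu : (x * w⁻¹) * (x * w⁻¹) = 1 := by
    have h1 : w⁻¹ * x = x * w⁻¹ := by
      calc w⁻¹ * x = w⁻¹ * (x * w) * w⁻¹ := by group
        _ = w⁻¹ * (w * x) * w⁻¹ := by rw [hc]
        _ = x * w⁻¹ := by group
    calc (x * w⁻¹) * (x * w⁻¹) = x * (w⁻¹ * x) * w⁻¹ := by group
      _ = x * (x * w⁻¹) * w⁻¹ := by rw [h1]
      _ = (x * x) * (w * w)⁻¹ := by group
      _ = 1 := by rw [hwz, mul_inv_cancel]
  have h2 : x = (x * w⁻¹) * w := by group
  rw [h2]
  exact W.mul_mem (hW.inv_mem hS hG hu) hw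

omit [Finite G] hS hG in
theorem BadW.le_centralizer : W ≤ Subgroup.centralizer (W : Set G) := by
  intro x hx
  rw [Subgroup.mem_centralizer_iff]
  intro w hw
  exact hW.comm w hw x hx

/-- the centralizer of `W` is abelian. -/
theorem BadW.centralizer_comm :
    ∀ x ∈ Subgroup.centralizer (W : Set G), ∀ y ∈ Subgroup.centralizer (W : Set G),
      x * y = y * x := by
  obtain ⟨w₀, hw₀, hw₀2⟩ := hW.four
  apply comm_of_cen_exp hS hG (Nat.card (Subgroup.centralizer (W : Set G))) _ le_rfl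
    hW.kinv.centralizer
  refine ⟨w₀, ?_, hw₀2⟩
  rw [mem_cen]
  refine ⟨hW.le_centralizer hw₀, ?_⟩
  intro c hc
  rw [Subgroup.mem_centralizer_iff] at hc
  exact hc w₀ hw₀

/-- the centralizer of `W` is normal. -/
theorem BadW.centralizer_conj {x : G} (hx : x ∈ Subgroup.centralizer (W : Set G)) (g : G) :
    g⁻¹ * x * g ∈ Subgroup.centralizer (W : Set G) := by
  rw [Subgroup.mem_centralizer_iff] at hx ⊢
  intro w hw
  have h1 : g * w * g⁻¹ ∈ W := by
    have := hW.conj_mem hS hG hw g⁻¹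
    rwa [inv_inv] at this
  have h2 := hx _ h1
  calc w * (g⁻¹ * x * g) = g⁻¹ * ((g * w * g⁻¹) * x) * g := by group
    _ = g⁻¹ * (x * (g * w * g⁻¹)) * g := by rw [h2]
    _ = g⁻¹ * x * g * w := by group

theorem BadW.centralizer_cm {x : G} (hx : x ∈ Subgroup.centralizer (W : Set G)) (g : G) :
    cm x g ∈ Subgroup.centralizer (W : Set G) := by
  have h1 : cm x g = x⁻¹ * (g⁻¹ * x * g) := by unfold cm; group
  rw [h1]
  exact Subgroup.mul_mem _ (Subgroup.inv_mem _ hx) (hW.centralizer_conj hS hG hx g)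

end badW

end Cfsg.Agent.Helper65.Suz
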