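import Cfsg.Agent.Helper65.Suzuki14

/-!
# Suzuki 2-groups, part 15: the family `dl g` of endomorphisms; freeness; the idempotent case
-/

set_option autoImplicit false

namespace Cfsg.Agent.Helper65.Suz

universe u

variable {G : Type u} [Group G] {K : Subgroup (MulAut G)}

section dl

variable [Finite G] (hS : SuzAct G K) (hG : IsPGroup 2 G) {W : Subgroup G} (hW : BadW K W)
  {F : Type*} [Field F] {ι : F → G} (M : IsFModel K ι) {sr : F → G} (hsr : IsSqrt W ι sr)
include hS hG hW M hsr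

theorem dl_one (a : F) : dl ι sr 1 a = 0 := by
  have h := dl_mul hS hG hW M hsr 1 1 a
  rw [mul_one] at h
  exact left_eq_add.mp h

theorem add_self_F (x : F) : x + x = 0 := by
  haveI := M.charP
  exact CharTwo.add_self_eq_zero x

theorem dl_inv (g : G) (a : F) : dl ι sr g⁻¹ a = dl ι sr g a := by
  have h := dl_mul hS hG hW M hsr g g⁻¹ a
  rw [mul_inv_cancel, dl_one hS hG hW M hsr] at h
  have h2 := add_self_F hS hG hW M hsr (dl ι sr g a)
  have h3 : dl ι sr g a + dl ι sr g⁻¹ a = dl ι sr g a + dl ι sr g a := by rw [← h, h2]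
  exact add_left_cancel h3

theorem mem_centralizer_iff_dl (g : G) :
    g ∈ Subgroup.centralizer (W : Set G) ↔ ∀ a, dl ι sr g a = 0 := by
  rw [dl_eq_zero_iff hS hG hW M hsr, Subgroup.mem_centralizer_iff]
  rfl

theorem sq_mem_centralizer (g : G) : g * g ∈ Subgroup.centralizer (W : Set G) := by
  rw [mem_centralizer_iff_dl hS hG hW M hsr]
  intro a
  rw [dl_mul hS hG hW M hsr]
  exact add_self_F hS hG hW M hsr _

theorem cm_mem_centralizer (h g : G) : cm h g ∈ Subgroup.centralizer (W : Set G) := by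
  rw [mem_centralizer_iff_dl hS hG hW M hsr]
  intro a
  unfold cm
  rw [dl_mul hS hG hW M hsr, dl_mul hS hG hW M hsr, dl_mul hS hG hW M hsr,
    dl_inv hS hG hW M hsr, dl_inv hS hG hW M hsr]
  have h1 := add_self_F hS hG hW M hsr (dl ι sr h a)
  have h2 := add_self_F hS hG hW M hsr (dl ι sr g a)
  calc dl ι sr h a + dl ι sr g a + dl ι sr h a + dl ι sr g a
      = (dl ι sr h a + dl ι sr h a) + (dl ι sr g a + dl ι sr g a) := by ring
    _ = 0 := by rw [h1, h2, add_zero]

/-- the endomorphism induced by `g`, as an additive map. -/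
noncomputable def dlHom (g : G) : F →+ F :=
  AddMonoidHom.mk' (dl ι sr g) (dl_add hS hG hW M hsr g)

omit hS hG hW M hsr in
theorem dlHom_apply (hS : SuzAct G K) (hG : IsPGroup 2 G) (hW : BadW K W) (M : IsFModel K ι)
    (hsr : IsSqrt W ι sr) (g : G) (a : F) :
    dlHom hS hG hW M hsr g a = dl ι sr g a := rfl

theorem dlHom_mul (g h : G) :
    dlHom hS hG hW M hsr (g * h) = dlHom hS hG hW M hsr g + dlHom hS hG hW M hsr h := by
  ext a
  exact dl_mul hS hG hW M hsr g h a

theorem dlHom_stable (y : Fˣ) (g : G) :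
    ∃ g', ∀ a, dl ι sr g' a = ((y⁻¹ : Fˣ) : F) * dl ι sr g ((y : F) * a) := by
  obtain ⟨k, hk, hky⟩ := M.act' y⁻¹
  refine ⟨k g, fun a => ?_⟩
  have h := dl_equiv hS hG hW M hsr hk hky g ((y : F) * a)
  have h1 : ((y⁻¹ : Fˣ) : F) * ((y : F) * a) = a := by
    rw [← mul_assoc, ← Units.val_mul, inv_mul_cancel, Units.val_one, one_mul]
  rw [h1] at h
  exact h

end dl

section free

variable [Finite G] (hS : SuzAct G K) (hG : IsPGroup 2 G) {W : Subgroup G} (hW : BadW K W)
  {F : Type*} [Field F] {ι : F → G} (M : IsFModel K ι) {sr : F → G} (hsr : IsSqrt W ι sr)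
  (hF : SuzFree G K)
include hS hG hW M hsr hF

/-- no `dl g` is a non-zero multiplication. -/
theorem dl_free (g : G) (c : F) (h : ∀ a, dl ι sr g a = c * a) : c = 0 := by
  by_contra hc
  let X : Set G := {x | ∀ a, dl ι sr x a = c * a}
  have hX : ∀ k ∈ K, ∀ x ∈ X, (k : MulAut G) x ∈ X := by
    intro k hk x hx b
    obtain ⟨y, hy⟩ := M.act k hk
    have h1 := dl_equiv hS hG hW M hsr hk hy x (((y⁻¹ : Fˣ) : F) * b)
    have h2 : (y : F) * (((y⁻¹ : Fˣ) : F) * b) = b := by
      rw [← mul_assoc, ← Units.val_mul, mul_inv_cancel, Units.val_one, one_mul]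
    rw [h2, hx] at h1
    rw [h1]
    calc (y : F) * (c * (((y⁻¹ : Fˣ) : F) * b)) = c * ((y : F) * (((y⁻¹ : Fˣ) : F) * b)) := by ring
      _ = c * b := by rw [h2]
  have h1X : (1 : G) ∉ X := by
    intro h1
    have := h1 1
    rw [dl_one hS hG hW M hsr, mul_one] at this
    exact hc this.symm
  have hfree : ∀ k ∈ K, ∀ x ∈ X, (k : MulAut G) x = x → k = 1 := by
    intro k hk x hx hkx
    apply hF.free k hk x _ hkx
    intro hx1
    exact h1X (hx1 ▸ hx)
  have hdvd := card_dvd_of_free K X hX hfree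
  -- `X` is a coset of the centralizer of `W`
  let C := Subgroup.centralizer (W : Set G)
  have hcard : Nat.card X = Nat.card C := by
    apply Nat.card_congr
    refine Equiv.symm ⟨fun x => ⟨g * x.1, ?_⟩, fun x => ⟨g⁻¹ * x.1, ?_⟩, ?_, ?_⟩
    · intro a
      rw [dl_mul hS hG hW M hsr, h a,
        (mem_centralizer_iff_dl hS hG hW M hsr x.1).mp x.2 a, add_zero]
    · rw [mem_centralizer_iff_dl hS hG hW M hsr]
      intro a
      rw [dl_mul hS hG hW M hsr, dl_inv hS hG hW M hsr, h a, x.2 a]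
      exact add_self_F hS hG hW M hsr _
    · intro x
      apply Subtype.ext
      show g⁻¹ * (g * x.1) = x.1
      group
    · intro x
      apply Subtype.ext
      show g * (g⁻¹ * x.1) = x.1
      group
  haveI : Fact (Nat.Prime 2) := ⟨Nat.prime_two⟩
  obtain ⟨m, hm⟩ := (IsPGroup.iff_card).mp (hG.to_subgroup C)
  rw [hcard, hm] at hdvd
  exact hF.not_dvd_two_pow m hdvd

end free

end Cfsg.Agent.Helper65.Suz
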