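import Cfsg.Agent.Helper65.Suzuki15

/-!
# Suzuki 2-groups, part 16: an abelian normal `W` of type `(4, …, 4)` forces exponent four
-/

set_option autoImplicit false

namespace Cfsg.Agent.Helper65.Suz

universe u

variable {G : Type u} [Group G] {K : Subgroup (MulAut G)}

section idem

variable [Finite G] (hS : SuzAct G K) (hG : IsPGroup 2 G) {W : Subgroup G} (hW : BadW K W)
  {F : Type*} [Field F] {ι : F → G} (M : IsFModel K ι) {sr : F → G} (hsr : IsSqrt W ι sr)
include hS hG hW M hsr

/-- if the centralizer of `W` has exponent at least eight, every fourth root exists. -/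
theorem exists_fourth_root {c₀ : G} (hc₀ : c₀ ∈ Subgroup.centralizer (W : Set G))
    (hc₀4 : (c₀ * c₀) * (c₀ * c₀) ≠ 1) (a : F) :
    ∃ c ∈ Subgroup.centralizer (W : Set G), (c * c) * (c * c) = ι a := by
  set C := Subgroup.centralizer (W : Set G) with hC
  have hCne : C ≠ ⊥ := by
    intro h
    rw [h, Subgroup.mem_bot] at hc₀
    apply hc₀4
    rw [hc₀]; group
  obtain ⟨e, w, hwC, hwe, hexp⟩ := exists_exponent hG C hCne
  have he : 2 ≤ e := by
    by_contra hlt
    apply hc₀4
    have h1 := hexp c₀ hc₀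
    have h2 : c₀ ^ 4 = 1 := by
      have h3 : 4 = 2 ^ (e + 1) * 2 ^ (1 - e) := by
        rw [← pow_add]
        have : e + 1 + (1 - e) = 2 := by omega
        rw [this]
        norm_num
      rw [h3, pow_mul, h1, one_pow]
    rw [← h2]
    simp only [pow_succ, pow_zero, one_mul, mul_assoc]
  have hw1 : w ^ 2 ^ (e + 1) = 1 := hexp w hwC
  obtain ⟨x, hxC, hxa⟩ := exists_pow_eq_involution hS hW.kinv.centralizer e hwC hw1 hwe (M.ι_sq a)
  refine ⟨x ^ 2 ^ (e - 2), C.pow_mem hxC _, ?_⟩
  rw [← hxa]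
  have h4 : (x ^ 2 ^ (e - 2) * x ^ 2 ^ (e - 2)) * (x ^ 2 ^ (e - 2) * x ^ 2 ^ (e - 2)) =
      (x ^ 2 ^ (e - 2)) ^ 4 := by group
  rw [h4, ← pow_mul]
  congr 1
  have : e = (e - 2) + 2 := by omega
  conv_rhs => rw [this, pow_add]
  norm_num

/-- if the centralizer of `W` has exponent at least eight, every `dl g` is idempotent. -/
theorem dl_idem {c₀ : G} (hc₀ : c₀ ∈ Subgroup.centralizer (W : Set G))
    (hc₀4 : (c₀ * c₀) * (c₀ * c₀) ≠ 1) (g : G) (a : F) :
    dl ι sr g (dl ι sr g a) = dl ι sr g a := by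
  obtain ⟨c, hc, hca⟩ := exists_fourth_root hS hG hW M hsr hc₀ hc₀4 a
  set C := Subgroup.centralizer (W : Set G) with hC
  have hcomm := hW.centralizer_comm hS hG
  set v := c * c with hv
  set t := cm c g with ht
  have hvC : v ∈ C := C.mul_mem hc hc
  have hv4 : (v * v) * (v * v) = 1 := by rw [hca]; exact M.ι_sq a
  have hvW : v ∈ W := by
    apply hW.mem_of_pow_four hS hG _ hv4
    intro w hw
    exact (Subgroup.mem_centralizer_iff.mp hvC) w hw
  have h1 : cm v g = ι (dl ι sr g a) := dl_spec hS hG hW M hsr hvW hca g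
  have htC : t ∈ C := hW.centralizer_cm hS hG hc g
  have h2 : cm v g = t * t := by
    rw [hv, cm_mul_left]
    have hct := hcomm c hc t htC
    calc c⁻¹ * cm c g * c * cm c g = c⁻¹ * (t * c) * t := by rw [ht]; group
      _ = c⁻¹ * (c * t) * t := by rw [hct]
      _ = t * t := by group
  have htt : t * t = ι (dl ι sr g a) := by rw [← h2, h1]
  have ht4 : (t * t) * (t * t) = 1 := by rw [htt]; exact M.ι_sq _
  have htW : t ∈ W := by
    apply hW.mem_of_pow_four hS hG _ ht4
    intro w hw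
    exact (Subgroup.mem_centralizer_iff.mp htC) w hw
  have h3 : cm t g = ι (dl ι sr g (dl ι sr g a)) := dl_spec hS hG hW M hsr htW htt g
  have hgg : g * g ∈ C := sq_mem_centralizer hS hG hW M hsr g
  have h4 : cm c (g * g) = 1 := cm_eq_one_iff.mpr (hcomm c hc _ hgg)
  have h5 : cm c (g * g) = (t * t) * cm t g := by
    rw [cm_mul_right]
    calc cm c g * g⁻¹ * cm c g * g = t * (g⁻¹ * t * g) := by rw [ht]; group
      _ = t * (t * cm t g) := by rw [conj_eq_mul_cm]
      _ = (t * t) * cm t g := by group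
  rw [h4, htt, h3, ← M.ι_add] at h5
  have h6 := (M.ι_eq_one_iff).mp h5.symm
  have h7 := add_self_F hS hG hW M hsr (dl ι sr g a)
  have h8 : dl ι sr g a + dl ι sr g (dl ι sr g a) = dl ι sr g a + dl ι sr g a := by rw [h6, h7]
  exact add_left_cancel h8

end idem

end Cfsg.Agent.Helper65.Suz
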