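import Cfsg.Agent.Helper65.Suzuki16

/-!
# Suzuki 2-groups, part 17: the quadratic relations; `W` forces exponent four
-/

set_option autoImplicit false

namespace Cfsg.Agent.Helper65.Suz

universe u

variable {G : Type u} [Group G] {K : Subgroup (MulAut G)}

section quad

variable [Finite G] (hS : SuzAct G K) (hG : IsPGroup 2 G) {W : Subgroup G} (hW : BadW K W)
  {F : Type*} [Field F] {ι : F → G} (M : IsFModel K ι) {sr : F → G} (hsr : IsSqrt W ι sr)
  (hE : ∀ x ∈ Subgroup.centralizer (W : Set G), (x * x) * (x * x) = 1)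
include hS hG hW M hsr hE

theorem E2_mem {x : G} (hx : x ∈ Subgroup.centralizer (W : Set G)) : x ∈ W := by
  apply hW.mem_of_pow_four hS hG _ (hE x hx)
  intro w hw
  exact (Subgroup.mem_centralizer_iff.mp hx) w hw

theorem E2_sq_mem (g : G) : g * g ∈ W :=
  E2_mem hS hG hW M hsr hE (sq_mem_centralizer hS hG hW M hsr g)

theorem E2_cm_mem (h g : G) : cm h g ∈ W :=
  E2_mem hS hG hW M hsr hE (cm_mem_centralizer hS hG hW M hsr h g)

/-- the square of a product. -/
theorem E2_sq_mul (g h : G) :
    ((g * h) * (g * h)) * ((g * h) * (g * h)) =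
      ((g * g) * (g * g)) * ((h * h) * (h * h)) * (cm h g * cm h g) := by
  have hA := E2_sq_mem hS hG hW M hsr hE g
  have hB := E2_sq_mem hS hG hW M hsr hE h
  have hc := E2_cm_mem hS hG hW M hsr hE h g
  have hd := hW.cm_mem hS hG hc h
  have hd2 := hW.cm_sq _ hc h
  have h1 : (g * h) * (g * h) = (g * g) * (h * h) * cm h g * cm (cm h g) h := by
    unfold cm; group
  rw [h1, hW.sq_mul (W.mul_mem (W.mul_mem hA hB) hc) hd, hd2, mul_one,
    hW.sq_mul (W.mul_mem hA hB) hc, hW.sq_mul hA hB]

theorem E2_cm_mul_sq (g h m : G) :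
    cm m (g * h) * cm m (g * h) = (cm m g * cm m g) * (cm m h * cm m h) := by
  have hx := E2_cm_mem hS hG hW M hsr hE m h
  have hy := E2_cm_mem hS hG hW M hsr hE m g
  have hz := hW.cm_mem hS hG hy h
  have hz2 := hW.cm_sq _ hy h
  have h1 : cm m (g * h) = cm m h * (cm m g * cm (cm m g) h) := by
    unfold cm; group
  rw [h1, hW.sq_mul hx (W.mul_mem hy hz), hW.sq_mul hy hz, hz2, mul_one]
  exact hW.comm _ (W.mul_mem hx hx) _ (W.mul_mem hy hy)

theorem E2_cm_symm_sq (g h : G) : cm h g * cm h g = cm g h * cm g h := by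
  have hx := E2_cm_mem hS hG hW M hsr hE h g
  have h1 : cm g h = (cm h g)⁻¹ := by unfold cm; group
  have h2 := hW.sq _ hx
  rw [h1]
  have h3 : (cm h g)⁻¹ * (cm h g)⁻¹ = (cm h g * cm h g)⁻¹ := by group
  rw [h3]
  exact (eq_inv_of_mul_eq_one_left h2)

end quad

section main

variable [Finite G] (hS : SuzAct G K) (hG : IsPGroup 2 G) {W : Subgroup G} (hW : BadW K W)
  (hF : SuzFree G K) (hna : ∃ x y : G, x * y ≠ y * x)
include hS hG hW hF hna

/-- **The bad case.**  If `G` has an abelian normal `K`-invariant subgroup `W` of type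
`(4, …, 4)` with `[W, G]` of exponent two, then `G` has exponent four. -/
theorem BadW.pow_four (g : G) : (g * g) * (g * g) = 1 := by
  classical
  obtain ⟨w₀, hw₀, hw₀2⟩ := hW.four
  obtain ⟨F, instF, instFin, ι, M⟩ := exists_fmodel hS hG ⟨w₀ * w₀, hw₀2, hW.sq w₀ hw₀⟩
  haveI := M.charP
  obtain ⟨n, _, hn⟩ := FiniteField.card F 2
  have hsrex : ∀ a : F, ∃ w ∈ W, w * w = ι a := fun a => hW.exists_sqrt hS hG (M.ι_sq a)
  choose sr hsr1 hsr2 using hsrex
  have hsr : IsSqrt W ι sr := ⟨hsr1, hsr2⟩
  set C := Subgroup.centralizer (W : Set G) with hC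
  let δ : G → (F →+ F) := dlHom hS hG hW M hsr
  have hδ : ∀ g h, δ (g * h) = δ g + δ h := dlHom_mul hS hG hW M hsr
  have hst : ∀ y : Fˣ, ∀ g, ∃ g', δ g' = cj y (δ g) := by
    intro y g
    obtain ⟨g', hg'⟩ := dlHom_stable hS hG hW M hsr y g
    refine ⟨g', ?_⟩
    ext a
    exact hg' a
  have hfree : ∀ g c, (∀ a, δ g a = c * a) → c = 0 :=
    fun g c h => dl_free hS hG hW M hsr hF g c h
  by_cases hE : ∀ x ∈ C, (x * x) * (x * x) = 1
  · -- the quadratic map
    let Q : G → F := fun g => Function.invFun ι ((g * g) * (g * g))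
    let B : G → G → F := fun g h => Function.invFun ι (cm h g * cm h g)
    have hQι : ∀ g, ι (Q g) = (g * g) * (g * g) :=
      fun g => M.ι_invFun (hW.sq _ (E2_sq_mem hS hG hW M hsr hE g))
    have hBι : ∀ g h, ι (B g h) = cm h g * cm h g :=
      fun g h => M.ι_invFun (hW.sq _ (E2_cm_mem hS hG hW M hsr hE h g))
    have key := quad_vanish (n : ℕ) hn δ Q B hδ hst
      (by
        intro g h
        apply M.ι_inj
        rw [M.ι_add, M.ι_add, hQι, hQι, hQι, hBι]
        exact E2_sq_mul hS hG hW M hsr hE g h)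
      (by
        intro g h m
        apply M.ι_inj
        rw [M.ι_add, hBι, hBι, hBι]
        exact E2_cm_mul_sq hS hG hW M hsr hE g h m)
      (by
        intro g h
        apply M.ι_inj
        rw [hBι, hBι]
        exact E2_cm_symm_sq hS hG hW M hsr hE g h)
      (by
        intro g hg
        have hgC : g ∈ C := by
          rw [hC, mem_centralizer_iff_dl hS hG hW M hsr]
          intro a
          exact DFunLike.congr_fun hg a
        have hgW : g ∈ W := E2_mem hS hG hW M hsr hE hgC
        refine ⟨?_, fun h => ?_⟩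
        · apply M.ι_inj
          rw [hQι, M.ι_zero]
          exact hW.sq g hgW
        · apply M.ι_inj
          rw [hBι, M.ι_zero, E2_cm_symm_sq hS hG hW M hsr hE g h]
          exact hW.cm_sq g hgW h)
      (by
        intro g
        apply M.ι_inj
        rw [M.ι_zero]
        have h1 := dl_spec hS hG hW M hsr (E2_sq_mem hS hG hW M hsr hE g) (hQι g).symm g
        rw [← dlHom_apply hS hG hW M hsr] at h1
        rw [← h1]
        unfold cm; group)
      (by
        intro g h
        apply M.ι_inj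
        have h1 := dl_spec hS hG hW M hsr (E2_sq_mem hS hG hW M hsr hE h) (hQι h).symm g
        have hc := E2_cm_mem hS hG hW M hsr hE h g
        have h2 := dl_spec hS hG hW M hsr hc (hBι g h).symm h
        rw [← dlHom_apply hS hG hW M hsr] at h1 h2
        show ι (δ g (Q h)) = ι (B g h + δ h (B g h))
        rw [← h1, M.ι_add, ← h2, hBι, cm_mul_left]
        have hd := hW.cm_mem hS hG hc h
        have h3 := hW.comm _ hd _ hc
        calc h⁻¹ * cm h g * h * cm h g = (h⁻¹ * cm h g * h) * cm h g := by group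
          _ = (cm h g * cm (cm h g) h) * cm h g := by rw [conj_eq_mul_cm]
          _ = cm h g * (cm (cm h g) h * cm h g) := by group
          _ = cm h g * (cm h g * cm (cm h g) h) := by rw [h3]
          _ = cm h g * cm h g * cm (cm h g) h := by group)
      hfree
    have := key g
    rw [← hQι g, this, M.ι_zero]
  · -- the idempotent case is contradictory
    exfalso
    obtain ⟨c₀, hc₀, hc₀4⟩ : ∃ c₀ ∈ C, (c₀ * c₀) * (c₀ * c₀) ≠ 1 := by
      by_contra hno
      apply hE
      intro x hx
      by_contra hx4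
      exact hno ⟨x, hx, hx4⟩
    let U : AddSubgroup (F →+ F) :=
      { carrier := Set.range δ
        zero_mem' := ⟨1, by
          ext a
          exact dl_one hS hG hW M hsr a⟩
        add_mem' := by
          rintro _ _ ⟨g, rfl⟩ ⟨h, rfl⟩
          exact ⟨g * h, hδ g h⟩
        neg_mem' := by
          rintro _ ⟨g, rfl⟩
          refine ⟨g, ?_⟩
          have h2 : δ g + δ g = 0 := addMonoidHom_add_self _
          exact (neg_eq_of_add_eq_zero_left h2).symm }
    have hU : ∀ y : Fˣ, ∀ u ∈ U, cj y u ∈ U := by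
      rintro y _ ⟨g, rfl⟩
      obtain ⟨g', hg'⟩ := hst y g
      exact ⟨g', hg'⟩
    have hid : ∀ u ∈ U, ∀ a : F, u (u a) = u a := by
      rintro _ ⟨g, rfl⟩ a
      exact dl_idem hS hG hW M hsr hc₀ hc₀4 g a
    have hall : ∀ g : G, g ∈ C := by
      intro g
      rw [hC, mem_centralizer_iff_dl hS hG hW M hsr]
      rcases eq_zero_or_id_of_idempotent (n : ℕ) hn U hU hid (δ g) ⟨g, rfl⟩ with h0 | h1
      · intro a
        exact DFunLike.congr_fun h0 a
      · exfalso
        have := hfree g 1 (fun a => by rw [h1 a, one_mul])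
        exact one_ne_zero this
    obtain ⟨x, y, hxy⟩ := hna
    exact hxy (hW.centralizer_comm hS hG x (hall x) y (hall y))

end main

end Cfsg.Agent.Helper65.Suz
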