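import Cfsg.Agent.Helper65.Suzuki17
import Cfsg.Agent.Helper63.PGroup

/-!
# Suzuki 2-groups, part 18: a nonabelian Suzuki 2-group has exponent four
-/

set_option autoImplicit false

namespace Cfsg.Agent.Helper65.Suz

universe u

variable {G : Type u} [Group G] {K : Subgroup (MulAut G)}

theorem mem_cen_top {z : G} : z ∈ cen (⊤ : Subgroup G) ↔ z ∈ Subgroup.center G := by
  rw [mem_cen, Subgroup.mem_center_iff]
  constructor
  · rintro ⟨_, h⟩ g
    exact (h g (Subgroup.mem_top g)).symm
  · intro h
    exact ⟨Subgroup.mem_top z, fun c _ => (h c).symm⟩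

section main

variable [Finite G] (hS : SuzAct G K) (hG : IsPGroup 2 G) (hF : SuzFree G K)
  (hna : ∃ x y : G, x * y ≠ y * x)
include hS hG hna

/-- the centre is elementary abelian. -/
theorem center_sq {z : G} (hz : z ∈ Subgroup.center G) : z * z = 1 := by
  by_contra hzz
  obtain ⟨x, y, hxy⟩ := hna
  exact hxy (comm_of_cen_exp hS hG (Nat.card (⊤ : Subgroup G)) ⊤ le_rfl kInv_top
    ⟨z, mem_cen_top.mpr hz, hzz⟩ x (Subgroup.mem_top x) y (Subgroup.mem_top y))

include hF

/-- **Higman.**  A nonabelian Suzuki 2-group has exponent four. -/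
theorem pow_four_of_nonabelian (g : G) : (g * g) * (g * g) = 1 := by
  classical
  have hcen : ∀ x : G, x * x = 1 → ∀ g : G, x * g = g * x :=
    fun x hx g => central_of_sq_eq_one hS hG hx g
  set W := Ysub (⊤ : Subgroup G) with hWdef
  have hWk : KInv K W := kInv_top.Ysub
  by_cases hB : ∃ w ∈ cen W, w * w ≠ 1
  · have hWc := comm_of_cen_exp hS hG (Nat.card W) W le_rfl hWk hB
    have hW : BadW K W := by
      refine ⟨hWk, hWc, ?_, ?_, ?_⟩
      · intro w hw
        exact center_sq hS hG hna (mem_cen_top.mp hw.2.1)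
      · intro w hw g
        exact cm_Ysub_sq hw (Subgroup.mem_top g)
      · obtain ⟨w, hw, hw2⟩ := hB
        exact ⟨w, cen_le W hw, hw2⟩
    exact hW.pow_four hS hG hF hna g
  · have hB' : ∀ w ∈ cen W, w * w = 1 := by
      intro w hw
      by_contra h
      exact hB ⟨w, hw, h⟩
    set N := Subgroup.centralizer (W : Set G) with hNdef
    -- squares centralize `W`
    have hsqN : g * g ∈ N := by
      rw [hNdef, Subgroup.mem_centralizer_iff]
      intro w hw
      have hc := hw.2.2 g (Subgroup.mem_top g)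
      have hc2 := cm_Ysub_sq hw (Subgroup.mem_top g)
      have hcc := (mem_cen.mp hc).2 g (Subgroup.mem_top g)
      have h1 : cm w (g * g) = 1 := by
        rw [cm_mul_right]
        calc cm w g * g⁻¹ * cm w g * g = cm w g * g⁻¹ * (cm w g * g) := by group
          _ = cm w g * g⁻¹ * (g * cm w g) := by rw [hcc]
          _ = cm w g * cm w g := by group
          _ = 1 := hc2
      exact cm_eq_one_iff.mp h1
    -- the centralizer of `W` is central
    have hNcen : ∀ x ∈ N, x ∈ Subgroup.center G := by
      intro x hx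
      by_contra hxc
      have hNtop : KInv (⊤ : Subgroup (MulAut G)) N :=
        ((kInv_top (K := (⊤ : Subgroup (MulAut G)))).Ysub).centralizer
      haveI hNn : N.Normal := by
        constructor
        intro n hn g
        have := hNtop (MulAut.conj g) (Subgroup.mem_top _) n hn
        simpa [MulAut.conj_apply] using this
      let Q := G ⧸ Subgroup.center G
      let Nb : Subgroup Q := N.map (QuotientGroup.mk' (Subgroup.center G))
      haveI : Nb.Normal := Subgroup.Normal.map hNn _ (QuotientGroup.mk'_surjective _)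
      have hNb : Nb ≠ ⊥ := by
        intro h
        have h1 : (QuotientGroup.mk' (Subgroup.center G)) x ∈ Nb := Subgroup.mem_map_of_mem _ hx
        rw [h, Subgroup.mem_bot] at h1
        exact hxc ((QuotientGroup.eq_one_iff x).mp h1)
      have hQp : IsPGroup 2 Q := hG.to_quotient _
      haveI : Fact (Nat.Prime 2) := ⟨Nat.prime_two⟩
      have hmeet := Cfsg.Agent.Helper63.normal_inf_center_ne_bot hQp Nb hNb
      obtain ⟨⟨q, hq⟩, hq1⟩ := (Subgroup.ne_bot_iff_exists_ne_one).mp hmeet
      have hq1' : q ≠ 1 := fun h => hq1 (Subtype.ext h)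
      obtain ⟨j, hj1, hj2⟩ := exists_involution_pow hQp hq1'
      have hq' : q ^ 2 ^ j ∈ Nb ⊓ Subgroup.center Q := Subgroup.pow_mem _ hq _
      obtain ⟨y, hyN, hyq⟩ := Subgroup.mem_map.mp hq'.1
      have hyq' : (y : Q) = q ^ 2 ^ j := hyq
      have hqc := Subgroup.mem_center_iff.mp hq'.2
      have hyW : y ∈ W := by
        refine ⟨Subgroup.mem_top y, ?_, ?_⟩
        · rw [mem_cen_top, ← QuotientGroup.eq_one_iff, QuotientGroup.mk_mul, hyq', hj2]
        · intro c _
          rw [mem_cen_top, ← QuotientGroup.eq_one_iff]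
          unfold cm
          rw [QuotientGroup.mk_mul, QuotientGroup.mk_mul, QuotientGroup.mk_mul,
            QuotientGroup.mk_inv, QuotientGroup.mk_inv, hyq']
          have h1 := hqc ((c : Q)⁻¹)
          calc (q ^ 2 ^ j)⁻¹ * (c : Q)⁻¹ * q ^ 2 ^ j * (c : Q)
              = (q ^ 2 ^ j)⁻¹ * ((c : Q)⁻¹ * q ^ 2 ^ j) * (c : Q) := by group
            _ = (q ^ 2 ^ j)⁻¹ * (q ^ 2 ^ j * (c : Q)⁻¹) * (c : Q) := by rw [h1]
            _ = 1 := by group
      have hycen : y ∈ cen W := by
        rw [mem_cen]
        refine ⟨hyW, fun c hc => ?_⟩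
        exact ((Subgroup.mem_centralizer_iff.mp hyN) c hc).symm
      have hy2 := hB' y hycen
      have hyc : y ∈ Subgroup.center G := by
        rw [Subgroup.mem_center_iff]
        intro g
        exact (hcen y hy2 g).symm
      apply hj1
      rw [← hyq']
      exact (QuotientGroup.eq_one_iff y).mpr hyc
    exact center_sq hS hG hna (hNcen _ hsqN)

/-- squares are central. -/
theorem sq_mem_center (g : G) : g * g ∈ Subgroup.center G := by
  rw [Subgroup.mem_center_iff]
  intro x
  exact (central_of_sq_eq_one hS hG (pow_four_of_nonabelian hS hG hF hna g) x).symm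

/-- commutators are central. -/
theorem cm_mem_center (x y : G) : x⁻¹ * y⁻¹ * x * y ∈ Subgroup.center G := by
  have h1 := sq_mem_center hS hG hF hna (x⁻¹ * y⁻¹)
  have h2 := sq_mem_center hS hG hF hna x
  have h3 := sq_mem_center hS hG hF hna y
  have h4 : x⁻¹ * y⁻¹ * x * y = ((x⁻¹ * y⁻¹) * (x⁻¹ * y⁻¹)) * (y * (x * x) * y) := by group
  have h5 : y * (x * x) * y = (x * x) * (y * y) := by
    rw [(Subgroup.mem_center_iff.mp h2) y]
    group
  rw [h4, h5]
  exact Subgroup.mul_mem _ h1 (Subgroup.mul_mem _ h2 h3)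

end main

end Cfsg.Agent.Helper65.Suz
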