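import Cfsg.Agent.Helper65.Suzuki18

/-!
# Suzuki 2-groups, part 19: Higman's lemma for `Cfsg.IsSuzukiTwoGroup`

Squares and commutators are central, the exponent is four.
-/

set_option autoImplicit false

namespace Cfsg.Agent.Helper65.Suz

variable {P : Type*} [Group P]

/-- the freeness data from regularity. -/
theorem suzFree_of_regular [Finite P] (hG : IsPGroup 2 P) (K : Subgroup (MulAut P))
    (hreg : ∀ x y : P, x ≠ 1 → x * x = 1 → y ≠ 1 → y * y = 1 → ∃! k : K, (k : MulAut P) x = y)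
    (htwo : ∃ x y : P, x ≠ y ∧ x ≠ 1 ∧ x * x = 1 ∧ y ≠ 1 ∧ y * y = 1) : SuzFree P K := by
  obtain ⟨x₀, y₀, hxy, hx₀, hx₀2, hy₀, hy₀2⟩ := htwo
  refine ⟨?_, odd_card_of_regular hG K hreg hx₀ hx₀2, ?_⟩
  · intro k hk x hx hkx
    obtain ⟨j, hj1, hj2⟩ := exists_involution_pow hG hx
    obtain ⟨k₀, _, huniq⟩ := hreg _ _ hj1 hj2 hj1 hj2
    have h1 : (⟨k, hk⟩ : K) = k₀ := huniq ⟨k, hk⟩ (by
      show k (x ^ 2 ^ j) = x ^ 2 ^ j
      rw [map_pow, hkx])
    have h2 : (1 : K) = k₀ := huniq 1 (by simp)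
    have h3 : (⟨k, hk⟩ : K) = 1 := h1.trans h2.symm
    exact congrArg Subtype.val h3
  · obtain ⟨k, hk, _⟩ := hreg x₀ y₀ hx₀ hx₀2 hy₀ hy₀2
    have hk1 : k ≠ 1 := by
      intro h
      rw [h] at hk
      apply hxy
      simpa using hk
    haveI : Nontrivial K := ⟨⟨k, 1, hk1⟩⟩
    exact Finite.one_lt_card

/-- the working hypotheses, with freeness, from `Cfsg.IsSuzukiTwoGroup`. -/
theorem exists_suzAct_free (hP : Cfsg.IsSuzukiTwoGroup P) :
    ∃ K : Subgroup (MulAut P), SuzAct P K ∧ SuzFree P K ∧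
      ∀ x y : P, x ≠ 1 → x * x = 1 → y ≠ 1 → y * y = 1 → ∃! k : K, (k : MulAut P) x = y := by
  obtain ⟨K, hS, _, hreg⟩ := exists_suzAct hP
  obtain ⟨hfin, hG, _, htwo, _⟩ := hP
  haveI := hfin
  exact ⟨K, hS, suzFree_of_regular hG K hreg htwo, hreg⟩

/-- **Higman's lemma**: in a Suzuki 2-group, fourth powers are trivial. -/
theorem higman_pow_four (hP : Cfsg.IsSuzukiTwoGroup P) (g : P) : (g * g) * (g * g) = 1 := by
  obtain ⟨K, hS, hF, _⟩ := exists_suzAct_free hP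
  obtain ⟨hfin, hG, hna, _, _⟩ := hP
  haveI := hfin
  exact pow_four_of_nonabelian hS hG hF hna g

/-- **Higman's lemma**: in a Suzuki 2-group, squares are central. -/
theorem higman_sq (hP : Cfsg.IsSuzukiTwoGroup P) (g : P) : g * g ∈ Subgroup.center P := by
  obtain ⟨K, hS, hF, _⟩ := exists_suzAct_free hP
  obtain ⟨hfin, hG, hna, _, _⟩ := hP
  haveI := hfin
  exact sq_mem_center hS hG hF hna g

/-- **Higman's lemma**: in a Suzuki 2-group, commutators are central. -/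
theorem higman_cm (hP : Cfsg.IsSuzukiTwoGroup P) (x y : P) :
    x⁻¹ * y⁻¹ * x * y ∈ Subgroup.center P := by
  obtain ⟨K, hS, hF, _⟩ := exists_suzAct_free hP
  obtain ⟨hfin, hG, hna, _, _⟩ := hP
  haveI := hfin
  exact cm_mem_center hS hG hF hna x y

/-- in a Suzuki 2-group, involutions are central. -/
theorem higman_inv (hP : Cfsg.IsSuzukiTwoGroup P) {x : P} (hx : x * x = 1) :
    x ∈ Subgroup.center P := by
  obtain ⟨K, hS, _, _⟩ := exists_suzAct_free hP
  obtain ⟨hfin, hG, _, _, _⟩ := hP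
  haveI := hfin
  rw [Subgroup.mem_center_iff]
  intro g
  exact (central_of_sq_eq_one hS hG hx g).symm

/-- in a Suzuki 2-group, the centre is elementary abelian. -/
theorem higman_center_sq (hP : Cfsg.IsSuzukiTwoGroup P) {z : P} (hz : z ∈ Subgroup.center P) :
    z * z = 1 := by
  obtain ⟨K, hS, _, _⟩ := exists_suzAct_free hP
  obtain ⟨hfin, hG, hna, _, _⟩ := hP
  haveI := hfin
  exact center_sq hS hG hna hz

end Cfsg.Agent.Helper65.Suz
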