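import Cfsg.Agent.Helper65.Suzuki1

/-!
# Suzuki 2-groups, part 2: abelian `K`-invariant subgroups are homocyclic

For an abelian `K`-invariant subgroup `B` of exponent `2 ^ (e + 1)`: every involution is a
`2 ^ e`-th power, and every element killed by `2 ^ l` is a `2 ^ (e + 1 - l)`-th power.
-/

set_option autoImplicit false

namespace Cfsg.Agent.Helper65.Suz

variable {G : Type*} [Group G] {K : Subgroup (MulAut G)}

/-- powers of a product of commuting elements. -/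
theorem mul_pow_of_comm {x y : G} (h : x * y = y * x) (n : ℕ) : (x * y) ^ n = x ^ n * y ^ n :=
  (Commute.mul_pow (show Commute x y from h) n)

/-- every involution is a `2 ^ e`-th power in `B`. -/
theorem exists_pow_eq_involution (hS : SuzAct G K) {B : Subgroup G} (hB : KInv K B)
    (e : ℕ) {w : G} (hw : w ∈ B) (hw1 : w ^ 2 ^ (e + 1) = 1) (hw' : w ^ 2 ^ e ≠ 1)
    {z : G} (hz : z * z = 1) : ∃ x ∈ B, x ^ 2 ^ e = z := by
  by_cases hz1 : z = 1
  · exact ⟨1, B.one_mem, by rw [one_pow, hz1]⟩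
  have h2 : w ^ 2 ^ e * w ^ 2 ^ e = 1 := by
    rw [← pow_add, ← two_mul, ← pow_succ']
    exact hw1
  obtain ⟨k, hk, hkz⟩ := hS.trans _ z hw' h2 hz1 hz
  refine ⟨k w, hB k hk w hw, ?_⟩
  rw [← map_pow, hkz]

/-- every element of `B` killed by `2 ^ l` is a `2 ^ (e + 1 - l)`-th power in `B`. -/
theorem exists_pow_eq_of_pow_eq_one (hS : SuzAct G K) {B : Subgroup G} (hB : KInv K B)
    (hBc : ∀ x ∈ B, ∀ y ∈ B, x * y = y * x)
    (e : ℕ) {w : G} (hw : w ∈ B) (hw1 : w ^ 2 ^ (e + 1) = 1) (hw' : w ^ 2 ^ e ≠ 1) :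
    ∀ l : ℕ, l ≤ e + 1 → ∀ x ∈ B, x ^ 2 ^ l = 1 → ∃ y ∈ B, y ^ 2 ^ (e + 1 - l) = x := by
  intro l
  induction l with
  | zero =>
    intro _ x _ hx1
    rw [pow_zero, pow_one] at hx1
    exact ⟨1, B.one_mem, by rw [one_pow, hx1]⟩
  | succ l ih =>
    intro hl x hx hx1
    have hz : x ^ 2 ^ l * x ^ 2 ^ l = 1 := by
      rw [← pow_add, ← two_mul, ← pow_succ']
      exact hx1
    obtain ⟨v, hv, hvz⟩ := exists_pow_eq_involution hS hB e hw hw1 hw' hz
    have hv' : (v ^ 2 ^ (e - l)) ^ 2 ^ l = x ^ 2 ^ l := by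
      rw [← pow_mul, ← pow_add]
      have : e - l + l = e := by omega
      rw [this, hvz]
    have hvB : v ^ 2 ^ (e - l) ∈ B := B.pow_mem hv _
    have hx' : (x * (v ^ 2 ^ (e - l))⁻¹) ^ 2 ^ l = 1 := by
      rw [mul_pow_of_comm (hBc _ hx _ (B.inv_mem hvB)), inv_pow, hv', mul_inv_cancel]
    obtain ⟨y', hy', hy'x⟩ := ih (by omega) _ (B.mul_mem hx (B.inv_mem hvB)) hx'
    refine ⟨y' ^ 2 * v, B.mul_mem (B.pow_mem hy' _) hv, ?_⟩
    have he : e + 1 - (l + 1) = e - l := by omega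
    rw [he, mul_pow_of_comm (hBc _ (B.pow_mem hy' _) _ hv), ← pow_mul, ← pow_succ']
    have he2 : e - l + 1 = e + 1 - l := by omega
    rw [he2, hy'x]
    group

end Cfsg.Agent.Helper65.Suz
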