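import Mathlib

/-!
# Suzuki 2-groups, part 20: a quadratic map over `ZMod 2` without non-trivial zeros

By Chevalley–Warning, `dim V ≤ 2 dim W`.
-/

set_option autoImplicit false

namespace Cfsg.Agent.Helper65.Suz

theorem zmod_two_cases (a : ZMod 2) : a = 0 ∨ a = 1 := by
  revert a; decide

theorem finrank_le_of_quadratic {V W : Type*} [AddCommGroup V] [Module (ZMod 2) V] [Finite V]
    [AddCommGroup W] [Module (ZMod 2) W] [Finite W]
    (s : V → W) (β : V → V → W)
    (hs : ∀ x y, s (x + y) = s x + s y + β x y)
    (hβl : ∀ x y z, β (x + y) z = β x z + β y z)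
    (hβr : ∀ x y z, β x (y + z) = β x y + β x z)
    (hs0 : ∀ x, s x = 0 → x = 0) :
    Module.finrank (ZMod 2) V ≤ 2 * Module.finrank (ZMod 2) W := by
  classical
  by_contra hlt
  rw [not_le] at hlt
  have hβ0l : ∀ y, β 0 y = 0 := by
    intro y
    have h := hβl 0 0 y
    rw [add_zero] at h
    exact left_eq_add.mp h
  have hβ0r : ∀ x, β x 0 = 0 := by
    intro x
    have h := hβr x 0 0
    rw [add_zero] at h
    exact left_eq_add.mp h
  have hs00 : s 0 = 0 := by
    have h := hs 0 0
    rw [add_zero, hβ0l, add_zero] at h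
    exact left_eq_add.mp h
  have hsmul : ∀ (a : ZMod 2) (x : V), s (a • x) = (a * a) • s x := by
    intro a x
    rcases zmod_two_cases a with rfl | rfl
    · simp [hs00]
    · simp
  let Bl : V →ₗ[ZMod 2] V →ₗ[ZMod 2] W := LinearMap.mk₂ (ZMod 2) β hβl
    (by
      intro a x y
      rcases zmod_two_cases a with rfl | rfl
      · simp [hβ0l]
      · simp)
    hβr
    (by
      intro a x y
      rcases zmod_two_cases a with rfl | rfl
      · simp [hβ0r]
      · simp)
  let Qm : QuadraticMap (ZMod 2) V W :=
    { toFun := s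
      toFun_smul := hsmul
      exists_companion' := ⟨Bl, fun x y => hs x y⟩ }
  let b := Module.finBasis (ZMod 2) V
  let bW := Module.finBasis (ZMod 2) W
  let γ := Qm.toBilin b
  have hγ : ∀ x, γ x x = s x := by
    intro x
    have h := QuadraticMap.toQuadraticMap_toBilin Qm b
    have h2 : ((Qm.toBilin b).toQuadraticMap) x = Qm x := by rw [h]
    rw [LinearMap.BilinMap.toQuadraticMap_apply] at h2
    exact h2
  set m := Module.finrank (ZMod 2) V with hm
  set n := Module.finrank (ZMod 2) W with hn
  let P : Fin n → MvPolynomial (Fin m) (ZMod 2) := fun l =>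
    ∑ i, ∑ j, MvPolynomial.C (bW.repr (γ (b i) (b j)) l) * MvPolynomial.X i * MvPolynomial.X j
  have hdeg : ∀ l, (P l).totalDegree ≤ 2 := by
    intro l
    apply (MvPolynomial.totalDegree_finsetSum _ _).trans
    apply Finset.sup_le
    intro i _
    apply (MvPolynomial.totalDegree_finsetSum _ _).trans
    apply Finset.sup_le
    intro j _
    apply (MvPolynomial.totalDegree_mul _ _).trans
    have h1 := MvPolynomial.totalDegree_mul (MvPolynomial.C (bW.repr (γ (b i) (b j)) l))
      (MvPolynomial.X i : MvPolynomial (Fin m) (ZMod 2))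
    rw [MvPolynomial.totalDegree_C, MvPolynomial.totalDegree_X, zero_add] at h1
    rw [MvPolynomial.totalDegree_X]
    omega
  have heval : ∀ (ε : Fin m → ZMod 2) (l : Fin n),
      MvPolynomial.eval ε (P l) = bW.repr (s (∑ i, ε i • b i)) l := by
    intro ε l
    have e1 : γ (∑ i, ε i • b i) (∑ j, ε j • b j) = ∑ i, ∑ j, (ε i * ε j) • γ (b i) (b j) := by
      rw [map_sum, Finset.sum_comm]
      apply Finset.sum_congr rfl
      intro j _
      rw [map_smul, map_sum, LinearMap.sum_apply, Finset.smul_sum]
      apply Finset.sum_congr rfl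
      intro i _
      rw [map_smul, LinearMap.smul_apply, smul_smul, mul_comm]
    rw [← hγ, e1]
    simp only [P, map_sum, map_smul, MvPolynomial.eval_mul, MvPolynomial.eval_C,
      MvPolynomial.eval_X, Finsupp.coe_finsetSum, Finset.sum_apply, Finsupp.coe_smul,
      Pi.smul_apply, smul_eq_mul]
    apply Finset.sum_congr rfl
    intro i _
    apply Finset.sum_congr rfl
    intro j _
    ring
  have hsum : ∑ l ∈ (Finset.univ : Finset (Fin n)), (P l).totalDegree < Fintype.card (Fin m) := by
    rw [Fintype.card_fin]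
    calc ∑ l ∈ (Finset.univ : Finset (Fin n)), (P l).totalDegree
        ≤ ∑ _l ∈ (Finset.univ : Finset (Fin n)), 2 := Finset.sum_le_sum (fun l _ => hdeg l)
      _ = 2 * n := by simp [mul_comm]
      _ < m := hlt
  have hCW := char_dvd_card_solutions_of_sum_lt 2 hsum
  have hcard : Nat.card {x : Fin m → ZMod 2 //
      ∀ i ∈ (Finset.univ : Finset (Fin n)), MvPolynomial.eval x (P i) = 0} = 1 := by
    rw [Nat.card_eq_one_iff_exists]
    refine ⟨⟨0, fun l _ => ?_⟩, ?_⟩
    · rw [heval]
      simp [hs00]
    · rintro ⟨ε, hε⟩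
      apply Subtype.ext
      show ε = 0
      have h1 : bW.repr (s (∑ i, ε i • b i)) = 0 := by
        ext l
        rw [← heval]
        exact hε l (Finset.mem_univ l)
      have h2 : s (∑ i, ε i • b i) = 0 := by
        have := congrArg bW.repr.symm h1
        simpa using this
      have h3 := hs0 _ h2
      have h4 : b.repr (∑ i, ε i • b i) = 0 := by rw [h3, map_zero]
      have h5 := b.repr_sum_self ε
      rw [h4] at h5
      exact h5.symm
  rw [Fintype.card_eq_nat_card, hcard] at hCW
  exact absurd hCW (by norm_num)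

end Cfsg.Agent.Helper65.Suz
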