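import Cfsg.Agent.Helper65.Suzuki19
import Cfsg.Agent.Helper65.Suzuki20

/-!
# Suzuki 2-groups, part 21: `|P / Z(P)| ≤ |Z(P)| ^ 2`
-/

set_option autoImplicit false

namespace Cfsg.Agent.Helper65.Suz

variable {P : Type*} [Group P]

section quot

variable (hsq : ∀ g : P, g * g ∈ Subgroup.center P)
  (hcm : ∀ x y : P, x⁻¹ * y⁻¹ * x * y ∈ Subgroup.center P)
  (hinv : ∀ x : P, x * x = 1 → x ∈ Subgroup.center P)
  (hcsq : ∀ z ∈ Subgroup.center P, z * z = 1)

include hcsq in
theorem out_sq (x : P) :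
    ((x : P ⧸ Subgroup.center P).out) * ((x : P ⧸ Subgroup.center P).out) = x * x := by
  obtain ⟨z, hz⟩ := QuotientGroup.mk_out_eq_mul (Subgroup.center P) x
  rw [hz]
  have hzc := Subgroup.mem_center_iff.mp z.2
  have hz2 := hcsq z.1 z.2
  calc x * ↑z * (x * ↑z) = x * (↑z * x) * ↑z := by group
    _ = x * (x * ↑z) * ↑z := by rw [hzc x]
    _ = x * x * (↑z * ↑z) := by group
    _ = x * x := by rw [hz2, mul_one]

theorem out_cm (x y : P) :
    cm ((y : P ⧸ Subgroup.center P).out) ((x : P ⧸ Subgroup.center P).out) = cm y x := by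
  obtain ⟨z, hz⟩ := QuotientGroup.mk_out_eq_mul (Subgroup.center P) x
  obtain ⟨z', hz'⟩ := QuotientGroup.mk_out_eq_mul (Subgroup.center P) y
  rw [hz, hz']
  have hzc := Subgroup.mem_center_iff.mp z.2
  have hzc' := Subgroup.mem_center_iff.mp z'.2
  unfold cm
  have h1 : (y * ↑z')⁻¹ = y⁻¹ * (↑z')⁻¹ := by
    rw [mul_inv_rev]
    have := hzc' y⁻¹
    calc (↑z' : P)⁻¹ * y⁻¹ = (↑z')⁻¹ * (y⁻¹ * ↑z') * (↑z')⁻¹ := by group
      _ = (↑z')⁻¹ * (↑z' * y⁻¹) * (↑z')⁻¹ := by rw [this]
      _ = y⁻¹ * (↑z')⁻¹ := by group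
  have h2 : (x * ↑z)⁻¹ = x⁻¹ * (↑z)⁻¹ := by
    rw [mul_inv_rev]
    have := hzc x⁻¹
    calc (↑z : P)⁻¹ * x⁻¹ = (↑z)⁻¹ * (x⁻¹ * ↑z) * (↑z)⁻¹ := by group
      _ = (↑z)⁻¹ * (↑z * x⁻¹) * (↑z)⁻¹ := by rw [this]
      _ = x⁻¹ * (↑z)⁻¹ := by group
  rw [h1, h2]
  have e1 : ∀ g : P, (↑z : P) * g = g * ↑z := fun g => (hzc g).symm
  have e2 : ∀ g : P, (↑z' : P) * g = g * ↑z' := fun g => (hzc' g).symm
  have e3 : ∀ g : P, (↑z : P)⁻¹ * g = g * (↑z)⁻¹ := by
    intro g
    calc (↑z : P)⁻¹ * g = (↑z)⁻¹ * (g * ↑z) * (↑z)⁻¹ := by group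
      _ = (↑z)⁻¹ * (↑z * g) * (↑z)⁻¹ := by rw [e1 g]
      _ = g * (↑z)⁻¹ := by group
  have e4 : ∀ g : P, (↑z' : P)⁻¹ * g = g * (↑z')⁻¹ := by
    intro g
    calc (↑z' : P)⁻¹ * g = (↑z')⁻¹ * (g * ↑z') * (↑z')⁻¹ := by group
      _ = (↑z')⁻¹ * (↑z' * g) * (↑z')⁻¹ := by rw [e2 g]
      _ = g * (↑z')⁻¹ := by group
  calc y⁻¹ * (↑z')⁻¹ * (x⁻¹ * (↑z)⁻¹) * (y * ↑z') * (x * ↑z)
      = y⁻¹ * ((↑z')⁻¹ * (x⁻¹ * (↑z)⁻¹ * y)) * ↑z' * x * ↑z := by group
    _ = y⁻¹ * ((x⁻¹ * (↑z)⁻¹ * y) * (↑z')⁻¹) * ↑z' * x * ↑z := by rw [e4]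
    _ = y⁻¹ * x⁻¹ * ((↑z)⁻¹ * (y * x)) * ↑z := by group
    _ = y⁻¹ * x⁻¹ * ((y * x) * (↑z)⁻¹) * ↑z := by rw [e3]
    _ = y⁻¹ * x⁻¹ * y * x := by group

/-- the squaring map on `P / Z(P)`. -/
noncomputable def sqQ (q : P ⧸ Subgroup.center P) : Subgroup.center P :=
  ⟨q.out * q.out, hsq q.out⟩

/-- the commutator map on `P / Z(P)`. -/
noncomputable def cmQ (q q' : P ⧸ Subgroup.center P) : Subgroup.center P :=
  ⟨cm q'.out q.out, hcm q'.out q.out⟩

include hcsq in
theorem sqQ_mk (x : P) : sqQ hsq (x : P ⧸ Subgroup.center P) = ⟨x * x, hsq x⟩ :=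
  Subtype.ext (out_sq hcsq x)

theorem cmQ_mk (x y : P) :
    cmQ hcm (x : P ⧸ Subgroup.center P) (y : P ⧸ Subgroup.center P) = ⟨cm y x, hcm y x⟩ :=
  Subtype.ext (out_cm x y)

include hcsq in
theorem sqQ_mul (q q' : P ⧸ Subgroup.center P) :
    sqQ hsq (q * q') = sqQ hsq q * sqQ hsq q' * cmQ hcm q q' := by
  induction q using QuotientGroup.induction_on with
  | H x =>
    induction q' using QuotientGroup.induction_on with
    | H y =>
      rw [← QuotientGroup.mk_mul, sqQ_mk hsq hcsq, sqQ_mk hsq hcsq, sqQ_mk hsq hcsq, cmQ_mk hcm]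
      apply Subtype.ext
      show (x * y) * (x * y) = x * x * (y * y) * cm y x
      have hc := Subgroup.mem_center_iff.mp (hcm y x) y
      have h1 : x⁻¹ * y * x = y * cm y x := conj_eq_mul_cm y x
      calc (x * y) * (x * y) = x * x * (x⁻¹ * y * x) * y := by group
        _ = x * x * (y * cm y x) * y := by rw [h1]
        _ = x * x * y * (cm y x * y) := by group
        _ = x * x * y * (y * cm y x) := by
            have : cm y x * y = y * cm y x := by unfold cm; exact hc.symm
            rw [this]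
        _ = x * x * (y * y) * cm y x := by group

theorem cmQ_mul_left (q₁ q₂ q₃ : P ⧸ Subgroup.center P) :
    cmQ hcm (q₁ * q₂) q₃ = cmQ hcm q₁ q₃ * cmQ hcm q₂ q₃ := by
  induction q₁ using QuotientGroup.induction_on with
  | H x =>
    induction q₂ using QuotientGroup.induction_on with
    | H y =>
      induction q₃ using QuotientGroup.induction_on with
      | H z =>
        rw [← QuotientGroup.mk_mul, cmQ_mk hcm, cmQ_mk hcm, cmQ_mk hcm]
        apply Subtype.ext
        show cm z (x * y) = cm z x * cm z y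
        rw [cm_mul_right]
        have hc : ∀ g : P, cm z x * g = g * cm z x := fun g =>
          (Subgroup.mem_center_iff.mp (hcm z x) g).symm
        calc cm z y * y⁻¹ * cm z x * y = cm z y * y⁻¹ * (cm z x * y) := by group
          _ = cm z y * y⁻¹ * (y * cm z x) := by rw [hc]
          _ = cm z y * cm z x := by group
          _ = cm z x * cm z y := (hc _).symm

theorem cmQ_mul_right (q₁ q₂ q₃ : P ⧸ Subgroup.center P) :
    cmQ hcm q₁ (q₂ * q₃) = cmQ hcm q₁ q₂ * cmQ hcm q₁ q₃ := by
  induction q₁ using QuotientGroup.induction_on with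
  | H x =>
    induction q₂ using QuotientGroup.induction_on with
    | H y =>
      induction q₃ using QuotientGroup.induction_on with
      | H z =>
        rw [← QuotientGroup.mk_mul, cmQ_mk hcm, cmQ_mk hcm, cmQ_mk hcm]
        apply Subtype.ext
        show cm (y * z) x = cm y x * cm z x
        rw [cm_mul_left]
        have hc : ∀ g : P, cm y x * g = g * cm y x := fun g =>
          (Subgroup.mem_center_iff.mp (hcm y x) g).symm
        calc z⁻¹ * cm y x * z * cm z x = z⁻¹ * (cm y x * z) * cm z x := by group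
          _ = z⁻¹ * (z * cm y x) * cm z x := by rw [hc]
          _ = cm y x * cm z x := by group

include hinv hcsq in
theorem sqQ_eq_one (q : P ⧸ Subgroup.center P) (h : sqQ hsq q = 1) : q = 1 := by
  induction q using QuotientGroup.induction_on with
  | H x =>
    rw [sqQ_mk hsq hcsq] at h
    have h1 : x * x = 1 := congrArg Subtype.val h
    exact (QuotientGroup.eq_one_iff x).mpr (hinv x h1)

include hsq hcm hinv hcsq in
/-- **The order bound**, by Chevalley–Warning. -/
theorem card_quot_le [Finite P] :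
    Nat.card (P ⧸ Subgroup.center P) ≤ Nat.card (Subgroup.center P) ^ 2 := by
  classical
  have hQsq : ∀ q : P ⧸ Subgroup.center P, q * q = 1 := by
    intro q
    induction q using QuotientGroup.induction_on with
    | H x =>
      rw [← QuotientGroup.mk_mul]
      exact (QuotientGroup.eq_one_iff _).mpr (hsq x)
  letI : CommGroup (P ⧸ Subgroup.center P) :=
    { (inferInstance : Group (P ⧸ Subgroup.center P)) with
      mul_comm := by
        intro a b
        have h1 := hQsq (a * b)
        have h2 := hQsq a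
        have h3 := hQsq b
        calc a * b = a * (a * b * (a * b)) * b := by rw [h1, mul_one]
          _ = (a * a) * (b * a) * (b * b) := by group
          _ = b * a := by rw [h2, h3, one_mul, mul_one] }
  letI : Module (ZMod 2) (Additive (P ⧸ Subgroup.center P)) :=
    AddCommGroup.zmodModule (n := 2) (by
      intro x
      rw [two_nsmul]
      exact congrArg Additive.ofMul (hQsq (Additive.toMul x)))
  letI : CommGroup (Subgroup.center P) :=
    { (inferInstance : Group (Subgroup.center P)) with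
      mul_comm := fun a b => Subtype.ext ((Subgroup.mem_center_iff.mp a.2 b.1).symm) }
  letI : Module (ZMod 2) (Additive (Subgroup.center P)) :=
    AddCommGroup.zmodModule (n := 2) (by
      intro x
      rw [two_nsmul]
      have : Additive.toMul x * Additive.toMul x = 1 :=
        Subtype.ext (hcsq (Additive.toMul x).1 (Additive.toMul x).2)
      exact congrArg Additive.ofMul this)
  have key := finrank_le_of_quadratic (V := Additive (P ⧸ Subgroup.center P))
    (W := Additive (Subgroup.center P))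
    (fun a => Additive.ofMul (sqQ hsq (Additive.toMul a)))
    (fun a b => Additive.ofMul (cmQ hcm (Additive.toMul a) (Additive.toMul b)))
    (fun a b => congrArg Additive.ofMul (sqQ_mul hsq hcm hcsq (Additive.toMul a) (Additive.toMul b)))
    (fun a b c => congrArg Additive.ofMul
      (cmQ_mul_left hcm (Additive.toMul a) (Additive.toMul b) (Additive.toMul c)))
    (fun a b c => congrArg Additive.ofMul
      (cmQ_mul_right hcm (Additive.toMul a) (Additive.toMul b) (Additive.toMul c)))
    (fun a h => congrArg Additive.ofMul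
      (sqQ_eq_one hsq hinv hcsq (Additive.toMul a) (congrArg Additive.toMul h)))
  have h1 := Module.natCard_eq_pow_finrank (K := ZMod 2) (V := Additive (P ⧸ Subgroup.center P))
  have h2 := Module.natCard_eq_pow_finrank (K := ZMod 2) (V := Additive (Subgroup.center P))
  rw [Nat.card_zmod] at h1 h2
  have h3 : Nat.card (P ⧸ Subgroup.center P) = Nat.card (Additive (P ⧸ Subgroup.center P)) := rfl
  have h4 : Nat.card (Subgroup.center P) = Nat.card (Additive (Subgroup.center P)) := rfl
  rw [h3, h4, h1, h2, ← pow_mul]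
  exact Nat.pow_le_pow_right (by norm_num) (by rw [mul_comm]; exact key)

end quot

end Cfsg.Agent.Helper65.Suz
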