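import Cfsg.Agent.Helper65.Suzuki21

/-!
# Suzuki 2-groups, part 22: the order is `q ^ 2` or `q ^ 3`
-/

set_option autoImplicit false

namespace Cfsg.Agent.Helper65.Suz

variable {P : Type*} [Group P]

/-- `|K| + 1 = |Z(P)|` for a group `K` regular on the involutions, when the centre consists of
the elements of order at most two. -/
theorem card_add_one_eq_card_center [Finite P] (K : Subgroup (MulAut P))
    (hreg : ∀ x y : P, x ≠ 1 → x * x = 1 → y ≠ 1 → y * y = 1 → ∃! k : K, (k : MulAut P) x = y)
    (hinv : ∀ x : P, x * x = 1 → x ∈ Subgroup.center P)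
    (hcsq : ∀ z ∈ Subgroup.center P, z * z = 1)
    {x₀ : P} (hx₀ : x₀ ≠ 1) (hx₀2 : x₀ * x₀ = 1) :
    Nat.card K + 1 = Nat.card (Subgroup.center P) := by
  classical
  let f : Option K → Subgroup.center P := fun o =>
    match o with
    | none => 1
    | some k => ⟨(k : MulAut P) x₀, hinv _ (by rw [← map_mul, hx₀2, map_one])⟩
  have hf : Function.Bijective f := by
    constructor
    · intro a b hab
      match a, b with
      | none, none => rfl
      | none, some k =>
        exfalso
        have h1 : (1 : P) = (k : MulAut P) x₀ := congrArg Subtype.val hab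
        have : (k : MulAut P) x₀ = (k : MulAut P) 1 := by rw [map_one, ← h1]
        exact hx₀ ((k : MulAut P).injective this)
      | some k, none =>
        exfalso
        have h1 : (k : MulAut P) x₀ = (1 : P) := congrArg Subtype.val hab
        have : (k : MulAut P) x₀ = (k : MulAut P) 1 := by rw [map_one, h1]
        exact hx₀ ((k : MulAut P).injective this)
      | some k, some k' =>
        have h1 : (k : MulAut P) x₀ = (k' : MulAut P) x₀ := congrArg Subtype.val hab
        have hk'1 : (k' : MulAut P) x₀ ≠ 1 := by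
          intro h
          have : (k' : MulAut P) x₀ = (k' : MulAut P) 1 := by rw [map_one, h]
          exact hx₀ ((k' : MulAut P).injective this)
        have hk'2 : (k' : MulAut P) x₀ * (k' : MulAut P) x₀ = 1 := by
          rw [← map_mul, hx₀2, map_one]
        obtain ⟨k₀, _, huniq⟩ := hreg x₀ _ hx₀ hx₀2 hk'1 hk'2
        rw [huniq k h1, huniq k' rfl]
    · rintro ⟨z, hz⟩
      have hz' : z * z = 1 := hcsq z hz
      by_cases hz1 : z = 1
      · exact ⟨none, Subtype.ext hz1.symm⟩
      · obtain ⟨k, hk, _⟩ := hreg x₀ z hx₀ hx₀2 hz1 hz'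
        exact ⟨some k, Subtype.ext hk⟩
  rw [← Finite.card_option]
  exact Nat.card_eq_of_bijective f hf

/-- the arithmetic. -/
theorem card_arith {n m N : ℕ} (hn : 1 ≤ n) (hm1 : 1 ≤ m) (hm2 : 2 ^ m ≤ (2 ^ n) ^ 2)
    (hN : N = 2 ^ m * 2 ^ n) (hdvd : 2 ^ n - 1 ∣ N - 1) :
    N = (2 ^ n) ^ 2 ∨ N = (2 ^ n) ^ 3 := by
  have h1 : N = 2 ^ (m + n) := by rw [hN, pow_add]
  rw [h1] at hdvd
  have h2 : Nat.gcd (2 ^ n - 1) (2 ^ (m + n) - 1) = 2 ^ n - 1 := Nat.gcd_eq_left hdvd
  rw [Nat.pow_sub_one_gcd_pow_sub_one] at h2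
  have h3 : 2 ^ Nat.gcd n (m + n) = 2 ^ n := by
    have := Nat.one_le_two_pow (n := Nat.gcd n (m + n))
    have := Nat.one_le_two_pow (n := n)
    omega
  have h4 : Nat.gcd n (m + n) = n := Nat.pow_right_injective (le_refl 2) h3
  have h5 : n ∣ m + n := by
    have := Nat.gcd_dvd_right n (m + n)
    rwa [h4] at this
  have h6 : n ∣ m := (Nat.dvd_add_left (dvd_refl n)).mp h5
  have h7 : m ≤ 2 * n := by
    rw [← pow_mul] at hm2
    have := (Nat.pow_le_pow_iff_right (by norm_num : 1 < 2)).mp hm2
    omega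
  obtain ⟨t, ht⟩ := h6
  have ht1 : t = 1 ∨ t = 2 := by
    have h8 : 1 ≤ t := by
      rcases Nat.eq_zero_or_pos t with h0 | hpos
      · rw [h0, mul_zero] at ht; omega
      · exact hpos
    have h9 : t ≤ 2 := by
      by_contra hgt
      have : 3 ≤ t := by omega
      have : n * 3 ≤ n * t := Nat.mul_le_mul_left n this
      omega
    omega
  rcases ht1 with rfl | rfl
  · left
    rw [h1, ht, ← pow_mul]
    congr 1 <;> ring
  · right
    rw [h1, ht, ← pow_mul]
    congr 1 <;> ring

/-- **Higman**: the order of a Suzuki 2-group is `q ^ 2` or `q ^ 3`, `q = |Z(P)|`. -/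
theorem higman_card (hP : Cfsg.IsSuzukiTwoGroup P) :
    Nat.card P = Nat.card (Subgroup.center P) ^ 2 ∨
      Nat.card P = Nat.card (Subgroup.center P) ^ 3 := by
  classical
  obtain ⟨K, hS, hF, hreg⟩ := exists_suzAct_free hP
  have hsq := higman_sq hP
  have hcm := higman_cm hP
  have hinv : ∀ x : P, x * x = 1 → x ∈ Subgroup.center P := fun x hx => higman_inv hP hx
  have hcsq : ∀ z ∈ Subgroup.center P, z * z = 1 := fun z hz => higman_center_sq hP hz
  obtain ⟨hfin, hG, ⟨a, b, hab⟩, ⟨x₀, _, _, hx₀, hx₀2, _, _⟩, _⟩ := hP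
  haveI := hfin
  haveI : Fact (Nat.Prime 2) := ⟨Nat.prime_two⟩
  have hKZ := card_add_one_eq_card_center K hreg hinv hcsq hx₀ hx₀2
  have hle := card_quot_le hsq hcm hinv hcsq
  have hmul := Subgroup.card_eq_card_quotient_mul_card_subgroup (Subgroup.center P)
  obtain ⟨n, hn⟩ := (IsPGroup.iff_card).mp (hG.to_subgroup (Subgroup.center P))
  obtain ⟨m, hm⟩ := (IsPGroup.iff_card).mp (hG.to_quotient (Subgroup.center P))
  -- free action on the non-identity elements
  have hdvd : Nat.card K ∣ Nat.card P - 1 := by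
    have h1 := card_dvd_of_free K {x : P | x ≠ 1}
      (by
        intro k _ x hx h
        apply hx
        have : (k : MulAut P) x = (k : MulAut P) 1 := by rw [map_one, h]
        exact (k : MulAut P).injective this)
      (by
        intro k hk x hx hkx
        exact hF.free k hk x hx hkx)
    have h2 : Nat.card {x : P | x ≠ 1} = Nat.card P - 1 := by
      have h3 : {x : P | x ≠ 1} = ({1} : Set P)ᶜ := by
        ext x; simp
      rw [h3, Nat.card_coe_set_eq, Set.ncard_compl, Set.ncard_singleton]
    rwa [h2] at h1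
  have hn1 : 1 ≤ n := by
    rcases Nat.eq_zero_or_pos n with h0 | hpos
    · exfalso
      rw [h0, pow_zero] at hn
      have := hF.one_lt
      omega
    · exact hpos
  have hm1 : 1 ≤ m := by
    rcases Nat.eq_zero_or_pos m with h0 | hpos
    · exfalso
      rw [h0, pow_zero] at hm
      have hidx : (Subgroup.center P).index = 1 := hm
      have htop : Subgroup.center P = ⊤ := Subgroup.index_eq_one.mp hidx
      apply hab
      have ha : a ∈ Subgroup.center P := by rw [htop]; exact Subgroup.mem_top a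
      exact (Subgroup.mem_center_iff.mp ha b).symm
    · exact hpos
  rw [hn] at hKZ hle ⊢
  rw [hm] at hle
  have hK : Nat.card K = 2 ^ n - 1 := by omega
  rw [hK] at hdvd
  rw [hm, hn] at hmul
  exact card_arith hn1 hm1 hle hmul hdvd

end Cfsg.Agent.Helper65.Suz
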