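import Mathlib

/-!
# Suzuki 2-groups, part 23: uniqueness of a central extension with given squaring map

Two finite groups `P` and `A`, both central extensions of `E` by `Z'` in which the squaring map
is the same function `S : E → Z'`, are isomorphic.
-/

set_option autoImplicit false

namespace Cfsg.Agent.Helper65.Suz

/-- In a finite group `Q` all of whose squares lie in a subgroup `N` of a central subgroup `M`,
there is a subgroup `Γ ≥ N` meeting `M` in `N` and with `Γ M = Q`. -/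
theorem exists_compl {Q : Type*} [Group Q] [Finite Q] (N M : Subgroup Q) (hNM : N ≤ M)
    (hMc : ∀ m ∈ M, ∀ g : Q, g * m = m * g) (hsq : ∀ g : Q, g * g ∈ N) :
    ∃ Γ : Subgroup Q, N ≤ Γ ∧ Γ ⊓ M ≤ N ∧ ∀ g : Q, ∃ γ ∈ Γ, ∃ m ∈ M, g = γ * m := by
  classical
  have hNc : ∀ n ∈ N, ∀ g : Q, g * n = n * g := fun n hn g => hMc n (hNM hn) g
  have hcmN : ∀ a b : Q, a⁻¹ * b⁻¹ * a * b ∈ N := by
    intro a b
    have h1 := hsq (a⁻¹ * b⁻¹)
    have h2 := hsq a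
    have h3 := hsq b
    have h4 : b⁻¹ * (a * a) = (a * a) * b⁻¹ := hNc _ h2 _
    have h5 : a⁻¹ * b⁻¹ * a * b = (a⁻¹ * b⁻¹) * (a⁻¹ * b⁻¹) * (a * a) * (b * b) := by
      calc a⁻¹ * b⁻¹ * a * b = a⁻¹ * b⁻¹ * a⁻¹ * ((a * a) * b⁻¹) * (b * b) := by group
        _ = a⁻¹ * b⁻¹ * a⁻¹ * (b⁻¹ * (a * a)) * (b * b) := by rw [h4]
        _ = (a⁻¹ * b⁻¹) * (a⁻¹ * b⁻¹) * (a * a) * (b * b) := by group
    rw [h5]
    exact N.mul_mem (N.mul_mem h1 h2) h3
  have hconj : ∀ Γ : Subgroup Q, N ≤ Γ → ∀ γ ∈ Γ, ∀ g : Q, g⁻¹ * γ * g ∈ Γ := by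
    intro Γ hΓ γ hγ g
    have h1 : g⁻¹ * γ * g = γ * (γ⁻¹ * g⁻¹ * γ * g) := by group
    rw [h1]
    exact Γ.mul_mem hγ (hΓ (hcmN γ g))
  have hfin : Set.Finite {Γ : Subgroup Q | N ≤ Γ ∧ Γ ⊓ M ≤ N} := Set.toFinite _
  obtain ⟨Γ, hΓ, hmax⟩ := hfin.exists_maximal ⟨N, le_refl _, inf_le_left⟩
  obtain ⟨hΓN, hΓM⟩ := hΓ
  refine ⟨Γ, hΓN, hΓM, ?_⟩
  intro g
  by_contra hcon
  push Not at hcon
  let Γ' : Subgroup Q :=
    { carrier := {x | x ∈ Γ ∨ x * g ∈ Γ}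
      one_mem' := Or.inl Γ.one_mem
      mul_mem' := by
        rintro x y (hx | hx) (hy | hy)
        · exact Or.inl (Γ.mul_mem hx hy)
        · right
          rw [mul_assoc]
          exact Γ.mul_mem hx hy
        · right
          have h1 : x * y * g = (x * g) * (g⁻¹ * y * g) := by group
          rw [h1]
          exact Γ.mul_mem hx (hconj Γ hΓN y hy g)
        · left
          have h1 : x * y = (x * g) * (g⁻¹ * (y * g) * g) * (g * g)⁻¹ := by group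
          rw [h1]
          exact Γ.mul_mem (Γ.mul_mem hx (hconj Γ hΓN _ hy g)) (Γ.inv_mem (hΓN (hsq g)))
      inv_mem' := by
        rintro x (hx | hx)
        · exact Or.inl (Γ.inv_mem hx)
        · right
          have h1 : x⁻¹ * g = ((g⁻¹)⁻¹ * (x * g)⁻¹ * g⁻¹) * (g * g) := by group
          rw [h1]
          exact Γ.mul_mem (hconj Γ hΓN _ (Γ.inv_mem hx) g⁻¹) (hΓN (hsq g)) }
  have hΓΓ' : Γ ≤ Γ' := fun x hx => Or.inl hx
  have hΓ'mem : Γ' ∈ {Γ : Subgroup Q | N ≤ Γ ∧ Γ ⊓ M ≤ N} := by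
    refine ⟨hΓN.trans hΓΓ', ?_⟩
    rintro x ⟨(hx | hx), hxM⟩
    · exact hΓM ⟨hx, hxM⟩
    · exfalso
      refine hcon (x * g) hx x⁻¹ (M.inv_mem hxM) ?_
      have h1 : x * g = g * x := (hMc x hxM g).symm
      rw [h1]; group
  have hle : Γ' ≤ Γ := hmax hΓ'mem hΓΓ'
  have hg1 : g⁻¹ ∈ Γ' := Or.inr (by rw [inv_mul_cancel]; exact Γ.one_mem)
  have hg2 : g ∈ Γ := by
    have := Γ.inv_mem (hle hg1)
    rwa [inv_inv] at this
  exact hcon g hg2 1 M.one_mem (mul_one g).symm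

/-- **Uniqueness of the extension.** -/
theorem nonempty_mulEquiv_of_extension {P A E Z' : Type*} [Group P] [Group A] [Group E]
    [Group Z'] [Finite P] [Finite A]
    (xP : P →* E) (xA : A →* E) (hxP : Function.Surjective xP) (hxA : Function.Surjective xA)
    (iP : Z' →* P) (iA : Z' →* A) (hiP : Function.Injective iP) (hiA : Function.Injective iA)
    (hcP : ∀ z p, iP z * p = p * iP z) (hcA : ∀ z a, iA z * a = a * iA z)
    (hkP : ∀ p, xP p = 1 → ∃ z, iP z = p) (hkA : ∀ a, xA a = 1 → ∃ z, iA z = a)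
    (hkP' : ∀ z, xP (iP z) = 1) (hkA' : ∀ z, xA (iA z) = 1)
    (S : E → Z') (hsP : ∀ p, p * p = iP (S (xP p))) (hsA : ∀ a, a * a = iA (S (xA a))) :
    Nonempty (P ≃* A) := by
  classical
  let Q₀ : Subgroup (P × A) :=
    MonoidHom.eqLocus (xP.comp (MonoidHom.fst P A)) (xA.comp (MonoidHom.snd P A))
  have hQ : ∀ π : Q₀, xP π.1.1 = xA π.1.2 := fun π => π.2
  let N : Subgroup Q₀ := Subgroup.comap Q₀.subtype (MonoidHom.range (iP.prod iA))
  let M : Subgroup Q₀ := Subgroup.comap Q₀.subtype (MonoidHom.ker (xP.comp (MonoidHom.fst P A)))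
  have hN : ∀ π : Q₀, π ∈ N ↔ ∃ z, iP z = π.1.1 ∧ iA z = π.1.2 := by
    intro π
    constructor
    · rintro ⟨z, hz⟩
      refine ⟨z, ?_, ?_⟩
      · exact congrArg Prod.fst hz
      · exact congrArg Prod.snd hz
    · rintro ⟨z, h1, h2⟩
      exact ⟨z, Prod.ext h1 h2⟩
  have hM : ∀ π : Q₀, π ∈ M ↔ xP π.1.1 = 1 := fun π => Iff.rfl
  have hM' : ∀ π : Q₀, π ∈ M → ∃ z z', iP z = π.1.1 ∧ iA z' = π.1.2 := by
    intro π hπ
    have h1 : xP π.1.1 = 1 := hπ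
    have h2 : xA π.1.2 = 1 := by rw [← hQ π, h1]
    obtain ⟨z, hz⟩ := hkP _ h1
    obtain ⟨z', hz'⟩ := hkA _ h2
    exact ⟨z, z', hz, hz'⟩
  have hNM : N ≤ M := by
    intro π hπ
    obtain ⟨z, h1, _⟩ := (hN π).mp hπ
    rw [hM, ← h1]
    exact hkP' z
  have hMc : ∀ m ∈ M, ∀ g : Q₀, g * m = m * g := by
    intro m hm g
    obtain ⟨z, z', h1, h2⟩ := hM' m hm
    apply Subtype.ext
    apply Prod.ext
    · show g.1.1 * m.1.1 = m.1.1 * g.1.1
      rw [← h1]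
      exact (hcP z g.1.1).symm
    · show g.1.2 * m.1.2 = m.1.2 * g.1.2
      rw [← h2]
      exact (hcA z' g.1.2).symm
  have hsq : ∀ g : Q₀, g * g ∈ N := by
    intro g
    rw [hN]
    refine ⟨S (xP g.1.1), ?_, ?_⟩
    · show _ = g.1.1 * g.1.1
      rw [hsP]
    · show _ = g.1.2 * g.1.2
      rw [hsA, ← hQ g]
  obtain ⟨Γ, hΓN, hΓM, hΓ⟩ := exists_compl N M hNM hMc hsq
  -- the two projections
  let fP : Γ →* P := (MonoidHom.fst P A).comp (Q₀.subtype.comp Γ.subtype)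
  let fA : Γ →* A := (MonoidHom.snd P A).comp (Q₀.subtype.comp Γ.subtype)
  have hfP : ∀ γ : Γ, fP γ = γ.1.1.1 := fun _ => rfl
  have hfA : ∀ γ : Γ, fA γ = γ.1.1.2 := fun _ => rfl
  have hPinj : Function.Injective fP := by
    rw [injective_iff_map_eq_one]
    intro γ hγ
    rw [hfP] at hγ
    have h1 : γ.1 ∈ M := by rw [hM, hγ, map_one]
    have h2 : γ.1 ∈ N := hΓM ⟨γ.2, h1⟩
    obtain ⟨z, hz1, hz2⟩ := (hN _).mp h2
    have hz : z = 1 := by
      apply hiP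
      rw [hz1, hγ, map_one]
    apply Subtype.ext
    apply Subtype.ext
    apply Prod.ext
    · exact hγ
    · show γ.1.1.2 = 1
      rw [← hz2, hz, map_one]
  have hAinj : Function.Injective fA := by
    rw [injective_iff_map_eq_one]
    intro γ hγ
    rw [hfA] at hγ
    have h1 : γ.1 ∈ M := by
      rw [hM, hQ, hγ, map_one]
    have h2 : γ.1 ∈ N := hΓM ⟨γ.2, h1⟩
    obtain ⟨z, hz1, hz2⟩ := (hN _).mp h2
    have hz : z = 1 := by
      apply hiA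
      rw [hz2, hγ, map_one]
    apply Subtype.ext
    apply Subtype.ext
    apply Prod.ext
    · show γ.1.1.1 = 1
      rw [← hz1, hz, map_one]
    · exact hγ
  have hPsurj : Function.Surjective fP := by
    intro p
    obtain ⟨a, ha⟩ := hxA (xP p)
    let π : Q₀ := ⟨(p, a), ha.symm⟩
    obtain ⟨γ, hγ, m, hm, hπ⟩ := hΓ π
    obtain ⟨z, z', h1, h2⟩ := hM' m hm
    let ν : Q₀ := ⟨(iP z, iA z), by
      show xP (iP z) = xA (iA z)
      rw [hkP', hkA']⟩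
    have hν : ν ∈ N := (hN ν).mpr ⟨z, rfl, rfl⟩
    refine ⟨⟨γ * ν, Γ.mul_mem hγ (hΓN hν)⟩, ?_⟩
    rw [hfP]
    show γ.1.1 * iP z = p
    rw [h1]
    have := congrArg (fun π : Q₀ => π.1.1) hπ
    exact this.symm
  have hAsurj : Function.Surjective fA := by
    intro a
    obtain ⟨p, hp⟩ := hxP (xA a)
    let π : Q₀ := ⟨(p, a), hp⟩
    obtain ⟨γ, hγ, m, hm, hπ⟩ := hΓ π
    obtain ⟨z, z', h1, h2⟩ := hM' m hm
    let ν : Q₀ := ⟨(iP z', iA z'), by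
      show xP (iP z') = xA (iA z')
      rw [hkP', hkA']⟩
    have hν : ν ∈ N := (hN ν).mpr ⟨z', rfl, rfl⟩
    refine ⟨⟨γ * ν, Γ.mul_mem hγ (hΓN hν)⟩, ?_⟩
    rw [hfA]
    show γ.1.2 * iA z' = a
    rw [h2]
    have := congrArg (fun π : Q₀ => π.1.2) hπ
    exact this.symm
  exact ⟨(MulEquiv.ofBijective fP ⟨hPinj, hPsurj⟩).symm.trans
    (MulEquiv.ofBijective fA ⟨hAinj, hAsurj⟩)⟩

end Cfsg.Agent.Helper65.Suz
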