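import Mathlib
import Cfsg.Prelude.Def_LieRecognition

/-!
# Suzuki 2-groups, part 24: the matrix group of type A
-/

set_option autoImplicit false

namespace Cfsg.Agent.Helper65.Suz

section matrix

variable {F : Type*} [Field F] (φ : F →+* F)

/-- the matrix with rows `(1,0,0)`, `(x,1,0)`, `(y, φ x, 1)`. -/
def mat (x y : F) : Matrix (Fin 3) (Fin 3) F := !![1, 0, 0; x, 1, 0; y, φ x, 1]

theorem mat_mul (x y x' y' : F) :
    mat φ x y * mat φ x' y' = mat φ (x + x') (y + y' + φ x * x') := by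
  ext i j
  fin_cases i <;> fin_cases j <;>
    simp [mat, Matrix.mul_apply, Fin.sum_univ_three] <;> ring

theorem mat_zero : mat φ 0 0 = 1 := by
  ext i j
  fin_cases i <;> fin_cases j <;> simp [mat]

theorem mat_one_zero (x y : F) : mat φ x y 1 0 = x := by simp [mat]

theorem mat_two_zero (x y : F) : mat φ x y 2 0 = y := by simp [mat]

/-- the matrix, as a unit. -/
def matU (x y : F) : GL (Fin 3) F :=
  ⟨mat φ x y, mat φ (-x) (-y + φ x * x), by
    rw [mat_mul]
    have h1 : x + -x = 0 := by ring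
    have h2 : y + (-y + φ x * x) + φ x * -x = 0 := by ring
    rw [h1, h2, mat_zero], by
    rw [mat_mul]
    have h1 : -x + x = 0 := by ring
    have h2 : -y + φ x * x + y + φ (-x) * x = 0 := by rw [map_neg]; ring
    rw [h1, h2, mat_zero]⟩

theorem matU_val (x y : F) : ((matU φ x y : GL (Fin 3) F) : Matrix (Fin 3) (Fin 3) F) = mat φ x y :=
  rfl

theorem matU_mul (x y x' y' : F) :
    matU φ x y * matU φ x' y' = matU φ (x + x') (y + y' + φ x * x') := by
  apply Units.ext
  rw [Units.val_mul, matU_val, matU_val, matU_val, mat_mul]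

theorem matU_zero : matU φ 0 0 = 1 := by
  apply Units.ext
  rw [matU_val, mat_zero]; rfl

theorem matU_inv (x y : F) : (matU φ x y)⁻¹ = matU φ (-x) (-y + φ x * x) := by
  apply Units.ext
  rfl

theorem matU_mem (x y : F) : matU φ x y ∈ Cfsg.suzukiTypeA F φ :=
  Subgroup.subset_closure ⟨x, y, rfl⟩

theorem mem_suzukiTypeA_iff (g : GL (Fin 3) F) :
    g ∈ Cfsg.suzukiTypeA F φ ↔ ∃ x y, g = matU φ x y := by
  constructor
  · intro hg
    unfold Cfsg.suzukiTypeA at hg
    induction hg using Subgroup.closure_induction with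
    | mem g hg =>
      obtain ⟨x, y, hxy⟩ := hg
      exact ⟨x, y, Units.ext hxy⟩
    | one => exact ⟨0, 0, (matU_zero φ).symm⟩
    | mul g h _ _ hg hh =>
      obtain ⟨x, y, rfl⟩ := hg
      obtain ⟨x', y', rfl⟩ := hh
      exact ⟨_, _, matU_mul φ x y x' y'⟩
    | inv g _ hg =>
      obtain ⟨x, y, rfl⟩ := hg
      exact ⟨_, _, matU_inv φ x y⟩
  · rintro ⟨x, y, rfl⟩
    exact matU_mem φ x y

theorem matU_injective {x y x' y' : F} (h : matU φ x y = matU φ x' y') : x = x' ∧ y = y' := by
  have h1 : mat φ x y = mat φ x' y' := congrArg Units.val h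
  refine ⟨?_, ?_⟩
  · have := congrFun (congrFun h1 1) 0
    rwa [mat_one_zero, mat_one_zero] at this
  · have := congrFun (congrFun h1 2) 0
    rwa [mat_two_zero, mat_two_zero] at this

/-- the projection to the first coordinate. -/
def xA : Cfsg.suzukiTypeA F φ →* Multiplicative F :=
  MonoidHom.mk' (fun g => Multiplicative.ofAdd ((g.1 : Matrix (Fin 3) (Fin 3) F) 1 0)) (by
    rintro ⟨g, hg⟩ ⟨h, hh⟩
    obtain ⟨x, y, rfl⟩ := (mem_suzukiTypeA_iff φ g).mp hg
    obtain ⟨x', y', rfl⟩ := (mem_suzukiTypeA_iff φ h).mp hh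
    show Multiplicative.ofAdd (((matU φ x y * matU φ x' y' : GL (Fin 3) F) :
      Matrix (Fin 3) (Fin 3) F) 1 0) = _
    rw [matU_mul, matU_val, mat_one_zero]
    show _ = Multiplicative.ofAdd (mat φ x y 1 0) * Multiplicative.ofAdd (mat φ x' y' 1 0)
    rw [mat_one_zero, mat_one_zero]
    rfl)

theorem xA_matU (x y : F) : xA φ ⟨matU φ x y, matU_mem φ x y⟩ = Multiplicative.ofAdd x := by
  show Multiplicative.ofAdd (mat φ x y 1 0) = _
  rw [mat_one_zero]

/-- the inclusion of the second coordinate. -/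
def iA : Multiplicative F →* Cfsg.suzukiTypeA F φ :=
  MonoidHom.mk' (fun z => ⟨matU φ 0 (Multiplicative.toAdd z), matU_mem φ _ _⟩) (by
    intro a b
    apply Subtype.ext
    show matU φ 0 (Multiplicative.toAdd (a * b)) =
      matU φ 0 (Multiplicative.toAdd a) * matU φ 0 (Multiplicative.toAdd b)
    rw [matU_mul, toAdd_mul, map_zero, zero_mul, add_zero, add_zero])

theorem iA_apply (z : Multiplicative F) :
    (iA φ z : GL (Fin 3) F) = matU φ 0 (Multiplicative.toAdd z) := rfl

theorem xA_surjective : Function.Surjective (xA φ) := by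
  intro x
  exact ⟨⟨matU φ (Multiplicative.toAdd x) 0, matU_mem φ _ _⟩, xA_matU φ _ _⟩

theorem iA_injective : Function.Injective (iA φ) := by
  intro a b hab
  have h1 : matU φ 0 (Multiplicative.toAdd a) = matU φ 0 (Multiplicative.toAdd b) :=
    congrArg Subtype.val hab
  exact Multiplicative.toAdd.injective (matU_injective φ h1).2

theorem iA_central (z : Multiplicative F) (a : Cfsg.suzukiTypeA F φ) :
    iA φ z * a = a * iA φ z := by
  obtain ⟨a, ha⟩ := a
  obtain ⟨x, y, rfl⟩ := (mem_suzukiTypeA_iff φ a).mp ha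
  apply Subtype.ext
  show matU φ 0 (Multiplicative.toAdd z) * matU φ x y = matU φ x y * matU φ 0 (Multiplicative.toAdd z)
  rw [matU_mul, matU_mul]
  congr 1
  · ring
  · rw [map_zero]; ring

theorem xA_iA (z : Multiplicative F) : xA φ (iA φ z) = 1 := by
  have h := xA_matU φ 0 (Multiplicative.toAdd z)
  exact h

theorem exists_iA_of_xA (a : Cfsg.suzukiTypeA F φ) (h : xA φ a = 1) : ∃ z, iA φ z = a := by
  obtain ⟨a, ha⟩ := a
  obtain ⟨x, y, rfl⟩ := (mem_suzukiTypeA_iff φ a).mp ha
  rw [xA_matU] at h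
  have hx : x = 0 := h
  subst hx
  exact ⟨Multiplicative.ofAdd y, rfl⟩

theorem sq_eq_iA [CharP F 2] (a : Cfsg.suzukiTypeA F φ) :
    a * a = iA φ (Multiplicative.ofAdd
      (φ (Multiplicative.toAdd (xA φ a)) * Multiplicative.toAdd (xA φ a))) := by
  obtain ⟨a, ha⟩ := a
  obtain ⟨x, y, rfl⟩ := (mem_suzukiTypeA_iff φ a).mp ha
  rw [xA_matU]
  apply Subtype.ext
  show matU φ x y * matU φ x y = matU φ 0 (φ x * x)
  rw [matU_mul, CharTwo.add_self_eq_zero, CharTwo.add_self_eq_zero, zero_add]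

instance [Finite F] : Finite (Cfsg.suzukiTypeA F φ) := by
  classical
  haveI : Finite (Matrix (Fin 3) (Fin 3) F) := inferInstance
  haveI : Finite (GL (Fin 3) F) := inferInstance
  infer_instance

end matrix

end Cfsg.Agent.Helper65.Suz
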