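import Cfsg.Agent.Helper65.Suzuki9

/-!
# Suzuki 2-groups, part 25: multiplicative maps of a finite field with biadditive polarization

A multiplicative map `τ` of `GF(2 ^ n)` whose polarization `τ (a + b) + τ a + τ b` is biadditive
and non-zero is `y ↦ y ^ (2 ^ i) * y ^ (2 ^ j)` with `i ≠ j`.
-/

set_option autoImplicit false

namespace Cfsg.Agent.Helper65.Suz

section field

variable {F : Type*} [Field F] [Fintype F] [CharP F 2]

/-- the Frobenius powers `a ↦ a ^ (2 ^ j)`, `j < n`, are linearly independent. -/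
theorem frob_coeff_unique (n : ℕ) (hn : Fintype.card F = 2 ^ n) (d : ℕ → F)
    (h : ∀ a : F, ∑ j ∈ Finset.range n, d j * a ^ (2 ^ j) = 0) : ∀ j < n, d j = 0 := by
  classical
  let f : Fin n → (F →* F) := fun j => powMonoidHom (2 ^ (j : ℕ))
  have hkey : ∀ i j : ℕ, i < j → j < n → (∀ a : F, a ^ (2 ^ i) = a ^ (2 ^ j)) → False := by
    intro i j hij hjn hall
    refine frob_ne_id n hn (j - i) (by omega) (by omega) (fun x => ?_)
    apply pow_two_pow_injective i
    rw [← pow_mul, ← pow_add, Nat.sub_add_cancel hij.le]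
    exact (hall x).symm
  have hf : Function.Injective f := by
    intro i j hij
    by_contra hne
    have hall : ∀ a : F, a ^ (2 ^ (i : ℕ)) = a ^ (2 ^ (j : ℕ)) := fun a => DFunLike.congr_fun hij a
    rcases lt_or_gt_of_ne (fun h => hne (Fin.ext h)) with hlt | hlt
    · exact hkey i j hlt j.2 hall
    · exact hkey j i hlt i.2 (fun a => (hall a).symm)
  have hli := (linearIndependent_monoidHom F F).comp f hf
  rw [Fintype.linearIndependent_iff] at hli
  have h2 := hli (fun j => d j) (by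
    funext a
    have h3 := h a
    rw [← Fin.sum_univ_eq_sum_range (fun j => d j * a ^ (2 ^ j)) n] at h3
    simp only [Finset.sum_apply, Pi.smul_apply, Function.comp, smul_eq_mul, Pi.zero_apply]
    exact h3)
  intro j hj
  exact h2 ⟨j, hj⟩

/-- an additive and multiplicative self-map of `F` is a Frobenius power. -/
theorem exists_frob_pow_of_map (n : ℕ) (hn : Fintype.card F = 2 ^ n) (g : F → F)
    (hadd : ∀ a b, g (a + b) = g a + g b) (hmul : ∀ a b, g (a * b) = g a * g b)
    (h1 : g 1 = 1) : ∃ i < n, ∀ y, g y = y ^ (2 ^ i) := by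
  have h0 : g 0 = 0 := by
    have := hadd 0 0
    rw [add_zero] at this
    exact left_eq_add.mp this
  let r : F →+* F :=
    { toFun := g
      map_one' := h1
      map_mul' := hmul
      map_zero' := h0
      map_add' := hadd }
  have hinj : Function.Injective r := r.injective
  have hbij : Function.Bijective r := Finite.injective_iff_bijective.mp hinj
  obtain ⟨i, hi, hσ⟩ := exists_frob_pow n hn (RingEquiv.ofBijective r hbij)
  exact ⟨i, hi, fun y => hσ y⟩

/-- **Multiplicative maps with biadditive polarization.** -/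
theorem exists_two_frob (n : ℕ) (hn : Fintype.card F = 2 ^ n) (τ : F → F)
    (hmul : ∀ x y, τ (x * y) = τ x * τ y) (h1 : τ 1 = 1) (h0 : τ 0 = 0)
    (hadd : ∀ a b b', τ (a + (b + b')) + τ a + τ (b + b') =
      (τ (a + b) + τ a + τ b) + (τ (a + b') + τ a + τ b'))
    (hne : ∃ a b, τ (a + b) + τ a + τ b ≠ 0) :
    ∃ i j, i < n ∧ j < n ∧ i ≠ j ∧ ∀ y, τ y = y ^ (2 ^ i) * y ^ (2 ^ j) := by
  classical
  set B : F → F → F := fun a b => τ (a + b) + τ a + τ b with hB
  have hBsymm : ∀ a b, B a b = B b a := by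
    intro a b
    simp only [hB]
    rw [add_comm a b]; ring
  have hBadd : ∀ a b b', B a (b + b') = B a b + B a b' := hadd
  have hBadd' : ∀ a a' b, B (a + a') b = B a b + B a' b := by
    intro a a' b
    rw [hBsymm, hBadd, hBsymm b a, hBsymm b a']
  have hBzero : ∀ a, B a 0 = 0 := by
    intro a
    simp only [hB]
    rw [add_zero, h0, add_zero, CharTwo.add_self_eq_zero]
  have hBscale : ∀ y a b, B (y * a) (y * b) = τ y * B a b := by
    intro y a b
    simp only [hB]
    rw [← mul_add, hmul, hmul, hmul]; ring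
  let u : F →+ F := AddMonoidHom.mk' (fun a => B a 1) (fun a a' => hBadd' a a' 1)
  have hu : ∀ a, u a = B a 1 := fun _ => rfl
  obtain ⟨c, hc⟩ := exists_frob_expansion n hn u
  -- the expansion of `B`
  have hexp : ∀ a y : F, B a y =
      ∑ j ∈ Finset.range n, (c j * (τ y * (y⁻¹) ^ (2 ^ j))) * a ^ (2 ^ j) := by
    intro a y
    by_cases hy : y = 0
    · subst hy
      rw [hBzero, h0]
      simp
    · have e1 : B a y = τ y * u (y⁻¹ * a) := by
        rw [hu, ← hBscale, mul_one, ← mul_assoc, mul_inv_cancel₀ hy, one_mul]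
      rw [e1, hc, Finset.mul_sum]
      apply Finset.sum_congr rfl
      intro j _
      rw [mul_pow]; ring
  -- some coefficient is non-zero
  have hcne : ∃ j < n, c j ≠ 0 := by
    by_contra hcon
    push Not at hcon
    obtain ⟨a, b, hab⟩ := hne
    apply hab
    show B a b = 0
    rw [hexp]
    apply Finset.sum_eq_zero
    intro j hj
    rw [hcon j (Finset.mem_range.mp hj), zero_mul, zero_mul]
  obtain ⟨j, hjn, hcj⟩ := hcne
  -- additivity of the coefficient
  have hgadd : ∀ y y' : F, (τ (y + y') * ((y + y')⁻¹) ^ (2 ^ j)) =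
      τ y * (y⁻¹) ^ (2 ^ j) + τ y' * (y'⁻¹) ^ (2 ^ j) := by
    intro y y'
    have h2 := frob_coeff_unique n hn
      (fun j => c j * (τ (y + y') * ((y + y')⁻¹) ^ (2 ^ j)) -
        c j * (τ y * (y⁻¹) ^ (2 ^ j)) - c j * (τ y' * (y'⁻¹) ^ (2 ^ j)))
      (by
        intro a
        have h3 := hBadd a y y'
        rw [hexp, hexp, hexp] at h3
        simp only [sub_mul, Finset.sum_sub_distrib]
        rw [h3]; ring) j hjn
    have h2' : c j * (τ (y + y') * ((y + y')⁻¹) ^ (2 ^ j)) -
        c j * (τ y * (y⁻¹) ^ (2 ^ j)) - c j * (τ y' * (y'⁻¹) ^ (2 ^ j)) = 0 := h2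
    have h4 : c j * (τ (y + y') * ((y + y')⁻¹) ^ (2 ^ j) -
        τ y * (y⁻¹) ^ (2 ^ j) - τ y' * (y'⁻¹) ^ (2 ^ j)) = 0 := by
      rw [← h2']; ring
    rcases mul_eq_zero.mp h4 with h5 | h5
    · exact absurd h5 hcj
    · linear_combination h5
  obtain ⟨i, hin, hi⟩ := exists_frob_pow_of_map n hn (fun y => τ y * (y⁻¹) ^ (2 ^ j)) hgadd
    (by
      intro a b
      show τ (a * b) * ((a * b)⁻¹) ^ (2 ^ j) = _
      rw [hmul, mul_inv, mul_pow]; ring)
    (by
      show τ 1 * ((1 : F)⁻¹) ^ (2 ^ j) = 1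
      rw [h1, inv_one, one_pow, one_mul])
  have hτ : ∀ y, τ y = y ^ (2 ^ i) * y ^ (2 ^ j) := by
    intro y
    by_cases hy : y = 0
    · subst hy
      rw [h0, zero_pow (by positivity), zero_mul]
    · have h2 : τ y * (y⁻¹) ^ (2 ^ j) = y ^ (2 ^ i) := hi y
      rw [← h2, mul_assoc, ← mul_pow, inv_mul_cancel₀ hy, one_pow, mul_one]
  refine ⟨i, j, hin, hjn, ?_, hτ⟩
  intro hij
  subst hij
  obtain ⟨a, b, hab⟩ := hne
  apply hab
  rw [hτ, hτ, hτ, add_pow_char_pow]
  ring_nf
  have h2 : (2 : F) = 0 := CharTwo.two_eq_zero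
  linear_combination (a ^ 2 ^ i * b ^ 2 ^ i + a ^ (2 ^ i * 2) + b ^ (2 ^ i * 2)) * h2

end field

end Cfsg.Agent.Helper65.Suz
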