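import Cfsg.Agent.Helper65.Suzuki25

/-!
# Suzuki 2-groups, part 26: the order of a Frobenius power

If `y ↦ y ^ (2 ^ d) * y` is injective on the units of `GF(2 ^ n)`, `0 < d < n`, then the
automorphism `y ↦ y ^ (2 ^ d)` is non-trivial of odd order.
-/

set_option autoImplicit false

namespace Cfsg.Agent.Helper65.Suz

section field

variable {F : Type*} [Field F] [Fintype F] [CharP F 2]

theorem frobEquiv_pow_apply (d m : ℕ) (x : F) :
    ((iterateFrobeniusEquiv F 2 d) ^ m) x = x ^ (2 ^ (d * m)) := by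
  induction m generalizing x with
  | zero => rw [pow_zero, RingAut.one_apply, Nat.mul_zero, pow_zero, pow_one]
  | succ m ih =>
    rw [pow_succ, RingAut.mul_apply, ih, iterateFrobeniusEquiv_def, ← pow_mul, ← pow_add,
      Nat.mul_succ, Nat.add_comm]

theorem pow_two_pow_mul (n : ℕ) (hn : Fintype.card F = 2 ^ n) (k : ℕ) (x : F) :
    x ^ (2 ^ (n * k)) = x := by
  induction k with
  | zero => rw [Nat.mul_zero, pow_zero, pow_one]
  | succ k ih =>
    rw [Nat.mul_succ, pow_add, pow_mul, ih, ← hn, FiniteField.pow_card]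

theorem two_pow_add_one_dvd (g : ℕ) : 2 ^ g + 1 ∣ 2 ^ (2 * g) - 1 := by
  obtain ⟨b, hb⟩ : ∃ b, 2 ^ g = b + 1 :=
    ⟨2 ^ g - 1, by have := Nat.one_le_two_pow (n := g); omega⟩
  rw [pow_mul', hb]
  have h1 : (b + 1) ^ 2 = (b + 1 + 1) * b + 1 := by ring
  have h2 : (b + 1) ^ 2 - 1 = (b + 1 + 1) * b := by omega
  rw [h2]
  exact Dvd.intro _ rfl

/-- the automorphism `y ↦ y ^ (2 ^ d)` is non-trivial of odd order. -/
theorem frobEquiv_odd (n : ℕ) (hn : Fintype.card F = 2 ^ n) (d : ℕ) (hd0 : 0 < d) (hdn : d < n)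
    (hinj : ∀ y : F, y ≠ 0 → y ^ (2 ^ d) * y = 1 → y = 1) :
    iterateFrobeniusEquiv F 2 d ≠ RingEquiv.refl F ∧
      Odd (orderOf (iterateFrobeniusEquiv F 2 d)) := by
  classical
  refine ⟨?_, ?_⟩
  · intro h
    refine frob_ne_id n hn d hd0 hdn (fun x => ?_)
    have := DFunLike.congr_fun h x
    rwa [iterateFrobeniusEquiv_def] at this
  · have hg0 : 0 < Nat.gcd n d := Nat.gcd_pos_of_pos_right n hd0
    obtain ⟨m, hm⟩ := Nat.gcd_dvd_left n d
    obtain ⟨d', hd'⟩ := Nat.gcd_dvd_right n d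
    set g := Nat.gcd n d with hg
    have hcop : Nat.Coprime m d' := by
      have h1 := Nat.coprime_div_gcd_div_gcd hg0
      rw [← hg] at h1
      have h2 : n / g = m := by
        rw [hm]; exact Nat.mul_div_cancel_left m hg0
      have h3 : d / g = d' := by
        rw [hd']; exact Nat.mul_div_cancel_left d' hg0
      rwa [h2, h3] at h1
    have hpow : (iterateFrobeniusEquiv F 2 d) ^ m = 1 := by
      ext x
      rw [frobEquiv_pow_apply, RingAut.one_apply]
      have h1 : d * m = n * d' := by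
        rw [hd', hm]; ring
      rw [h1, pow_two_pow_mul n hn]
    have hdvd : orderOf (iterateFrobeniusEquiv F 2 d) ∣ m := orderOf_dvd_of_pow_eq_one hpow
    suffices hm_odd : Odd m from hm_odd.of_dvd_nat hdvd
    by_contra hnot
    rw [Nat.not_odd_iff_even] at hnot
    obtain ⟨m', hm'⟩ := hnot
    have hd'odd : Odd d' := by
      by_contra hnot'
      rw [Nat.not_odd_iff_even] at hnot'
      have h2 : 2 ∣ Nat.gcd m d' :=
        Nat.dvd_gcd ⟨m', by omega⟩ hnot'.two_dvd
      rw [hcop] at h2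
      omega
    -- `2 ^ g + 1` divides both `2 ^ d + 1` and `2 ^ n - 1`
    have hA : 2 ^ g + 1 ∣ 2 ^ d + 1 := by
      have := Odd.nat_add_dvd_pow_add_pow (2 ^ g) 1 hd'odd
      rwa [one_pow, ← pow_mul, ← hd'] at this
    have hB : 2 ^ g + 1 ∣ 2 ^ n - 1 := by
      have h1 : 2 * g ∣ n := ⟨m', by rw [hm, hm']; ring⟩
      exact (two_pow_add_one_dvd g).trans (Nat.pow_sub_one_dvd_pow_sub_one 2 h1)
    have hne1 : 2 ^ g + 1 ≠ 1 := by
      have := Nat.one_le_two_pow (n := g); omega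
    obtain ⟨p, hp, hpd⟩ := Nat.exists_prime_and_dvd hne1
    haveI : Fact p.Prime := ⟨hp⟩
    have hcard : p ∣ Fintype.card Fˣ := by
      rw [Fintype.card_units, hn]
      exact hpd.trans hB
    obtain ⟨y, hy⟩ := exists_prime_orderOf_dvd_card p hcard
    have hy1 : y ^ (2 ^ d + 1) = 1 := by
      rw [← orderOf_dvd_iff_pow_eq_one, hy]
      exact hpd.trans hA
    have hy2 : (y : F) ^ (2 ^ d) * y = 1 := by
      have := congrArg Units.val hy1
      rwa [Units.val_pow_eq_pow_val, pow_succ, Units.val_one] at this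
    have hy3 : (y : F) = 1 := hinj _ y.ne_zero hy2
    have hy4 : y = 1 := Units.ext hy3
    rw [hy4, orderOf_one] at hy
    exact hp.one_lt.ne hy

end field

end Cfsg.Agent.Helper65.Suz
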