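import Cfsg.Agent.Helper65.Suzuki22
import Cfsg.Agent.Helper65.Suzuki12

/-!
# Suzuki 2-groups, part 27: the field model of `P / Z(P)` when `|P| = |Z(P)| ^ 2`
-/

set_option autoImplicit false

namespace Cfsg.Agent.Helper65.Suz

universe u

variable {P : Type u} [Group P]

/-- the map induced by an automorphism on `P / Z(P)`. -/
def mapV (k : MulAut P) : P ⧸ Subgroup.center P →* P ⧸ Subgroup.center P :=
  QuotientGroup.map _ _ k.toMonoidHom (le_of_eq (Subgroup.Characteristic.fixed (H := Subgroup.center P) inferInstance k).symm)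

theorem mapV_mk (k : MulAut P) (p : P) :
    mapV k (p : P ⧸ Subgroup.center P) = ((k p : P) : P ⧸ Subgroup.center P) := rfl

theorem mapV_one (v : P ⧸ Subgroup.center P) : mapV (1 : MulAut P) v = v := by
  induction v using QuotientGroup.induction_on with
  | H p => rw [mapV_mk]; rfl

theorem mapV_mul (k k' : MulAut P) (v : P ⧸ Subgroup.center P) :
    mapV (k * k') v = mapV k (mapV k' v) := by
  induction v using QuotientGroup.induction_on with
  | H p => rw [mapV_mk, mapV_mk, mapV_mk]; rfl

/-- `ev : F → P / Z(P)` identifies `(F, +)` with `P / Z(P)`, the non-zero elements of `F` acting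
as elements of `K`. -/
structure IsVModel (K : Subgroup (MulAut P)) {F : Type*} [Field F]
    (ev : F → P ⧸ Subgroup.center P) : Prop where
  ev_add : ∀ a b, ev (a + b) = ev a * ev b
  ev_bij : Function.Bijective ev
  act' : ∀ y : Fˣ, ∃ k ∈ K, ∀ r, mapV k (ev r) = ev (y * r)

/-- `K` acts freely on the non-trivial elements of `P / Z(P)`. -/
theorem mapV_free {K : Subgroup (MulAut P)} (hF : SuzFree P K)
    (hinv : ∀ x : P, x * x = 1 → x ∈ Subgroup.center P)
    (hcsq : ∀ z ∈ Subgroup.center P, z * z = 1)
    {k : MulAut P} (hk : k ∈ K) {v : P ⧸ Subgroup.center P} (hv : v ≠ 1) (hkv : mapV k v = v) :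
    k = 1 := by
  induction v using QuotientGroup.induction_on with
  | H p =>
    rw [mapV_mk] at hkv
    have hz : p⁻¹ * k p ∈ Subgroup.center P := QuotientGroup.eq.mp hkv.symm
    have hzc := Subgroup.mem_center_iff.mp hz
    have hz2 := hcsq _ hz
    have hp : p ∉ Subgroup.center P := fun h => hv ((QuotientGroup.eq_one_iff p).mpr h)
    have hpp : p * p ≠ 1 := fun h => hp (hinv p h)
    have hkp : k p = p * (p⁻¹ * k p) := by group
    have hfix : k (p * p) = p * p := by
      rw [map_mul, hkp]
      calc p * (p⁻¹ * k p) * (p * (p⁻¹ * k p))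
          = p * ((p⁻¹ * k p) * p) * (p⁻¹ * k p) := by group
        _ = p * (p * (p⁻¹ * k p)) * (p⁻¹ * k p) := by rw [hzc p]
        _ = p * p * ((p⁻¹ * k p) * (p⁻¹ * k p)) := by group
        _ = p * p := by rw [hz2, mul_one]
    exact hF.free k hk (p * p) hpp hfix

theorem exists_vmodel [Finite P] {K : Subgroup (MulAut P)} (hS : SuzAct P K) (hF : SuzFree P K)
    (hsq : ∀ g : P, g * g ∈ Subgroup.center P)
    (hinv : ∀ x : P, x * x = 1 → x ∈ Subgroup.center P)
    (hcsq : ∀ z ∈ Subgroup.center P, z * z = 1)
    (hcard : Nat.card (P ⧸ Subgroup.center P) = Nat.card K + 1)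
    (hne : ∃ p : P, p ∉ Subgroup.center P) :
    ∃ (F : Type u) (_ : Field F) (_ : Fintype F) (ev : F → P ⧸ Subgroup.center P),
      IsVModel K ev := by
  classical
  have hQsq : ∀ q : P ⧸ Subgroup.center P, q * q = 1 := by
    intro q
    induction q using QuotientGroup.induction_on with
    | H x =>
      rw [← QuotientGroup.mk_mul]
      exact (QuotientGroup.eq_one_iff _).mpr (hsq x)
  letI : CommGroup (P ⧸ Subgroup.center P) :=
    { (inferInstance : Group (P ⧸ Subgroup.center P)) with
      mul_comm := by
        intro a b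
        have h1 := hQsq (a * b)
        have h2 := hQsq a
        have h3 := hQsq b
        calc a * b = a * (a * b * (a * b)) * b := by rw [h1, mul_one]
          _ = (a * a) * (b * a) * (b * b) := by group
          _ = b * a := by rw [h2, h3, one_mul, mul_one] }
  let A := Additive (P ⧸ Subgroup.center P)
  let res : MulAut P → AddMonoid.End A := fun k =>
    AddMonoidHom.mk' (fun a => Additive.ofMul (mapV k (Additive.toMul a))) (by
      intro a b
      show Additive.ofMul (mapV k (Additive.toMul a * Additive.toMul b)) = _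
      rw [map_mul]; rfl)
  have hres : ∀ k (a : A), Additive.toMul (res k a) = mapV k (Additive.toMul a) := fun _ _ => rfl
  let S : Set (AddMonoid.End A) := {f | ∃ k ∈ K, f = res k}
  obtain ⟨p₀, hp₀⟩ := hne
  let v₀ : P ⧸ Subgroup.center P := (p₀ : P ⧸ Subgroup.center P)
  have hv₀ : v₀ ≠ 1 := fun h => hp₀ ((QuotientGroup.eq_one_iff p₀).mp h)
  let a₀ : A := Additive.ofMul v₀
  -- transitivity, by counting
  let f : Option K → P ⧸ Subgroup.center P := fun o =>
    match o with
    | none => 1
    | some k => mapV (k : MulAut P) v₀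
  have hmapne : ∀ k : MulAut P, mapV k v₀ ≠ 1 := by
    intro k h
    apply hv₀
    have h1 : mapV k⁻¹ (mapV k v₀) = mapV k⁻¹ 1 := by rw [h]
    rw [← mapV_mul, inv_mul_cancel, mapV_one, map_one] at h1
    exact h1
  have hfinj : Function.Injective f := by
    intro a b hab
    match a, b with
    | none, none => rfl
    | none, some k => exact absurd hab.symm (hmapne k)
    | some k, none => exact absurd hab (hmapne k)
    | some k, some k' =>
      have h1 : mapV (k : MulAut P) v₀ = mapV (k' : MulAut P) v₀ := hab
      have h2 : mapV ((k' : MulAut P)⁻¹ * (k : MulAut P)) v₀ = v₀ := by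
        rw [mapV_mul, h1, ← mapV_mul, inv_mul_cancel, mapV_one]
      have h3 := mapV_free hF hinv hcsq (K.mul_mem (K.inv_mem k'.2) k.2) hv₀ h2
      have h4 : (k : MulAut P) = k' := by
        rw [inv_mul_eq_one] at h3
        exact h3.symm
      rw [Subtype.ext h4]
  have hfbij : Function.Bijective f := by
    apply hfinj.bijective_of_nat_card_le
    rw [Finite.card_option, hcard]
  have key := exists_field_of_transitive (A := A) S
    (by
      rintro _ ⟨k, hk, rfl⟩ _ ⟨k', hk', rfl⟩ a
      apply congrArg Additive.ofMul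
      show mapV k (mapV k' (Additive.toMul a)) = mapV k' (mapV k (Additive.toMul a))
      rw [← mapV_mul, ← mapV_mul, hS.comm k hk k' hk'])
    (by
      rintro _ ⟨k, hk, rfl⟩
      refine ⟨_, ⟨k⁻¹, K.inv_mem hk, rfl⟩, ?_⟩
      intro a
      apply congrArg Additive.ofMul
      show mapV k⁻¹ (mapV k (Additive.toMul a)) = Additive.toMul a
      rw [← mapV_mul, inv_mul_cancel, mapV_one])
    a₀
    (by
      intro h
      exact hv₀ (congrArg Additive.toMul h))
    (by
      intro b hb
      obtain ⟨o, ho⟩ := hfbij.2 (Additive.toMul b)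
      match o, ho with
      | none, ho =>
        exfalso
        apply hb
        have : (1 : P ⧸ Subgroup.center P) = Additive.toMul b := ho
        exact congrArg Additive.ofMul this.symm
      | some k, ho =>
        refine ⟨_, ⟨k, k.2, rfl⟩, ?_⟩
        have : mapV (k : MulAut P) v₀ = Additive.toMul b := ho
        exact congrArg Additive.ofMul this)
  obtain ⟨F, instF, instFin, ev, hev, _, hact'⟩ := key
  refine ⟨F, instF, instFin, fun r => Additive.toMul (ev r), ?_⟩
  refine ⟨?_, ⟨?_, ?_⟩, ?_⟩
  · intro a b
    rw [map_add]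
    rfl
  · intro a b h
    apply hev.1
    exact congrArg Additive.ofMul h
  · intro v
    obtain ⟨r, hr⟩ := hev.2 (Additive.ofMul v)
    refine ⟨r, ?_⟩
    show Additive.toMul (ev r) = v
    rw [hr]
    rfl
  · intro y
    obtain ⟨_, ⟨k, hk, rfl⟩, hs⟩ := hact' y
    refine ⟨k, hk, fun a => ?_⟩
    show mapV k (Additive.toMul (ev a)) = Additive.toMul (ev (y * a))
    rw [← hs a]
    rfl

end Cfsg.Agent.Helper65.Suz
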