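import Cfsg.Agent.Helper65.Suzuki27
import Cfsg.Agent.Helper65.Suzuki26
import Cfsg.Agent.Helper65.Suzuki13

/-!
# Suzuki 2-groups, part 28: the squaring map in field coordinates
-/

set_option autoImplicit false

namespace Cfsg.Agent.Helper65.Suz

universe u v

section shat

variable {P : Type u} [Group P] {K : Subgroup (MulAut P)}
  (hsq : ∀ g : P, g * g ∈ Subgroup.center P)
  (hcm : ∀ x y : P, x⁻¹ * y⁻¹ * x * y ∈ Subgroup.center P)
  (hinv : ∀ x : P, x * x = 1 → x ∈ Subgroup.center P)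
  (hcsq : ∀ z ∈ Subgroup.center P, z * z = 1)
  {F : Type v} [Field F] {ι : F → P} (hι : IsFModel K ι)
  {ev : F → P ⧸ Subgroup.center P} (hev : IsVModel K ev)

theorem IsVModel.ev_zero {ev : F → P ⧸ Subgroup.center P} (hev : IsVModel K ev) : ev 0 = 1 := by
  have h := hev.ev_add 0 0
  rw [add_zero] at h
  exact left_eq_mul.mp h

/-- the squaring map in coordinates. -/
noncomputable def sHat (ev : F → P ⧸ Subgroup.center P) (r : F) : F :=
  Classical.choose (hι.ι_surj _ (hcsq _ (sqQ hsq (ev r)).2))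

theorem sHat_spec (ev : F → P ⧸ Subgroup.center P) (r : F) :
    ι (sHat hsq hcsq hι ev r) = (sqQ hsq (ev r) : P) :=
  Classical.choose_spec (hι.ι_surj _ (hcsq _ (sqQ hsq (ev r)).2))

include hev hcm in
theorem sHat_polar (a b : F) :
    ι (sHat hsq hcsq hι ev (a + b) + sHat hsq hcsq hι ev a + sHat hsq hcsq hι ev b) =
      (cmQ hcm (ev a) (ev b) : P) := by
  rw [hι.ι_add, hι.ι_add, sHat_spec hsq hcsq hι, sHat_spec hsq hcsq hι, sHat_spec hsq hcsq hι,
    hev.ev_add, sqQ_mul hsq hcm hcsq]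
  set sa : P := (sqQ hsq (ev a) : P) with hsa
  set sb : P := (sqQ hsq (ev b) : P) with hsb
  set c : P := (cmQ hcm (ev a) (ev b) : P) with hc
  have hsa2 : sa * sa = 1 := hcsq _ (sqQ hsq (ev a)).2
  have hsb2 : sb * sb = 1 := hcsq _ (sqQ hsq (ev b)).2
  have hca : ∀ g : P, g * sa = sa * g := Subgroup.mem_center_iff.mp (sqQ hsq (ev a)).2
  have hcb : ∀ g : P, g * sb = sb * g := Subgroup.mem_center_iff.mp (sqQ hsq (ev b)).2
  show sa * sb * c * sa * sb = c
  calc sa * sb * c * sa * sb = sa * ((sb * c) * sa) * sb := by group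
    _ = sa * (sa * (sb * c)) * sb := by rw [hca (sb * c)]
    _ = (sa * sa) * sb * (c * sb) := by group
    _ = (sa * sa) * sb * (sb * c) := by rw [hcb c]
    _ = (sa * sa) * (sb * sb) * c := by group
    _ = c := by rw [hsa2, hsb2, one_mul, one_mul]

include hev hcm in
theorem sHat_polar_add (a b b' : F) :
    sHat hsq hcsq hι ev (a + (b + b')) + sHat hsq hcsq hι ev a + sHat hsq hcsq hι ev (b + b') =
      (sHat hsq hcsq hι ev (a + b) + sHat hsq hcsq hι ev a + sHat hsq hcsq hι ev b) +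
      (sHat hsq hcsq hι ev (a + b') + sHat hsq hcsq hι ev a + sHat hsq hcsq hι ev b') := by
  apply hι.ι_inj
  rw [sHat_polar hsq hcm hcsq hι hev, hι.ι_add, sHat_polar hsq hcm hcsq hι hev,
    sHat_polar hsq hcm hcsq hι hev, hev.ev_add, cmQ_mul_right]
  rfl

include hev in
theorem sHat_zero : sHat hsq hcsq hι ev 0 = 0 := by
  apply hι.ι_inj
  rw [sHat_spec hsq hcsq hι, hι.ι_zero, hev.ev_zero]
  have h1 : ((1 : P) : P ⧸ Subgroup.center P) = 1 := rfl
  rw [← h1, sqQ_mk hsq hcsq]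
  show (1 : P) * 1 = 1
  rw [mul_one]

include hev hinv in
theorem sHat_eq_zero {r : F} (h : sHat hsq hcsq hι ev r = 0) : r = 0 := by
  have h1 : (sqQ hsq (ev r) : P) = 1 := by
    rw [← sHat_spec hsq hcsq hι, h, hι.ι_zero]
  have h2 : sqQ hsq (ev r) = 1 := Subtype.ext h1
  have h3 := sqQ_eq_one hsq hinv hcsq _ h2
  apply hev.ev_bij.1
  rw [h3, hev.ev_zero]

include hcsq in
theorem sqQ_mapV (k : MulAut P) (v : P ⧸ Subgroup.center P) :
    (sqQ hsq (mapV k v) : P) = k (sqQ hsq v : P) := by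
  induction v using QuotientGroup.induction_on with
  | H p =>
    rw [mapV_mk, sqQ_mk hsq hcsq, sqQ_mk hsq hcsq]
    show k p * k p = k (p * p)
    rw [map_mul]

include hev in
theorem sHat_scale (y : Fˣ) :
    ∃ c : Fˣ, ∀ r, sHat hsq hcsq hι ev (y * r) = c * sHat hsq hcsq hι ev r := by
  obtain ⟨k, hk, hkv⟩ := hev.act' y
  obtain ⟨c, hc⟩ := hι.act k hk
  refine ⟨c, fun r => hι.ι_inj ?_⟩
  rw [sHat_spec hsq hcsq hι, ← hkv, sqQ_mapV hsq hcsq, ← sHat_spec hsq hcsq hι, hc]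

include hev hinv in
theorem sHat_inj (hFr : SuzFree P K) (y : Fˣ)
    (h : ∀ r, sHat hsq hcsq hι ev (y * r) = sHat hsq hcsq hι ev r) : y = 1 := by
  obtain ⟨k, hk, hkv⟩ := hev.act' y
  have h1 : k (ι (sHat hsq hcsq hι ev 1)) = ι (sHat hsq hcsq hι ev 1) := by
    conv_lhs => rw [sHat_spec hsq hcsq hι, ← sqQ_mapV hsq hcsq, hkv, ← sHat_spec hsq hcsq hι, h]
  have h2 : ι (sHat hsq hcsq hι ev 1) ≠ 1 := by
    intro h3
    have h4 := hι.ι_eq_one_iff.mp h3
    exact one_ne_zero (sHat_eq_zero hsq hinv hcsq hι hev h4)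
  have hk1 : k = 1 := hFr.free k hk _ h2 h1
  have h5 := hkv 1
  rw [hk1, mapV_one, mul_one] at h5
  have h6 := hev.ev_bij.1 h5
  exact Units.ext h6.symm

include hev hcm in
theorem sHat_polar_ne (hna : ∃ x y : P, x * y ≠ y * x) :
    ∃ a b, sHat hsq hcsq hι ev (a + b) + sHat hsq hcsq hι ev a + sHat hsq hcsq hι ev b ≠ 0 := by
  obtain ⟨x, y, hxy⟩ := hna
  obtain ⟨a, ha⟩ := hev.ev_bij.2 (x : P ⧸ Subgroup.center P)
  obtain ⟨b, hb⟩ := hev.ev_bij.2 (y : P ⧸ Subgroup.center P)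
  refine ⟨a, b, fun h => ?_⟩
  have h1 := sHat_polar hsq hcm hcsq hι hev a b
  rw [h, hι.ι_zero, ha, hb, cmQ_mk hcm] at h1
  have h2 : cm y x = 1 := h1.symm
  rw [cm_eq_one_iff] at h2
  exact hxy h2.symm

end shat

end Cfsg.Agent.Helper65.Suz
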