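import Cfsg.Agent.Helper65.Suzuki28
import Cfsg.Agent.Helper65.Suzuki24
import Cfsg.Agent.Helper65.Suzuki23

/-!
# Suzuki 2-groups, part 29: a Suzuki 2-group of order `q ^ 2` is of type A
-/

set_option autoImplicit false

namespace Cfsg.Agent.Helper65.Suz

universe u v

section form

variable {P : Type u} [Group P] {K : Subgroup (MulAut P)}
  (hsq : ∀ g : P, g * g ∈ Subgroup.center P)
  (hcm : ∀ x y : P, x⁻¹ * y⁻¹ * x * y ∈ Subgroup.center P)
  (hinv : ∀ x : P, x * x = 1 → x ∈ Subgroup.center P)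
  (hcsq : ∀ z ∈ Subgroup.center P, z * z = 1)
  {F : Type v} [Field F] [Fintype F] {ι : F → P} (hι : IsFModel K ι)
  {ev : F → P ⧸ Subgroup.center P} (hev : IsVModel K ev)

include hcm hinv hev in
/-- the shape of the squaring map in coordinates. -/
theorem exists_form (hFr : SuzFree P K) (hna : ∃ x y : P, x * y ≠ y * x)
    (n : ℕ) (hn : Fintype.card F = 2 ^ n) :
    ∃ c₀ : F, c₀ ≠ 0 ∧ ∃ i d : ℕ, 0 < d ∧ d < n ∧
      (∀ r, sHat hsq hcsq hι ev r = c₀ * (r ^ (2 ^ i) * (r ^ (2 ^ i)) ^ (2 ^ d))) ∧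
      (∀ y : F, y ≠ 0 → y ^ (2 ^ d) * y = 1 → y = 1) := by
  classical
  haveI := hι.charP
  set s := sHat hsq hcsq hι ev with hs
  have hs0 : s 0 = 0 := sHat_zero hsq hcsq hι hev
  have hc₀ : s 1 ≠ 0 := fun h => one_ne_zero (sHat_eq_zero hsq hinv hcsq hι hev h)
  have hscale : ∀ y : F, y ≠ 0 → ∀ r, s (y * r) = (s y / s 1) * s r := by
    intro y hy r
    obtain ⟨c, hc⟩ := sHat_scale hsq hcsq hι hev (Units.mk0 y hy)
    have h1 : s y = c * s 1 := by
      have := hc 1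
      rwa [Units.val_mk0, mul_one] at this
    have h2 : (c : F) = s y / s 1 := (eq_div_iff hc₀).mpr h1.symm
    rw [← h2]
    exact hc r
  let τ : F → F := fun y => (s 1)⁻¹ * s y
  have hτ : ∀ y, τ y = (s 1)⁻¹ * s y := fun _ => rfl
  have h0 : τ 0 = 0 := by rw [hτ, hs0, mul_zero]
  have hmul : ∀ x y, τ (x * y) = τ x * τ y := by
    intro x y
    by_cases hx : x = 0
    · rw [hx, zero_mul, h0, zero_mul]
    · rw [hτ, hτ, hτ, hscale x hx y, div_eq_mul_inv]; ring
  have h1 : τ 1 = 1 := by rw [hτ, inv_mul_cancel₀ hc₀]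
  have hadd : ∀ a b b', τ (a + (b + b')) + τ a + τ (b + b') =
      (τ (a + b) + τ a + τ b) + (τ (a + b') + τ a + τ b') := by
    intro a b b'
    have := sHat_polar_add hsq hcm hcsq hι hev a b b'
    simp only [hτ]
    linear_combination (s 1)⁻¹ * this
  have hne : ∃ a b, τ (a + b) + τ a + τ b ≠ 0 := by
    obtain ⟨a, b, hab⟩ := sHat_polar_ne hsq hcm hcsq hι hev hna
    refine ⟨a, b, fun h => hab ?_⟩
    have h2 : (s 1)⁻¹ * (s (a + b) + s a + s b) = 0 := by
      rw [← h]; simp only [hτ]; ring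
    rcases mul_eq_zero.mp h2 with h3 | h3
    · exact absurd (inv_eq_zero.mp h3) hc₀
    · exact h3
  obtain ⟨i, j, hi, hj, hij, hτf⟩ := exists_two_frob n hn τ hmul h1 h0 hadd hne
  have hsf : ∀ y, s y = s 1 * (y ^ (2 ^ i) * y ^ (2 ^ j)) := by
    intro y
    rw [← hτf y, hτ, ← mul_assoc, mul_inv_cancel₀ hc₀, one_mul]
  -- the claim for ordered exponents
  have claim : ∀ i j : ℕ, i < j → j < n → (∀ y, s y = s 1 * (y ^ (2 ^ i) * y ^ (2 ^ j))) →
      ∃ i d : ℕ, 0 < d ∧ d < n ∧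
        (∀ r, s r = s 1 * (r ^ (2 ^ i) * (r ^ (2 ^ i)) ^ (2 ^ d))) ∧
        (∀ y : F, y ≠ 0 → y ^ (2 ^ d) * y = 1 → y = 1) := by
    intro i j hij hjn hform
    have hexp : ∀ r : F, (r ^ (2 ^ i)) ^ (2 ^ (j - i)) = r ^ (2 ^ j) := by
      intro r
      rw [← pow_mul, ← pow_add, Nat.add_sub_cancel' hij.le]
    refine ⟨i, j - i, by omega, by omega, fun r => ?_, fun y hy hy1 => ?_⟩
    · rw [hexp, hform]
    · have h2 : y ^ (2 ^ i) * y ^ (2 ^ j) = 1 := by
        have h3 : y ^ (2 ^ j) = (y ^ (2 ^ (j - i))) ^ (2 ^ i) := by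
          rw [← pow_mul, ← pow_add, Nat.sub_add_cancel hij.le]
        rw [h3, ← mul_pow, mul_comm y, hy1, one_pow]
      have h3 : ∀ r, s (y * r) = s r := by
        intro r
        rw [hform (y * r), hform r, mul_pow, mul_pow]
        calc s 1 * (y ^ 2 ^ i * r ^ 2 ^ i * (y ^ 2 ^ j * r ^ 2 ^ j))
            = s 1 * ((y ^ 2 ^ i * y ^ 2 ^ j) * (r ^ 2 ^ i * r ^ 2 ^ j)) := by ring
          _ = s 1 * (r ^ 2 ^ i * r ^ 2 ^ j) := by rw [h2, one_mul]
      have h4 := sHat_inj hsq hinv hcsq hι hev hFr (Units.mk0 y hy) h3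
      have h5 := congrArg Units.val h4
      rwa [Units.val_mk0, Units.val_one] at h5
  rcases lt_or_gt_of_ne hij with hlt | hlt
  · obtain ⟨i', d, h⟩ := claim i j hlt hj hsf
    exact ⟨s 1, hc₀, i', d, h⟩
  · obtain ⟨i', d, h⟩ := claim j i hlt hi (fun y => by rw [hsf y, mul_comm (y ^ 2 ^ i)])
    exact ⟨s 1, hc₀, i', d, h⟩

include hsq hcm hinv hcsq hι hev in
/-- **Type A**, given the two field models. -/
theorem typeA_of_models [Finite P] (hFr : SuzFree P K) (hna : ∃ x y : P, x * y ≠ y * x) :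
    ∃ φ : F ≃+* F, φ ≠ RingEquiv.refl F ∧ Odd (orderOf φ) ∧
      Nonempty (P ≃* Cfsg.suzukiTypeA F (φ : F →+* F)) := by
  classical
  haveI := hι.charP
  obtain ⟨n, -, hn⟩ := FiniteField.card F 2
  obtain ⟨c₀, hc₀, i, d, hd0, hdn, hform, hinj⟩ :=
    exists_form hsq hcm hinv hcsq hι hev hFr hna (n : ℕ) hn
  obtain ⟨hθ1, hθ2⟩ := frobEquiv_odd (n : ℕ) hn d hd0 hdn hinj
  refine ⟨iterateFrobeniusEquiv F 2 d, hθ1, hθ2, ?_⟩
  set θ : F ≃+* F := iterateFrobeniusEquiv F 2 d with hθ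
  let σ : F ≃+* F := iterateFrobeniusEquiv F 2 i
  let e : F ≃ P ⧸ Subgroup.center P := Equiv.ofBijective ev hev.ev_bij
  have he : ∀ r, e r = ev r := fun _ => rfl
  have he_add : ∀ v w, e.symm (v * w) = e.symm v + e.symm w := by
    intro v w
    apply e.injective
    rw [e.apply_symm_apply, he, hev.ev_add, ← he, ← he, e.apply_symm_apply, e.apply_symm_apply]
  have he_one : e.symm 1 = 0 := by
    apply e.injective
    rw [e.apply_symm_apply, he, hev.ev_zero]
  let xP : P →* Multiplicative F :=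
    MonoidHom.mk' (fun p => Multiplicative.ofAdd (σ (e.symm (p : P ⧸ Subgroup.center P)))) (by
      intro p q
      rw [QuotientGroup.mk_mul, he_add, map_add, ofAdd_add])
  have hxP : ∀ p, xP p = Multiplicative.ofAdd (σ (e.symm (p : P ⧸ Subgroup.center P))) :=
    fun _ => rfl
  let iP : Multiplicative F →* P :=
    MonoidHom.mk' (fun z => ι (c₀ * Multiplicative.toAdd z)) (by
      intro a b
      rw [toAdd_mul, mul_add, hι.ι_add])
  have hiP : ∀ z, iP z = ι (c₀ * Multiplicative.toAdd z) := fun _ => rfl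
  have hιc : ∀ a, ι a ∈ Subgroup.center P := fun a => hinv _ (hι.ι_sq a)
  refine nonempty_mulEquiv_of_extension xP (xA (θ : F →+* F)) ?_ (xA_surjective _) iP
    (iA (θ : F →+* F)) ?_ (iA_injective _) ?_ (iA_central _) ?_ (exists_iA_of_xA _) ?_ (xA_iA _)
    (fun z => Multiplicative.ofAdd (θ (Multiplicative.toAdd z) * Multiplicative.toAdd z)) ?_
    (sq_eq_iA _)
  · -- surjectivity of `xP`
    intro z
    obtain ⟨p, hp⟩ := QuotientGroup.mk_surjective (s := Subgroup.center P)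
      (e (σ.symm (Multiplicative.toAdd z)))
    refine ⟨p, ?_⟩
    rw [hxP, hp, e.symm_apply_apply, σ.apply_symm_apply]
    rfl
  · -- injectivity of `iP`
    intro a b hab
    rw [hiP, hiP] at hab
    have := mul_left_cancel₀ hc₀ (hι.ι_inj hab)
    exact Multiplicative.toAdd.injective this
  · -- centrality
    intro z p
    rw [hiP]
    exact (Subgroup.mem_center_iff.mp (hιc _) p).symm
  · -- the kernel of `xP`
    intro p hp
    rw [hxP] at hp
    have h1 : σ (e.symm (p : P ⧸ Subgroup.center P)) = 0 := hp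
    have h2 : e.symm (p : P ⧸ Subgroup.center P) = 0 := by
      rw [← map_zero σ] at h1
      exact σ.injective h1
    have h3 : (p : P ⧸ Subgroup.center P) = 1 := by
      rw [← he_one] at h2
      exact e.symm.injective h2
    have h4 : p ∈ Subgroup.center P := (QuotientGroup.eq_one_iff p).mp h3
    obtain ⟨a, ha⟩ := hι.ι_surj p (hcsq p h4)
    refine ⟨Multiplicative.ofAdd (c₀⁻¹ * a), ?_⟩
    rw [hiP, toAdd_ofAdd, ← mul_assoc, mul_inv_cancel₀ hc₀, one_mul, ha]
  · -- `iP` maps into the kernel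
    intro z
    rw [hxP, hiP, (QuotientGroup.eq_one_iff _).mpr (hιc _), he_one, map_zero]
    rfl
  · -- the squares
    intro p
    rw [hiP, hxP, toAdd_ofAdd, toAdd_ofAdd]
    have h1 : p * p = (sqQ hsq (p : P ⧸ Subgroup.center P) : P) := by
      rw [sqQ_mk hsq hcsq]
    have h2 : (p : P ⧸ Subgroup.center P) = ev (e.symm (p : P ⧸ Subgroup.center P)) := by
      rw [← he, e.apply_symm_apply]
    rw [h1, h2, ← sHat_spec hsq hcsq hι, hform, ← h2]
    congr 2
    show _ = (σ (e.symm (p : P ⧸ Subgroup.center P))) ^ (2 ^ d) * σ (e.symm (p : P ⧸ Subgroup.center P))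
    rw [mul_comm]
    rfl

end form

end Cfsg.Agent.Helper65.Suz
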