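import Cfsg.Agent.Helper65.Suzuki2

/-!
# Suzuki 2-groups, part 3: the core computation

`C₁` an abelian `K`-invariant normal subgroup of `C` of exponent `2 ^ Cc`, with `C / C₁`
elementary abelian, `Z = Ω_E(C₁)` central in `C`, `2 ≤ E < Cc`.  Then `h ^ 2 ^ (Cc - E)` is
central in `C` for every `h ∈ C`.
-/

set_option autoImplicit false

namespace Cfsg.Agent.Helper65.Suz

variable {G : Type*} [Group G] {K : Subgroup (MulAut G)}

/-- the commutator `x⁻¹ y⁻¹ x y`. -/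
def cm (x y : G) : G := x⁻¹ * y⁻¹ * x * y

theorem cm_mul_left (x y z : G) : cm (x * y) z = y⁻¹ * cm x z * y * cm y z := by
  unfold cm; group

theorem cm_mul_right (x y z : G) : cm x (y * z) = cm x z * z⁻¹ * cm x y * z := by
  unfold cm; group

theorem conj_eq_mul_cm (x z : G) : z⁻¹ * x * z = x * cm x z := by
  unfold cm; group

theorem cm_eq_one_iff {x y : G} : cm x y = 1 ↔ x * y = y * x := by
  unfold cm
  constructor
  · intro h
    have : x * y = y * x * (x⁻¹ * y⁻¹ * x * y) := by group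
    rw [this, h, mul_one]
  · intro h
    calc x⁻¹ * y⁻¹ * x * y = x⁻¹ * y⁻¹ * (x * y) := by group
      _ = x⁻¹ * y⁻¹ * (y * x) := by rw [h]
      _ = 1 := by group

theorem cm_self (x : G) : cm x x = 1 := by unfold cm; group

theorem map_cm (k : MulAut G) (x y : G) : k (cm x y) = cm (k x) (k y) := by
  unfold cm; simp [map_mul, map_inv]

theorem pow_two_pow_succ (g : G) (n : ℕ) : (g * g) ^ 2 ^ n = g ^ 2 ^ (n + 1) := by
  rw [← pow_two, ← pow_mul, ← pow_succ']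

theorem conj_inv_pow (k c : G) (n : ℕ) : (k⁻¹ * c * k) ^ n = k⁻¹ * c ^ n * k := by
  have := conj_pow (a := k⁻¹) (b := c) (i := n)
  simpa using this

/-- the data of the core computation. -/
structure Core (K : Subgroup (MulAut G)) (C C₁ Z : Subgroup G) (E Cc : ℕ) : Prop where
  hC : KInv K C
  hC₁ : KInv K C₁
  le₁ : C₁ ≤ C
  leZ : Z ≤ C₁
  Zcen : ∀ z ∈ Z, ∀ c ∈ C, z * c = c * z
  ab : ∀ x ∈ C₁, ∀ y ∈ C₁, x * y = y * x
  hE : 2 ≤ E
  hEc : E + 1 ≤ Cc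
  exp₁ : ∀ x ∈ C₁, x ^ 2 ^ Cc = 1
  w₁ : ∃ w ∈ C₁, w ^ 2 ^ (Cc - 1) ≠ 1
  omega : ∀ x ∈ C₁, x ^ 2 ^ E = 1 → x ∈ Z
  sq : ∀ g ∈ C, g * g ∈ C₁
  cmm : ∀ g ∈ C, ∀ h ∈ C, cm g h ∈ C₁
  norm : ∀ m ∈ C₁, ∀ g ∈ C, g⁻¹ * m * g ∈ C₁

namespace Core

variable {C C₁ Z : Subgroup G} {E Cc : ℕ}

theorem cm_mem (h : Core K C C₁ Z E Cc) {m g : G} (hm : m ∈ C₁) (hg : g ∈ C) : cm m g ∈ C₁ := by
  have h1 : cm m g = m⁻¹ * (g⁻¹ * m * g) := by unfold cm; group
  rw [h1]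
  exact C₁.mul_mem (C₁.inv_mem hm) (h.norm m hm g hg)

/-- `D_g` is multiplicative on `C₁`. -/
theorem cm_mul (h : Core K C C₁ Z E Cc) {m m' g : G} (hm : m ∈ C₁) (hm' : m' ∈ C₁) (hg : g ∈ C) :
    cm (m * m') g = cm m g * cm m' g := by
  rw [cm_mul_left]
  have h1 := h.ab _ (h.cm_mem hm hg) _ hm'
  calc m'⁻¹ * cm m g * m' * cm m' g = m'⁻¹ * (cm m g * m') * cm m' g := by group
    _ = m'⁻¹ * (m' * cm m g) * cm m' g := by rw [h1]
    _ = cm m g * cm m' g := by group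

theorem cm_one_left (g : G) : cm (1 : G) g = 1 := by unfold cm; group

theorem cm_pow (h : Core K C C₁ Z E Cc) {m g : G} (hm : m ∈ C₁) (hg : g ∈ C) (n : ℕ) :
    cm (m ^ n) g = cm m g ^ n := by
  induction n with
  | zero => rw [pow_zero, pow_zero, cm_one_left]
  | succ n ih => rw [pow_succ, pow_succ, h.cm_mul (C₁.pow_mem hm n) hm hg, ih]

theorem cm_inv (h : Core K C C₁ Z E Cc) {m g : G} (hm : m ∈ C₁) (hg : g ∈ C) :
    cm m⁻¹ g = (cm m g)⁻¹ := by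
  have h1 := h.cm_mul (C₁.inv_mem hm) hm hg
  rw [inv_mul_cancel, cm_one_left] at h1
  exact eq_inv_of_mul_eq_one_left h1.symm

/-- elements of `Z` have trivial `D_g`. -/
theorem cm_eq_one_of_mem (h : Core K C C₁ Z E Cc) {z g : G} (hz : z ∈ Z) (hg : g ∈ C) :
    cm z g = 1 := cm_eq_one_iff.mpr (h.Zcen z hz g hg)

/-- (6a): `D_g` lowers the level by `E`. -/
theorem cm_pow_eq_one (h : Core K C C₁ Z E Cc) {m g : G} (hm : m ∈ C₁) (hg : g ∈ C) (l : ℕ)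
    (hml : m ^ 2 ^ l = 1) : cm m g ^ 2 ^ (l - E) = 1 := by
  rw [← h.cm_pow hm hg]
  apply h.cm_eq_one_of_mem _ hg
  apply h.omega _ (C₁.pow_mem hm _)
  rw [← pow_mul, ← pow_add]
  rcases le_total E l with hle | hle
  · have : l - E + E = l := by omega
    rw [this, hml]
  · have : l - E + E = l + (E - l) := by omega
    rw [this, pow_add, pow_mul, hml, one_pow]

/-- the norm-like map `N_g m = m * m * D_g m`. -/
def nm (m g : G) : G := m * m * cm m g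

theorem nm_mem (h : Core K C C₁ Z E Cc) {m g : G} (hm : m ∈ C₁) (hg : g ∈ C) : nm m g ∈ C₁ :=
  C₁.mul_mem (C₁.mul_mem hm hm) (h.cm_mem hm hg)

theorem nm_mul (h : Core K C C₁ Z E Cc) {m m' g : G} (hm : m ∈ C₁) (hm' : m' ∈ C₁)
    (hg : g ∈ C) : nm (m * m') g = nm m g * nm m' g := by
  unfold nm
  rw [h.cm_mul hm hm' hg]
  have hd := h.cm_mem hm hg
  have hd' := h.cm_mem hm' hg
  have e1 := h.ab _ hm' _ hm
  have e2 := h.ab _ hd _ hm'
  calc m * m' * (m * m') * (cm m g * cm m' g)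
      = m * (m' * m) * m' * (cm m g * cm m' g) := by group
    _ = m * (m * m') * m' * (cm m g * cm m' g) := by rw [e1]
    _ = m * m * m' * (m' * cm m g) * cm m' g := by group
    _ = m * m * m' * (cm m g * m') * cm m' g := by rw [e2]
    _ = m * m * (m' * cm m g) * m' * cm m' g := by group
    _ = m * m * (cm m g * m') * m' * cm m' g := by rw [e2]
    _ = m * m * cm m g * (m' * m' * cm m' g) := by group

/-- `(g m)^2 = g^2 N_g(m)`. -/
theorem sq_mul (h : Core K C C₁ Z E Cc) {m g : G} (hm : m ∈ C₁) (hg : g ∈ C) :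
    (g * m) * (g * m) = g * g * nm m g := by
  unfold nm
  have e1 : g⁻¹ * m * g = m * cm m g := conj_eq_mul_cm m g
  have e2 := h.ab _ (h.cm_mem hm hg) _ hm
  calc (g * m) * (g * m) = g * g * (g⁻¹ * m * g) * m := by group
    _ = g * g * (m * cm m g) * m := by rw [e1]
    _ = g * g * m * (cm m g * m) := by group
    _ = g * g * m * (m * cm m g) := by rw [e2]
    _ = g * g * (m * m * cm m g) := by group

variable (hS : SuzAct G K)
include hS

/-- every element of `C₁` killed by `2 ^ l`, `l < Cc`, is a square of an element killed by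
`2 ^ (l + 1)`. -/
theorem exists_sq_eq (h : Core K C C₁ Z E Cc) (l : ℕ) (hl : l + 1 ≤ Cc) {x : G} (hx : x ∈ C₁)
    (hxl : x ^ 2 ^ l = 1) : ∃ t ∈ C₁, t * t = x ∧ t ^ 2 ^ (l + 1) = 1 := by
  obtain ⟨w, hw, hw'⟩ := h.w₁
  have hCc : Cc - 1 + 1 = Cc := by have := h.hEc; omega
  obtain ⟨y, hy, hyx⟩ := exists_pow_eq_of_pow_eq_one hS h.hC₁ h.ab (Cc - 1) hw
    (by rw [hCc]; exact h.exp₁ w hw) hw' l (by omega) x hx hxl
  rw [hCc] at hyx
  refine ⟨y ^ 2 ^ (Cc - l - 1), C₁.pow_mem hy _, ?_, ?_⟩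
  · rw [← pow_add, ← two_mul, ← pow_succ']
    have : Cc - l - 1 + 1 = Cc - l := by omega
    rw [this, hyx]
  · rw [← pow_mul, ← pow_add]
    have : Cc - l - 1 + (l + 1) = Cc := by omega
    rw [this]
    exact h.exp₁ y hy

/-- (6b): the image of `N_g` contains everything killed by `2 ^ (Cc - 1)`. -/
theorem exists_nm_eq (h : Core K C C₁ Z E Cc) {g : G} (hg : g ∈ C) :
    ∀ l : ℕ, l + 1 ≤ Cc → ∀ x ∈ C₁, x ^ 2 ^ l = 1 → ∃ m ∈ C₁, nm m g = x := by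
  intro l
  induction l using Nat.strong_induction_on with
  | _ l ih =>
    intro hl x hx hxl
    rcases Nat.eq_zero_or_pos l with rfl | hpos
    · rw [pow_zero, pow_one] at hxl
      refine ⟨1, C₁.one_mem, ?_⟩
      rw [hxl]; unfold nm cm; group
    obtain ⟨t, ht, htx, htl⟩ := h.exists_sq_eq hS l hl hx hxl
    have hr := h.cm_pow_eq_one ht hg (l + 1) htl
    have hE := h.hE
    have hlt : l + 1 - E < l := by omega
    have hrinv : (cm t g)⁻¹ ^ 2 ^ (l + 1 - E) = 1 := by rw [inv_pow, hr, inv_one]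
    obtain ⟨m', hm', hm'r⟩ := ih (l + 1 - E) hlt (by omega) _ (C₁.inv_mem (h.cm_mem ht hg)) hrinv
    refine ⟨t * m', C₁.mul_mem ht hm', ?_⟩
    rw [h.nm_mul ht hm' hg, hm'r]
    unfold nm
    rw [htx, mul_inv_cancel_right]


variable [Finite G] (hG : IsPGroup 2 G)
include hG

omit hS hG [Finite G] in
theorem ne_bot (h : Core K C C₁ Z E Cc) : C₁ ≠ ⊥ := by
  obtain ⟨w, hw, hw'⟩ := h.w₁
  intro hb
  rw [hb, Subgroup.mem_bot] at hw
  rw [hw, one_pow] at hw'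
  exact hw' rfl

/-- (6b): an element of `C` killed by `2 ^ Cc` lies in `C₁`. -/
theorem mem_of_pow_eq_one (h : Core K C C₁ Z E Cc) {g : G} (hg : g ∈ C) (hgc : g ^ 2 ^ Cc = 1) :
    g ∈ C₁ := by
  have hCc : Cc - 1 + 1 = Cc := by have := h.hEc; omega
  have hx : (g * g)⁻¹ ∈ C₁ := C₁.inv_mem (h.sq g hg)
  have hxl : (g * g)⁻¹ ^ 2 ^ (Cc - 1) = 1 := by
    rw [inv_pow, pow_two_pow_succ, hCc, hgc, inv_one]
  obtain ⟨m, hm, hmx⟩ := h.exists_nm_eq hS hg (Cc - 1) (by omega) _ hx hxl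
  have h1 : (g * m) * (g * m) = 1 := by rw [h.sq_mul hm hg, hmx, mul_inv_cancel]
  have h2 : g * m ∈ C₁ := mem_of_sq_eq_one hS hG h.hC₁ h.ne_bot h1
  have h3 : g = g * m * m⁻¹ := by group
  rw [h3]
  exact C₁.mul_mem h2 (C₁.inv_mem hm)

/-- (6c): commutators of `C` are killed by `2 ^ (Cc - 1)`. -/
theorem cm_pow_eq_one' (h : Core K C C₁ Z E Cc) {g k : G} (hg : g ∈ C) (hk : k ∈ C) :
    cm k g ^ 2 ^ (Cc - 1) = 1 := by
  have hE := h.hE
  have hEc := h.hEc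
  set c' := cm k g with hc'
  have hc'm : c' ∈ C₁ := h.cmm k hk g hg
  -- N_k(c') = D_g(k²)
  have e1 : g⁻¹ * k * g = k * c' := conj_eq_mul_cm k g
  have e2 : g⁻¹ * (k * k) * g = k * k * cm (k * k) g := conj_eq_mul_cm (k * k) g
  have e3 : g⁻¹ * (k * k) * g = (k * c') * (k * c') := by
    rw [← e1]; group
  have e4 : nm c' k = cm (k * k) g := by
    have := h.sq_mul hc'm hk
    rw [this] at e3
    rw [e2] at e3
    exact (mul_left_cancel e3).symm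
  have hkk : (k * k) ^ 2 ^ Cc = 1 := h.exp₁ _ (h.sq k hk)
  have h5 : cm (k * k) g ^ 2 ^ (Cc - E) = 1 := h.cm_pow_eq_one (h.sq k hk) hg Cc hkk
  have h6 : cm c' k ^ 2 ^ (Cc - E) = 1 := h.cm_pow_eq_one hc'm hk Cc (h.exp₁ _ hc'm)
  have hup : ∀ x : G, x ^ 2 ^ (Cc - E) = 1 → x ^ 2 ^ (Cc - 2) = 1 := by
    intro x hx
    have : Cc - 2 = Cc - E + (E - 2) := by omega
    rw [this, pow_add, pow_mul, hx, one_pow]
  have h7 := hup _ h5
  have h8 := hup _ h6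
  rw [← e4] at h7
  unfold nm at h7
  have hcomm : (c' * c') * cm c' k = cm c' k * (c' * c') :=
    h.ab _ (C₁.mul_mem hc'm hc'm) _ (h.cm_mem hc'm hk)
  rw [mul_pow_of_comm hcomm, h8, mul_one, pow_two_pow_succ] at h7
  have : Cc - 2 + 1 = Cc - 1 := by omega
  rw [this] at h7
  exact h7

omit hS hG [Finite G] in
/-- the square of a product. -/
theorem sq_mul_eq {g k : G} :
    (g * k) * (g * k) = (g * g) * (k * k) * (k⁻¹ * cm k g * k) := by
  have e1 : g⁻¹ * k * g = k * cm k g := conj_eq_mul_cm k g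
  calc (g * k) * (g * k) = g * g * (g⁻¹ * k * g) * k := by group
    _ = g * g * (k * cm k g) * k := by rw [e1]
    _ = (g * g) * (k * k) * (k⁻¹ * cm k g * k) := by group

/-- the homomorphism `τ g = g ^ 2 ^ Cc`. -/
theorem tau_mul (h : Core K C C₁ Z E Cc) {g k : G} (hg : g ∈ C) (hk : k ∈ C) :
    (g * k) ^ 2 ^ Cc = g ^ 2 ^ Cc * k ^ 2 ^ Cc := by
  have hCc : Cc - 1 + 1 = Cc := by have := h.hEc; omega
  have hc'm : cm k g ∈ C₁ := h.cmm k hk g hg
  have hconj : k⁻¹ * cm k g * k ∈ C₁ := h.norm _ hc'm k hk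
  have hconjpow : (k⁻¹ * cm k g * k) ^ 2 ^ (Cc - 1) = 1 := by
    rw [conj_inv_pow, h.cm_pow_eq_one' hS hG hg hk]
    group
  have hgg := h.sq g hg
  have hkk := h.sq k hk
  rw [← hCc, ← pow_two_pow_succ, ← pow_two_pow_succ, ← pow_two_pow_succ, sq_mul_eq,
    mul_pow_of_comm (h.ab _ (C₁.mul_mem hgg hkk) _ hconj), hconjpow, mul_one,
    mul_pow_of_comm (h.ab _ hgg _ hkk)]

/-- `x_h = h ^ 2 ^ (Cc - E)` lies in `C₁`. -/
theorem xpow_mem (h : Core K C C₁ Z E Cc) {k : G} (hk : k ∈ C) : k ^ 2 ^ (Cc - E) ∈ C₁ := by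
  have : Cc - E = (Cc - E - 1) + 1 := by have := h.hEc; omega
  rw [this, ← pow_two_pow_succ]
  exact C₁.pow_mem (h.sq k hk) _

/-- multiplicativity of `h ↦ h ^ 2 ^ (Cc - E)` modulo `Z`. -/
theorem xpow_mul (h : Core K C C₁ Z E Cc) {g k : G} (hg : g ∈ C) (hk : k ∈ C) :
    ∃ r ∈ Z, (g * k) ^ 2 ^ (Cc - E) = g ^ 2 ^ (Cc - E) * k ^ 2 ^ (Cc - E) * r := by
  have hE := h.hE
  have hEc := h.hEc
  have hd : Cc - E = (Cc - E - 1) + 1 := by omega
  have hc'm : cm k g ∈ C₁ := h.cmm k hk g hg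
  have hconj : k⁻¹ * cm k g * k ∈ C₁ := h.norm _ hc'm k hk
  have hgg := h.sq g hg
  have hkk := h.sq k hk
  refine ⟨(k⁻¹ * cm k g * k) ^ 2 ^ (Cc - E - 1), ?_, ?_⟩
  · apply h.omega _ (C₁.pow_mem hconj _)
    rw [← pow_mul, ← pow_add]
    have : Cc - E - 1 + E = Cc - 1 := by omega
    rw [this, conj_inv_pow, h.cm_pow_eq_one' hS hG hg hk]
    group
  · rw [hd, ← pow_two_pow_succ, ← pow_two_pow_succ, ← pow_two_pow_succ, sq_mul_eq,
      mul_pow_of_comm (h.ab _ (C₁.mul_mem hgg hkk) _ hconj),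
      mul_pow_of_comm (h.ab _ hgg _ hkk), Nat.add_sub_cancel]

/-- the form `γ(g, k) = [k ^ 2 ^ (Cc - E), g]` is trivial. -/
theorem gamma_eq_one (h : Core K C C₁ Z E Cc) :
    ∀ g ∈ C, ∀ k ∈ C, cm (k ^ 2 ^ (Cc - E)) g = 1 := by
  have hE := h.hE
  have hEc := h.hEc
  have hcen : ∀ x : G, x * x = 1 → ∀ g : G, x * g = g * x :=
    fun x hx g => central_of_sq_eq_one hS hG hx g
  -- values are involutions
  have hval : ∀ g ∈ C, ∀ k ∈ C, cm (k ^ 2 ^ (Cc - E)) g * cm (k ^ 2 ^ (Cc - E)) g = 1 := by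
    intro g hg k hk
    have hx := h.xpow_mem hS hG hk
    rw [← h.cm_mul hx hx hg]
    apply h.cm_eq_one_of_mem _ hg
    apply h.omega _ (C₁.mul_mem hx hx)
    rw [pow_two_pow_succ, ← pow_mul, ← pow_add]
    have : Cc - E + (E + 1) = Cc + 1 := by omega
    rw [this, ← pow_two_pow_succ]
    exact h.exp₁ _ (h.sq k hk)
  have key := gamma_trivial hS hcen C h.hC (fun g => g ^ 2 ^ Cc)
    (fun g k => cm (k ^ 2 ^ (Cc - E)) g) ?_ ?_ ?_ ?_ ?_ ?_ ?_ ?_ ?_ ?_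
  · exact key
  · -- τ values
    intro g hg
    show g ^ 2 ^ Cc * g ^ 2 ^ Cc = 1
    rw [← pow_add, ← two_mul, ← pow_succ', ← pow_two_pow_succ]
    exact h.exp₁ _ (h.sq g hg)
  · intro g hg k hk
    exact h.tau_mul hS hG hg hk
  · intro a _ g _
    show (a g) ^ 2 ^ Cc = a (g ^ 2 ^ Cc)
    rw [map_pow]
  · intro g hg k hk
    exact hval g hg k hk
  · -- multiplicative in the first variable (the `g` slot)
    intro g hg g' hg' k hk
    show cm (k ^ 2 ^ (Cc - E)) (g * g') = cm (k ^ 2 ^ (Cc - E)) g * cm (k ^ 2 ^ (Cc - E)) g'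
    rw [cm_mul_right]
    have hc := hcen _ (hval g hg k hk)
    calc cm (k ^ 2 ^ (Cc - E)) g' * g'⁻¹ * cm (k ^ 2 ^ (Cc - E)) g * g'
        = cm (k ^ 2 ^ (Cc - E)) g' * g'⁻¹ * (cm (k ^ 2 ^ (Cc - E)) g * g') := by group
      _ = cm (k ^ 2 ^ (Cc - E)) g' * g'⁻¹ * (g' * cm (k ^ 2 ^ (Cc - E)) g) := by rw [hc g']
      _ = cm (k ^ 2 ^ (Cc - E)) g' * cm (k ^ 2 ^ (Cc - E)) g := by group
      _ = cm (k ^ 2 ^ (Cc - E)) g * cm (k ^ 2 ^ (Cc - E)) g' := by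
          rw [hc (cm (k ^ 2 ^ (Cc - E)) g')]
  · -- multiplicative in the second variable
    intro g hg k hk k' hk'
    show cm ((k * k') ^ 2 ^ (Cc - E)) g = cm (k ^ 2 ^ (Cc - E)) g * cm (k' ^ 2 ^ (Cc - E)) g
    obtain ⟨r, hr, hrk⟩ := h.xpow_mul hS hG hk hk'
    have hx := h.xpow_mem hS hG hk
    have hx' := h.xpow_mem hS hG hk'
    rw [hrk, h.cm_mul (C₁.mul_mem hx hx') (h.leZ hr) hg, h.cm_eq_one_of_mem hr hg, mul_one,
      h.cm_mul hx hx' hg]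
  · intro a _ g _ k _
    show cm ((a k) ^ 2 ^ (Cc - E)) (a g) = a (cm (k ^ 2 ^ (Cc - E)) g)
    rw [map_cm, map_pow]
  · intro g _
    show cm (g ^ 2 ^ (Cc - E)) g = 1
    rw [cm_eq_one_iff]
    exact (Commute.pow_self g _).eq
  · -- kernel in the second variable
    intro g hg k hk hτ
    have hk1 : k ∈ C₁ := h.mem_of_pow_eq_one hS hG hk hτ
    apply h.cm_eq_one_of_mem _ hg
    apply h.omega _ (C₁.pow_mem hk1 _)
    rw [← pow_mul, ← pow_add]
    have : Cc - E + E = Cc := by omega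
    rw [this]
    exact hτ
  · -- kernel in the first variable
    intro g hg k hk hτ
    have hg1 : g ∈ C₁ := h.mem_of_pow_eq_one hS hG hg hτ
    rw [cm_eq_one_iff]
    exact h.ab _ (h.xpow_mem hS hG hk) _ hg1

end Core

end Cfsg.Agent.Helper65.Suz
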