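import Cfsg.Agent.Helper65.Suzuki29

/-!
# Suzuki 2-groups, part 30: type A over any field of the right order
-/

set_option autoImplicit false

namespace Cfsg.Agent.Helper65.Suz

universe u v w

section transport

variable {P : Type u} [Group P] {K : Subgroup (MulAut P)}
  {F : Type v} [Field F] {F' : Type w} [Field F']

theorem IsFModel.comp_ringEquiv {ι : F → P} (h : IsFModel K ι) (e : F' ≃+* F) :
    IsFModel K (fun a => ι (e a)) := by
  refine ⟨?_, ?_, ?_, ?_, ?_, ?_⟩
  · intro a b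
    show ι (e (a + b)) = ι (e a) * ι (e b)
    rw [map_add, h.ι_add]
  · intro a b hab
    exact e.injective (h.ι_inj hab)
  · intro a
    exact h.ι_sq _
  · intro x hx
    obtain ⟨a, ha⟩ := h.ι_surj x hx
    exact ⟨e.symm a, by show ι (e (e.symm a)) = x; rw [e.apply_symm_apply, ha]⟩
  · intro k hk
    obtain ⟨y, hy⟩ := h.act k hk
    refine ⟨Units.map e.symm.toRingHom.toMonoidHom y, fun a => ?_⟩
    show k (ι (e a)) = ι (e (e.symm y * a))
    rw [hy, map_mul, e.apply_symm_apply]
  · intro y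
    obtain ⟨k, hk, hky⟩ := h.act' (Units.map e.toRingHom.toMonoidHom y)
    refine ⟨k, hk, fun a => ?_⟩
    show k (ι (e a)) = ι (e (y * a))
    rw [hky, map_mul]
    rfl

theorem IsVModel.comp_ringEquiv {ev : F → P ⧸ Subgroup.center P} (h : IsVModel K ev)
    (e : F' ≃+* F) : IsVModel K (fun a => ev (e a)) := by
  refine ⟨?_, ⟨?_, ?_⟩, ?_⟩
  · intro a b
    show ev (e (a + b)) = ev (e a) * ev (e b)
    rw [map_add, h.ev_add]
  · intro a b hab
    exact e.injective (h.ev_bij.1 hab)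
  · intro v
    obtain ⟨a, ha⟩ := h.ev_bij.2 v
    exact ⟨e.symm a, by show ev (e (e.symm a)) = v; rw [e.apply_symm_apply, ha]⟩
  · intro y
    obtain ⟨k, hk, hky⟩ := h.act' (Units.map e.toRingHom.toMonoidHom y)
    refine ⟨k, hk, fun a => ?_⟩
    show mapV k (ev (e a)) = ev (e (y * a))
    rw [hky, map_mul]
    rfl

theorem IsFModel.card_eq [Fintype F] {ι : F → P} (h : IsFModel K ι)
    (hinv : ∀ x : P, x * x = 1 → x ∈ Subgroup.center P)
    (hcsq : ∀ z ∈ Subgroup.center P, z * z = 1) :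
    Fintype.card F = Nat.card (Subgroup.center P) := by
  rw [Fintype.card_eq_nat_card]
  apply Nat.card_eq_of_bijective (fun a => (⟨ι a, hinv _ (h.ι_sq a)⟩ : Subgroup.center P))
  constructor
  · intro a b hab
    exact h.ι_inj (congrArg Subtype.val hab)
  · rintro ⟨z, hz⟩
    obtain ⟨a, ha⟩ := h.ι_surj z (hcsq z hz)
    exact ⟨a, Subtype.ext ha⟩

theorem IsVModel.card_eq [Fintype F] {ev : F → P ⧸ Subgroup.center P} (h : IsVModel K ev) :
    Fintype.card F = Nat.card (P ⧸ Subgroup.center P) := by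
  rw [Fintype.card_eq_nat_card]
  exact Nat.card_eq_of_bijective ev h.ev_bij

end transport

/-- **A Suzuki 2-group of order `|Z(P)| ^ 2` is of type A**, over any given field of order
`|Z(P)|`. -/
theorem typeA {P : Type u} [Group P] (hP : Cfsg.IsSuzukiTwoGroup P)
    (hcard : Nat.card P = Nat.card (Subgroup.center P) ^ 2)
    {F : Type v} [Field F] [Fintype F] (hF : Fintype.card F = Nat.card (Subgroup.center P)) :
    ∃ φ : F ≃+* F, φ ≠ RingEquiv.refl F ∧ Odd (orderOf φ) ∧
      Nonempty (P ≃* Cfsg.suzukiTypeA F (φ : F →+* F)) := by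
  classical
  obtain ⟨K, hS, hFr, hreg⟩ := exists_suzAct_free hP
  have hsq := higman_sq hP
  have hcm := higman_cm hP
  have hinv : ∀ x : P, x * x = 1 → x ∈ Subgroup.center P := fun x hx => higman_inv hP hx
  have hcsq : ∀ z ∈ Subgroup.center P, z * z = 1 := fun z hz => higman_center_sq hP hz
  obtain ⟨hfin, hG, hna, ⟨x₀, _, _, hx₀, hx₀2, _, _⟩, _⟩ := hP
  haveI := hfin
  have hKZ := card_add_one_eq_card_center K hreg hinv hcsq hx₀ hx₀2
  have hmul := Subgroup.card_eq_card_quotient_mul_card_subgroup (Subgroup.center P)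
  have hVZ : Nat.card (P ⧸ Subgroup.center P) = Nat.card (Subgroup.center P) := by
    rw [hcard, sq] at hmul
    exact (Nat.eq_of_mul_eq_mul_right Nat.card_pos hmul).symm
  have hne : ∃ p : P, p ∉ Subgroup.center P := by
    obtain ⟨x, y, hxy⟩ := hna
    refine ⟨x, fun hx => hxy ?_⟩
    exact (Subgroup.mem_center_iff.mp hx y).symm
  obtain ⟨FZ, instFZ, instFZ', ιZ, hιZ⟩ := exists_fmodel hS hG ⟨x₀, hx₀, hx₀2⟩
  obtain ⟨FV, instFV, instFV', evV, hevV⟩ :=
    exists_vmodel hS hFr hsq hinv hcsq (hVZ.trans hKZ.symm) hne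
  have hcZ : Fintype.card F = Fintype.card FZ := hF.trans (hιZ.card_eq hinv hcsq).symm
  have hcV : Fintype.card F = Fintype.card FV := hF.trans (hVZ.symm.trans hevV.card_eq.symm)
  let eZ : F ≃+* FZ := FiniteField.ringEquivOfCardEq hcZ
  let eV : F ≃+* FV := FiniteField.ringEquivOfCardEq hcV
  exact typeA_of_models hsq hcm hinv hcsq (hιZ.comp_ringEquiv eZ) (hevV.comp_ringEquiv eV) hFr hna

end Cfsg.Agent.Helper65.Suz
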