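import Cfsg.Agent.Helper65.Suzuki3

/-!
# Suzuki 2-groups, part 4: a `K`-invariant subgroup whose centre has exponent `≥ 4` is abelian
-/

set_option autoImplicit false

namespace Cfsg.Agent.Helper65.Suz

variable {G : Type*} [Group G] {K : Subgroup (MulAut G)}

/-- the centre of `C`, as a subgroup of `G`. -/
def cen (C : Subgroup G) : Subgroup G := C ⊓ Subgroup.centralizer (C : Set G)

theorem mem_cen {C : Subgroup G} {z : G} : z ∈ cen C ↔ z ∈ C ∧ ∀ c ∈ C, z * c = c * z := by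
  unfold cen
  rw [Subgroup.mem_inf, Subgroup.mem_centralizer_iff]
  constructor
  · rintro ⟨h1, h2⟩
    exact ⟨h1, fun c hc => (h2 c hc).symm⟩
  · rintro ⟨h1, h2⟩
    exact ⟨h1, fun c hc => (h2 c hc).symm⟩

theorem cen_le (C : Subgroup G) : cen C ≤ C := inf_le_left

theorem KInv.cen {C : Subgroup G} (hC : KInv K C) : KInv K (cen C) := hC.inf hC.centralizer

/-- the preimage in `C` of `Ω₁(Z(C / Z(C)))`. -/
def Ysub (C : Subgroup G) : Subgroup G where
  carrier := {y | y ∈ C ∧ y * y ∈ cen C ∧ ∀ c ∈ C, cm y c ∈ cen C}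
  one_mem' := by
    refine ⟨C.one_mem, ?_, ?_⟩
    · rw [mul_one]; exact (cen C).one_mem
    · intro c _
      rw [Core.cm_one_left]; exact (cen C).one_mem
  mul_mem' := by
    rintro y y' ⟨hy, hy2, hyc⟩ ⟨hy', hy'2, hy'c⟩
    refine ⟨C.mul_mem hy hy', ?_, ?_⟩
    · have e1 : y⁻¹ * y' * y = y' * cm y' y := conj_eq_mul_cm y' y
      have hu := hy'c y hy
      have e2 := (mem_cen.mp hu).2 y' hy'
      have e3 : (y * y') * (y * y') = (y * y) * (y' * y') * cm y' y := by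
        calc (y * y') * (y * y') = y * y * (y⁻¹ * y' * y) * y' := by group
          _ = y * y * (y' * cm y' y) * y' := by rw [e1]
          _ = y * y * y' * (cm y' y * y') := by group
          _ = y * y * y' * (y' * cm y' y) := by rw [e2]
          _ = (y * y) * (y' * y') * cm y' y := by group
      rw [e3]
      exact (cen C).mul_mem ((cen C).mul_mem hy2 hy'2) hu
    · intro c hc
      rw [cm_mul_left]
      have hu := hyc c hc
      have e2 := (mem_cen.mp hu).2 y' hy'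
      have e3 : y'⁻¹ * cm y c * y' * cm y' c = cm y c * cm y' c := by
        calc y'⁻¹ * cm y c * y' * cm y' c = y'⁻¹ * (cm y c * y') * cm y' c := by group
          _ = y'⁻¹ * (y' * cm y c) * cm y' c := by rw [e2]
          _ = cm y c * cm y' c := by group
      rw [e3]
      exact (cen C).mul_mem hu (hy'c c hc)
  inv_mem' := by
    rintro y ⟨hy, hy2, hyc⟩
    refine ⟨C.inv_mem hy, ?_, ?_⟩
    · have : y⁻¹ * y⁻¹ = (y * y)⁻¹ := by group
      rw [this]
      exact (cen C).inv_mem hy2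
    · intro c hc
      have hu := hyc c hc
      have e1 := cm_mul_left y⁻¹ y c
      rw [inv_mul_cancel, Core.cm_one_left] at e1
      have e2 := (mem_cen.mp hu).2 y hy
      have e3 : cm y⁻¹ c = (cm y c)⁻¹ := by
        have : cm y⁻¹ c = y * (y⁻¹ * cm y⁻¹ c * y * cm y c) * (cm y c)⁻¹ * y⁻¹ := by group
        rw [this, ← e1]
        calc y * 1 * (cm y c)⁻¹ * y⁻¹ = (cm y c)⁻¹ * (cm y c * y) * (cm y c)⁻¹ * y⁻¹ := by group
          _ = (cm y c)⁻¹ * (y * cm y c) * (cm y c)⁻¹ * y⁻¹ := by rw [e2]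
          _ = (cm y c)⁻¹ := by group
      rw [e3]
      exact (cen C).inv_mem hu

theorem mem_Ysub {C : Subgroup G} {y : G} :
    y ∈ Ysub C ↔ y ∈ C ∧ y * y ∈ cen C ∧ ∀ c ∈ C, cm y c ∈ cen C := Iff.rfl

theorem Ysub_le (C : Subgroup G) : Ysub C ≤ C := fun _ h => h.1

theorem cen_le_Ysub (C : Subgroup G) : cen C ≤ Ysub C := by
  intro z hz
  refine ⟨cen_le C hz, (cen C).mul_mem hz hz, ?_⟩
  intro c hc
  rw [cm_eq_one_iff.mpr ((mem_cen.mp hz).2 c hc)]
  exact (cen C).one_mem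

theorem KInv.Ysub {C : Subgroup G} (hC : KInv K C) : KInv K (Ysub C) := by
  intro k hk y hy
  refine ⟨hC k hk y hy.1, ?_, ?_⟩
  · rw [← map_mul]
    exact hC.cen k hk _ hy.2.1
  · intro c hc
    have hc' : k⁻¹ c ∈ C := hC k⁻¹ (K.inv_mem hk) c hc
    have := hC.cen k hk _ (hy.2.2 _ hc')
    rw [map_cm] at this
    simpa using this

/-- commutators `[y, c]` with `y ∈ Ysub C` are involutions. -/
theorem cm_Ysub_sq {C : Subgroup G} {y c : G} (hy : y ∈ Ysub C) (hc : c ∈ C) :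
    cm y c * cm y c = 1 := by
  have hu := hy.2.2 c hc
  have e1 := cm_mul_left y y c
  have e2 := (mem_cen.mp hu).2 y hy.1
  have e3 : cm (y * y) c = 1 := cm_eq_one_iff.mpr ((mem_cen.mp hy.2.1).2 c hc)
  rw [e3] at e1
  calc cm y c * cm y c = y⁻¹ * (y * cm y c) * cm y c := by group
    _ = y⁻¹ * (cm y c * y) * cm y c := by rw [e2]
    _ = y⁻¹ * cm y c * y * cm y c := by group
    _ = 1 := e1.symm

section finite
variable [Finite G]

/-- a nonabelian subgroup has an element of `Ysub C` outside the centre. -/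
theorem exists_mem_Ysub_not_cen (hG : IsPGroup 2 G) (C : Subgroup G)
    (hna : ¬ ∀ x ∈ C, ∀ y ∈ C, x * y = y * x) : ∃ y ∈ Ysub C, y ∉ cen C := by
  classical
  -- the quotient of `C` by its centre is a nontrivial 2-group
  have hCp : IsPGroup 2 C := hG.to_subgroup C
  have hne : Subgroup.center C ≠ ⊤ := by
    intro htop
    apply hna
    intro x hx y hy
    have hx' : (⟨x, hx⟩ : C) ∈ Subgroup.center C := by rw [htop]; exact Subgroup.mem_top _
    have := (Subgroup.mem_center_iff.mp hx') ⟨y, hy⟩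
    have h2 := congrArg Subtype.val this
    simpa using h2.symm
  have hQp : IsPGroup 2 (C ⧸ Subgroup.center C) := hCp.to_quotient _
  haveI : Nontrivial (C ⧸ Subgroup.center C) := by
    rw [QuotientGroup.nontrivial_iff]
    exact hne
  haveI := hQp.center_nontrivial
  obtain ⟨⟨q, hq⟩, hq1⟩ := exists_ne (1 : Subgroup.center (C ⧸ Subgroup.center C))
  have hq1' : q ≠ 1 := fun h => hq1 (Subtype.ext h)
  obtain ⟨j, hj1, hj2⟩ := exists_involution_pow hQp hq1'
  have hqc : q ^ 2 ^ j ∈ Subgroup.center (C ⧸ Subgroup.center C) := Subgroup.pow_mem _ hq _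
  obtain ⟨y, hy⟩ := QuotientGroup.mk_surjective (q ^ 2 ^ j)
  refine ⟨(y : G), ⟨y.2, ?_, ?_⟩, ?_⟩
  · -- y * y central
    have h1 : ((y * y : C) : C ⧸ Subgroup.center C) = 1 := by
      rw [QuotientGroup.mk_mul, hy, hj2]
    rw [QuotientGroup.eq_one_iff] at h1
    rw [mem_cen]
    refine ⟨C.mul_mem y.2 y.2, ?_⟩
    intro c hc
    have := (Subgroup.mem_center_iff.mp h1) ⟨c, hc⟩
    have h2 := congrArg Subtype.val this
    simpa using h2.symm
  · intro c hc
    have h1 : (((y⁻¹ * (⟨c, hc⟩ : C)⁻¹ * y * ⟨c, hc⟩ : C)) : C ⧸ Subgroup.center C) = 1 := by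
      rw [QuotientGroup.mk_mul, QuotientGroup.mk_mul, QuotientGroup.mk_mul, QuotientGroup.mk_inv,
        QuotientGroup.mk_inv, hy]
      have := (Subgroup.mem_center_iff.mp hqc) ((⟨c, hc⟩ : C) : C ⧸ Subgroup.center C)⁻¹
      calc (q ^ 2 ^ j)⁻¹ * ((⟨c, hc⟩ : C) : C ⧸ Subgroup.center C)⁻¹ * q ^ 2 ^ j *
            ((⟨c, hc⟩ : C) : C ⧸ Subgroup.center C)
          = (q ^ 2 ^ j)⁻¹ * (((⟨c, hc⟩ : C) : C ⧸ Subgroup.center C)⁻¹ * q ^ 2 ^ j) *
            ((⟨c, hc⟩ : C) : C ⧸ Subgroup.center C) := by group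
        _ = (q ^ 2 ^ j)⁻¹ * (q ^ 2 ^ j * ((⟨c, hc⟩ : C) : C ⧸ Subgroup.center C)⁻¹) *
            ((⟨c, hc⟩ : C) : C ⧸ Subgroup.center C) := by rw [this]
        _ = 1 := by group
    rw [QuotientGroup.eq_one_iff] at h1
    rw [mem_cen]
    refine ⟨?_, ?_⟩
    · unfold cm
      exact C.mul_mem (C.mul_mem (C.mul_mem (C.inv_mem y.2) (C.inv_mem hc)) y.2) hc
    · intro d hd
      have := (Subgroup.mem_center_iff.mp h1) ⟨d, hd⟩
      have h2 := congrArg Subtype.val this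
      unfold cm
      simpa using h2.symm
  · intro hyc
    apply hj1
    rw [← hy, QuotientGroup.eq_one_iff, Subgroup.mem_center_iff]
    intro d
    have := (mem_cen.mp hyc).2 d d.2
    exact Subtype.ext this.symm

/-- exponent data of a nontrivial subgroup of a 2-group. -/
theorem exists_exponent (hG : IsPGroup 2 G) (B : Subgroup G) (hB : B ≠ ⊥) :
    ∃ (e : ℕ) (w : G), w ∈ B ∧ w ^ 2 ^ e ≠ 1 ∧ ∀ x ∈ B, x ^ 2 ^ (e + 1) = 1 := by
  classical
  have hex : ∀ x : G, ∃ m : ℕ, x ^ 2 ^ m = 1 := fun x => hG x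
  let f : B → ℕ := fun x => Nat.find (hex x)
  obtain ⟨x₀, hx₀⟩ := Finite.exists_max f
  obtain ⟨b, hbB, hb1⟩ := (Subgroup.ne_bot_iff_exists_ne_one).mp hB |> fun ⟨c, hc⟩ =>
    (⟨(c : G), c.2, fun h => hc (Subtype.ext h)⟩ : ∃ c : G, c ∈ B ∧ c ≠ 1)
  have hfb : 1 ≤ f ⟨b, hbB⟩ := by
    by_contra h
    have h0 : f ⟨b, hbB⟩ = 0 := by omega
    have := Nat.find_spec (hex b)
    have h0' : Nat.find (hex b) = 0 := h0
    rw [h0'] at this
    simp at this
    exact hb1 this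
  have hm0 : 1 ≤ f x₀ := le_trans hfb (hx₀ _)
  refine ⟨f x₀ - 1, x₀, x₀.2, ?_, ?_⟩
  · intro h
    exact Nat.find_min (hex x₀) (m := f x₀ - 1) (by show f x₀ - 1 < f x₀; omega) h
  · intro x hx
    have h1 : f ⟨x, hx⟩ ≤ f x₀ := hx₀ _
    have h2 : x ^ 2 ^ (f ⟨x, hx⟩) = 1 := Nat.find_spec (hex x)
    have : f x₀ - 1 + 1 = f ⟨x, hx⟩ + (f x₀ - f ⟨x, hx⟩) := by omega
    rw [this, pow_add, pow_mul, h2, one_pow]

end finite

end Cfsg.Agent.Helper65.Suz
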