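import Cfsg.Agent.Helper65.Suzuki4

/-!
# Suzuki 2-groups, part 5: the centre of a nonabelian `K`-invariant subgroup is elementary
-/

set_option autoImplicit false

namespace Cfsg.Agent.Helper65.Suz

variable {G : Type*} [Group G] [Finite G] {K : Subgroup (MulAut G)}

section stage
variable (hS : SuzAct G K) (hG : IsPGroup 2 G)
include hS hG

/-- elements of `Ysub C` killed by the exponent of the centre are central. -/
theorem mem_cen_of_pow {C : Subgroup G} (hC : KInv K C) (e : ℕ) {w : G} (hw : w ∈ cen C)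
    (hw' : w ^ 2 ^ e ≠ 1) (hexp : ∀ z ∈ cen C, z ^ 2 ^ (e + 1) = 1) {y : G} (hy : y ∈ Ysub C)
    (hy1 : y ^ 2 ^ (e + 1) = 1) : y ∈ cen C := by
  have hZc : ∀ x ∈ cen C, ∀ y ∈ cen C, x * y = y * x :=
    fun x hx y hy => (mem_cen.mp hx).2 y (cen_le C hy)
  have h1 : (y * y) ^ 2 ^ e = 1 := by rw [pow_two_pow_succ]; exact hy1
  obtain ⟨v, hv, hvy⟩ := exists_pow_eq_of_pow_eq_one hS hC.cen hZc e hw (hexp w hw) hw' e
    (by omega) _ hy.2.1 h1
  have he : e + 1 - e = 1 := by omega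
  rw [he, pow_one, pow_two] at hvy
  have hvc := (mem_cen.mp hv).2
  have h2 : (y * v⁻¹) * (y * v⁻¹) = 1 := by
    have e1 := hvc y hy.1
    have e1' : v⁻¹ * y = y * v⁻¹ := by
      calc v⁻¹ * y = v⁻¹ * (y * v) * v⁻¹ := by group
        _ = v⁻¹ * (v * y) * v⁻¹ := by rw [e1]
        _ = y * v⁻¹ := by group
    calc (y * v⁻¹) * (y * v⁻¹) = y * (v⁻¹ * y) * v⁻¹ := by group
      _ = y * (y * v⁻¹) * v⁻¹ := by rw [e1']
      _ = (y * y) * (v⁻¹ * v⁻¹) := by group
      _ = (v * v) * (v⁻¹ * v⁻¹) := by rw [hvy]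
      _ = 1 := by group
  have h3 : y * v⁻¹ ∈ cen C := by
    rw [mem_cen]
    exact ⟨C.mul_mem hy.1 (C.inv_mem (cen_le C hv)),
      fun c _ => central_of_sq_eq_one hS hG h2 c⟩
  have h4 : y = y * v⁻¹ * v := by group
  rw [h4]
  exact (cen C).mul_mem h3 hv

/-- `Ysub C` is abelian when the centre of `C` has exponent at least `4`. -/
theorem Ysub_comm {C : Subgroup G} (hC : KInv K C) (e : ℕ) (he : 1 ≤ e) {w : G} (hw : w ∈ cen C)
    (hw' : w ^ 2 ^ e ≠ 1) (hexp : ∀ z ∈ cen C, z ^ 2 ^ (e + 1) = 1) :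
    ∀ y ∈ Ysub C, ∀ y' ∈ Ysub C, y * y' = y' * y := by
  have hcen : ∀ x : G, x * x = 1 → ∀ g : G, x * g = g * x :=
    fun x hx g => central_of_sq_eq_one hS hG hx g
  have hZc : ∀ x ∈ cen C, ∀ y ∈ cen C, x * y = y * x :=
    fun x hx y hy => (mem_cen.mp hx).2 y (cen_le C hy)
  have key := gamma_trivial hS hcen (Ysub C) hC.Ysub (fun y => y ^ 2 ^ (e + 1))
    (fun y y' => cm y y') ?_ ?_ ?_ ?_ ?_ ?_ ?_ ?_ ?_ ?_
  · intro y hy y' hy'
    exact cm_eq_one_iff.mp (key y hy y' hy')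
  · intro y hy
    show y ^ 2 ^ (e + 1) * y ^ 2 ^ (e + 1) = 1
    rw [← pow_add, ← two_mul, ← pow_succ', ← pow_two_pow_succ]
    exact hexp _ hy.2.1
  · intro y hy y' hy'
    show (y * y') ^ 2 ^ (e + 1) = y ^ 2 ^ (e + 1) * y' ^ 2 ^ (e + 1)
    have hu := hy'.2.2 y hy.1
    have hu2 := cm_Ysub_sq hy' hy.1
    have e1 : y'⁻¹ * cm y' y * y' = cm y' y := by
      have := (mem_cen.mp hu).2 y' hy'.1
      calc y'⁻¹ * cm y' y * y' = y'⁻¹ * (cm y' y * y') := by group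
        _ = y'⁻¹ * (y' * cm y' y) := by rw [this]
        _ = cm y' y := by group
    have hupow : cm y' y ^ 2 ^ e = 1 := by
      have : e = (e - 1) + 1 := by omega
      rw [this, ← pow_two_pow_succ, hu2, one_pow]
    rw [← pow_two_pow_succ, ← pow_two_pow_succ, ← pow_two_pow_succ, Core.sq_mul_eq, e1,
      mul_pow_of_comm (hZc _ ((cen C).mul_mem hy.2.1 hy'.2.1) _ hu), hupow, mul_one,
      mul_pow_of_comm (hZc _ hy.2.1 _ hy'.2.1)]
  · intro a _ y _
    show (a y) ^ 2 ^ (e + 1) = a (y ^ 2 ^ (e + 1))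
    rw [map_pow]
  · intro y hy y' hy'
    exact cm_Ysub_sq hy hy'.1
  · intro y hy y' hy' y'' hy''
    show cm (y * y') y'' = cm y y'' * cm y' y''
    rw [cm_mul_left]
    have := (mem_cen.mp (hy.2.2 y'' hy''.1)).2 y' hy'.1
    calc y'⁻¹ * cm y y'' * y' * cm y' y'' = y'⁻¹ * (cm y y'' * y') * cm y' y'' := by group
      _ = y'⁻¹ * (y' * cm y y'') * cm y' y'' := by rw [this]
      _ = cm y y'' * cm y' y'' := by group
  · intro y hy y' hy' y'' hy''
    show cm y (y' * y'') = cm y y' * cm y y''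
    rw [cm_mul_right]
    have h1 := (mem_cen.mp (hy.2.2 y' hy'.1)).2 y'' hy''.1
    have h2 := hZc _ (hy.2.2 y'' hy''.1) _ (hy.2.2 y' hy'.1)
    calc cm y y'' * y''⁻¹ * cm y y' * y'' = cm y y'' * y''⁻¹ * (cm y y' * y'') := by group
      _ = cm y y'' * y''⁻¹ * (y'' * cm y y') := by rw [h1]
      _ = cm y y'' * cm y y' := by group
      _ = cm y y' * cm y y'' := h2
  · intro a _ y _ y' _
    show cm (a y) (a y') = a (cm y y')
    rw [map_cm]
  · intro y _
    exact cm_self y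
  · intro y hy y' hy' h
    have := mem_cen_of_pow hS hG hC e hw hw' hexp hy' h
    exact cm_eq_one_iff.mpr ((mem_cen.mp this).2 y hy.1).symm
  · intro y hy y' hy' h
    have := mem_cen_of_pow hS hG hC e hw hw' hexp hy h
    exact cm_eq_one_iff.mpr ((mem_cen.mp this).2 y' hy'.1)

/-- `Ω_{e+1}(C₁) = Z(C)` for an abelian subgroup `C₁` between `Z(C)` and `C`. -/
theorem mem_cen_of_pow_eq_one {C C₁ : Subgroup G} (hC : KInv K C) (hle : C₁ ≤ C)
    (hZ : cen C ≤ C₁) (e : ℕ) {w : G} (hw : w ∈ cen C)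
    (hw' : w ^ 2 ^ e ≠ 1) (hexp : ∀ z ∈ cen C, z ^ 2 ^ (e + 1) = 1) :
    ∀ l : ℕ, l ≤ e + 1 → ∀ x ∈ C₁, x ^ 2 ^ l = 1 → x ∈ cen C := by
  intro l
  induction l with
  | zero =>
    intro _ x _ hx
    rw [pow_zero, pow_one] at hx
    rw [hx]; exact (cen C).one_mem
  | succ l ih =>
    intro hl x hx hxl
    have hz : x ^ 2 ^ l * x ^ 2 ^ l = 1 := by
      rw [← pow_add, ← two_mul, ← pow_succ']
      exact hxl
    obtain ⟨v, hv, hvz⟩ := exists_pow_eq_involution hS hC.cen e hw (hexp w hw) hw' hz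
    have hvB : v ^ 2 ^ (e - l) ∈ cen C := (cen C).pow_mem hv _
    have hv' : (v ^ 2 ^ (e - l)) ^ 2 ^ l = x ^ 2 ^ l := by
      rw [← pow_mul, ← pow_add]
      have : e - l + l = e := by omega
      rw [this, hvz]
    have hcomm : x * (v ^ 2 ^ (e - l))⁻¹ = (v ^ 2 ^ (e - l))⁻¹ * x :=
      ((mem_cen.mp ((cen C).inv_mem hvB)).2 x (hle hx)).symm
    have hx' : (x * (v ^ 2 ^ (e - l))⁻¹) ^ 2 ^ l = 1 := by
      rw [mul_pow_of_comm hcomm, inv_pow, hv', mul_inv_cancel]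
    have := ih (by omega) _ (C₁.mul_mem hx (C₁.inv_mem (hZ hvB))) hx'
    have h4 : x = x * (v ^ 2 ^ (e - l))⁻¹ * v ^ 2 ^ (e - l) := by group
    rw [h4]
    exact (cen C).mul_mem this hvB

omit hS hG in
/-- `a ↦ [y, a]` is a homomorphism into central involutions, so kills commutators. -/
theorem cm_Ysub_cm {C : Subgroup G} (hcen : ∀ x : G, x * x = 1 → ∀ g : G, x * g = g * x)
    {y g k : G} (hy : y ∈ Ysub C) (hg : g ∈ C) (hk : k ∈ C) :
    cm y (cm g k) = 1 := by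
  have hmul : ∀ a ∈ C, ∀ b ∈ C, cm y (a * b) = cm y a * cm y b := by
    intro a ha b hb
    rw [cm_mul_right]
    have h1 := hcen _ (cm_Ysub_sq hy ha)
    calc cm y b * b⁻¹ * cm y a * b = cm y b * b⁻¹ * (cm y a * b) := by group
      _ = cm y b * b⁻¹ * (b * cm y a) := by rw [h1 b]
      _ = cm y b * cm y a := by group
      _ = cm y a * cm y b := (h1 _).symm
  have hinv : ∀ a ∈ C, cm y a⁻¹ = cm y a := by
    intro a ha
    have h1 := hmul a⁻¹ (C.inv_mem ha) a ha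
    rw [inv_mul_cancel] at h1
    have h0 : cm y 1 = 1 := by unfold cm; group
    rw [h0] at h1
    have h2 : cm y a⁻¹ = (cm y a)⁻¹ := eq_inv_of_mul_eq_one_left h1.symm
    have h3 : (cm y a)⁻¹ = cm y a := (eq_inv_of_mul_eq_one_left (cm_Ysub_sq hy ha)).symm
    rw [h2, h3]
  have hgi := C.inv_mem hg
  have hki := C.inv_mem hk
  unfold cm at *
  rw [hmul _ (C.mul_mem (C.mul_mem hgi hki) hg) _ hk, hmul _ (C.mul_mem hgi hki) _ hg,
    hmul _ hgi _ hki, hinv g hg, hinv k hk]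
  have h1 := hcen _ (cm_Ysub_sq hy hg)
  have hg2 := cm_Ysub_sq hy hg
  have hk2 := cm_Ysub_sq hy hk
  unfold cm at h1 hg2 hk2
  calc y⁻¹ * g⁻¹ * y * g * (y⁻¹ * k⁻¹ * y * k) * (y⁻¹ * g⁻¹ * y * g) * (y⁻¹ * k⁻¹ * y * k)
      = (y⁻¹ * g⁻¹ * y * g * (y⁻¹ * k⁻¹ * y * k)) * (y⁻¹ * g⁻¹ * y * g) *
          (y⁻¹ * k⁻¹ * y * k) := by group
    _ = (y⁻¹ * k⁻¹ * y * k) * (y⁻¹ * g⁻¹ * y * g) * (y⁻¹ * g⁻¹ * y * g) *
          (y⁻¹ * k⁻¹ * y * k) := by rw [h1 (y⁻¹ * k⁻¹ * y * k)]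
    _ = (y⁻¹ * k⁻¹ * y * k) * ((y⁻¹ * g⁻¹ * y * g) * (y⁻¹ * g⁻¹ * y * g)) *
          (y⁻¹ * k⁻¹ * y * k) := by group
    _ = 1 := by rw [hg2, mul_one, hk2]

/-- **Main theorem.** A `K`-invariant subgroup whose centre has an element of order at least
`4` is abelian. -/
theorem comm_of_cen_exp : ∀ n : ℕ, ∀ C : Subgroup G, Nat.card C ≤ n → KInv K C →
    (∃ w ∈ cen C, w * w ≠ 1) → ∀ x ∈ C, ∀ y ∈ C, x * y = y * x := by
  intro n
  induction n with
  | zero =>
    intro C hcard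
    have := Nat.card_pos (α := C)
    omega
  | succ n ih =>
    intro C hcard hC ⟨w, hw, hww⟩
    by_contra hna
    have hcen : ∀ x : G, x * x = 1 → ∀ g : G, x * g = g * x :=
      fun x hx g => central_of_sq_eq_one hS hG hx g
    have hw1 : w ≠ 1 := by
      intro h; rw [h, mul_one] at hww; exact hww rfl
    -- exponent of the centre
    have hZne : cen C ≠ ⊥ := by
      intro h; rw [h, Subgroup.mem_bot] at hw; exact hw1 hw
    obtain ⟨e, w₀, hw₀, hw₀', hexp⟩ := exists_exponent hG (cen C) hZne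
    have he : 1 ≤ e := by
      by_contra h
      have h0 : e = 0 := by omega
      have := hexp w hw
      rw [h0, zero_add, pow_one, pow_two] at this
      exact hww this
    -- Y
    obtain ⟨y₀, hy₀, hy₀Z⟩ := exists_mem_Ysub_not_cen hG C hna
    have hYc := Ysub_comm hS hG hC e he hw₀ hw₀' hexp
    -- C₁
    set C₁ : Subgroup G := C ⊓ Subgroup.centralizer (Ysub C : Set G) with hC₁def
    have hC₁K : KInv K C₁ := hC.inf hC.Ysub.centralizer
    have hle : C₁ ≤ C := inf_le_left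
    have hmemC₁ : ∀ x : G, x ∈ C₁ ↔ x ∈ C ∧ ∀ y ∈ Ysub C, y * x = x * y := by
      intro x
      rw [hC₁def, Subgroup.mem_inf, Subgroup.mem_centralizer_iff]
      rfl
    have hYle : Ysub C ≤ C₁ := by
      intro y hy
      rw [hmemC₁]
      exact ⟨hy.1, fun y' hy' => hYc y' hy' y hy⟩
    have hZle : cen C ≤ C₁ := le_trans (cen_le_Ysub C) hYle
    -- C₁ is proper
    obtain ⟨g₀, hg₀, hg₀y⟩ : ∃ g₀ ∈ C, y₀ * g₀ ≠ g₀ * y₀ := by
      by_contra h
      push Not at h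
      exact hy₀Z (mem_cen.mpr ⟨hy₀.1, h⟩)
    have hg₀C₁ : g₀ ∉ C₁ := by
      intro h
      exact hg₀y (((hmemC₁ g₀).mp h).2 y₀ hy₀)
    have hlt : Nat.card C₁ < Nat.card C := by
      apply Set.Finite.card_lt_card (Set.toFinite (C : Set G))
      exact ⟨hle, fun h => hg₀C₁ (h hg₀)⟩
    -- C₁ is abelian by induction
    have hwC₁ : w ∈ cen C₁ := by
      rw [mem_cen]
      exact ⟨hZle hw, fun c hc => (mem_cen.mp hw).2 c (hle hc)⟩
    have hab : ∀ x ∈ C₁, ∀ y ∈ C₁, x * y = y * x := ih C₁ (by omega) hC₁K ⟨w, hwC₁, hww⟩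
    -- exponent of C₁
    have hC₁ne : C₁ ≠ ⊥ := by
      intro h
      have := hZle hw
      rw [h, Subgroup.mem_bot] at this
      exact hw1 this
    obtain ⟨c, w₁, hw₁, hw₁', hexp₁⟩ := exists_exponent hG C₁ hC₁ne
    have hy₀pow : y₀ ^ 2 ^ (e + 1) ≠ 1 := fun h =>
      hy₀Z (mem_cen_of_pow hS hG hC e hw₀ hw₀' hexp hy₀ h)
    have hec : e + 1 + 1 ≤ c + 1 := by
      by_contra h
      have h1 : c + 1 ≤ e + 1 := by omega
      apply hy₀pow
      have := hexp₁ y₀ (hYle hy₀)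
      have h2 : e + 1 = c + 1 + (e - c) := by omega
      rw [h2, pow_add, pow_mul, this, one_pow]
    -- the core data
    have hcore : Core K C C₁ (cen C) (e + 1) (c + 1) :=
      { hC := hC
        hC₁ := hC₁K
        le₁ := hle
        leZ := hZle
        Zcen := fun z hz c hc => (mem_cen.mp hz).2 c hc
        ab := hab
        hE := by omega
        hEc := hec
        exp₁ := hexp₁
        w₁ := ⟨w₁, hw₁, by simpa using hw₁'⟩
        omega := fun x hx hx1 =>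
          mem_cen_of_pow_eq_one hS hG hC hle hZle e hw₀ hw₀' hexp (e + 1) le_rfl x hx hx1
        sq := by
          intro g hg
          rw [hmemC₁]
          refine ⟨C.mul_mem hg hg, ?_⟩
          intro y hy
          have hu := cm_Ysub_sq hy hg
          have hc := hcen _ hu
          have e1 : g⁻¹ * y * g = y * cm y g := conj_eq_mul_cm y g
          have e2 : g⁻¹ * (g⁻¹ * y * g) * g = y := by
            rw [e1]
            calc g⁻¹ * (y * cm y g) * g = g⁻¹ * y * (cm y g * g) := by group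
              _ = g⁻¹ * y * (g * cm y g) := by rw [hc g]
              _ = (g⁻¹ * y * g) * cm y g := by group
              _ = y * cm y g * cm y g := by rw [e1]
              _ = y * (cm y g * cm y g) := by group
              _ = y := by rw [hu, mul_one]
          calc y * (g * g) = g * g * (g⁻¹ * (g⁻¹ * y * g) * g) := by group
            _ = g * g * y := by rw [e2]
        cmm := by
          intro g hg k hk
          rw [hmemC₁]
          refine ⟨?_, ?_⟩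
          · unfold cm
            exact C.mul_mem (C.mul_mem (C.mul_mem (C.inv_mem hg) (C.inv_mem hk)) hg) hk
          · intro y hy
            exact cm_eq_one_iff.mp (cm_Ysub_cm hcen hy hg hk)
        norm := by
          intro m hm g hg
          rw [hmemC₁] at hm ⊢
          refine ⟨C.mul_mem (C.mul_mem (C.inv_mem hg) hm.1) hg, ?_⟩
          intro y hy
          -- g y g⁻¹ ∈ Ysub C commutes with m
          have hy' : g * y * g⁻¹ ∈ Ysub C := by
            have h1 := cm_Ysub_sq hy (C.inv_mem hg)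
            have h2 : g * y * g⁻¹ = y * cm y g⁻¹ := by unfold cm; group
            rw [h2]
            refine (Ysub C).mul_mem hy (cen_le_Ysub C ?_)
            exact hy.2.2 _ (C.inv_mem hg)
          have := hm.2 _ hy'
          calc y * (g⁻¹ * m * g) = g⁻¹ * ((g * y * g⁻¹) * m) * g := by group
            _ = g⁻¹ * (m * (g * y * g⁻¹)) * g := by rw [this]
            _ = g⁻¹ * m * g * y := by group }
    have hgam := hcore.gamma_eq_one hS hG
    -- an element h with τ(h) = y₀ ^ 2 ^ (e + 1)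
    have hτg₀ : g₀ ^ 2 ^ (c + 1) ≠ 1 := fun h => hg₀C₁ (hcore.mem_of_pow_eq_one hS hG hg₀ h)
    have hτg₀2 : g₀ ^ 2 ^ (c + 1) * g₀ ^ 2 ^ (c + 1) = 1 := by
      rw [← pow_add, ← two_mul, ← pow_succ', ← pow_two_pow_succ]
      exact hexp₁ _ (hcore.sq g₀ hg₀)
    have hz₀2 : y₀ ^ 2 ^ (e + 1) * y₀ ^ 2 ^ (e + 1) = 1 := by
      rw [← pow_add, ← two_mul, ← pow_succ', ← pow_two_pow_succ]
      exact hexp _ hy₀.2.1
    obtain ⟨k, hk, hkz⟩ := hS.trans _ _ hτg₀ hτg₀2 hy₀pow hz₀2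
    have hhC : k g₀ ∈ C := hC k hk g₀ hg₀
    have hhpow : (k g₀) ^ 2 ^ (c + 1) = y₀ ^ 2 ^ (e + 1) := by rw [← map_pow, hkz]
    set y' := (k g₀) ^ 2 ^ (c + 1 - (e + 1)) with hy'def
    have hy'C₁ : y' ∈ C₁ := hcore.xpow_mem hS hG hhC
    have hy'pow : y' ^ 2 ^ (e + 1) = y₀ ^ 2 ^ (e + 1) := by
      rw [hy'def, ← pow_mul, ← pow_add]
      have : c + 1 - (e + 1) + (e + 1) = c + 1 := by omega
      rw [this, hhpow]
    have hy₀C₁ := hYle hy₀
    have ht : y₀ * y'⁻¹ ∈ cen C := by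
      apply hcore.omega _ (C₁.mul_mem hy₀C₁ (C₁.inv_mem hy'C₁))
      rw [mul_pow_of_comm (hab _ hy₀C₁ _ (C₁.inv_mem hy'C₁)), inv_pow, hy'pow, mul_inv_cancel]
    apply hy₀Z
    rw [mem_cen]
    refine ⟨hy₀.1, ?_⟩
    intro g hg
    have h1 : y' * g = g * y' := cm_eq_one_iff.mp (hgam g hg (k g₀) hhC)
    have h2 := (mem_cen.mp ht).2 g hg
    calc y₀ * g = (y₀ * y'⁻¹) * (y' * g) := by group
      _ = (y₀ * y'⁻¹) * (g * y') := by rw [h1]
      _ = ((y₀ * y'⁻¹) * g) * y' := by group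
      _ = (g * (y₀ * y'⁻¹)) * y' := by rw [h2]
      _ = g * y₀ := by group

end stage

end Cfsg.Agent.Helper65.Suz
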