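import Cfsg.Prelude.Def_LieRecognition
import Cfsg.Agent.Helper65.Suzuki5

/-!
# Suzuki 2-groups, part 6: from `Cfsg.IsSuzukiTwoGroup` to the working hypotheses
-/

set_option autoImplicit false

namespace Cfsg.Agent.Helper65.Suz

variable {P : Type*} [Group P]

/-- the subgroup of elements of order at most two, when these are central. -/
def invSub (hcen : ∀ x : P, x * x = 1 → ∀ g : P, x * g = g * x) : Subgroup P where
  carrier := {x | x * x = 1}
  one_mem' := by simp
  mul_mem' := by
    intro x y hx hy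
    have hx' : x * x = 1 := hx
    have hy' : y * y = 1 := hy
    show (x * y) * (x * y) = 1
    have h := hcen x hx y
    calc (x * y) * (x * y) = x * (y * x) * y := by group
      _ = x * (x * y) * y := by rw [h]
      _ = (x * x) * (y * y) := by group
      _ = 1 := by rw [hx', hy', one_mul]
  inv_mem' := by
    intro x hx
    have hx' : x * x = 1 := hx
    show x⁻¹ * x⁻¹ = 1
    have : x⁻¹ * x⁻¹ = (x * x)⁻¹ := by group
    rw [this, hx', inv_one]

/-- a cyclic group regular on the involutions of a finite 2-group has odd order. -/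
theorem odd_card_of_regular [Finite P] (hG : IsPGroup 2 P) (K : Subgroup (MulAut P))
    (hreg : ∀ x y : P, x ≠ 1 → x * x = 1 → y ≠ 1 → y * y = 1 → ∃! k : K, (k : MulAut P) x = y)
    {x₀ : P} (hx₀ : x₀ ≠ 1) (hx₀2 : x₀ * x₀ = 1) : Odd (Nat.card K) := by
  classical
  have htrans : ∀ x y : P, x ≠ 1 → x * x = 1 → y ≠ 1 → y * y = 1 →
      ∃ k ∈ K, (k : MulAut P) x = y := by
    intro x y hx hx2 hy hy2
    obtain ⟨k, hk, _⟩ := hreg x y hx hx2 hy hy2
    exact ⟨k, k.2, hk⟩
  have hcen : ∀ x : P, x * x = 1 → ∀ g : P, x * g = g * x :=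
    fun x hx g => central_of_sq_eq_one_of_trans htrans hG hx g
  let f : Option K → invSub hcen := fun o =>
    match o with
    | none => 1
    | some k => ⟨(k : MulAut P) x₀, by
        show (k : MulAut P) x₀ * (k : MulAut P) x₀ = 1
        rw [← map_mul, hx₀2, map_one]⟩
  have hf : Function.Bijective f := by
    constructor
    · intro a b hab
      match a, b with
      | none, none => rfl
      | none, some k =>
        exfalso
        have h1 : (1 : P) = (k : MulAut P) x₀ := congrArg Subtype.val hab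
        have : (k : MulAut P) x₀ = (k : MulAut P) 1 := by rw [map_one, ← h1]
        exact hx₀ ((k : MulAut P).injective this)
      | some k, none =>
        exfalso
        have h1 : (k : MulAut P) x₀ = (1 : P) := congrArg Subtype.val hab
        have : (k : MulAut P) x₀ = (k : MulAut P) 1 := by rw [map_one, h1]
        exact hx₀ ((k : MulAut P).injective this)
      | some k, some k' =>
        have h1 : (k : MulAut P) x₀ = (k' : MulAut P) x₀ := congrArg Subtype.val hab
        have hk'1 : (k' : MulAut P) x₀ ≠ 1 := by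
          intro h
          have : (k' : MulAut P) x₀ = (k' : MulAut P) 1 := by rw [map_one, h]
          exact hx₀ ((k' : MulAut P).injective this)
        have hk'2 : (k' : MulAut P) x₀ * (k' : MulAut P) x₀ = 1 := by
          rw [← map_mul, hx₀2, map_one]
        obtain ⟨k₀, _, huniq⟩ := hreg x₀ _ hx₀ hx₀2 hk'1 hk'2
        rw [huniq k h1, huniq k' rfl]
    · rintro ⟨z, hz⟩
      have hz' : z * z = 1 := hz
      by_cases hz1 : z = 1
      · exact ⟨none, Subtype.ext hz1.symm⟩
      · obtain ⟨k, hk, _⟩ := hreg x₀ z hx₀ hx₀2 hz1 hz'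
        exact ⟨some k, Subtype.ext hk⟩
  have hcard : Nat.card K + 1 = Nat.card (invSub hcen) := by
    rw [← Finite.card_option]
    exact Nat.card_eq_of_bijective f hf
  haveI : Fact (Nat.Prime 2) := ⟨Nat.prime_two⟩
  obtain ⟨n, hn⟩ := (IsPGroup.iff_card).mp (hG.to_subgroup (invSub hcen))
  have hn1 : n ≠ 0 := by
    intro h0
    rw [h0, pow_zero] at hn
    have hKpos := Nat.card_pos (α := K)
    omega
  obtain ⟨m, rfl⟩ := Nat.exists_eq_succ_of_ne_zero hn1
  rw [hn, pow_succ] at hcard
  exact ⟨2 ^ m - 1, by have := Nat.one_le_two_pow (n := m); omega⟩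

/-- the working hypotheses from `Cfsg.IsSuzukiTwoGroup`. -/
theorem exists_suzAct (hP : Cfsg.IsSuzukiTwoGroup P) :
    ∃ K : Subgroup (MulAut P), SuzAct P K ∧ IsCyclic K ∧
      ∀ x y : P, x ≠ 1 → x * x = 1 → y ≠ 1 → y * y = 1 → ∃! k : K, (k : MulAut P) x = y := by
  obtain ⟨hfin, hG, _, ⟨x₀, _, _, hx₀, hx₀2, _, _⟩, K, hcyc, hreg⟩ := hP
  haveI := hfin
  refine ⟨K, ?_, hcyc, hreg⟩
  have hodd := odd_card_of_regular hG K hreg hx₀ hx₀2
  refine ⟨?_, ?_, ?_⟩
  · intro a ha b hb
    haveI := hcyc
    have h := (IsCyclic.commGroup (α := K)).mul_comm ⟨a, ha⟩ ⟨b, hb⟩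
    exact congrArg Subtype.val h
  · intro a ha
    obtain ⟨m, hm⟩ := hodd
    have h1 : (⟨a, ha⟩ : K) ^ Nat.card K = 1 := pow_card_eq_one'
    have h2 : a ^ (2 * m + 1) = 1 := by
      have := congrArg Subtype.val h1
      rw [hm] at this
      simpa using this
    refine ⟨a ^ (m + 1), K.pow_mem ha _, ?_⟩
    rw [← pow_add]
    have : m + 1 + (m + 1) = (2 * m + 1) + 1 := by ring
    rw [this, pow_succ, h2, one_mul]
  · intro x y hx hx2 hy hy2
    obtain ⟨k, hk, _⟩ := hreg x y hx hx2 hy hy2
    exact ⟨k, k.2, hk⟩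

end Cfsg.Agent.Helper65.Suz
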