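import Mathlib
import Cfsg.Agent.S1140

/-!
# Suzuki 2-groups, part 7: additive endomorphisms of a finite field of characteristic two

Every additive endomorphism is a combination of Frobenius powers.
-/

set_option autoImplicit false

namespace Cfsg.Agent.Helper65.Suz

section field

variable {F : Type*} [Field F] [Fintype F] [CharP F 2]

/-- the additive map `a ↦ c * a ^ (2 ^ j)`. -/
def fr (j : ℕ) (c : F) : F →+ F where
  toFun a := c * a ^ (2 ^ j)
  map_zero' := by simp
  map_add' a b := by rw [add_pow_char_pow, mul_add]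

@[simp] theorem fr_apply (j : ℕ) (c a : F) : fr j c a = c * a ^ (2 ^ j) := rfl

theorem fr_add (j : ℕ) (c d : F) : fr j (c + d) = fr j c + fr j d := by
  ext a; simp [add_mul]

theorem fr_zero (j : ℕ) : fr j (0 : F) = 0 := by
  ext a; simp

/-- every ring automorphism of `F` is a Frobenius power. -/
theorem exists_frob_pow (n : ℕ) (hn : Fintype.card F = 2 ^ n) (σ : F ≃+* F) :
    ∃ j < n, ∀ x : F, σ x = x ^ (2 ^ j) := by
  classical
  letI := ZMod.algebra F 2
  have hfr : Module.finrank (ZMod 2) F = n := by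
    have h := Module.card_eq_pow_finrank (K := ZMod 2) (V := F)
    rw [hn, ZMod.card] at h
    exact (Nat.pow_right_injective (le_refl 2) h).symm
  obtain ⟨i, hi⟩ := (FiniteField.bijective_frobeniusAlgEquivOfAlgebraic_pow (ZMod 2) F).2
    ((Cfsg.Agent.S1140.autEquiv F).symm σ)
  refine ⟨i.1, hfr ▸ i.2, fun x => ?_⟩
  have h1 : ((Cfsg.Agent.S1140.autEquiv F).symm σ) x = σ x := rfl
  rw [← h1, ← hi, AlgEquiv.coe_pow, FiniteField.coe_frobeniusAlgEquivOfAlgebraic_iterate,
    ZMod.card]

/-- every additive endomorphism is a combination of Frobenius powers. -/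
theorem exists_frob_expansion (n : ℕ) (hn : Fintype.card F = 2 ^ n) (u : F →+ F) :
    ∃ c : ℕ → F, ∀ a : F, u a = ∑ j ∈ Finset.range n, c j * a ^ (2 ^ j) := by
  classical
  obtain ⟨s, c, hc⟩ := (Cfsg.Agent.S1140.result (F := F)).2.1 u
  choose jf hjf1 hjf2 using exists_frob_pow n hn
  refine ⟨fun j => ∑ σ ∈ s.filter (fun σ => jf σ = j), c σ, fun a => ?_⟩
  rw [hc a]
  have h1 : ∀ σ ∈ s, jf σ ∈ Finset.range n := fun σ _ => Finset.mem_range.mpr (hjf1 σ)
  rw [← Finset.sum_fiberwise_of_maps_to h1]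
  apply Finset.sum_congr rfl
  intro j _
  rw [Finset.sum_mul]
  apply Finset.sum_congr rfl
  intro σ hσ
  rw [hjf2 σ, (Finset.mem_filter.mp hσ).2]

end field

end Cfsg.Agent.Helper65.Suz
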