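import Cfsg.Agent.Helper65.Suzuki7

/-!
# Suzuki 2-groups, part 8: pure (Frobenius-semilinear) decomposition

An additive subgroup `U` of `F →+ F` which is stable under conjugation by the multiplications
`a ↦ y * a` contains the pure components `a ↦ c j * a ^ (2 ^ j)` of each of its elements.
-/

set_option autoImplicit false

namespace Cfsg.Agent.Helper65.Suz

theorem digit_lemma (n i j j₀ : ℕ) (hi : i < n) (hj : j < n) (hj₀ : j₀ < n) (h0 : 0 < j₀) :
    (2 ^ n - 1) ∣ (2 ^ n - 2) * ((2 ^ j₀ - 1) * 2 ^ i) + (2 ^ j - 1) ↔ i = 0 ∧ j = j₀ := by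
  have hA : 2 ≤ 2 ^ n := by
    calc 2 = 2 ^ 1 := by norm_num
      _ ≤ 2 ^ n := Nat.pow_le_pow_right (by norm_num) (by omega)
  have hj1 : 1 ≤ 2 ^ j := Nat.one_le_two_pow
  have hj01 : 1 ≤ 2 ^ j₀ := Nat.one_le_two_pow
  constructor
  · intro h
    -- the reduced exponent
    obtain ⟨a, ε, ha, hε, hsum⟩ : ∃ a ε : ℕ, a < n ∧ ε ≤ 1 ∧ i + j₀ = a + ε * n := by
      by_cases hlt : i + j₀ < n
      · exact ⟨i + j₀, 0, hlt, by omega, by omega⟩
      · exact ⟨i + j₀ - n, 1, by omega, le_refl _, by omega⟩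
    have hQ : ((2 ^ n - 1 : ℕ) : ℤ) = 2 ^ n - 1 := by
      rw [Nat.cast_sub (by omega)]; push_cast; ring
    have hd : ((2 ^ n - 1 : ℕ) : ℤ) ∣ (((2 ^ n - 2) * ((2 ^ j₀ - 1) * 2 ^ i) + (2 ^ j - 1) : ℕ) : ℤ) :=
      Int.natCast_dvd_natCast.mpr h
    have hE : (((2 ^ n - 2) * ((2 ^ j₀ - 1) * 2 ^ i) + (2 ^ j - 1) : ℕ) : ℤ) =
        (2 ^ n - 1 : ℤ) * ((2 ^ j₀ - 1) * 2 ^ i - ε * 2 ^ a) +
          ((2 ^ j + 2 ^ i : ℤ) - (2 ^ a + 1)) := by
      rw [Nat.cast_add, Nat.cast_mul, Nat.cast_mul, Nat.cast_sub hA, Nat.cast_sub hj01,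
        Nat.cast_sub hj1]
      push_cast
      have h2 : (2 : ℤ) ^ (i + j₀) = 2 ^ a * (2 ^ n) ^ ε := by
        rw [hsum, pow_add, ← pow_mul, mul_comm ε n]
      have h3 : (2 : ℤ) ^ j₀ * 2 ^ i = 2 ^ (i + j₀) := by rw [pow_add]; ring
      have h4 : ((2 : ℤ) ^ n) ^ ε = 1 + ε * (2 ^ n - 1) := by
        interval_cases ε <;> simp
      have : ((2 : ℤ) ^ j₀ - 1) * 2 ^ i = 2 ^ a * (1 + ε * (2 ^ n - 1)) - 2 ^ i := by
        rw [sub_mul, h3, h2, h4]; ring
      rw [this]; ring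
    rw [hE, hQ] at hd
    have hd2 : (2 ^ n - 1 : ℤ) ∣ ((2 ^ j + 2 ^ i : ℤ) - (2 ^ a + 1)) :=
      (dvd_add_right (dvd_mul_right _ _)).mp hd
    have hjn : (2 : ℤ) ^ j ≤ 2 ^ (n - 1) := pow_le_pow_right₀ (by norm_num) (by omega)
    have hin : (2 : ℤ) ^ i ≤ 2 ^ (n - 1) := pow_le_pow_right₀ (by norm_num) (by omega)
    have han : (2 : ℤ) ^ a ≤ 2 ^ (n - 1) := pow_le_pow_right₀ (by norm_num) (by omega)
    have hnn : (2 : ℤ) ^ n = 2 * 2 ^ (n - 1) := by
      rw [← pow_succ']; congr 1; omega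
    have hj1' : (1 : ℤ) ≤ 2 ^ j := one_le_pow₀ (by norm_num)
    have hi1' : (1 : ℤ) ≤ 2 ^ i := one_le_pow₀ (by norm_num)
    have ha1' : (1 : ℤ) ≤ 2 ^ a := one_le_pow₀ (by norm_num)
    have hzero : ((2 ^ j + 2 ^ i : ℤ) - (2 ^ a + 1)) = 0 := by
      apply Int.eq_zero_of_abs_lt_dvd hd2
      rw [abs_lt]
      constructor <;> linarith
    have hnat : 2 ^ j + 2 ^ i = 2 ^ a + 1 := by
      have : (2 ^ j + 2 ^ i : ℤ) = 2 ^ a + 1 := by linarith
      exact_mod_cast this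
    rcases Nat.eq_zero_or_pos i with hi0 | hipos
    · subst hi0
      refine ⟨rfl, ?_⟩
      have h5 : 2 ^ j = 2 ^ a := by simpa using hnat
      have h6 : j = a := Nat.pow_right_injective (le_refl 2) h5
      have h7 : ε = 0 := by
        interval_cases ε
        · rfl
        · omega
      rw [h7] at hsum
      omega
    · exfalso
      have h2i : 2 ∣ 2 ^ i := dvd_pow_self 2 (by omega)
      have hi2 : 2 ≤ 2 ^ i := by
        calc 2 = 2 ^ 1 := by norm_num
          _ ≤ 2 ^ i := Nat.pow_le_pow_right (by norm_num) hipos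
      rcases Nat.eq_zero_or_pos j with hj0 | hjpos
      · subst hj0
        have h5 : 2 ^ i = 2 ^ a := by simpa [add_comm] using hnat
        have h6 : i = a := Nat.pow_right_injective (le_refl 2) h5
        interval_cases ε <;> omega
      · have h2j : 2 ∣ 2 ^ j := dvd_pow_self 2 (by omega)
        have hj2 : 2 ≤ 2 ^ j := by
          calc 2 = 2 ^ 1 := by norm_num
            _ ≤ 2 ^ j := Nat.pow_le_pow_right (by norm_num) hjpos
        rcases Nat.eq_zero_or_pos a with ha0 | hapos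
        · subst ha0
          simp at hnat
          omega
        · have h2a : 2 ∣ 2 ^ a := dvd_pow_self 2 (by omega)
          omega
  · rintro ⟨rfl, rfl⟩
    refine ⟨2 ^ j - 1, ?_⟩
    rw [pow_zero, mul_one]
    have : 2 ^ n - 2 + 1 = 2 ^ n - 1 := by omega
    rw [← this]; ring

section field

variable {F : Type*} [Field F] [Fintype F] [CharP F 2] [DecidableEq F]

/-- conjugate of an additive map by the multiplication with a unit. -/
def cj (y : Fˣ) (u : F →+ F) : F →+ F where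
  toFun a := ((y⁻¹ : Fˣ) : F) * u (y * a)
  map_zero' := by simp
  map_add' a b := by rw [mul_add, map_add, mul_add]

@[simp] theorem cj_apply (y : Fˣ) (u : F →+ F) (a : F) :
    cj y u a = ((y⁻¹ : Fˣ) : F) * u (y * a) := rfl

theorem cj_fr (y : Fˣ) (j : ℕ) (c : F) : cj y (fr j c) = fr j ((y : F) ^ (2 ^ j - 1) * c) := by
  ext a
  simp only [cj_apply, fr_apply]
  have h1 : (2 : ℕ) ^ j = (2 ^ j - 1) + 1 := by
    have := Nat.one_le_two_pow (n := j); omega
  have h2 : ((y : F) * a) ^ 2 ^ j = (y : F) ^ (2 ^ j - 1) * y * a ^ 2 ^ j := by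
    rw [mul_pow, ← pow_succ, ← h1]
  rw [h2]
  have h3 : ((y⁻¹ : Fˣ) : F) * (y : F) = 1 := by
    rw [← Units.val_mul, inv_mul_cancel, Units.val_one]
  calc ((y⁻¹ : Fˣ) : F) * (c * ((y : F) ^ (2 ^ j - 1) * y * a ^ 2 ^ j))
      = (((y⁻¹ : Fˣ) : F) * (y : F)) * ((y : F) ^ (2 ^ j - 1) * c * a ^ 2 ^ j) := by ring
    _ = (y : F) ^ (2 ^ j - 1) * c * a ^ 2 ^ j := by rw [h3, one_mul]

/-- the absolute trace, by hand. -/
def trF (n : ℕ) (x : F) : F := ∑ i ∈ Finset.range n, x ^ (2 ^ i)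

theorem trF_sq (n : ℕ) (hn : Fintype.card F = 2 ^ n) (x : F) : trF n x * trF n x = trF n x := by
  unfold trF
  rw [← pow_two, sum_pow_char 2]
  have h1 : ∀ i ∈ Finset.range n, (x ^ 2 ^ i) ^ 2 = x ^ 2 ^ (i + 1) := by
    intro i _
    rw [← pow_mul, ← pow_succ]
  rw [Finset.sum_congr rfl h1]
  have h2 := Finset.sum_range_succ' (fun i => x ^ 2 ^ i) n
  have h4 := Finset.sum_range_succ (fun i => x ^ 2 ^ i) n
  have h3 : x ^ 2 ^ n = x := by rw [← hn]; exact FiniteField.pow_card x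
  simp only [pow_zero, pow_one] at h2
  rw [h3, h2] at h4
  exact add_right_cancel h4

theorem trF_eq_zero_or_one (n : ℕ) (hn : Fintype.card F = 2 ^ n) (x : F) :
    trF n x = 0 ∨ trF n x = 1 := by
  have h := trF_sq n hn x
  have h2 : trF n x * (trF n x - 1) = 0 := by rw [mul_sub, h, mul_one, sub_self]
  rcases mul_eq_zero.mp h2 with h3 | h3
  · left; exact h3
  · right; exact sub_eq_zero.mp h3

theorem unit_inv_eq_pow (n : ℕ) (hn : Fintype.card F = 2 ^ n) (y : Fˣ) :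
    ((y⁻¹ : Fˣ) : F) = (y : F) ^ (2 ^ n - 2) := by
  have h1 : (y : F) ^ (2 ^ n - 1) = 1 := by
    rw [← hn]; exact FiniteField.pow_card_sub_one_eq_one _ y.ne_zero
  have hA : 2 ≤ 2 ^ n := by
    rcases Nat.eq_zero_or_pos n with h0 | hpos
    · exfalso
      rw [h0, pow_zero] at hn
      have := Fintype.one_lt_card (α := F)
      omega
    · calc 2 = 2 ^ 1 := by norm_num
        _ ≤ 2 ^ n := Nat.pow_le_pow_right (by norm_num) hpos
  have h2 : (y : F) ^ (2 ^ n - 2) * y = 1 := by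
    rw [← pow_succ]
    have : 2 ^ n - 2 + 1 = 2 ^ n - 1 := by omega
    rw [this, h1]
  rw [Units.val_inv_eq_inv_val]
  exact (eq_inv_of_mul_eq_one_left h2).symm

/-- the character sum with trace weights. -/
theorem sum_trF_mul_pow (n : ℕ) (hn : Fintype.card F = 2 ^ n) (j j₀ : ℕ) (hj : j < n)
    (hj₀ : j₀ < n) (h0 : 0 < j₀) :
    ∑ y : Fˣ, trF n (((y⁻¹ : Fˣ) : F) ^ (2 ^ j₀ - 1)) * (y : F) ^ (2 ^ j - 1) =
      if j = j₀ then 1 else 0 := by
  classical
  unfold trF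
  have h1 : ∀ y : Fˣ, (∑ i ∈ Finset.range n, (((y⁻¹ : Fˣ) : F) ^ (2 ^ j₀ - 1)) ^ 2 ^ i) *
      (y : F) ^ (2 ^ j - 1) =
      ∑ i ∈ Finset.range n, (y : F) ^ ((2 ^ n - 2) * ((2 ^ j₀ - 1) * 2 ^ i) + (2 ^ j - 1)) := by
    intro y
    rw [Finset.sum_mul]
    apply Finset.sum_congr rfl
    intro i _
    rw [unit_inv_eq_pow n hn y, ← pow_mul, ← pow_mul, ← pow_add]
  rw [Finset.sum_congr rfl (fun y _ => h1 y), Finset.sum_comm]
  have h2 : ∀ i ∈ Finset.range n,
      ∑ y : Fˣ, (y : F) ^ ((2 ^ n - 2) * ((2 ^ j₀ - 1) * 2 ^ i) + (2 ^ j - 1)) =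
        if i = 0 ∧ j = j₀ then 1 else 0 := by
    intro i hi
    rw [FiniteField.sum_pow_units, hn,
      if_congr (digit_lemma n i j j₀ (Finset.mem_range.mp hi) hj hj₀ h0) rfl rfl]
    split_ifs
    · exact CharTwo.neg_eq 1
    · rfl
  rw [Finset.sum_congr rfl h2]
  by_cases hjj : j = j₀
  · simp only [hjj, and_true, if_true]
    rw [Finset.sum_ite_eq' (Finset.range n) 0 (fun _ => (1 : F))]
    simp only [Finset.mem_range]
    rw [if_pos (by omega)]
  · simp [hjj]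

theorem sum_pow_sub_one (n : ℕ) (hn : Fintype.card F = 2 ^ n) (j : ℕ) (hj : j < n) :
    ∑ y : Fˣ, (y : F) ^ (2 ^ j - 1) = if j = 0 then 1 else 0 := by
  classical
  rw [FiniteField.sum_pow_units, hn]
  by_cases hj0 : j = 0
  · subst hj0
    simp only [pow_zero, Nat.sub_self, dvd_zero, if_true]
    exact CharTwo.neg_eq 1
  · rw [if_neg hj0, if_neg]
    intro hdvd
    have h1 : 2 ^ j < 2 ^ n := Nat.pow_lt_pow_right (by norm_num) hj
    have h2 : 2 ≤ 2 ^ j := by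
      calc 2 = 2 ^ 1 := by norm_num
        _ ≤ 2 ^ j := Nat.pow_le_pow_right (by norm_num) (by omega)
    have := Nat.le_of_dvd (by omega) hdvd
    omega

/-- a sum of conjugates, in terms of the Frobenius expansion. -/
theorem sum_cj_apply (n : ℕ) (c : ℕ → F) (u : F →+ F)
    (hc : ∀ a : F, u a = ∑ j ∈ Finset.range n, c j * a ^ (2 ^ j)) (T : Finset Fˣ) (a : F) :
    (∑ y ∈ T, cj y u) a =
      ∑ j ∈ Finset.range n, (∑ y ∈ T, (y : F) ^ (2 ^ j - 1)) * (c j * a ^ (2 ^ j)) := by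
  rw [AddMonoidHom.finsetSum_apply]
  have h1 : ∀ y ∈ T, cj y u a =
      ∑ j ∈ Finset.range n, (y : F) ^ (2 ^ j - 1) * (c j * a ^ (2 ^ j)) := by
    intro y _
    rw [cj_apply, hc, Finset.mul_sum]
    apply Finset.sum_congr rfl
    intro j _
    have := DFunLike.congr_fun (cj_fr y j (c j)) a
    simp only [cj_apply, fr_apply] at this
    rw [this]; ring
  rw [Finset.sum_congr rfl h1, Finset.sum_comm]
  apply Finset.sum_congr rfl
  intro j _
  rw [Finset.sum_mul]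

/-- **Pure decomposition.**  A stable additive subgroup of `F →+ F` contains the pure
components of each of its elements. -/
theorem exists_pure_decomp (n : ℕ) (hn : Fintype.card F = 2 ^ n)
    (U : AddSubgroup (F →+ F)) (hU : ∀ y : Fˣ, ∀ u ∈ U, cj y u ∈ U) (u : F →+ F) (hu : u ∈ U) :
    ∃ c : ℕ → F, (∀ a : F, u a = ∑ j ∈ Finset.range n, c j * a ^ (2 ^ j)) ∧
      ∀ j < n, fr j (c j) ∈ U := by
  obtain ⟨c, hc⟩ := exists_frob_expansion n hn u
  refine ⟨c, hc, fun j₀ hj₀ => ?_⟩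
  rcases Nat.eq_zero_or_pos j₀ with h0 | h0
  · have hv : (∑ y ∈ (Finset.univ : Finset Fˣ), cj y u) ∈ U := U.sum_mem (fun y _ => hU y u hu)
    have he : (∑ y ∈ (Finset.univ : Finset Fˣ), cj y u) = fr j₀ (c j₀) := by
      ext a
      rw [sum_cj_apply n c u hc, fr_apply]
      have h1 : ∀ j ∈ Finset.range n,
          (∑ y ∈ (Finset.univ : Finset Fˣ), (y : F) ^ (2 ^ j - 1)) * (c j * a ^ (2 ^ j)) =
            if j = j₀ then c j₀ * a ^ (2 ^ j₀) else 0 := by
        intro j hj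
        rw [sum_pow_sub_one n hn j (Finset.mem_range.mp hj), h0]
        split_ifs with h
        · rw [h, one_mul]
        · rw [zero_mul]
      rw [Finset.sum_congr rfl h1, Finset.sum_ite_eq' (Finset.range n) j₀, if_pos
        (Finset.mem_range.mpr hj₀)]
    rw [← he]; exact hv
  · set T : Finset Fˣ :=
      Finset.univ.filter (fun y : Fˣ => trF n (((y⁻¹ : Fˣ) : F) ^ (2 ^ j₀ - 1)) = 1) with hT
    have hv : (∑ y ∈ T, cj y u) ∈ U := U.sum_mem (fun y _ => hU y u hu)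
    have he : (∑ y ∈ T, cj y u) = fr j₀ (c j₀) := by
      ext a
      rw [sum_cj_apply n c u hc, fr_apply]
      have h1 : ∀ j ∈ Finset.range n,
          (∑ y ∈ T, (y : F) ^ (2 ^ j - 1)) * (c j * a ^ (2 ^ j)) =
            if j = j₀ then c j₀ * a ^ (2 ^ j₀) else 0 := by
        intro j hj
        have h2 : ∑ y ∈ T, (y : F) ^ (2 ^ j - 1) =
            ∑ y : Fˣ, trF n (((y⁻¹ : Fˣ) : F) ^ (2 ^ j₀ - 1)) * (y : F) ^ (2 ^ j - 1) := by
          rw [hT, Finset.sum_filter]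
          apply Finset.sum_congr rfl
          intro y _
          rcases trF_eq_zero_or_one n hn (((y⁻¹ : Fˣ) : F) ^ (2 ^ j₀ - 1)) with h | h
          · rw [h, if_neg zero_ne_one, zero_mul]
          · rw [h, if_pos rfl, one_mul]
        rw [h2, sum_trF_mul_pow n hn j j₀ (Finset.mem_range.mp hj) hj₀ h0]
        split_ifs with h
        · rw [h, one_mul]
        · rw [zero_mul]
      rw [Finset.sum_congr rfl h1, Finset.sum_ite_eq' (Finset.range n) j₀, if_pos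
        (Finset.mem_range.mpr hj₀)]
    rw [← he]; exact hv

end field

end Cfsg.Agent.Helper65.Suz
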