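import Cfsg.Agent.Helper65.Suzuki8

/-!
# Suzuki 2-groups, part 9: consequences of the pure decomposition

* a nontrivial additive subgroup of `F` stable under the `(2 ^ j - 1)`-th powers is `F`;
* a stable additive subgroup of idempotents is contained in `{0, id}`;
* the quadratic map attached to the "bad case" vanishes.
-/

set_option autoImplicit false

namespace Cfsg.Agent.Helper65.Suz

section field

variable {F : Type*} [Field F] [Fintype F] [CharP F 2] [DecidableEq F]

/-- a Frobenius power `x ↦ x ^ (2 ^ j)` with `0 < j < n` is not the identity. -/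
theorem frob_ne_id (n : ℕ) (hn : Fintype.card F = 2 ^ n) (j : ℕ) (hj0 : 0 < j) (hjn : j < n)
    (h : ∀ x : F, x ^ (2 ^ j) = x) : False := by
  have h1 : ∀ y : Fˣ, y ^ (2 ^ j - 1) = 1 := by
    intro y
    have h2 := h (y : F)
    have h3 : (2 : ℕ) ^ j = (2 ^ j - 1) + 1 := by
      have := Nat.one_le_two_pow (n := j); omega
    rw [h3, pow_succ] at h2
    have h4 : (y : F) ^ (2 ^ j - 1) = 1 := by
      have := mul_right_cancel₀ y.ne_zero (h2.trans (one_mul _).symm)
      exact this
    apply Units.ext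
    rw [Units.val_pow_eq_pow_val, h4, Units.val_one]
  have h5 := (FiniteField.forall_pow_eq_one_iff F (2 ^ j - 1)).mp h1
  rw [hn] at h5
  have h6 : 2 ^ j < 2 ^ n := Nat.pow_lt_pow_right (by norm_num) hjn
  have h7 : 2 ≤ 2 ^ j := by
    calc 2 = 2 ^ 1 := by norm_num
      _ ≤ 2 ^ j := Nat.pow_le_pow_right (by norm_num) hj0
  have := Nat.le_of_dvd (by omega) h5
  omega

theorem pow_two_pow_injective (j : ℕ) {x y : F} (h : x ^ (2 ^ j) = y ^ (2 ^ j)) : x = y := by
  have h1 : (x - y) ^ (2 ^ j) = 0 := by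
    rw [sub_pow_char_pow, h, sub_self]
  exact sub_eq_zero.mp (pow_eq_zero_iff (by positivity) |>.mp h1)

/-- a nontrivial additive subgroup of `F` stable under multiplication by the
`(2 ^ j - 1)`-th powers, `0 < j < n`, is everything. -/
theorem mem_of_stable (n : ℕ) (hn : Fintype.card F = 2 ^ n) (j : ℕ) (hj0 : 0 < j) (hjn : j < n)
    (A : AddSubgroup F) (hA : ∀ y : Fˣ, ∀ a ∈ A, (y : F) ^ (2 ^ j - 1) * a ∈ A)
    {a₀ : F} (ha₀ : a₀ ∈ A) (ha₀0 : a₀ ≠ 0) (b : F) : b ∈ A := by
  -- the multiplier ring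
  let L : Set F := {l | ∀ a ∈ A, l * a ∈ A}
  have hL0 : (0 : F) ∈ L := fun a _ => by rw [zero_mul]; exact A.zero_mem
  have hL1 : (1 : F) ∈ L := fun a ha => by rw [one_mul]; exact ha
  have hLadd : ∀ x ∈ L, ∀ y ∈ L, x + y ∈ L := fun x hx y hy a ha => by
    rw [add_mul]; exact A.add_mem (hx a ha) (hy a ha)
  have hLmul : ∀ x ∈ L, ∀ y ∈ L, x * y ∈ L := fun x hx y hy a ha => by
    rw [mul_assoc]; exact hx _ (hy a ha)
  have hLpow : ∀ x ∈ L, ∀ m : ℕ, x ^ m ∈ L := by
    intro x hx m
    induction m with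
    | zero => rw [pow_zero]; exact hL1
    | succ m ih => rw [pow_succ]; exact hLmul _ ih _ hx
  have hLinv : ∀ x ∈ L, x⁻¹ ∈ L := by
    intro x hx
    by_cases hx0 : x = 0
    · rw [hx0, inv_zero]; exact hL0
    · have := unit_inv_eq_pow n hn (Units.mk0 x hx0)
      rw [Units.val_inv_eq_inv_val, Units.val_mk0] at this
      rw [this]; exact hLpow x hx _
  have hLsub : ∀ x ∈ L, ∀ y ∈ L, x - y ∈ L := fun x hx y hy a ha => by
    rw [sub_mul]; exact A.sub_mem (hx a ha) (hy a ha)
  have hLgen : ∀ x : F, x ≠ 0 → x ^ (2 ^ j - 1) ∈ L := fun x hx a ha => by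
    have := hA (Units.mk0 x hx) a ha
    rwa [Units.val_mk0] at this
  have hpow : ∀ x : F, x ^ (2 ^ j) = x ^ (2 ^ j - 1) * x := by
    intro x
    rw [← pow_succ]
    congr 1
    have := Nat.one_le_two_pow (n := j); omega
  -- elements outside `L` are fixed by the Frobenius power
  have hfix : ∀ y : F, y ∉ L → y ^ (2 ^ j) = y := by
    intro y hy
    have hy0 : y ≠ 0 := fun h => hy (h ▸ hL0)
    have hy1 : 1 + y ≠ 0 := by
      intro h
      apply hy
      have : y = 1 := by
        have h2 : y = -1 := by linear_combination h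
        rw [h2, CharTwo.neg_eq]
      rw [this]; exact hL1
    set lam := y ^ (2 ^ j - 1) with hlam
    set mu := (1 + y) ^ (2 ^ j - 1) with hmu
    have hlamL : lam ∈ L := hLgen y hy0
    have hmuL : mu ∈ L := hLgen _ hy1
    have e1 : mu * (1 + y) = 1 + lam * y := by
      rw [hmu, ← hpow, add_pow_char_pow, one_pow, hpow y]
    have e2 : (mu - lam) * y = 1 - mu := by linear_combination e1
    by_cases hml : mu = lam
    · rw [hml, sub_self, zero_mul] at e2
      have hlam1 : lam = 1 := by linear_combination e2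
      rw [hpow y, ← hlam, hlam1, one_mul]
    · exfalso
      apply hy
      have hne : mu - lam ≠ 0 := sub_ne_zero.mpr hml
      have : y = (mu - lam)⁻¹ * (1 - mu) := by
        rw [← e2, ← mul_assoc, inv_mul_cancel₀ hne, one_mul]
      rw [this]
      exact hLmul _ (hLinv _ (hLsub _ hmuL _ hlamL)) _ (hLsub _ hL1 _ hmuL)
  have hall : ∀ x : F, x ∈ L := by
    by_contra hnot
    obtain ⟨y₀, hy₀⟩ := not_forall.mp hnot
    apply frob_ne_id n hn j hj0 hjn
    intro x
    by_cases hx : x ∈ L
    · have h1 : y₀ + x ∉ L := by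
        intro h
        apply hy₀
        have := hLsub _ h _ hx
        rwa [add_sub_cancel_right] at this
      have h2 := hfix _ h1
      rw [add_pow_char_pow, hfix _ hy₀] at h2
      exact add_left_cancel h2
    · exact hfix x hx
  have := hall (b * a₀⁻¹) a₀ ha₀
  rwa [mul_assoc, inv_mul_cancel₀ ha₀0, mul_one] at this

/-- a stable additive subgroup of idempotents is contained in `{0, id}`. -/
theorem eq_zero_or_id_of_idempotent (n : ℕ) (hn : Fintype.card F = 2 ^ n)
    (U : AddSubgroup (F →+ F)) (hU : ∀ y : Fˣ, ∀ u ∈ U, cj y u ∈ U)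
    (hid : ∀ u ∈ U, ∀ a : F, u (u a) = u a) (u : F →+ F) (hu : u ∈ U) :
    u = 0 ∨ ∀ a : F, u a = a := by
  obtain ⟨c, hc, hcU⟩ := exists_pure_decomp n hn U hU u hu
  have hn0 : 0 < n := by
    rcases Nat.eq_zero_or_pos n with h0 | hpos
    · exfalso
      rw [h0, pow_zero] at hn
      have := Fintype.one_lt_card (α := F)
      omega
    · exact hpos
  have hzero : ∀ j ∈ Finset.range n, j ≠ 0 → c j * (1 : F) ^ (2 ^ j) = 0 ∧ c j = 0 := by
    intro j hj hj0
    have hjn := Finset.mem_range.mp hj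
    suffices h : c j = 0 by rw [h, zero_mul]; exact ⟨rfl, rfl⟩
    by_contra hcj
    have h1 := hid _ (hcU j hjn)
    simp only [fr_apply] at h1
    have h2 : ∀ a : F, c j * a ^ (2 ^ j) = a := by
      intro a
      have := mul_left_cancel₀ hcj (h1 a)
      exact pow_two_pow_injective j this
    have h3 : c j = 1 := by simpa using h2 1
    apply frob_ne_id n hn j (Nat.pos_of_ne_zero hj0) hjn
    intro x
    have := h2 x
    rwa [h3, one_mul] at this
  have hu0 : ∀ a : F, u a = c 0 * a := by
    intro a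
    rw [hc a, Finset.sum_eq_single_of_mem 0 (Finset.mem_range.mpr hn0)]
    · rw [pow_zero, pow_one]
    · intro j hj hj0
      rw [(hzero j hj hj0).2, zero_mul]
  have h1 := hid u hu 1
  rw [hu0, hu0, mul_one] at h1
  have h2 : c 0 * (c 0 - 1) = 0 := by rw [mul_sub, h1, mul_one, sub_self]
  rcases mul_eq_zero.mp h2 with h3 | h3
  · left
    ext a
    rw [hu0, h3, zero_mul]; rfl
  · right
    intro a
    rw [hu0, sub_eq_zero.mp h3, one_mul]

end field

end Cfsg.Agent.Helper65.Suz
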