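import Mathlib
import Cfsg.Agent.Helper95.SzOrd.Defs
import Cfsg.Agent.S1137
import Cfsg.Agent.S1138

/-!
# Suzuki order theorem (helper95), piece (A3), core: `Q` is a Suzuki 2-group.

The facts used from (A1) (`K_fpf`), (A2) (`3 ≤ d`, the number of involutions of `Q`, transitivity of `K`
on them) and S0345 (`K` cyclic) are explicit hypotheses.
-/

set_option autoImplicit false

namespace Cfsg.Agent.Helper65.SzOrd

open MulAction Cfsg.Agent.Helper95.SzOrd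

variable {G : Type*} [Group G]

theorem A3_orderOf_two {x : G} (h1 : x ≠ 1) (h2 : x * x = 1) : orderOf x = 2 := by
  have : Fact (Nat.Prime 2) := ⟨Nat.prime_two⟩
  exact orderOf_eq_prime (by rw [pow_two]; exact h2) h1

theorem A3_of_orderOf_two {x : G} (h : orderOf x = 2) : x ≠ 1 ∧ x * x = 1 := by
  constructor
  · rintro rfl
    rw [orderOf_one] at h
    omega
  · rw [← pow_two, ← h]
    exact pow_orderOf_eq_one x

theorem A3_mem_Zs_iff {Q : Subgroup G} {t : G} (ht : t ∈ Q) :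
    t ∈ Zs Q ↔ (⟨t, ht⟩ : Q) ∈ Subgroup.center Q := by
  unfold Zs
  rw [Subgroup.mem_map]
  constructor
  · rintro ⟨x, hx, hxt⟩
    have : x = ⟨t, ht⟩ := Subtype.ext hxt
    rwa [← this]
  · intro h
    exact ⟨⟨t, ht⟩, h, rfl⟩

/-- `Q` is a Suzuki 2-group -/
theorem A3_isSuzuki [Finite G] (K Q : Subgroup G)
    (hnorm : ∀ k ∈ K, ∀ u ∈ Q, k * u * k⁻¹ ∈ Q)
    (htwo : IsPGroup 2 Q) (hnonab : ∃ u ∈ Q, ∃ v ∈ Q, u * v ≠ v * u)
    (hcyc : IsCyclic K)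
    (hfpf : ∀ k ∈ K, k ≠ 1 → ∀ u ∈ Q, k * u * k⁻¹ = u → u = 1)
    (hcardI : 1 < Nat.card {t : G // orderOf t = 2 ∧ t ∈ Q})
    (htrans : ∀ s ∈ Q, ∀ t ∈ Q, orderOf s = 2 → orderOf t = 2 → ∃ k ∈ K, k * s * k⁻¹ = t) :
    Cfsg.IsSuzukiTwoGroup ↥Q := by
  have hKN : K ≤ Subgroup.normalizer (Q : Set G) := by
    intro k hk
    rw [Subgroup.mem_normalizer_iff]
    intro u
    constructor
    · exact hnorm k hk u
    · intro hu
      have := hnorm k⁻¹ (K.inv_mem hk) _ hu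
      simpa [mul_assoc] using this
  obtain ⟨cj, hcj⟩ : ∃ cj : K →* MulAut ↥Q,
      cj = Q.normalizerMonoidHom.comp (Subgroup.inclusion hKN) := ⟨_, rfl⟩
  have hcj_apply : ∀ (k : K) (x : Q), ((cj k x : Q) : G) = (k : G) * x * (k : G)⁻¹ := by
    intro k x
    rw [hcj]
    rfl
  refine ⟨inferInstance, htwo, ?_, ?_, cj.range, ?_, ?_⟩
  · obtain ⟨u, hu, v, hv, huv⟩ := hnonab
    exact ⟨⟨u, hu⟩, ⟨v, hv⟩, fun hc => huv (congrArg Subtype.val hc)⟩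
  · have hnt := Finite.one_lt_card_iff_nontrivial.mp hcardI
    obtain ⟨s, t, hst⟩ := exists_pair_ne {t : G // orderOf t = 2 ∧ t ∈ Q}
    obtain ⟨hs1, hs2⟩ := A3_of_orderOf_two s.2.1
    obtain ⟨ht1, ht2⟩ := A3_of_orderOf_two t.2.1
    refine ⟨⟨s.1, s.2.2⟩, ⟨t.1, t.2.2⟩, ?_, ?_, ?_, ?_, ?_⟩
    · intro hc
      have hc' : (s : G) = (t : G) := congrArg (fun z : Q => (z : G)) hc
      exact hst (Subtype.ext hc')
    · intro hc
      exact hs1 (congrArg Subtype.val hc)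
    · exact Subtype.ext hs2
    · intro hc
      exact ht1 (congrArg Subtype.val hc)
    · exact Subtype.ext ht2
  · exact isCyclic_of_surjective cj.rangeRestrict cj.rangeRestrict_surjective
  · intro x y hx1 hx2 hy1 hy2
    have hx1' : (x : G) ≠ 1 := fun hc => hx1 (Subtype.ext hc)
    have hy1' : (y : G) ≠ 1 := fun hc => hy1 (Subtype.ext hc)
    have hx2' : (x : G) * (x : G) = 1 := congrArg Subtype.val hx2
    have hy2' : (y : G) * (y : G) = 1 := congrArg Subtype.val hy2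
    obtain ⟨k, hk, hkxy⟩ := htrans x x.2 y y.2 (A3_orderOf_two hx1' hx2') (A3_orderOf_two hy1' hy2')
    refine ⟨⟨cj ⟨k, hk⟩, ⟨⟨k, hk⟩, rfl⟩⟩, ?_, ?_⟩
    · apply Subtype.ext
      rw [hcj_apply]
      exact hkxy
    · rintro ⟨φ, ⟨k', rfl⟩⟩ hφ
      have hφ' : ((cj k' x : Q) : G) = y := congrArg Subtype.val hφ
      rw [hcj_apply] at hφ'
      have hkk : (⟨k, hk⟩ : K)⁻¹ * k' = 1 := by
        by_contra hne
        have hne' : (k⁻¹ * (k' : G)) ≠ 1 := fun hc => hne (Subtype.ext hc)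
        have hmem : k⁻¹ * (k' : G) ∈ K := K.mul_mem (K.inv_mem hk) k'.2
        apply hx1'
        apply hfpf _ hmem hne' x x.2
        have e1 : (k' : G) * x * (k' : G)⁻¹ = k * x * k⁻¹ := by rw [hφ', hkxy]
        calc k⁻¹ * (k' : G) * x * (k⁻¹ * (k' : G))⁻¹
            = k⁻¹ * ((k' : G) * x * (k' : G)⁻¹) * k := by group
          _ = k⁻¹ * (k * x * k⁻¹) * k := by rw [e1]
          _ = x := by group
      have : k' = ⟨k, hk⟩ := by
        have := inv_mul_eq_one.mp hkk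
        exact this.symm
      subst this
      rfl

/-- the conclusion of (A3) from the Suzuki 2-group property -/
theorem A3_concl [Finite G] (K Q : Subgroup G)
    (hS : Cfsg.IsSuzukiTwoGroup ↥Q) (htwo : IsPGroup 2 Q)
    (h3 : 3 ≤ Nat.card K)
    (hcardI : Nat.card {t : G // orderOf t = 2 ∧ t ∈ Q} = Nat.card K) :
    ∃ q n : ℕ, 2 ≤ n ∧ q = 2 ^ n ∧ Nat.card K + 1 = q ∧ Nat.card (Zs Q) = q ∧
      (Nat.card Q = q ^ 2 ∨ Nat.card Q = q ^ 3) ∧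
      (∀ u ∈ Q, (u ≠ 1 ∧ u * u = 1) ↔ (u ≠ 1 ∧ u ∈ Zs Q)) ∧
      (∀ x ∈ Q, x * x ∈ Zs Q) ∧ (∀ x ∈ Q, ∀ y ∈ Q, x⁻¹ * y⁻¹ * x * y ∈ Zs Q) ∧
      (∀ x ∈ Q, x ^ 4 = 1) := by
  obtain ⟨h37a, -⟩ := Cfsg.Agent.S1137.result hS
  obtain ⟨h38a, h38b, h38c, h38d⟩ := Cfsg.Agent.S1138.result hS
  have hinv : ∀ u ∈ Q, (u ≠ 1 ∧ u * u = 1) ↔ (u ≠ 1 ∧ u ∈ Zs Q) := by
    intro u hu
    have key := h37a ⟨u, hu⟩
    rw [A3_mem_Zs_iff hu]
    constructor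
    · rintro ⟨h1, h2⟩
      have := key.mp ⟨fun hc => h1 (congrArg Subtype.val hc), Subtype.ext h2⟩
      exact ⟨h1, this.1⟩
    · rintro ⟨h1, h2⟩
      have := key.mpr ⟨h2, fun hc => h1 (congrArg Subtype.val hc)⟩
      exact ⟨h1, congrArg Subtype.val this.2⟩
  have hset : ((Zs Q : Subgroup G) : Set G) = insert 1 {t : G | orderOf t = 2 ∧ t ∈ Q} := by
    ext t
    simp only [SetLike.mem_coe, Set.mem_insert_iff, Set.mem_setOf_eq]
    constructor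
    · intro ht
      by_cases h1 : t = 1
      · left; exact h1
      · right
        have htQ : t ∈ Q := (mem_Zs.mp ht).1
        have := (hinv t htQ).mpr ⟨h1, ht⟩
        exact ⟨A3_orderOf_two this.1 this.2, htQ⟩
    · rintro (rfl | ⟨h2, htQ⟩)
      · exact (Zs Q).one_mem
      · obtain ⟨h1, hsq⟩ := A3_of_orderOf_two h2
        exact ((hinv t htQ).mp ⟨h1, hsq⟩).2
  have hcardZ : Nat.card (Zs Q) = Nat.card K + 1 := by
    rw [← hcardI]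
    have e1 : Nat.card (Zs Q) = ((Zs Q : Subgroup G) : Set G).ncard := Nat.card_coe_set_eq _
    have e2 : Nat.card {t : G // orderOf t = 2 ∧ t ∈ Q} =
        {t : G | orderOf t = 2 ∧ t ∈ Q}.ncard := Nat.card_coe_set_eq _
    rw [e1, e2, hset, Set.ncard_insert_of_notMem _ (Set.toFinite _)]
    intro hc
    have := hc.1
    rw [orderOf_one] at this
    omega
  have hcZ : Nat.card (Zs Q) = Nat.card (Subgroup.center Q) := by
    unfold Zs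
    exact Subgroup.card_map_of_injective Q.subtype_injective
  have : Fact (Nat.Prime 2) := ⟨Nat.prime_two⟩
  obtain ⟨n, hn⟩ := IsPGroup.iff_card.mp (htwo.to_subgroup (Subgroup.center Q))
  have hq : Nat.card K + 1 = 2 ^ n := by rw [← hcardZ, hcZ, hn]
  refine ⟨2 ^ n, n, ?_, rfl, hq, ?_, ?_, hinv, ?_, ?_, ?_⟩
  · by_contra hlt
    push Not at hlt
    interval_cases n <;> omega
  · rw [hcZ, hn]
  · rw [hn] at h38c
    exact h38c
  · intro x hx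
    rw [A3_mem_Zs_iff (Q.mul_mem hx hx)]
    exact h38a ⟨x, hx⟩
  · intro x hx y hy
    rw [A3_mem_Zs_iff (Q.mul_mem (Q.mul_mem (Q.mul_mem (Q.inv_mem hx) (Q.inv_mem hy)) hx) hy)]
    exact h38b ⟨x, hx⟩ ⟨y, hy⟩
  · intro x hx
    have := Monoid.pow_exponent_eq_one (⟨x, hx⟩ : Q)
    rw [h38d] at this
    exact congrArg Subtype.val this

/-- (A3) core: everything from explicit hypotheses -/
theorem A3_core [Finite G] (K Q : Subgroup G)
    (hnorm : ∀ k ∈ K, ∀ u ∈ Q, k * u * k⁻¹ ∈ Q)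
    (htwo : IsPGroup 2 Q) (hnonab : ∃ u ∈ Q, ∃ v ∈ Q, u * v ≠ v * u)
    (hcyc : IsCyclic K)
    (hfpf : ∀ k ∈ K, k ≠ 1 → ∀ u ∈ Q, k * u * k⁻¹ = u → u = 1)
    (h3 : 3 ≤ Nat.card K)
    (hcardI : Nat.card {t : G // orderOf t = 2 ∧ t ∈ Q} = Nat.card K)
    (htrans : ∀ s ∈ Q, ∀ t ∈ Q, orderOf s = 2 → orderOf t = 2 → ∃ k ∈ K, k * s * k⁻¹ = t) :
    ∃ q n : ℕ, 2 ≤ n ∧ q = 2 ^ n ∧ Nat.card K + 1 = q ∧ Nat.card (Zs Q) = q ∧
      (Nat.card Q = q ^ 2 ∨ Nat.card Q = q ^ 3) ∧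
      (∀ u ∈ Q, (u ≠ 1 ∧ u * u = 1) ↔ (u ≠ 1 ∧ u ∈ Zs Q)) ∧
      (∀ x ∈ Q, x * x ∈ Zs Q) ∧ (∀ x ∈ Q, ∀ y ∈ Q, x⁻¹ * y⁻¹ * x * y ∈ Zs Q) ∧
      (∀ x ∈ Q, x ^ 4 = 1) :=
  A3_concl K Q
    (A3_isSuzuki K Q hnorm htwo hnonab hcyc hfpf (by rw [hcardI]; omega) htrans) htwo h3 hcardI

end Cfsg.Agent.Helper65.SzOrd
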