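import Mathlib
import Cfsg.Agent.Helper95.SzOrd.Defs
import Cfsg.Agent.Helper65.SzOrdA3Core
import Cfsg.Agent.Helper41.SzOrdA1
import Cfsg.Agent.Helper41.SzOrdA2
import Cfsg.Agent.S0345

/-!
# Suzuki order theorem (helper95), piece (A3): `Q` is a Suzuki 2-group; VERBATIM SkelAB statement.
-/

set_option autoImplicit false

namespace Cfsg.Agent.Helper65.SzOrd

open MulAction Cfsg.Agent.Helper95.SzOrd

variable {G Ω : Type*} [Group G] [Fintype G] [MulAction G Ω] [Fintype Ω]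

/-- (A3) `Q` is a Suzuki 2-group: the image of `K` (cyclic by S0345) in `MulAut Q` acts regularly on
the involutions of `Q` (A2 + `K_fpf`).  S1137 and S1138 then give everything; `q := |Z(Q)| = d + 1`
because `Z(Q) \ {1}` is the set of involutions of `Q`; `q` is a power of `2` and `q ≥ 4`. -/
theorem A3_suzuki {a b : Ω} {Q : Subgroup G} (h : ZT a Q) (hab : a ≠ b) :
    ∃ q n : ℕ, 2 ≤ n ∧ q = 2 ^ n ∧ Nat.card (Kab G a b) + 1 = q ∧ Nat.card (Zs Q) = q ∧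
      (Nat.card Q = q ^ 2 ∨ Nat.card Q = q ^ 3) ∧
      (∀ u ∈ Q, (u ≠ 1 ∧ u * u = 1) ↔ (u ≠ 1 ∧ u ∈ Zs Q)) ∧
      (∀ x ∈ Q, x * x ∈ Zs Q) ∧ (∀ x ∈ Q, ∀ y ∈ Q, x⁻¹ * y⁻¹ * x * y ∈ Zs Q) ∧
      (∀ x ∈ Q, x ^ 4 = 1) := by
  obtain ⟨-, -, hA1⟩ := Cfsg.Agent.Helper41.SzOrd.A1_base h
  obtain ⟨-, -, hfpf⟩ := hA1 b hab
  obtain ⟨-, h3, -, hcardI, -, htrans, -⟩ := Cfsg.Agent.Helper41.SzOrd.A2_invol h hab
  haveI := h.simple
  have hcyc : IsCyclic ↥(Kab G a b) := (Cfsg.Agent.S0345.result h.hZ hab).1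
  refine A3_core (Kab G a b) Q ?_ h.two h.nonab hcyc hfpf h3 hcardI htrans
  intro k hk u hu
  exact h.Qnorm k hk.1 u hu

end Cfsg.Agent.Helper65.SzOrd
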