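import Cfsg.Agent.Helper65.T2933O
import Cfsg.Agent.Helper65.Suzuki21
import Cfsg.Agent.Helper65.MetaTwoA5

/-!
# Rank two 2-groups with an automorphism transitive on involutions: generic lemmas
-/

set_option autoImplicit false

namespace Cfsg.Agent.Helper65.T1237

open Cfsg.Agent.Helper65.Suz

/-- **stability**: an automorphism of odd order of a two-group which fixes `N` pointwise and
moves `x` inside its coset of `N` fixes `x`. -/
theorem stab_fix {T : Type*} [Group T] (hT : IsPGroup 2 T) (ψ : MulAut T) {m : ℕ}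
    (hm : Odd m) (hψ : ψ ^ m = 1) (N : Subgroup T) (hN : ∀ n ∈ N, ψ n = n) {x : T}
    (hx : ψ x * x⁻¹ ∈ N) : ψ x = x := by
  obtain ⟨k, hk⟩ : ∃ k, k = ψ x * x⁻¹ := ⟨_, rfl⟩
  rw [← hk] at hx
  have hψx : ψ x = k * x := by rw [hk]; group
  have hpow : ∀ j : ℕ, (ψ ^ j) x = k ^ j * x := by
    intro j
    induction j with
    | zero => simp
    | succ j ih =>
      rw [pow_succ', MulAut.mul_apply, ih, map_mul, map_pow, hN k hx, hψx, pow_succ, mul_assoc]
  have h1 := hpow m
  rw [hψ, MulAut.one_apply] at h1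
  have hkm : k ^ m = 1 := by
    have h2 : k ^ m * x = 1 * x := by rw [one_mul]; exact h1.symm
    exact mul_right_cancel h2
  obtain ⟨e, he⟩ := (IsPGroup.iff_orderOf.mp hT) k
  have hdvd : orderOf k ∣ m := orderOf_dvd_of_pow_eq_one hkm
  rw [he] at hdvd
  have he0 : e = 0 := by
    by_contra h0
    have : 2 ∣ m := dvd_trans (dvd_pow_self 2 h0) hdvd
    exact (Nat.not_even_iff_odd.mpr hm) (even_iff_two_dvd.mpr this)
  rw [he0, pow_zero, orderOf_eq_one_iff] at he
  rw [hψx, he, one_mul]

/-- the restriction of an automorphism to an invariant subgroup. -/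
noncomputable def resAut {T : Type*} [Group T] [Finite T] (ρ : MulAut T) (H : Subgroup T)
    (hH : ∀ x ∈ H, ρ x ∈ H) : MulAut H :=
  MulEquiv.ofBijective
    ({ toFun := fun x => ⟨ρ x.1, hH x.1 x.2⟩
       map_one' := Subtype.ext (map_one ρ)
       map_mul' := fun x y => Subtype.ext (map_mul ρ x.1 y.1) } : H →* H)
    (by
      have hinj : Function.Injective (fun x : H => (⟨ρ x.1, hH x.1 x.2⟩ : H)) := by
        intro x y h
        exact Subtype.ext (ρ.injective (congrArg Subtype.val h))
      exact ⟨hinj, Finite.surjective_of_injective hinj⟩)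

theorem resAut_apply {T : Type*} [Group T] [Finite T] (ρ : MulAut T) (H : Subgroup T)
    (hH : ∀ x ∈ H, ρ x ∈ H) (x : H) : ((resAut ρ H hH x : H) : T) = ρ x.1 := rfl

theorem resAut_pow_apply {T : Type*} [Group T] [Finite T] (ρ : MulAut T) (H : Subgroup T)
    (hH : ∀ x ∈ H, ρ x ∈ H) (k : ℕ) (x : H) :
    ((((resAut ρ H hH) ^ k) x : H) : T) = (ρ ^ k) x.1 := by
  induction k generalizing x with
  | zero => simp
  | succ k ih =>
    rw [pow_succ, pow_succ, MulAut.mul_apply, MulAut.mul_apply, ih, resAut_apply]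

/-- an automorphism of three-power order of an elementary abelian two-group of order at most
sixteen has order at most three. -/
theorem cube_eq_one_of_small {M : Type*} [Group M] [Finite M] (hsq : ∀ y : M, y * y = 1)
    (hcard : Nat.card M ≤ 16) (r : MulAut M) {a : ℕ} (hr : r ^ 3 ^ a = 1) : r ^ 3 = 1 := by
  classical
  have hdvd : orderOf r ∣ 3 ^ a := orderOf_dvd_of_pow_eq_one hr
  obtain ⟨b, -, hb⟩ := (Nat.dvd_prime_pow Nat.prime_three).mp hdvd
  by_cases hb1 : b ≤ 1
  · have : orderOf r ∣ 3 := by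
      rw [hb]
      calc 3 ^ b ∣ 3 ^ 1 := pow_dvd_pow 3 hb1
        _ = 3 := pow_one 3
    exact orderOf_dvd_iff_pow_eq_one.mp this
  exfalso
  push Not at hb1
  set σ := r ^ 3 ^ (b - 2) with hσ
  have hσ9 : σ ^ 9 = 1 := by
    rw [hσ, ← pow_mul]
    have : 3 ^ (b - 2) * 9 = 3 ^ b := by
      have : b = (b - 2) + 2 := by omega
      conv_rhs => rw [this, pow_add]
      norm_num
    rw [this, ← hb]
    exact pow_orderOf_eq_one r
  have hσ3 : σ ^ 3 ≠ 1 := by
    rw [hσ, ← pow_mul]
    have h3 : 3 ^ (b - 2) * 3 = 3 ^ (b - 1) := by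
      have : b - 1 = (b - 2) + 1 := by omega
      rw [this, pow_succ]
    rw [h3]
    apply pow_ne_one_of_lt_orderOf (by positivity)
    rw [hb]
    exact Nat.pow_lt_pow_right (by norm_num) (by omega)
  have h39 : ∀ j : ℕ, σ ^ (3 + 9 * j) = σ ^ 3 := by
    intro j
    rw [pow_add, pow_mul, hσ9, one_pow, mul_one]
  have hord : orderOf σ = 9 := by
    have h1 : orderOf σ ∣ 3 ^ 2 := by
      have : (3 : ℕ) ^ 2 = 9 := by norm_num
      rw [this]
      exact orderOf_dvd_of_pow_eq_one hσ9
    obtain ⟨c, hc, hc'⟩ := (Nat.dvd_prime_pow Nat.prime_three).mp h1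
    have hc2 : c = 2 := by
      by_contra hne
      have hc1 : c ≤ 1 := by omega
      apply hσ3
      have : orderOf σ ∣ 3 := by
        rw [hc']
        calc 3 ^ c ∣ 3 ^ 1 := pow_dvd_pow 3 hc1
          _ = 3 := pow_one 3
      exact orderOf_dvd_iff_pow_eq_one.mp this
    rw [hc', hc2]
    norm_num
  set K : Subgroup (MulAut M) := Subgroup.zpowers σ with hK
  have hKcard : Nat.card K = 9 := by rw [hK, Nat.card_zpowers, hord]
  set X : Set M := {y | (σ ^ 3) y ≠ y} with hX
  have hfixmul : ∀ (d : ℕ) (x : M), (σ ^ d) x = x → ∀ e : ℕ, (σ ^ (d * e)) x = x := by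
    intro d x hd e
    induction e with
    | zero => simp
    | succ e ih =>
      rw [Nat.mul_succ, pow_add, MulAut.mul_apply, hd, ih]
  have hdiv : 9 ∣ Nat.card X := by
    rw [← hKcard]
    apply card_dvd_of_free K X
    · intro k hk x hx
      obtain ⟨i, rfl⟩ := Subgroup.mem_zpowers_iff.mp hk
      show (σ ^ 3) ((σ ^ i) x) ≠ (σ ^ i) x
      intro h
      apply hx
      have hc : σ ^ 3 * σ ^ i = σ ^ i * σ ^ 3 := by
        rw [← zpow_natCast, ← zpow_add, ← zpow_add, add_comm]
      have h2 : (σ ^ i) ((σ ^ 3) x) = (σ ^ i) x := by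
        rw [← MulAut.mul_apply, ← hc, MulAut.mul_apply]
        exact h
      exact (σ ^ i).injective h2
    · intro k hk x hx hkx
      obtain ⟨i, rfl⟩ := Subgroup.mem_zpowers_iff.mp hk
      have hσ9' : σ ^ (9 : ℤ) = 1 := by
        rw [show (9 : ℤ) = ((9 : ℕ) : ℤ) by norm_num, zpow_natCast]
        exact hσ9
      rw [zpow_eq_zpow_emod i hσ9'] at hkx ⊢
      have hnn : 0 ≤ i % 9 := Int.emod_nonneg i (by norm_num)
      have hlt : i % 9 < 9 := Int.emod_lt_of_pos i (by norm_num)
      obtain ⟨d, hd⟩ := Int.eq_ofNat_of_zero_le hnn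
      rw [hd] at hkx hlt ⊢
      rw [zpow_natCast] at hkx ⊢
      have hd9 : d < 9 := by exact_mod_cast hlt
      by_contra hne
      apply hx
      have hd0 : d ≠ 0 := by
        intro h0
        apply hne
        rw [h0, pow_zero]
      interval_cases d
      · exact absurd rfl hd0
      · have := hfixmul 1 x hkx 3
        exact this
      · have := hfixmul 2 x hkx 6
        rw [show 2 * 6 = 3 + 9 * 1 by norm_num, h39] at this
        exact this
      · exact hkx
      · have := hfixmul 4 x hkx 3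
        rw [show 4 * 3 = 3 + 9 * 1 by norm_num, h39] at this
        exact this
      · have := hfixmul 5 x hkx 6
        rw [show 5 * 6 = 3 + 9 * 3 by norm_num, h39] at this
        exact this
      · have := hfixmul 6 x hkx 2
        rw [show 6 * 2 = 3 + 9 * 1 by norm_num, h39] at this
        exact this
      · have := hfixmul 7 x hkx 3
        rw [show 7 * 3 = 3 + 9 * 2 by norm_num, h39] at this
        exact this
      · have := hfixmul 8 x hkx 6
        rw [show 8 * 6 = 3 + 9 * 5 by norm_num, h39] at this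
        exact this
  -- the fixed points of `σ ^ 3`
  let F : Subgroup M :=
    { carrier := {y | (σ ^ 3) y = y}
      one_mem' := map_one _
      mul_mem' := by
        intro x y hx hy
        show (σ ^ 3) (x * y) = x * y
        rw [map_mul, hx, hy]
      inv_mem' := by
        intro x hx
        show (σ ^ 3) x⁻¹ = x⁻¹
        rw [map_inv, hx] }
  have hM2 : IsPGroup 2 M := by
    intro g
    exact ⟨1, by rw [pow_one, pow_two]; exact hsq g⟩
  obtain ⟨n, hn⟩ := hM2.exists_card_eq
  have hFd : Nat.card F ∣ 2 ^ n := by rw [← hn]; exact Subgroup.card_subgroup_dvd_card F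
  obtain ⟨f, hfn, hf⟩ := (Nat.dvd_prime_pow Nat.prime_two).mp hFd
  have hsum : Nat.card F + Nat.card X = Nat.card M := by
    haveI : Fintype M := Fintype.ofFinite M
    have h1 : Nat.card F = Fintype.card {y : M // (σ ^ 3) y = y} := by
      rw [← Nat.card_eq_fintype_card]; rfl
    have h2 : Nat.card X = Fintype.card {y : M // ¬ (σ ^ 3) y = y} := by
      rw [← Nat.card_eq_fintype_card]; rfl
    rw [h1, h2, Fintype.card_subtype_compl, Nat.card_eq_fintype_card]
    have := Fintype.card_subtype_le (fun y : M => (σ ^ 3) y = y)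
    omega
  have hXpos : 0 < Nat.card X := by
    have : ∃ y, (σ ^ 3) y ≠ y := by
      by_contra hcon
      push Not at hcon
      apply hσ3
      ext y
      exact hcon y
    obtain ⟨y, hy⟩ := this
    haveI : Nonempty X := ⟨⟨y, hy⟩⟩
    exact Nat.card_pos
  have hn4 : n ≤ 4 := by
    by_contra hcon
    push Not at hcon
    have : 2 ^ 5 ≤ 2 ^ n := Nat.pow_le_pow_right (by norm_num) hcon
    rw [hn] at hcard
    omega
  rw [hn, hf] at hsum
  have hfn' : f < n := by
    by_contra hcon
    push Not at hcon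
    have hfe : f = n := le_antisymm hfn hcon
    rw [hfe] at hsum
    omega
  obtain ⟨q, hq⟩ := hdiv
  rw [hq] at hsum hXpos
  interval_cases n <;> interval_cases f <;> omega

end Cfsg.Agent.Helper65.T1237
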