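import Cfsg.Agent.Helper65.T1237A
import Cfsg.Agent.Helper2.Basic

/-!
# Rank two 2-groups with an automorphism transitive on involutions: the configuration
-/

set_option autoImplicit false

namespace Cfsg.Agent.Helper65.T1237

open Cfsg.Agent.Helper65.Suz

universe u

/-- the configuration: a two-group whose involutions form a central four-group `V`, and an
automorphism of three-power order moving every involution. -/
structure Cfg (T : Type u) [Group T] (V : Subgroup T) (ρ : MulAut T) : Prop where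
  fin : Finite T
  hT : IsPGroup 2 T
  hVZ : V ≤ Subgroup.center T
  hV4 : Nat.card V = 4
  hVsq : ∀ v ∈ V, v * v = 1
  hinv : ∀ x : T, x * x = 1 → x ∈ V
  hρV : ∀ v ∈ V, ρ v ∈ V
  hρfix : ∀ v ∈ V, ρ v = v → v = 1
  hρ3 : ∃ a : ℕ, ρ ^ 3 ^ a = 1

theorem normal_of_le_center {T : Type*} [Group T] {V : Subgroup T}
    (h : V ≤ Subgroup.center T) : V.Normal := by
  constructor
  intro n hn g
  have := Subgroup.mem_center_iff.mp (h hn) g
  rw [this, mul_inv_cancel_right]
  exact hn

namespace Cfg

variable {T : Type u} [Group T] {V : Subgroup T} {ρ : MulAut T}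

/-- the cube of `ρ` fixes `V` pointwise. -/
theorem cube_fix (C : Cfg T V ρ) : ∀ v ∈ V, (ρ ^ 3) v = v := by
  haveI := C.fin
  obtain ⟨a, ha⟩ := C.hρ3
  intro v hv
  have h1 : (resAut ρ V C.hρV) ^ 3 ^ a = 1 := by
    ext x
    rw [resAut_pow_apply, ha]
    rfl
  have h2 := cube_eq_one_of_small (M := V)
    (fun y => Subtype.ext (C.hVsq y.1 y.2)) (by rw [C.hV4]; norm_num) (resAut ρ V C.hρV) h1
  have h3 := resAut_pow_apply ρ V C.hρV 3 ⟨v, hv⟩
  rw [h2] at h3
  exact h3.symm

/-- a nontrivial invariant subgroup contains `V`. -/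
theorem V_le (C : Cfg T V ρ) (H : Subgroup T) (hH : ∀ x ∈ H, ρ x ∈ H) (hH1 : H ≠ ⊥) : V ≤ H := by
  haveI := C.fin
  haveI : Fact (Nat.Prime 2) := ⟨Nat.prime_two⟩
  have hHp : IsPGroup 2 H := C.hT.to_subgroup H
  haveI : Nontrivial H := (Subgroup.nontrivial_iff_ne_bot H).mpr hH1
  obtain ⟨n, hn⟩ := hHp.exists_card_eq
  have hn0 : n ≠ 0 := by
    intro h0
    rw [h0, pow_zero] at hn
    have := Finite.one_lt_card (α := H)
    omega
  have h2 : 2 ∣ Nat.card H := by rw [hn]; exact dvd_pow_self 2 hn0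
  obtain ⟨z, hz⟩ := exists_prime_orderOf_dvd_card' 2 h2
  have hz1 : z ≠ 1 := by
    intro h; rw [h, orderOf_one] at hz; omega
  have hz2 : z * z = 1 := by
    rw [← pow_two, ← hz]; exact pow_orderOf_eq_one z
  have hzV : z.1 ∈ V := C.hinv z.1 (by
    have := congrArg Subtype.val hz2
    simpa using this)
  have hz1' : z.1 ≠ 1 := fun h => hz1 (Subtype.ext h)
  have hρz : ρ z.1 ≠ z.1 := fun h => hz1' (C.hρfix z.1 hzV h)
  -- the intersection has at least three elements
  set W := H ⊓ V with hW
  have hρz1 : ρ z.1 ≠ 1 := by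
    intro h
    apply hz1'
    have := congrArg ρ.symm h
    simpa using this
  have hW3 : 3 ≤ Nat.card W := by
    classical
    let S : Finset T := {1, z.1, ρ z.1}
    have h2 : z.1 ∉ ({ρ z.1} : Finset T) := by
      rw [Finset.mem_singleton]; exact fun h => hρz h.symm
    have h1 : (1 : T) ∉ ({z.1, ρ z.1} : Finset T) := by
      rw [Finset.mem_insert, Finset.mem_singleton]
      rintro (h | h)
      · exact hz1' h.symm
      · exact hρz1 h.symm
    have hS3 : S.card = 3 := by
      rw [Finset.card_insert_of_notMem h1, Finset.card_insert_of_notMem h2, Finset.card_singleton]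
    have hsub : (↑S : Set T) ⊆ (W : Set T) := by
      intro w hw
      rw [Finset.mem_coe, Finset.mem_insert, Finset.mem_insert, Finset.mem_singleton] at hw
      rcases hw with rfl | rfl | rfl
      · exact W.one_mem
      · exact ⟨z.2, hzV⟩
      · exact ⟨hH z.1 z.2, C.hρV z.1 hzV⟩
    have h3 := Set.ncard_le_ncard hsub (Set.toFinite _)
    rw [Set.ncard_coe_finset, hS3] at h3
    rw [← Nat.card_coe_set_eq] at h3
    exact h3
  have hWV : W ≤ V := inf_le_right
  have hWd : Nat.card W ∣ 4 := by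
    rw [← C.hV4]; exact Subgroup.card_dvd_of_le hWV
  have hW4 : Nat.card W = 4 := by
    have hle : Nat.card W ≤ 4 := Nat.le_of_dvd (by norm_num) hWd
    interval_cases h : Nat.card W
    · omega
    · rfl
  have hWeq : W = V := by
    apply Subgroup.eq_of_le_of_card_ge hWV
    rw [hW4, C.hV4]
  rw [← hWeq]
  exact inf_le_left

/-- the elements of `V`. -/
theorem V_cases (C : Cfg T V ρ) {v : T} (hv : v ∈ V) (hv1 : v ≠ 1) :
    ∀ w ∈ V, w = 1 ∨ w = v ∨ w = ρ v ∨ w = ρ (ρ v) := by
  haveI := C.fin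
  have h3 := C.cube_fix v hv
  have hρv : ρ v ≠ v := fun h => hv1 (C.hρfix v hv h)
  have hρv1 : ρ v ≠ 1 := by
    intro h
    apply hv1
    have := congrArg ρ.symm h
    simpa using this
  have hρρv1 : ρ (ρ v) ≠ 1 := by
    intro h
    apply hρv1
    have := congrArg ρ.symm h
    simpa using this
  have hρρv : ρ (ρ v) ≠ ρ v := fun h => hρv (ρ.injective h)
  have hρρv' : ρ (ρ v) ≠ v := by
    intro h
    apply hρv
    have h4 : ρ (ρ (ρ v)) = v := by
      have : (ρ ^ 3) v = ρ (ρ (ρ v)) := by
        rw [pow_succ, pow_succ, pow_one, MulAut.mul_apply, MulAut.mul_apply]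
      rw [← this]; exact h3
    rw [h] at h4
    exact h4
  classical
  let S : Finset T := {1, v, ρ v, ρ (ρ v)}
  have h3' : ρ v ∉ ({ρ (ρ v)} : Finset T) := by
    rw [Finset.mem_singleton]; exact fun h => hρρv h.symm
  have h2' : v ∉ ({ρ v, ρ (ρ v)} : Finset T) := by
    rw [Finset.mem_insert, Finset.mem_singleton]
    rintro (h | h)
    · exact hρv h.symm
    · exact hρρv' h.symm
  have h1' : (1 : T) ∉ ({v, ρ v, ρ (ρ v)} : Finset T) := by
    rw [Finset.mem_insert, Finset.mem_insert, Finset.mem_singleton]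
    rintro (h | h | h)
    · exact hv1 h.symm
    · exact hρv1 h.symm
    · exact hρρv1 h.symm
  have hS4 : S.card = 4 := by
    rw [Finset.card_insert_of_notMem h1', Finset.card_insert_of_notMem h2',
      Finset.card_insert_of_notMem h3', Finset.card_singleton]
  have hsub : (↑S : Set T) ⊆ (V : Set T) := by
    intro w hw
    rw [Finset.mem_coe, Finset.mem_insert, Finset.mem_insert, Finset.mem_insert,
      Finset.mem_singleton] at hw
    rcases hw with rfl | rfl | rfl | rfl
    · exact V.one_mem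
    · exact hv
    · exact C.hρV _ hv
    · exact C.hρV _ (C.hρV _ hv)
  have hle : (V : Set T).ncard ≤ (↑S : Set T).ncard := by
    rw [Set.ncard_coe_finset, hS4, ← Nat.card_coe_set_eq]
    exact le_of_eq C.hV4
  have heq := Set.eq_of_subset_of_ncard_le hsub hle (Set.toFinite _)
  intro w hw
  have hwS : w ∈ (↑S : Set T) := by rw [heq]; exact hw
  rw [Finset.mem_coe, Finset.mem_insert, Finset.mem_insert, Finset.mem_insert,
    Finset.mem_singleton] at hwS
  exact hwS

/-- restriction to an invariant subgroup containing `V`. -/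
theorem restrict (C : Cfg T V ρ) (H : Subgroup T) (hVH : V ≤ H) (hH : ∀ x ∈ H, ρ x ∈ H) :
    haveI := C.fin
    Cfg H (V.subgroupOf H) (resAut ρ H hH) := by
  haveI := C.fin
  refine ⟨inferInstance, C.hT.to_subgroup H, ?_, ?_, ?_, ?_, ?_, ?_, ?_⟩
  · intro x hx
    rw [Subgroup.mem_subgroupOf] at hx
    rw [Subgroup.mem_center_iff]
    intro g
    apply Subtype.ext
    exact Subgroup.mem_center_iff.mp (C.hVZ hx) g.1
  · rw [Nat.card_congr (Subgroup.subgroupOfEquivOfLe hVH).toEquiv]
    exact C.hV4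
  · intro v hv
    rw [Subgroup.mem_subgroupOf] at hv
    exact Subtype.ext (C.hVsq v.1 hv)
  · intro x hx
    rw [Subgroup.mem_subgroupOf]
    exact C.hinv x.1 (congrArg Subtype.val hx)
  · intro v hv
    rw [Subgroup.mem_subgroupOf] at hv ⊢
    exact C.hρV v.1 hv
  · intro v hv hfix
    rw [Subgroup.mem_subgroupOf] at hv
    exact Subtype.ext (C.hρfix v.1 hv (congrArg Subtype.val hfix))
  · obtain ⟨a, ha⟩ := C.hρ3
    refine ⟨a, ?_⟩
    ext x
    rw [resAut_pow_apply, ha]
    rfl

end Cfg

end Cfsg.Agent.Helper65.T1237
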