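import Cfsg.Agent.Helper65.T1237B

/-!
# Rank two 2-groups with an automorphism transitive on involutions: the order of the automorphism
-/

set_option autoImplicit false

namespace Cfsg.Agent.Helper65.T1237

open Cfsg.Agent.Helper65.Suz Cfsg.Agent.Helper65.T2933 Cfsg.Agent.Helper65.MetaTwoA
  Cfsg.Agent.Helper65.Ord64

universe u

theorem qAut_pow_mk {T : Type*} [Group T] [Finite T] (N : Subgroup T) [N.Normal] (k : MulAut T)
    (hN : ∀ g ∈ N, k g ∈ N) (j : ℕ) (x : T) :
    ((qAut N k hN) ^ j) (x : T ⧸ N) = (((k ^ j) x : T) : T ⧸ N) := by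
  induction j generalizing x with
  | zero => simp
  | succ j ih =>
    rw [pow_succ, pow_succ, MulAut.mul_apply, MulAut.mul_apply, qAut_mk, ih]

theorem map_mem_center {T : Type*} [Group T] (ρ : MulAut T) {z : T}
    (hz : z ∈ Subgroup.center T) : ρ z ∈ Subgroup.center T := by
  rw [Subgroup.mem_center_iff] at hz ⊢
  intro g
  have h1 := hz (ρ.symm g)
  have h2 := congrArg ρ h1
  rw [map_mul, map_mul, MulEquiv.apply_symm_apply] at h2
  exact h2

variable {T : Type u} [Group T] {V : Subgroup T} {ρ : MulAut T}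

/-- the case of exponent four. -/
theorem cube_of_exp_four (C : Cfg T V ρ) (hsqV : ∀ x : T, x * x ∈ V)
    (hcmV : ∀ x y : T, cm x y ∈ V) : ρ ^ 3 = 1 := by
  haveI := C.fin
  haveI : V.Normal := normal_of_le_center C.hVZ
  obtain ⟨a, ha⟩ := C.hρ3
  have hcardV : Nat.card (T ⧸ V) * 4 = Nat.card T := by
    rw [← C.hV4]
    exact (Subgroup.card_eq_card_quotient_mul_card_subgroup V).symm
  have hcard : Nat.card (T ⧸ V) ≤ 16 := by
    by_cases hab : ∀ a b : T, a * b = b * a
    · have h1 : Nat.card (sqHom hab).ker ≤ 4 := by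
        rw [← C.hV4]
        apply Subgroup.card_le_of_le
        intro x hx
        rw [MonoidHom.mem_ker, sqHom_apply] at hx
        exact C.hinv x hx
      have h2 : Nat.card (sqHom hab).range ≤ 4 := by
        rw [← C.hV4]
        apply Subgroup.card_le_of_le
        rintro _ ⟨x, rfl⟩
        rw [sqHom_apply]
        exact hsqV x
      have h3 := card_le_of_ker_range (sqHom hab) h1 h2
      omega
    · have hZ : Subgroup.center T = V := by
        apply le_antisymm _ C.hVZ
        intro z hz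
        by_contra hzV
        have hv := hsqV z
        have hv1 : z * z ≠ 1 := fun h => hzV (C.hinv z h)
        apply hab
        have key : ∀ x z' : T, z' ∈ Subgroup.center T → z' * z' = x * x →
            x ∈ Subgroup.center T := by
          intro x z' hz' hsq
          have hc := Subgroup.mem_center_iff.mp hz'
          have h1 : (x * z'⁻¹) * (x * z'⁻¹) = 1 := by
            calc (x * z'⁻¹) * (x * z'⁻¹) = x * (z'⁻¹ * x) * z'⁻¹ := by group
              _ = x * (x * z'⁻¹) * z'⁻¹ := by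
                  have : z'⁻¹ * x = x * z'⁻¹ := by
                    calc z'⁻¹ * x = z'⁻¹ * (x * z') * z'⁻¹ := by group
                      _ = z'⁻¹ * (z' * x) * z'⁻¹ := by rw [hc x]
                      _ = x * z'⁻¹ := by group
                  rw [this]
              _ = (x * x) * (z' * z')⁻¹ := by group
              _ = 1 := by rw [hsq, mul_inv_cancel]
          have h2 : x * z'⁻¹ ∈ Subgroup.center T := C.hVZ (C.hinv _ h1)
          have h3 : x = (x * z'⁻¹) * z' := by group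
          rw [h3]
          exact (Subgroup.center T).mul_mem h2 hz'
        have hall : ∀ x : T, x ∈ Subgroup.center T := by
          intro x
          rcases C.V_cases hv hv1 (x * x) (hsqV x) with h | h | h | h
          · exact C.hVZ (C.hinv x h)
          · exact key x z hz h.symm
          · exact key x (ρ z) (map_mem_center ρ hz) (by rw [h, map_mul])
          · exact key x (ρ (ρ z)) (map_mem_center ρ (map_mem_center ρ hz))
              (by rw [h, map_mul, map_mul])
        intro a b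
        exact (Subgroup.mem_center_iff.mp (hall b) a)
      subst hZ
      have key := card_quot_le (P := T)
        (fun g => hsqV g) (fun x y => hcmV x y) (fun x hx => C.hinv x hx)
        (fun z hz => C.hVsq z hz)
      rw [C.hV4] at key
      exact key
  set r := qAut V ρ C.hρV with hr
  have hra : r ^ 3 ^ a = 1 := by
    ext y
    obtain ⟨x, rfl⟩ := QuotientGroup.mk_surjective y
    rw [hr, qAut_pow_mk, ha]
    rfl
  have hMsq : ∀ y : T ⧸ V, y * y = 1 := by
    intro y
    obtain ⟨x, rfl⟩ := QuotientGroup.mk_surjective y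
    rw [← QuotientGroup.mk_mul]
    exact (QuotientGroup.eq_one_iff _).mpr (hsqV x)
  have hr3 := cube_eq_one_of_small hMsq hcard r hra
  have hψm : (ρ ^ 3) ^ 3 ^ a = 1 := by rw [← pow_mul, mul_comm, pow_mul, ha, one_pow]
  have hodd : Odd (3 ^ a) := Odd.pow (by decide)
  ext x
  apply stab_fix C.hT (ρ ^ 3) hodd hψm V C.cube_fix
  have h1 := qAut_pow_mk V ρ C.hρV 3 x
  rw [← hr, hr3, MulAut.one_apply] at h1
  -- `h1 : ↑x = ↑((ρ ^ 3) x)`
  rw [← QuotientGroup.eq_one_iff, QuotientGroup.mk_mul, QuotientGroup.mk_inv, ← h1,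
    mul_inv_cancel]

/-- **the automorphism has order three.** -/
theorem cube_eq_one : ∀ (n : ℕ) (T : Type u) [Group T] (V : Subgroup T) (ρ : MulAut T),
    Cfg T V ρ → Nat.card T = n → ρ ^ 3 = 1 := by
  intro n
  induction n using Nat.strong_induction_on with
  | _ n ih =>
  intro T _ V ρ C hn
  haveI := C.fin
  haveI : Fact (Nat.Prime 2) := ⟨Nat.prime_two⟩
  obtain ⟨a, ha⟩ := C.hρ3
  obtain ⟨ψ, hψ⟩ : ∃ ψ : MulAut T, ψ = ρ ^ 3 := ⟨_, rfl⟩
  have hψm : ψ ^ 3 ^ a = 1 := by rw [hψ, ← pow_mul, mul_comm, pow_mul, ha, one_pow]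
  have hodd : Odd (3 ^ a) := Odd.pow (by decide)
  have hψV : ∀ v ∈ V, ψ v = v := by rw [hψ]; exact C.cube_fix
  have hcomm : ∀ x, ψ (ρ x) = ρ (ψ x) := by
    intro x
    rw [hψ, ← MulAut.mul_apply, ← MulAut.mul_apply, ← pow_succ, ← pow_succ']
  -- induction hypothesis for subgroups
  have IH : ∀ H : Subgroup T, V ≤ H → (∀ x ∈ H, ρ x ∈ H) → H ≠ ⊤ → ∀ x ∈ H, ψ x = x := by
    intro H hVH hH hne x hx
    have hlt : Nat.card H < n := by
      rw [← hn]
      have hle := Subgroup.card_le_card_group H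
      rcases lt_or_eq_of_le hle with h | h
      · exact h
      · exact absurd ((Subgroup.card_eq_iff_eq_top H).mp h) hne
    have h1 := ih _ hlt H (V.subgroupOf H) (resAut ρ H hH) (C.restrict H hVH hH) rfl
    have h2 := resAut_pow_apply ρ H hH 3 ⟨x, hx⟩
    rw [h1] at h2
    rw [hψ]
    exact h2.symm
  have hstab : ∀ N : Subgroup T, (∀ n ∈ N, ψ n = n) → (∀ x, ψ x * x⁻¹ ∈ N) → ρ ^ 3 = 1 := by
    intro N hN hx
    rw [← hψ]
    ext x
    exact stab_fix C.hT ψ hodd hψm N hN (hx x)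
  obtain ⟨K, hK⟩ : ∃ K : Subgroup T, K = Subgroup.closure {g | ∃ x, g = ψ x * x⁻¹} := ⟨_, rfl⟩
  have hgen : ∀ x, ψ x * x⁻¹ ∈ K := fun x => by rw [hK]; exact Subgroup.subset_closure ⟨x, rfl⟩
  have hKρ : ∀ k ∈ K, ρ k ∈ K := by
    have hle : K ≤ K.comap (ρ : T →* T) := by
      conv_lhs => rw [hK]
      rw [Subgroup.closure_le]
      rintro _ ⟨x, rfl⟩
      show ρ (ψ x * x⁻¹) ∈ K
      rw [map_mul, map_inv, ← hcomm]
      exact hgen (ρ x)
    intro k hk
    exact hle hk
  by_cases hK1 : K = ⊥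
  · apply hstab ⊥
    · intro n hn
      rw [Subgroup.mem_bot] at hn
      rw [hn, map_one]
    · intro x
      rw [← hK1]
      exact hgen x
  have hVK : V ≤ K := C.V_le K hKρ hK1
  by_cases hK2 : K = ⊤
  swap
  · exact hstab K (IH K hVK hKρ hK2) hgen
  -- now `K = ⊤`
  obtain ⟨Φ, hΦ⟩ : ∃ Φ : Subgroup T, Φ = frattini T ⊔ V := ⟨_, rfl⟩
  have hfrρ : ∀ y ∈ frattini T, ρ y ∈ frattini T := by
    intro y hy
    have h1 := Subgroup.characteristic_iff_comap_eq.mp
      (inferInstance : (frattini T).Characteristic) ρ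
    rw [← h1] at hy
    exact hy
  have hΦρ : ∀ x ∈ Φ, ρ x ∈ Φ := by
    have hle : Φ ≤ Φ.comap (ρ : T →* T) := by
      conv_lhs => rw [hΦ]
      apply sup_le
      · intro f hf
        show ρ f ∈ Φ
        rw [hΦ]
        exact le_sup_left (a := frattini T) (hfrρ f hf)
      · intro v hv
        show ρ v ∈ Φ
        rw [hΦ]
        exact le_sup_right (a := frattini T) (C.hρV v hv)
    intro x hx
    exact hle hx
  have hVΦ : V ≤ Φ := by rw [hΦ]; exact le_sup_right
  have hFΦ : frattini T ≤ Φ := by rw [hΦ]; exact le_sup_left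
  by_cases hΦtop : Φ = ⊤
  · have hVtop : V = ⊤ := by
      apply frattini_nongenerating
      rw [sup_comm, ← hΦ]
      exact hΦtop
    apply hstab V hψV
    intro x
    rw [hVtop]
    trivial
  have hΦfix := IH Φ hVΦ hΦρ hΦtop
  haveI : V.Normal := normal_of_le_center C.hVZ
  have hΦn : Φ.Normal := by rw [hΦ]; infer_instance
  have hcent : ∀ x : T, ∀ f ∈ Φ, (ψ x * x⁻¹) * f = f * (ψ x * x⁻¹) := by
    intro x f hf
    have hc : cm f x ∈ Φ := by
      unfold cm
      have h1 : x⁻¹ * f * x⁻¹⁻¹ ∈ Φ := hΦn.conj_mem f hf x⁻¹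
      have : f⁻¹ * x⁻¹ * f * x = f⁻¹ * (x⁻¹ * f * x⁻¹⁻¹) := by group
      rw [this]
      exact Φ.mul_mem (Φ.inv_mem hf) h1
    have h2 : ψ (cm f x) = cm f x := hΦfix _ hc
    rw [map_cm, hΦfix f hf] at h2
    unfold cm at h2
    calc ψ x * x⁻¹ * f = ψ x * (f * (f⁻¹ * x⁻¹ * f * x)) * x⁻¹ := by group
      _ = ψ x * (f * (f⁻¹ * (ψ x)⁻¹ * f * ψ x)) * x⁻¹ := by rw [h2]
      _ = f * (ψ x * x⁻¹) := by group
  have hΦZ : Φ ≤ Subgroup.center T := by
    intro f hf
    rw [Subgroup.mem_center_iff]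
    intro g
    have hg : g ∈ Subgroup.centralizer ({f} : Set T) := by
      have hle : K ≤ Subgroup.centralizer ({f} : Set T) := by
        conv_lhs => rw [hK]
        rw [Subgroup.closure_le]
        rintro _ ⟨x, rfl⟩
        rw [SetLike.mem_coe, Subgroup.mem_centralizer_iff]
        intro h hh
        rw [Set.mem_singleton_iff] at hh
        subst hh
        exact (hcent x h hf).symm
      apply hle
      rw [hK2]
      trivial
    rw [Subgroup.mem_centralizer_iff] at hg
    exact (hg f rfl).symm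
  have hT2 := C.hT
  haveI : Group.IsNilpotent T := hT2.isNilpotent
  have hcmF : ∀ a b : T, cm a b ∈ frattini T := by
    intro a b
    apply Cfsg.Agent.Helper2.commutator_le_frattini
    have h0 : a⁻¹ * b⁻¹ * a⁻¹⁻¹ * b⁻¹⁻¹ ∈ commutator T := by
      rw [commutator_def]
      exact Subgroup.commutator_mem_commutator (H₁ := (⊤ : Subgroup T)) (H₂ := (⊤ : Subgroup T))
        (Subgroup.mem_top a⁻¹) (Subgroup.mem_top b⁻¹)
    have : cm a b = a⁻¹ * b⁻¹ * a⁻¹⁻¹ * b⁻¹⁻¹ := by
      unfold cm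
      group
    rw [this]
    exact h0
  have hcm : ∀ a b : T, cm a b ∈ Subgroup.center T := fun a b => hΦZ (hFΦ (hcmF a b))
  have hsqF : ∀ x : T, x ^ 2 ∈ frattini T := fun x =>
    Cfsg.Agent.Helper63.pow_prime_mem_frattini hT2 x
  have hsqZ : ∀ x : T, x ^ 2 ∈ Subgroup.center T := fun x => hΦZ (hFΦ (hsqF x))
  have hcm2 : ∀ x y : T, (cm x y) ^ 2 ^ 1 = 1 := by
    intro x y
    rw [pow_one, ← cm_pow_left hcm, cm_eq_one_iff]
    exact (Subgroup.mem_center_iff.mp (hsqZ x) y).symm
  have hmul4 := pow_mul_of_cm hcm 1 2 hcm2 (le_refl 2)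
  let θ : T →* T := MonoidHom.mk' (fun x => x ^ 2 ^ 2) hmul4
  have hθ : ∀ x, θ x = x ^ 2 ^ 2 := fun _ => rfl
  have hθΦ : ∀ x : T, x ^ 2 ^ 2 ∈ Φ := by
    intro x
    have : x ^ 2 ^ 2 = (x ^ 2) ^ 2 := by rw [← pow_mul]; norm_num
    rw [this]
    exact hFΦ (hsqF (x ^ 2))
  have hker : θ.ker = ⊤ := by
    rw [eq_top_iff, ← hK2]
    conv_lhs => rw [hK]
    rw [Subgroup.closure_le]
    rintro _ ⟨x, rfl⟩
    rw [SetLike.mem_coe, MonoidHom.mem_ker, map_mul, map_inv, hθ, hθ, ← map_pow,
      hΦfix _ (hθΦ x), mul_inv_cancel]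
  have hexp : ∀ x : T, x ^ 2 ^ 2 = 1 := by
    intro x
    have : x ∈ θ.ker := by rw [hker]; trivial
    exact this
  have hsqV : ∀ x : T, x * x ∈ V := by
    intro x
    apply C.hinv
    have h4 := hexp x
    have h5 : x * x * (x * x) = x ^ 2 ^ 2 := by
      have h6 : (2 : ℕ) ^ 2 = 4 := by norm_num
      rw [h6, pow_succ, pow_succ, pow_succ, pow_one]
      group
    rw [h5, h4]
  have hcmV : ∀ x y : T, cm x y ∈ V := by
    intro x y
    apply C.hinv
    have := hcm2 x y
    rw [pow_one, pow_two] at this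
    exact this
  exact cube_of_exp_four C hsqV hcmV

end Cfsg.Agent.Helper65.T1237
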