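import Cfsg.Agent.Helper65.T1237C
import Cfsg.Prelude.Def_CaseTheorems

/-!
# Rank two 2-groups with an automorphism transitive on involutions: building the configuration
-/

set_option autoImplicit false

namespace Cfsg.Agent.Helper65.T1237

open Cfsg.Agent.Helper65.Suz Cfsg.Agent.Helper65.T2933 Cfsg.Agent.Helper65.MetaTwoA
  Cfsg.Agent.Helper65.Ord64

universe u

/-- a nontrivial subgroup of a two-group contains an involution. -/
theorem exists_invol_of_ne_bot {T : Type*} [Group T] [Finite T] (hT : IsPGroup 2 T)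
    (H : Subgroup T) (hH1 : H ≠ ⊥) : ∃ z ∈ H, z ≠ 1 ∧ z * z = 1 := by
  haveI : Fact (Nat.Prime 2) := ⟨Nat.prime_two⟩
  have hHp : IsPGroup 2 H := hT.to_subgroup H
  haveI : Nontrivial H := (Subgroup.nontrivial_iff_ne_bot H).mpr hH1
  obtain ⟨n, hn⟩ := hHp.exists_card_eq
  have hn0 : n ≠ 0 := by
    intro h0
    rw [h0, pow_zero] at hn
    have := Finite.one_lt_card (α := H)
    omega
  have h2 : 2 ∣ Nat.card H := by rw [hn]; exact dvd_pow_self 2 hn0
  obtain ⟨z, hz⟩ := exists_prime_orderOf_dvd_card' 2 h2
  have hz1 : z ≠ 1 := by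
    intro h; rw [h, orderOf_one] at hz; omega
  have hz2 : z * z = 1 := by
    rw [← pow_two, ← hz]; exact pow_orderOf_eq_one z
  refine ⟨z.1, z.2, fun h => hz1 (Subtype.ext h), ?_⟩
  have := congrArg Subtype.val hz2
  simpa using this

/-- a subgroup is not contained in a smaller finite set. -/
theorem exists_notMem_of_card_lt {T : Type*} [Group T] [Finite T] (V : Subgroup T) (S : Finset T)
    (hS : S.card < Nat.card V) : ∃ t ∈ V, t ∉ S := by
  by_contra hcon
  push Not at hcon
  have hsub : (V : Set T) ⊆ (↑S : Set T) := fun t ht => Finset.mem_coe.mpr (hcon t ht)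
  have h1 := Set.ncard_le_ncard hsub (Finset.finite_toSet S)
  rw [Set.ncard_coe_finset, ← Nat.card_coe_set_eq] at h1
  have h2 : Nat.card V ≤ S.card := h1
  omega

/-- a subgroup of order four with three known involutions. -/
theorem four_cases {T : Type*} [Group T] [Finite T] (V : Subgroup T) (hV4 : Nat.card V = 4)
    {a b c : T} (ha : a ∈ V) (hb : b ∈ V) (hc : c ∈ V) (ha1 : a ≠ 1) (hb1 : b ≠ 1) (hc1 : c ≠ 1)
    (hab : a ≠ b) (hac : a ≠ c) (hbc : b ≠ c) : ∀ w ∈ V, w = 1 ∨ w = a ∨ w = b ∨ w = c := by
  classical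
  let S : Finset T := {1, a, b, c}
  have h3' : b ∉ ({c} : Finset T) := by
    rw [Finset.mem_singleton]; exact hbc
  have h2' : a ∉ ({b, c} : Finset T) := by
    rw [Finset.mem_insert, Finset.mem_singleton]
    rintro (h | h)
    · exact hab h
    · exact hac h
  have h1' : (1 : T) ∉ ({a, b, c} : Finset T) := by
    rw [Finset.mem_insert, Finset.mem_insert, Finset.mem_singleton]
    rintro (h | h | h)
    · exact ha1 h.symm
    · exact hb1 h.symm
    · exact hc1 h.symm
  have hS4 : S.card = 4 := by
    rw [Finset.card_insert_of_notMem h1', Finset.card_insert_of_notMem h2',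
      Finset.card_insert_of_notMem h3', Finset.card_singleton]
  have hsub : (↑S : Set T) ⊆ (V : Set T) := by
    intro w hw
    rw [Finset.mem_coe, Finset.mem_insert, Finset.mem_insert, Finset.mem_insert,
      Finset.mem_singleton] at hw
    rcases hw with rfl | rfl | rfl | rfl
    · exact V.one_mem
    · exact ha
    · exact hb
    · exact hc
  have hle : (V : Set T).ncard ≤ (↑S : Set T).ncard := by
    rw [Set.ncard_coe_finset, hS4, ← Nat.card_coe_set_eq]
    exact le_of_eq hV4
  have heq := Set.eq_of_subset_of_ncard_le hsub hle (Set.toFinite _)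
  intro w hw
  have hwS : w ∈ (↑S : Set T) := by rw [heq]; exact hw
  rw [Finset.mem_coe, Finset.mem_insert, Finset.mem_insert, Finset.mem_insert,
    Finset.mem_singleton] at hwS
  exact hwS

/-- **the configuration exists.** -/
theorem exists_cfg {T : Type u} [Group T] [Finite T] (hT : IsPGroup 2 T)
    (h2 : Cfsg.PRankLE 2 2 T) (h1 : ¬ Cfsg.PRankLE 2 1 T) (φ : MulAut T)
    (htrans : ∀ s t : T, orderOf s = 2 → orderOf t = 2 → ∃ k : ℕ, (φ ^ k) s = t) :
    ∃ (V : Subgroup T) (ρ : MulAut T), Cfg T V ρ := by
  classical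
  haveI : Fact (Nat.Prime 2) := ⟨Nat.prime_two⟩
  have hord : ∀ x : T, x ≠ 1 → x * x = 1 → orderOf x = 2 := by
    intro x hx1 hx2
    exact orderOf_eq_prime (by rw [pow_two]; exact hx2) hx1
  unfold Cfsg.PRankLE at h1
  push Not at h1
  obtain ⟨A, hAc, hAe, hAcard⟩ := h1
  rw [pow_one] at hAcard
  -- the group is nontrivial
  haveI : Nontrivial T := by
    have h3 := Subgroup.card_le_card_group A
    rw [← Finite.one_lt_card_iff_nontrivial]
    omega
  haveI := hT.center_nontrivial
  have hZ1 : Subgroup.center T ≠ ⊥ := (Subgroup.nontrivial_iff_ne_bot _).mp inferInstance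
  obtain ⟨z, hzZ, hz1, hz2⟩ := exists_invol_of_ne_bot hT (Subgroup.center T) hZ1
  -- involutions are central
  have hcent : ∀ x : T, x * x = 1 → x ∈ Subgroup.center T := by
    intro x hx2
    by_cases hx1 : x = 1
    · rw [hx1]; exact Subgroup.one_mem _
    obtain ⟨k, hk⟩ := htrans z x (hord z hz1 hz2) (hord x hx1 hx2)
    rw [← hk]
    exact map_mem_center (φ ^ k) hzZ
  obtain ⟨V, hV⟩ : ∃ V : Subgroup T, ∀ x, x ∈ V ↔ x * x = 1 := by
    refine ⟨{ carrier := {x | x * x = 1}
              one_mem' := mul_one 1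
              mul_mem' := ?_
              inv_mem' := ?_ }, fun x => Iff.rfl⟩
    · intro x y hx hy
      have hx' : x * x = 1 := hx
      have hy' : y * y = 1 := hy
      have hc := Subgroup.mem_center_iff.mp (hcent y hy') x
      show x * y * (x * y) = 1
      calc x * y * (x * y) = x * (y * x) * y := by group
        _ = x * (x * y) * y := by rw [← hc]
        _ = (x * x) * (y * y) := by group
        _ = 1 := by rw [hx', hy', mul_one]
    · intro x hx
      have hx' : x * x = 1 := hx
      show x⁻¹ * x⁻¹ = 1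
      rw [← mul_inv_rev, hx', inv_one]
  have hVZ : V ≤ Subgroup.center T := fun x hx => hcent x ((hV x).mp hx)
  have hVsq : ∀ v ∈ V, v * v = 1 := fun v hv => (hV v).mp hv
  have hinv : ∀ x : T, x * x = 1 → x ∈ V := fun x hx => (hV x).mpr hx
  -- the order of `V`
  have hV4 : Nat.card V = 4 := by
    have hcomm : IsMulCommutative V := by
      refine ⟨⟨fun a b => ?_⟩⟩
      apply Subtype.ext
      exact (Subgroup.mem_center_iff.mp (hVZ b.2) a.1)
    have hle := h2 V hcomm (fun a ha => by rw [pow_two]; exact hVsq a ha)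
    have hAV : A ≤ V := by
      intro a ha
      apply hinv
      rw [← pow_two]
      exact hAe a ha
    have hge := Subgroup.card_le_of_le hAV
    obtain ⟨n, hn⟩ := (hT.to_subgroup V).exists_card_eq
    rw [hn] at hle hge ⊢
    have hn3 : n < 3 := by
      by_contra hcon
      push Not at hcon
      have := Nat.pow_le_pow_right (by norm_num : 1 ≤ 2) hcon
      omega
    interval_cases n <;> omega
  have hψV : ∀ (ψ : MulAut T), ∀ v ∈ V, ψ v ∈ V := by
    intro ψ v hv
    apply hinv
    rw [← map_mul, hVsq v hv, map_one]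
  have hψ1 : ∀ (ψ : MulAut T) (v : T), v ≠ 1 → ψ v ≠ 1 := by
    intro ψ v hv h
    apply hv
    have := congrArg ψ.symm h
    simpa using this
  -- the dynamics of `φ` on the involutions
  have hdyn : ∀ v ∈ V, v ≠ 1 → ∀ k : ℕ, (φ ^ k) v = v → 3 ∣ k := by
    intro v hv hv1
    have hφv : φ v ≠ v := by
      intro hfix
      have hall : ∀ k : ℕ, (φ ^ k) v = v := by
        intro k
        induction k with
        | zero => simp
        | succ k ih => rw [pow_succ, MulAut.mul_apply, hfix, ih]
      obtain ⟨t, htV, htS⟩ := exists_notMem_of_card_lt V {1, v} (by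
        rw [hV4]
        have := Finset.card_le_two (a := (1 : T)) (b := v)
        omega)
      rw [Finset.mem_insert, Finset.mem_singleton] at htS
      push Not at htS
      obtain ⟨k, hk⟩ := htrans v t (hord v hv1 (hVsq v hv)) (hord t htS.1 (hVsq t htV))
      rw [hall k] at hk
      exact htS.2 hk.symm
    have hφφv : φ (φ v) ≠ v := by
      intro hfix
      have hall : ∀ k : ℕ, (φ ^ k) v = v ∨ (φ ^ k) v = φ v := by
        intro k
        induction k with
        | zero => left; simp
        | succ k ih =>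
          rw [pow_succ', MulAut.mul_apply]
          rcases ih with ih | ih
          · right; rw [ih]
          · left; rw [ih, hfix]
      obtain ⟨t, htV, htS⟩ := exists_notMem_of_card_lt V {1, v, φ v} (by
        rw [hV4]
        have := Finset.card_le_three (a := (1 : T)) (b := v) (c := φ v)
        omega)
      rw [Finset.mem_insert, Finset.mem_insert, Finset.mem_singleton] at htS
      push Not at htS
      obtain ⟨k, hk⟩ := htrans v t (hord v hv1 (hVsq v hv)) (hord t htS.1 (hVsq t htV))
      rcases hall k with h | h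
      · rw [h] at hk; exact htS.2.1 hk.symm
      · rw [h] at hk; exact htS.2.2 hk.symm
    have hcases := four_cases V hV4 hv (hψV φ v hv) (hψV φ _ (hψV φ v hv)) hv1 (hψ1 φ v hv1)
      (hψ1 φ _ (hψ1 φ v hv1)) (fun h => hφv h.symm) (fun h => hφφv h.symm)
      (fun h => hφv (φ.injective h).symm)
    have h3 : φ (φ (φ v)) = v := by
      rcases hcases _ (hψV φ _ (hψV φ _ (hψV φ v hv))) with h | h | h | h
      · exact absurd h (hψ1 φ _ (hψ1 φ _ (hψ1 φ v hv1)))
      · exact h
      · exact absurd (φ.injective h) hφφv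
      · exact absurd (φ.injective (φ.injective h)) hφv
    have h3' : (φ ^ 3) v = v := by
      rw [pow_succ, pow_succ, pow_one, MulAut.mul_apply, MulAut.mul_apply]
      exact h3
    have h3q : ∀ q : ℕ, (φ ^ (3 * q)) v = v := by
      intro q
      induction q with
      | zero => simp
      | succ q ih => rw [Nat.mul_succ, pow_add, MulAut.mul_apply, h3', ih]
    intro k hk
    have hk' : (φ ^ (k % 3)) v = v := by
      have : k = k % 3 + 3 * (k / 3) := (Nat.mod_add_div k 3).symm
      rw [this, pow_add, MulAut.mul_apply, h3q] at hk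
      exact hk
    have hlt : k % 3 < 3 := Nat.mod_lt k (by norm_num)
    rw [Nat.dvd_iff_mod_eq_zero]
    interval_cases hr : k % 3
    · rfl
    · rw [pow_one] at hk'
      exact absurd hk' hφv
    · rw [pow_succ, pow_one, MulAut.mul_apply] at hk'
      exact absurd hk' hφφv
  -- the three-part of `φ`
  obtain ⟨a, m', hm', hm⟩ := Nat.exists_eq_pow_mul_and_not_dvd (orderOf_pos φ).ne' 3 (by norm_num)
  refine ⟨V, φ ^ m', ⟨inferInstance, hT, hVZ, hV4, hVsq, hinv, hψV _, ?_, a, ?_⟩⟩
  · intro v hv hfix
    by_contra hv1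
    exact hm' (hdyn v hv hv1 m' hfix)
  · rw [← pow_mul, mul_comm, ← hm]
    exact pow_orderOf_eq_one φ

end Cfsg.Agent.Helper65.T1237
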