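import Cfsg.Agent.Helper65.T2933M

/-!
# The main theorem for a two-group with commuting automorphisms of orders two and three
-/

set_option autoImplicit false

namespace Cfsg.Agent.Helper65.T2933

open Cfsg.Agent.Helper65.Suz Cfsg.Agent.Helper65.Ord64 Cfsg.Agent.Helper27
  Cfsg.Agent.Helper19.SU3

variable {T : Type*} [Group T]

/-- fixed points of an involutive map, modulo two. -/
theorem card_fix_mod_two {A : Type*} [Finite A] (k : A → A) (hk : ∀ x, k (k x) = x) :
    Nat.card {x : A // k x = x} % 2 = Nat.card A % 2 := by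
  classical
  haveI : Fact (Nat.Prime 2) := ⟨Nat.prime_two⟩
  haveI : Fintype A := Fintype.ofFinite A
  let f : Function.End A := k
  have hf : f ^ 2 ^ 1 = 1 := by
    funext g
    show k (k g) = g
    exact hk g
  have h1 := Equiv.Perm.card_fixedPoints_modEq (p := 2) (n := 1) hf
  have h2 : Nat.card {x : A // k x = x} = Fintype.card (Function.fixedPoints f) := by
    rw [← Nat.card_eq_fintype_card]
    rfl
  rw [h2, Nat.card_eq_fintype_card]
  exact h1.symm

/-- an involution acting on a nontrivial two-group has a nontrivial fixed point. -/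
theorem exists_fixed_of_invol [Finite T] (C : Subgroup T) (hC : IsPGroup 2 C) (hC1 : C ≠ ⊥)
    (τ : MulAut T) (hτ2 : ∀ x, τ (τ x) = x) (hτC : ∀ c ∈ C, τ c ∈ C) :
    ∃ c ∈ C, c ≠ 1 ∧ τ c = c := by
  haveI : Fact (Nat.Prime 2) := ⟨Nat.prime_two⟩
  by_contra hcon
  push Not at hcon
  let k : C → C := fun c => ⟨τ c.1, hτC c.1 c.2⟩
  have hk : ∀ c, k (k c) = c := by
    intro c
    apply Subtype.ext
    show τ (τ c.1) = c.1
    exact hτ2 c.1
  have h1 := card_fix_mod_two k hk
  have h2 : Nat.card {x : C // k x = x} = 1 := by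
    rw [Nat.card_eq_one_iff_unique]
    refine ⟨⟨?_⟩, ⟨⟨1, ?_⟩⟩⟩
    · rintro ⟨a, ha⟩ ⟨b, hb⟩
      have ha' : τ a.1 = a.1 := congrArg Subtype.val ha
      have hb' : τ b.1 = b.1 := congrArg Subtype.val hb
      have ha1 : a.1 = 1 := by
        by_contra hne
        exact hcon a.1 a.2 hne ha'
      have hb1 : b.1 = 1 := by
        by_contra hne
        exact hcon b.1 b.2 hne hb'
      apply Subtype.ext
      apply Subtype.ext
      rw [ha1, hb1]
    · apply Subtype.ext
      show τ 1 = 1
      exact map_one τ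
  obtain ⟨n, hn⟩ := hC.exists_card_eq
  have hn0 : n ≠ 0 := by
    rintro rfl
    rw [pow_zero] at hn
    exact hC1 (Subgroup.eq_bot_of_card_eq C hn)
  rw [h2, hn] at h1
  obtain ⟨m, rfl⟩ := Nat.exists_eq_succ_of_ne_zero hn0
  rw [pow_succ, Nat.mul_mod_left] at h1
  omega

/-- the fixed points of `ρ` are trivial if those in `V` are. -/
theorem fpf_of_fix [Finite T] (hT : IsPGroup 2 T) (ρ τ : MulAut T) (hτ2 : ∀ x, τ (τ x) = x)
    (hcomm : ∀ x, τ (ρ x) = ρ (τ x)) (V : Subgroup T) (hfix : ∀ x, τ x = x ↔ x ∈ V)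
    (hρV : ∀ v ∈ V, ρ v = v → v = 1) : ∀ x, ρ x = x → x = 1 := by
  let C : Subgroup T :=
    { carrier := {x | ρ x = x}
      one_mem' := map_one ρ
      mul_mem' := by
        intro a b ha hb
        show ρ (a * b) = a * b
        rw [map_mul, ha, hb]
      inv_mem' := by
        intro a ha
        show ρ a⁻¹ = a⁻¹
        rw [map_inv, ha] }
  have hCbot : C = ⊥ := by
    by_contra hne
    obtain ⟨c, hc, hc1, hτc⟩ := exists_fixed_of_invol C (hT.to_subgroup C) hne τ hτ2 (by
      intro c hc
      show ρ (τ c) = τ c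
      rw [← hcomm, hc])
    exact hc1 (hρV c ((hfix c).mp hτc) hc)
  intro x hx
  have : x ∈ C := hx
  rw [hCbot, Subgroup.mem_bot] at this
  exact this

/-- **the main theorem**, for automorphisms of a two-group. -/
theorem main_type [Finite T] (hT : IsPGroup 2 T) {ρ τ : MulAut T} {V : Subgroup T}
    (H : Hyp ρ τ V) :
    (Nat.card T = 16 ∧ ∀ x : T, x * x = 1) ∨
    (∃ n : ℕ, 1 ≤ n ∧
      Nonempty (T ≃* Multiplicative (ZMod (2 ^ n)) × Multiplicative (ZMod (2 ^ n)))) ∨
    (∃ (F : Type) (_ : Field F) (_ : Fintype F), Fintype.card F = 4 ∧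
      ∀ P : Sylow 2 (Matrix.ProjectiveSpecialLinearGroup (Fin 3) F),
        Nonempty (T ≃* ↥(P : Subgroup (Matrix.ProjectiveSpecialLinearGroup (Fin 3) F)))) ∨
    (∃ (F : Type) (_ : Field F) (_ : Fintype F), Fintype.card F = 16 ∧
      ∀ P : Sylow 2 (Cfsg.PSU 3 F 4), Nonempty (T ≃* ↥(P : Subgroup (Cfsg.PSU 3 F 4)))) := by
  by_cases hab : ∀ a b : T, a * b = b * a
  · rcases abelian_cases hab H.h hT τ H.hτ2 H.fix4 with hE | hR
    · exact Or.inl hE
    · right; left
      obtain ⟨n, x, -, -, ⟨e⟩⟩ := homocyclic hab H.h hT hR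
      refine ⟨n, ?_, ⟨e⟩⟩
      by_contra hn
      have hn0 : n = 0 := by omega
      subst hn0
      have h1 : Nat.card T = 1 := by
        rw [Nat.card_congr e.toEquiv, Nat.card_prod]
        have : Nat.card (Multiplicative (ZMod (2 ^ 0))) = 1 := by
          rw [Nat.card_congr Multiplicative.toAdd, Nat.card_zmod]
          norm_num
        rw [this]
      have h2 := Subgroup.card_le_card_group V
      rw [H.hV4, h1] at h2
      omega
  · right; right
    have hT64 := card_of_nonabelian hT H hab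
    have hC := cl2_of_card H.h hT64 hab
    have hZ := card_center H.h hT64 hab
    rcases plus_or_minus H.h hC hZ with ⟨a, b, ha, hb, hab'⟩ | hM
    · left
      exact plus_case H.h hC hT64 ha hb hab'
    · right
      haveI : Fact (Nat.Prime 2) := ⟨Nat.prime_two⟩
      letI : Fintype (GaloisField 2 4) := Fintype.ofFinite _
      have hF16 : Fintype.card (GaloisField 2 4) = 16 := by
        rw [Fintype.card_eq_nat_card, GaloisField.card 2 4 (by norm_num)]
        norm_num
      have hF' : Fintype.card (GaloisField 2 4) = (2 ^ 2) ^ 2 := by rw [hF16]; norm_num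
      obtain ⟨bar, hbar⟩ := Cfsg.Agent.Helper45.GU.exists_bar hF'
      haveI : BarField (GaloisField 2 4) bar := barField bar hF' (by decide) hbar
      obtain ⟨e1⟩ := minus_equiv H.h hC hT64 hZ hM hF' bar hbar
      refine ⟨GaloisField 2 4, inferInstance, inferInstance, hF16, ?_⟩
      intro P
      obtain ⟨e2⟩ := exists_equiv_sylow_PSU (n := 2) (by norm_num) hF' bar hbar P
      exact ⟨e1.trans e2⟩

end Cfsg.Agent.Helper65.T2933
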