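import Cfsg.Agent.Helper65.T1237D
import Cfsg.Agent.Helper65.T2933N
import Cfsg.Agent.S1137
import Cfsg.Agent.S1138

/-!
# Rank two 2-groups with an automorphism transitive on involutions: the classification
-/

set_option autoImplicit false

namespace Cfsg.Agent.Helper65.T1237

open Cfsg.Agent.Helper65.Suz Cfsg.Agent.Helper65.T2933 Cfsg.Agent.Helper65.MetaTwoA
  Cfsg.Agent.Helper65.Ord64 Cfsg.Agent.Helper27 Cfsg.Agent.Helper19.SU3

universe u

variable {T : Type u} [Group T] {V : Subgroup T} {ρ : MulAut T}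

theorem Cfg.cube (C : Cfg T V ρ) : ρ ^ 3 = 1 := cube_eq_one _ T V ρ C rfl

theorem Cfg.h3 (C : Cfg T V ρ) (g : T) : ρ (ρ (ρ g)) = g := by
  have h := C.cube
  have : (ρ ^ 3) g = ρ (ρ (ρ g)) := by
    rw [pow_succ, pow_succ, pow_one, MulAut.mul_apply, MulAut.mul_apply]
  rw [← this, h, MulAut.one_apply]

/-- the automorphism is fixed-point-free of order three. -/
theorem Cfg.fpf3 (C : Cfg T V ρ) : Fpf3 ρ := by
  haveI := C.fin
  refine ⟨C.h3, ?_⟩
  intro g hg
  by_contra hg1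
  have hH : Subgroup.zpowers g ≠ ⊥ := by
    intro h
    apply hg1
    have : g ∈ Subgroup.zpowers g := Subgroup.mem_zpowers g
    rw [h, Subgroup.mem_bot] at this
    exact this
  obtain ⟨z, hzH, hz1, hz2⟩ := exists_invol_of_ne_bot C.hT _ hH
  obtain ⟨i, rfl⟩ := Subgroup.mem_zpowers_iff.mp hzH
  apply hz1
  apply C.hρfix _ (C.hinv _ hz2)
  rw [map_zpow, hg]

/-- the powers of `ρ`. -/
theorem Cfg.zpowers_cases (C : Cfg T V ρ) (k : MulAut T) (hk : k ∈ Subgroup.zpowers ρ) :
    k = 1 ∨ k = ρ ∨ k = ρ * ρ := by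
  obtain ⟨i, rfl⟩ := Subgroup.mem_zpowers_iff.mp hk
  have h3' : ρ ^ (3 : ℤ) = 1 := by
    rw [show (3 : ℤ) = ((3 : ℕ) : ℤ) by norm_num, zpow_natCast]
    exact C.cube
  rw [zpow_eq_zpow_emod i h3']
  have hnn : 0 ≤ i % 3 := Int.emod_nonneg i (by norm_num)
  have hlt : i % 3 < 3 := Int.emod_lt_of_pos i (by norm_num)
  obtain ⟨d, hd⟩ := Int.eq_ofNat_of_zero_le hnn
  rw [hd] at hlt ⊢
  rw [zpow_natCast]
  have hd3 : d < 3 := by exact_mod_cast hlt
  interval_cases d
  · left; rw [pow_zero]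
  · right; left; rw [pow_one]
  · right; right; rw [pow_two]

/-- an involution. -/
theorem Cfg.exists_invol (C : Cfg T V ρ) : ∃ v ∈ V, v ≠ 1 := by
  classical
  haveI := C.fin
  obtain ⟨t, htV, htS⟩ := exists_notMem_of_card_lt V {1} (by
    rw [C.hV4, Finset.card_singleton]; norm_num)
  rw [Finset.mem_singleton] at htS
  exact ⟨t, htV, htS⟩

/-- the nonabelian case is a Suzuki two-group. -/
theorem Cfg.suzuki (C : Cfg T V ρ) (hna : ¬ ∀ a b : T, a * b = b * a) :
    Cfsg.IsSuzukiTwoGroup T := by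
  haveI := C.fin
  have h := C.fpf3
  push Not at hna
  obtain ⟨a, b, hab⟩ := hna
  obtain ⟨v, hv, hv1⟩ := C.exists_invol
  refine ⟨C.fin, C.hT, ⟨a, b, hab⟩, ⟨v, ρ v, ?_, hv1, C.hVsq v hv, h.ne_one hv1,
    C.hVsq _ (C.hρV v hv)⟩, Subgroup.zpowers ρ, Subgroup.isCyclic_zpowers ρ, ?_⟩
  · exact fun h' => h.ne_self hv1 h'.symm
  intro x y hx1 hx2 hy1 hy2
  have hxV := C.hinv x hx2
  have hyV := C.hinv y hy2
  have hex : ∃ k : Subgroup.zpowers ρ, (k : MulAut T) x = y := by
    rcases C.V_cases hxV hx1 y hyV with h' | h' | h' | h'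
    · exact absurd h' hy1
    · exact ⟨⟨1, Subgroup.one_mem _⟩, by rw [h']; rfl⟩
    · exact ⟨⟨ρ, Subgroup.mem_zpowers ρ⟩, by rw [h']⟩
    · exact ⟨⟨ρ * ρ, Subgroup.mul_mem _ (Subgroup.mem_zpowers ρ) (Subgroup.mem_zpowers ρ)⟩, by
        rw [h']; rfl⟩
  obtain ⟨k, hk⟩ := hex
  refine ⟨k, hk, ?_⟩
  intro k' hk'
  have hfix : ((k⁻¹ * k' : Subgroup.zpowers ρ) : MulAut T) x = x := by
    rw [Subgroup.coe_mul, MulAut.mul_apply, hk', ← hk, Subgroup.coe_inv, MulAut.inv_apply,
      MulEquiv.symm_apply_apply]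
  have hone : (k⁻¹ * k' : Subgroup.zpowers ρ) = 1 := by
    rcases C.zpowers_cases _ (k⁻¹ * k').2 with h' | h' | h'
    · exact Subtype.ext h'
    · rw [h'] at hfix
      exact absurd hfix (h.ne_self hx1)
    · rw [h', MulAut.mul_apply] at hfix
      exact absurd hfix (h.rr_ne_self hx1)
  calc k' = k * (k⁻¹ * k') := by group
    _ = k := by rw [hone, mul_one]

theorem main [Finite T] (C : Cfg T V ρ) {F : Type*} [Field F] [Fintype F]
    (hF : Fintype.card F = 16) (P : Sylow 2 (Cfsg.PSU 3 F 4)) :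
    (∃ n : ℕ, 1 ≤ n ∧ Nonempty (T ≃* Multiplicative (ZMod (2 ^ n) × ZMod (2 ^ n)))) ∨
      Nonempty (T ≃* (P : Subgroup (Cfsg.PSU 3 F 4))) := by
  have h := C.fpf3
  haveI : V.Normal := normal_of_le_center C.hVZ
  by_cases hab : ∀ a b : T, a * b = b * a
  · left
    have hΩ : Nat.card {x : T // x * x = 1} ≤ 4 := by
      rw [← C.hV4]
      apply le_of_eq
      apply Nat.card_congr
      exact Equiv.subtypeEquivRight (fun x => ⟨C.hinv x, C.hVsq x⟩)
    obtain ⟨n, x, -, -, ⟨e⟩⟩ := homocyclic hab h C.hT hΩ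
    refine ⟨n, ?_, ⟨e.trans (MulEquiv.prodMultiplicative _ _).symm⟩⟩
    by_contra hn
    have hn0 : n = 0 := by omega
    subst hn0
    have h1 : Nat.card T = 1 := by
      rw [Nat.card_congr e.toEquiv, Nat.card_prod]
      have : Nat.card (Multiplicative (ZMod (2 ^ 0))) = 1 := by
        rw [Nat.card_congr Multiplicative.toAdd, Nat.card_zmod]
        norm_num
      rw [this]
    have h2 := Subgroup.card_le_card_group V
    rw [C.hV4, h1] at h2
    omega
  · right
    have hS := C.suzuki hab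
    obtain ⟨-, hZsq⟩ := Cfsg.Agent.S1137.result hS
    obtain ⟨-, hcmZ, hcard, -⟩ := Cfsg.Agent.S1138.result hS
    have hZV : Subgroup.center T = V :=
      le_antisymm (fun z hz => C.hinv z (hZsq z hz)) C.hVZ
    have hZ4 : Nat.card (Subgroup.center T) = 4 := by rw [hZV, C.hV4]
    rw [hZ4] at hcard
    have hT64 : Nat.card T = 64 := by
      rcases hcard with h16 | h64
      · exfalso
        have hq4 : Nat.card (T ⧸ V) = 4 := by
          have := Subgroup.card_eq_card_quotient_mul_card_subgroup V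
          rw [h16, C.hV4] at this
          omega
        have habq : ∀ a b : T ⧸ V, a * b = b * a := by
          intro a b
          obtain ⟨a, rfl⟩ := QuotientGroup.mk_surjective a
          obtain ⟨b, rfl⟩ := QuotientGroup.mk_surjective b
          rw [← QuotientGroup.mk_mul, ← QuotientGroup.mk_mul, QuotientGroup.eq]
          have : (a * b)⁻¹ * (b * a) = b⁻¹ * a⁻¹ * b * a := by group
          rw [this, ← hZV]
          exact hcmZ b a
        have hq := fpf3_quot h V C.hρV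
        have hΩq : Nat.card {x : T ⧸ V // x * x = 1} ≤ 4 := by
          rw [← hq4]
          exact Finite.card_subtype_le _
        obtain ⟨n, x, -, hgen, -⟩ := homocyclic habq hq (C.hT.to_quotient V) hΩq
        exact hab (comm_of_quot_gen h V C.hVZ C.hρV x hgen)
      · rw [h64]; norm_num
    have hC := cl2_of_card h hT64 hab
    have hM : ∀ x : T, x * x = 1 → x ∈ Subgroup.center T := fun x hx => C.hVZ (C.hinv x hx)
    have hF' : Fintype.card F = (2 ^ 2) ^ 2 := by rw [hF]; norm_num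
    obtain ⟨bar, hbar⟩ := Cfsg.Agent.Helper45.GU.exists_bar hF'
    haveI : BarField F bar := barField bar hF' (by decide) hbar
    obtain ⟨e1⟩ := minus_equiv h hC hT64 hZ4 hM hF' bar hbar
    obtain ⟨e2⟩ := exists_equiv_sylow_PSU (n := 2) (by norm_num) hF' bar hbar P
    exact ⟨e1.trans e2⟩

end Cfsg.Agent.Helper65.T1237
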