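import Cfsg.Agent.Helper65.Ord64C
import Cfsg.Agent.Helper10.Engel

/-!
# Two-groups with a fixed-point-free automorphism of order three have class at most two
-/

set_option autoImplicit false

namespace Cfsg.Agent.Helper65.T2933

open Cfsg.Agent.Helper65.Suz Cfsg.Agent.Helper65.Ord64
open scoped commutatorElement

variable {T : Type*} [Group T] {ρ : MulAut T}

/-- a conjugate of a fixed-point-free automorphism of order three is one. -/
theorem fpf3_conj (h : Fpf3 ρ) (φ : MulAut T) : Fpf3 (φ⁻¹ * ρ * φ) := by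
  constructor
  · intro g
    simp only [MulAut.mul_apply]
    rw [MulAut.apply_inv_self, MulAut.apply_inv_self, h.h3, MulAut.inv_apply_self]
  · intro g hg
    simp only [MulAut.mul_apply] at hg
    have h1 : ρ (φ g) = φ g := by
      have := congrArg φ hg
      rwa [MulAut.apply_inv_self] at this
    have h2 := h.hfp _ h1
    have : φ g = φ 1 := by rw [h2, map_one]
    exact φ.injective this

theorem fpf3_sq (h : Fpf3 ρ) : Fpf3 (ρ * ρ) := by
  constructor
  · intro g
    simp only [MulAut.mul_apply]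
    rw [h.h3, h.h3]
  · intro g hg
    simp only [MulAut.mul_apply] at hg
    apply h.hfp
    have := congrArg ρ hg
    rw [h.h3] at this
    exact this.symm

/-- `x` commutes with every conjugate of `ρ x`. -/
theorem commute_conj_rho [Finite T] (h : Fpf3 ρ) (x g : T) : Commute x (g * ρ x * g⁻¹) := by
  obtain ⟨s, hs⟩ := h.surj g
  have h' := fpf3_conj h (MulAut.conj s)
  have h1 := h'.comm x
  have h2 : ((MulAut.conj s)⁻¹ * ρ * MulAut.conj s) x = g * ρ x * g⁻¹ := by
    simp only [MulAut.mul_apply, MulAut.conj_apply, MulAut.conj_inv_apply, map_mul, map_inv]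
    rw [← hs]
    group
  rw [h2] at h1
  exact h1

/-- the two-Engel condition. -/
theorem engel [Finite T] (h : Fpf3 ρ) (x g : T) : Commute x (g * x * g⁻¹) := by
  have c1 := commute_conj_rho h x g
  have c2 := commute_conj_rho (fpf3_sq h) x g
  have h1 : (g * x * g⁻¹)⁻¹ = (g * ρ x * g⁻¹) * (g * (ρ * ρ) x * g⁻¹) := by
    have h2 : x⁻¹ = ρ x * ρ (ρ x) := by
      have := h.prod x
      rw [mul_assoc] at this
      exact (eq_inv_of_mul_eq_one_right this).symm ▸ rfl
    have h3 : (g * x * g⁻¹)⁻¹ = g * x⁻¹ * g⁻¹ := by group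
    rw [h3, h2, MulAut.mul_apply]
    group
  have h2 : Commute x (g * x * g⁻¹)⁻¹ := by
    rw [h1]
    exact c1.mul_right c2
  simpa using h2.inv_right

/-- **class two.** -/
theorem class_two [Finite T] (h : Fpf3 ρ) (hT : IsPGroup 2 T) (a b : T) :
    cm a b ∈ Subgroup.center T := by
  have hE : ∀ x g : T, Commute x (g * x * g⁻¹) := engel h
  have key : ∀ x y z : T, ⁅⁅x, y⁆, z⁆ = 1 := by
    intro x y z
    have h1 := Cfsg.Agent.Helper10.Engel.T_pow_three hE x y z
    obtain ⟨k, hk⟩ := hT ⁅⁅x, y⁆, z⁆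
    have h2 : orderOf ⁅⁅x, y⁆, z⁆ ∣ 3 := orderOf_dvd_of_pow_eq_one h1
    have h3 : orderOf ⁅⁅x, y⁆, z⁆ ∣ 2 ^ k := orderOf_dvd_of_pow_eq_one hk
    have h4 : orderOf ⁅⁅x, y⁆, z⁆ ∣ Nat.gcd 3 (2 ^ k) := Nat.dvd_gcd h2 h3
    have h5 : Nat.gcd 3 (2 ^ k) = 1 := by
      apply Nat.Coprime.pow_right
      norm_num
    rw [h5, Nat.dvd_one, orderOf_eq_one_iff] at h4
    exact h4
  rw [Subgroup.mem_center_iff]
  intro g
  have h1 : cm a b = ⁅a⁻¹, b⁻¹⁆ := by
    unfold cm
    rw [commutatorElement_def]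
    group
  have h2 := key a⁻¹ b⁻¹ g
  rw [← h1, commutatorElement_def] at h2
  have h3 : cm a b * g = g * cm a b := by
    have := mul_inv_eq_one.mp h2
    have h4 := mul_inv_eq_iff_eq_mul.mp this
    exact h4
  exact h3.symm

/-- invariant subgroups `H < K` of a two-group satisfy `4 |H| ≤ |K|`. -/
theorem four_mul_card_le [Finite T] (h : Fpf3 ρ) (hT : IsPGroup 2 T) (H K : Subgroup T)
    (hH : ∀ g ∈ H, ρ g ∈ H) (hK : ∀ g ∈ K, ρ g ∈ K) (hHK : H ≤ K) (hne : H ≠ K) :
    4 * Nat.card H ≤ Nat.card K := by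
  have h1 := h.card_mod_three H hH
  have h2 := h.card_mod_three K hK
  obtain ⟨a, ha⟩ := (hT.to_subgroup H).exists_card_eq
  obtain ⟨b, hb⟩ := (hT.to_subgroup K).exists_card_eq
  have h3 : Nat.card H ∣ Nat.card K := Subgroup.card_dvd_of_le hHK
  have h4 : Nat.card H ≠ Nat.card K := by
    intro h5
    exact hne (Subgroup.eq_of_le_of_card_ge hHK h5.ge)
  rw [ha, hb] at h3 h4 ⊢
  rw [ha] at h1
  rw [hb] at h2
  have hab : a ≤ b := (Nat.pow_dvd_pow_iff_le_right (by norm_num)).mp h3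
  have hab' : a ≠ b := fun e => h4 (by rw [e])
  have hpar : ∀ n : ℕ, 2 ^ n % 3 = 1 → n % 2 = 0 := by
    intro n hn
    by_contra hodd
    have : n % 2 = 1 := by omega
    obtain ⟨m, rfl⟩ : ∃ m, n = 2 * m + 1 := ⟨n / 2, by omega⟩
    rw [pow_succ, pow_mul] at hn
    have h5 : (2 ^ 2) ^ m % 3 = 1 := by
      rw [Nat.pow_mod]; norm_num
    omega
  have ha2 := hpar a h1
  have hb2 := hpar b h2
  have hab2 : a + 2 ≤ b := by omega
  calc 4 * 2 ^ a = 2 ^ (a + 2) := by ring
    _ ≤ 2 ^ b := Nat.pow_le_pow_right (by norm_num) hab2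

end Cfsg.Agent.Helper65.T2933
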