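import Cfsg.Agent.Helper65.T2933A

/-!
# Commutator calculus in class two, with a fixed-point-free automorphism of order three
-/

set_option autoImplicit false

namespace Cfsg.Agent.Helper65.T2933

open Cfsg.Agent.Helper65.Suz Cfsg.Agent.Helper65.Ord64

variable {T : Type*} [Group T] {ρ : MulAut T}

section cl

variable (hcm : ∀ a b : T, cm a b ∈ Subgroup.center T)
include hcm

theorem cmL (a b c : T) : cm (a * b) c = cm a c * cm b c := by
  rw [Suz.cm_mul_left, central_conj (hcm a c)]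

theorem cmR (a b c : T) : cm a (b * c) = cm a b * cm a c := by
  rw [Suz.cm_mul_right, mul_assoc, mul_assoc, ← mul_assoc c⁻¹, central_conj (hcm a b)]
  exact (Subgroup.mem_center_iff.mp (hcm a b) _)

theorem cm_invL (a b : T) : cm a⁻¹ b = (cm a b)⁻¹ := by
  have h1 := cmL hcm a⁻¹ a b
  rw [inv_mul_cancel, cm_one_left'] at h1
  exact eq_inv_of_mul_eq_one_left h1.symm

theorem cm_invR (a b : T) : cm a b⁻¹ = (cm a b)⁻¹ := by
  have h1 := cmR hcm a b⁻¹ b
  rw [inv_mul_cancel, cm_one_right'] at h1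
  exact eq_inv_of_mul_eq_one_left h1.symm

theorem sq_mul' (s t : T) : (s * t) * (s * t) = (s * s) * (t * t) * cm t s := by
  have hc := Subgroup.mem_center_iff.mp (hcm t s)
  calc (s * t) * (s * t) = s * (t * s) * t := by group
    _ = s * (s * t * cm t s) * t := by rw [← mul_eq_mul_cm]
    _ = s * s * t * (cm t s * t) := by group
    _ = s * s * t * (t * cm t s) := by rw [← hc t]
    _ = (s * s) * (t * t) * cm t s := by group

theorem cm_sq_left (a b : T) : cm (a * a) b = cm a b * cm a b := cmL hcm a a b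

theorem k0 [Finite T] (h : Fpf3 ρ) (s t : T) : cm t (ρ s) = cm (ρ t) s := by
  have h0 := h.comm (s * t)
  rw [map_mul] at h0
  have hc1 := Subgroup.mem_center_iff.mp (hcm t (ρ s))
  have hc2 := Subgroup.mem_center_iff.mp (hcm (ρ t) s)
  have e1 : s * t * (ρ s * ρ t) = s * ρ s * t * ρ t * cm t (ρ s) := by
    calc s * t * (ρ s * ρ t) = s * (t * ρ s) * ρ t := by group
      _ = s * (ρ s * t * cm t (ρ s)) * ρ t := by rw [← mul_eq_mul_cm]
      _ = s * ρ s * t * (cm t (ρ s) * ρ t) := by group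
      _ = s * ρ s * t * (ρ t * cm t (ρ s)) := by rw [← hc1 (ρ t)]
      _ = s * ρ s * t * ρ t * cm t (ρ s) := by group
  have e2 : ρ s * ρ t * (s * t) = s * ρ s * t * ρ t * cm (ρ t) s := by
    calc ρ s * ρ t * (s * t) = ρ s * (ρ t * s) * t := by group
      _ = ρ s * (s * ρ t * cm (ρ t) s) * t := by rw [← mul_eq_mul_cm]
      _ = (ρ s * s) * ρ t * (cm (ρ t) s * t) := by group
      _ = (s * ρ s) * ρ t * (t * cm (ρ t) s) := by rw [← hc2 t, ← h.comm s]
      _ = s * ρ s * (ρ t * t) * cm (ρ t) s := by group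
      _ = s * ρ s * (t * ρ t) * cm (ρ t) s := by rw [← h.comm t]
      _ = s * ρ s * t * ρ t * cm (ρ t) s := by group
  exact mul_left_cancel (e1.symm.trans (h0.trans e2))

theorem k1 [Finite T] (h : Fpf3 ρ) (s t : T) : cm s (ρ (ρ t)) = ρ (cm s t) := by
  rw [k0 hcm h (ρ t) s, ← map_cm]

/-- `[s, ρ t] = ρ² [s, t]`. -/
theorem k2 [Finite T] (h : Fpf3 ρ) (s t : T) : cm s (ρ t) = ρ (ρ (cm s t)) := by
  rw [k0 hcm h t s]
  have h1 : cm (ρ s) t = ρ (cm s (ρ (ρ t))) := by rw [map_cm, h.h3]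
  rw [h1, k1 hcm h]

/-- `[ρ s, t] = ρ² [s, t]`. -/
theorem k2' [Finite T] (h : Fpf3 ρ) (s t : T) : cm (ρ s) t = ρ (ρ (cm s t)) := by
  rw [← k0 hcm h t s, k2 hcm h]

theorem k1' [Finite T] (h : Fpf3 ρ) (s t : T) : cm (ρ (ρ s)) t = ρ (cm s t) := by
  rw [k2' hcm h, k2' hcm h, h.h3]

/-- the centraliser of `a` is invariant. -/
theorem cm_rho_eq_one [Finite T] (h : Fpf3 ρ) {a y : T} (hy : cm a y = 1) : cm a (ρ y) = 1 := by
  rw [k2 hcm h, hy, map_one, map_one]

end cl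

theorem cm_self_rho [Finite T] (h : Fpf3 ρ) (a : T) : cm a (ρ a) = 1 :=
  cm_eq_one_iff.mpr (h.comm a)

theorem cm_rho_self [Finite T] (h : Fpf3 ρ) (a : T) : cm (ρ a) a = 1 :=
  cm_eq_one_iff.mpr (h.comm a).symm

end Cfsg.Agent.Helper65.T2933
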