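import Cfsg.Agent.Helper65.T2933B

/-!
# Abelian two-groups of rank at most two with a fixed-point-free automorphism of order three
-/

set_option autoImplicit false

namespace Cfsg.Agent.Helper65.T2933

open Cfsg.Agent.Helper65.Suz Cfsg.Agent.Helper65.Ord64

variable {A : Type*} [Group A] {ρ : MulAut A}

/-- squaring, in a commutative group. -/
def sqHom (hab : ∀ a b : A, a * b = b * a) : A →* A where
  toFun x := x * x
  map_one' := one_mul 1
  map_mul' x y := by
    calc x * y * (x * y) = x * (y * x) * y := by group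
      _ = x * (x * y) * y := by rw [hab y x]
      _ = x * x * (y * y) := by group

theorem sqHom_apply (hab : ∀ a b : A, a * b = b * a) (x : A) : sqHom hab x = x * x := rfl

/-- the rank bound. -/
theorem rank_bound [Finite A] (hab : ∀ a b : A, a * b = b * a)
    (hΩ : Nat.card {x : A // x * x = 1} ≤ 4) :
    ∀ n : ℕ, ∀ H : Subgroup A, (∀ y ∈ H, y ^ 2 ^ n = 1) → Nat.card H ≤ 4 ^ n := by
  intro n
  induction n with
  | zero =>
    intro H hH
    have : H = ⊥ := by
      rw [Subgroup.eq_bot_iff_forall]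
      intro y hy
      simpa using hH y hy
    rw [this, Subgroup.card_bot]
    norm_num
  | succ n ih =>
    intro H hH
    set f : H →* A := (sqHom hab).domRestrict H with hf
    have h1 : Nat.card f.range ≤ 4 ^ n := by
      apply ih
      rintro y ⟨x, rfl⟩
      have h2 : f x = x.1 * x.1 := rfl
      rw [h2, ← pow_two, ← pow_mul, ← pow_succ']
      exact hH x.1 x.2
    have h2 : Nat.card f.ker ≤ 4 := by
      refine le_trans ?_ hΩ
      apply Nat.card_le_card_of_injective
        (fun x : f.ker => (⟨x.1.1, by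
          have h3 : f x.1 = 1 := x.2
          exact h3⟩ : {x : A // x * x = 1}))
      intro x y hxy
      apply Subtype.ext
      apply Subtype.ext
      have h4 := congrArg Subtype.val hxy
      exact h4
    have h3 : Nat.card f.ker * Nat.card f.range = Nat.card H := by
      rw [← Subgroup.index_ker, Subgroup.card_mul_index]
    rw [← h3, pow_succ, mul_comm]
    exact Nat.mul_le_mul h1 h2

/-- an involution in a cyclic two-group is the standard one. -/
theorem invol_unique {x z : A} {n m : ℕ} (hx : orderOf x = 2 ^ (n + 1)) (hz : z = x ^ m)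
    (hz2 : z * z = 1) (hz1 : z ≠ 1) : z = x ^ 2 ^ n := by
  have h1 : x ^ (2 * m) = 1 := by
    rw [two_mul, pow_add, ← hz, hz2]
  have h2 : 2 ^ (n + 1) ∣ 2 * m := by
    rw [← hx]
    exact orderOf_dvd_of_pow_eq_one h1
  have h3 : 2 ^ n ∣ m := by
    rw [pow_succ, mul_comm] at h2
    exact Nat.dvd_of_mul_dvd_mul_left (by norm_num) h2
  obtain ⟨c, rfl⟩ := h3
  set w := x ^ 2 ^ n with hw
  have hw2 : w ^ 2 = 1 := by
    rw [hw, ← pow_mul, ← pow_succ, ← hx]
    exact pow_orderOf_eq_one x
  have h4 : z = w ^ c := by rw [hz, pow_mul]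
  rw [h4, pow_eq_pow_mod c hw2]
  rw [h4, pow_eq_pow_mod c hw2] at hz1
  rcases Nat.mod_two_eq_zero_or_one c with h5 | h5
  · rw [h5, pow_zero] at hz1
    exact absurd rfl hz1
  · rw [h5, pow_one]

/-- the two cyclic groups meet trivially. -/
theorem pow_inter [Finite A] (h : Fpf3 ρ) (hA : IsPGroup 2 A) {x : A} {n : ℕ}
    (hx : orderOf x = 2 ^ n) {i j : ℕ} (hij : x ^ i = (ρ x) ^ j) : x ^ i = 1 := by
  by_contra hg
  obtain ⟨k, hk⟩ := (IsPGroup.iff_orderOf.mp hA) (x ^ i)
  have hk0 : k ≠ 0 := by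
    rintro rfl
    rw [pow_zero, orderOf_eq_one_iff] at hk
    exact hg hk
  obtain ⟨k', rfl⟩ := Nat.exists_eq_succ_of_ne_zero hk0
  have hn0 : n ≠ 0 := by
    rintro rfl
    rw [pow_zero, orderOf_eq_one_iff] at hx
    rw [hx, one_pow] at hg
    exact hg rfl
  obtain ⟨n', rfl⟩ := Nat.exists_eq_succ_of_ne_zero hn0
  set z := (x ^ i) ^ 2 ^ k' with hz
  have hz1 : z ≠ 1 := by
    apply pow_ne_one_of_lt_orderOf (by positivity)
    rw [hk]
    exact Nat.pow_lt_pow_right (by norm_num) (Nat.lt_succ_self k')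
  have hz2 : z * z = 1 := by
    rw [hz, ← pow_two, ← pow_mul, ← pow_succ, ← hk]
    exact pow_orderOf_eq_one _
  have e1 : z = x ^ (i * 2 ^ k') := by rw [hz, pow_mul]
  have hw1 := invol_unique hx e1 hz2 hz1
  set z' := x ^ (j * 2 ^ k') with hz'
  have e2 : z = ρ z' := by
    rw [hz, hij, hz', map_pow, pow_mul]
  have hz'2 : z' * z' = 1 := by
    have : ρ (z' * z') = ρ 1 := by rw [map_mul, ← e2, hz2, map_one]
    exact ρ.injective this
  have hz'1 : z' ≠ 1 := by
    intro h1
    rw [h1, map_one] at e2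
    exact hz1 e2
  have hw2 : z' = x ^ 2 ^ n' := invol_unique hx rfl hz'2 hz'1
  rw [hw2, ← hw1] at e2
  exact hz1 (h.hfp z e2.symm)

end Cfsg.Agent.Helper65.T2933
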