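import Cfsg.Agent.Helper65.T2933C

/-!
# The homocyclic case
-/

set_option autoImplicit false

namespace Cfsg.Agent.Helper65.T2933

open Cfsg.Agent.Helper65.Suz Cfsg.Agent.Helper65.Ord64

variable {A : Type*} [Group A] {ρ : MulAut A}

/-- the map from `ℤ/2ⁿ × ℤ/2ⁿ`. -/
def zzHom (hab : ∀ a b : A, a * b = b * a) (n : ℕ) (x y : A) (hx : x ^ 2 ^ n = 1)
    (hy : y ^ 2 ^ n = 1) : Multiplicative (ZMod (2 ^ n)) × Multiplicative (ZMod (2 ^ n)) →* A where
  toFun p := x ^ (Multiplicative.toAdd p.1).val * y ^ (Multiplicative.toAdd p.2).val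
  map_one' := by simp
  map_mul' p q := by
    haveI : NeZero (2 ^ n) := ⟨by positivity⟩
    have h1 : (Multiplicative.toAdd (p * q).1).val
        = ((Multiplicative.toAdd p.1).val + (Multiplicative.toAdd q.1).val) % 2 ^ n := by
      rw [Prod.fst_mul, toAdd_mul, ZMod.val_add]
    have h2 : (Multiplicative.toAdd (p * q).2).val
        = ((Multiplicative.toAdd p.2).val + (Multiplicative.toAdd q.2).val) % 2 ^ n := by
      rw [Prod.snd_mul, toAdd_mul, ZMod.val_add]
    rw [h1, h2, ← pow_eq_pow_mod _ hx, ← pow_eq_pow_mod _ hy, pow_add, pow_add]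
    set a := x ^ (Multiplicative.toAdd p.1).val
    set b := x ^ (Multiplicative.toAdd q.1).val
    set c := y ^ (Multiplicative.toAdd p.2).val
    set d := y ^ (Multiplicative.toAdd q.2).val
    calc a * b * (c * d) = a * (b * c) * d := by group
      _ = a * (c * b) * d := by rw [hab b c]
      _ = a * c * (b * d) := by group

theorem zzHom_apply (hab : ∀ a b : A, a * b = b * a) (n : ℕ) (x y : A) (hx : x ^ 2 ^ n = 1)
    (hy : y ^ 2 ^ n = 1) (p : Multiplicative (ZMod (2 ^ n)) × Multiplicative (ZMod (2 ^ n))) :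
    zzHom hab n x y hx hy p
      = x ^ (Multiplicative.toAdd p.1).val * y ^ (Multiplicative.toAdd p.2).val := rfl

/-- **rank at most two**: the group is homocyclic. -/
theorem homocyclic [Finite A] (hab : ∀ a b : A, a * b = b * a) (h : Fpf3 ρ) (hA : IsPGroup 2 A)
    (hΩ : Nat.card {x : A // x * x = 1} ≤ 4) :
    ∃ (n : ℕ) (x : A), orderOf x = 2 ^ n ∧ Subgroup.closure {x, ρ x} = ⊤ ∧
      Nonempty (A ≃* Multiplicative (ZMod (2 ^ n)) × Multiplicative (ZMod (2 ^ n))) := by
  obtain ⟨x, hxmax⟩ := Finite.exists_max (fun y : A => orderOf y)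
  obtain ⟨n, hn⟩ := (IsPGroup.iff_orderOf.mp hA) x
  have hexp : ∀ y : A, y ^ 2 ^ n = 1 := by
    intro y
    obtain ⟨m, hm⟩ := (IsPGroup.iff_orderOf.mp hA) y
    have h1 : orderOf y ≤ orderOf x := hxmax y
    rw [hm, hn] at h1
    have h2 : m ≤ n := (Nat.pow_le_pow_iff_right (by norm_num)).mp h1
    apply orderOf_dvd_iff_pow_eq_one.mp
    rw [hm]
    exact pow_dvd_pow 2 h2
  have hcard : Nat.card A ≤ 4 ^ n := by
    have := rank_bound hab hΩ n ⊤ (fun y _ => hexp y)
    rwa [Subgroup.card_top] at this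
  have hρx : orderOf (ρ x) = 2 ^ n := by rw [MulEquiv.orderOf_eq, hn]
  set φ := zzHom hab n x (ρ x) (hexp x) (hexp (ρ x)) with hφ
  haveI : NeZero (2 ^ n) := ⟨by positivity⟩
  have hinj : Function.Injective φ := by
    rw [injective_iff_map_eq_one]
    intro p hp
    rw [hφ, zzHom_apply] at hp
    set a := (Multiplicative.toAdd p.1).val with ha
    set b := (Multiplicative.toAdd p.2).val with hb
    have h1 : x ^ a = (ρ x) ^ (b * (2 ^ n - 1)) := by
      have h2 : (ρ x) ^ b * (ρ x) ^ (b * (2 ^ n - 1)) = 1 := by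
        rw [← pow_add]
        have h3 : b + b * (2 ^ n - 1) = 2 ^ n * b := by
          have : 1 ≤ 2 ^ n := Nat.one_le_two_pow
          obtain ⟨c, hc⟩ : ∃ c, 2 ^ n = c + 1 := ⟨2 ^ n - 1, by omega⟩
          rw [hc]
          simp only [Nat.add_sub_cancel]
          ring
        rw [h3, pow_mul, hexp, one_pow]
      calc x ^ a = x ^ a * ((ρ x) ^ b * (ρ x) ^ (b * (2 ^ n - 1))) := by rw [h2, mul_one]
        _ = (x ^ a * (ρ x) ^ b) * (ρ x) ^ (b * (2 ^ n - 1)) := by group
        _ = (ρ x) ^ (b * (2 ^ n - 1)) := by rw [hp, one_mul]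
    have h2 := pow_inter h hA hn h1
    have h3 : (ρ x) ^ b = 1 := by rwa [h2, one_mul] at hp
    have ha0 : a = 0 := by
      have h4 : orderOf x ∣ a := orderOf_dvd_of_pow_eq_one h2
      rw [hn] at h4
      exact Nat.eq_zero_of_dvd_of_lt h4 (ZMod.val_lt _)
    have hb0 : b = 0 := by
      have h4 : orderOf (ρ x) ∣ b := orderOf_dvd_of_pow_eq_one h3
      rw [hρx] at h4
      exact Nat.eq_zero_of_dvd_of_lt h4 (ZMod.val_lt _)
    have h5 : Multiplicative.toAdd p.1 = 0 := (ZMod.val_eq_zero _).mp ha0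
    have h6 : Multiplicative.toAdd p.2 = 0 := (ZMod.val_eq_zero _).mp hb0
    apply Prod.ext
    · exact h5
    · exact h6
  have hdom : Nat.card (Multiplicative (ZMod (2 ^ n)) × Multiplicative (ZMod (2 ^ n))) = 4 ^ n := by
    rw [Nat.card_prod]
    have : Nat.card (Multiplicative (ZMod (2 ^ n))) = 2 ^ n := by
      rw [Nat.card_congr Multiplicative.toAdd, Nat.card_zmod]
    rw [this, ← mul_pow]
    norm_num
  have hbij : Function.Bijective φ := hinj.bijective_of_nat_card_le (by rw [hdom]; exact hcard)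
  refine ⟨n, x, hn, ?_, ⟨(MulEquiv.ofBijective φ hbij).symm⟩⟩
  rw [eq_top_iff]
  intro a _
  obtain ⟨p, rfl⟩ := hbij.2 a
  rw [hφ, zzHom_apply]
  apply Subgroup.mul_mem
  · exact Subgroup.pow_mem _ (Subgroup.subset_closure (by simp)) _
  · exact Subgroup.pow_mem _ (Subgroup.subset_closure (by simp)) _

end Cfsg.Agent.Helper65.T2933
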