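import Cfsg.Agent.Helper65.T2933D

/-!
# The abelian case
-/

set_option autoImplicit false

namespace Cfsg.Agent.Helper65.T2933

open Cfsg.Agent.Helper65.Suz Cfsg.Agent.Helper65.Ord64

variable {A : Type*} [Group A] {ρ : MulAut A}

/-- `x ↦ x τ(x)`, in a commutative group. -/
def nHom (hab : ∀ a b : A, a * b = b * a) (τ : MulAut A) : A →* A where
  toFun x := x * τ x
  map_one' := by rw [map_one, one_mul]
  map_mul' x y := by
    rw [map_mul]
    calc x * y * (τ x * τ y) = x * (y * τ x) * τ y := by group
      _ = x * (τ x * y) * τ y := by rw [hab y (τ x)]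
      _ = x * τ x * (y * τ y) := by group

theorem nHom_apply (hab : ∀ a b : A, a * b = b * a) (τ : MulAut A) (x : A) :
    nHom hab τ x = x * τ x := rfl

theorem card_le_of_ker_range {B C : Type*} [Group B] [Group C] [Finite B] (f : B →* C)
    {a b : ℕ} (h1 : Nat.card f.ker ≤ a) (h2 : Nat.card f.range ≤ b) : Nat.card B ≤ a * b := by
  have h3 : Nat.card f.ker * Nat.card f.range = Nat.card B := by
    rw [← Subgroup.index_ker, Subgroup.card_mul_index]
  rw [← h3]
  exact Nat.mul_le_mul h1 h2

/-- powers of two congruent to one modulo three, up to sixteen. -/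
theorem pow_two_cases {m : ℕ} (hm : ∃ k, m = 2 ^ k) (h3 : m % 3 = 1) (hle : m ≤ 16) :
    m = 1 ∨ m = 4 ∨ m = 16 := by
  obtain ⟨k, rfl⟩ := hm
  have hk : k < 5 := by
    by_contra hk
    have : 2 ^ 5 ≤ 2 ^ k := Nat.pow_le_pow_right (by norm_num) (by omega)
    omega
  interval_cases k <;> simp_all

/-- **the abelian case.** -/
theorem abelian_cases [Finite A] (hab : ∀ a b : A, a * b = b * a) (h : Fpf3 ρ)
    (hA : IsPGroup 2 A) (τ : MulAut A) (hτ2 : ∀ x, τ (τ x) = x)
    (hfix : Nat.card {x : A // τ x = x} ≤ 4) :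
    (Nat.card A = 16 ∧ ∀ x : A, x * x = 1) ∨ Nat.card {x : A // x * x = 1} ≤ 4 := by
  haveI : Fact (Nat.Prime 2) := ⟨Nat.prime_two⟩
  set Ω : Subgroup A := (sqHom hab).ker with hΩ
  have hmemΩ : ∀ x, x ∈ Ω ↔ x * x = 1 := fun x => by
    rw [hΩ, MonoidHom.mem_ker, sqHom_apply]
  have hΩcard : Nat.card {x : A // x * x = 1} = Nat.card Ω := by
    apply Nat.card_congr
    exact Equiv.subtypeEquivRight (fun x => (hmemΩ x).symm)
  have hfixN : ∀ x, τ (x * τ x) = x * τ x := by
    intro x
    rw [map_mul, hτ2]
    exact hab _ _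
  -- the restriction of the norm to `Ω`
  set f : Ω →* A := (nHom hab τ).domRestrict Ω with hf
  have hfa : ∀ x : Ω, f x = x.1 * τ x.1 := fun x => rfl
  have hker : Nat.card f.ker ≤ 4 := by
    refine le_trans ?_ hfix
    apply Nat.card_le_card_of_injective
      (fun x : f.ker => (⟨x.1.1, by
        have h3 : x.1.1 * τ x.1.1 = 1 := x.2
        have h4 : x.1.1 * x.1.1 = 1 := (hmemΩ _).mp x.1.2
        have h5 : x.1.1 * τ x.1.1 = x.1.1 * x.1.1 := by rw [h3, h4]
        exact mul_left_cancel h5⟩ : {x : A // τ x = x}))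
    intro x y hxy
    apply Subtype.ext
    apply Subtype.ext
    have h4 := congrArg Subtype.val hxy
    exact h4
  have hrange : Nat.card f.range ≤ 4 := by
    refine le_trans ?_ hfix
    apply Nat.card_le_card_of_injective
      (fun x : f.range => (⟨x.1, by
        obtain ⟨y, hy⟩ := x.2
        rw [← hy, hfa]
        exact hfixN _⟩ : {x : A // τ x = x}))
    intro x y hxy
    apply Subtype.ext
    have h4 := congrArg Subtype.val hxy
    exact h4
  have hΩ16 : Nat.card Ω ≤ 16 := card_le_of_ker_range f hker hrange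
  have hΩinv : ∀ g ∈ Ω, ρ g ∈ Ω := by
    intro g hg
    rw [hmemΩ] at hg ⊢
    rw [← map_mul, hg, map_one]
  have hΩ3 := h.card_mod_three Ω hΩinv
  have hΩ2 := (hA.to_subgroup Ω).exists_card_eq
  rcases pow_two_cases hΩ2 hΩ3 hΩ16 with h1 | h1 | h1
  · right; rw [hΩcard, h1]; norm_num
  · right; rw [hΩcard, h1]
  left
  -- now `|Ω| = 16`
  have h3 : Nat.card f.ker * Nat.card f.range = 16 := by
    rw [← Subgroup.index_ker, Subgroup.card_mul_index, h1]
  have hrange4 : Nat.card f.range = 4 := by
    have : Nat.card f.ker * Nat.card f.range ≤ 4 * Nat.card f.range :=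
      Nat.mul_le_mul_right _ hker
    omega
  -- every fixed point is a norm from `Ω`
  have hsurj : ∀ c : A, τ c = c → ∃ e : A, e * e = 1 ∧ e * τ e = c := by
    have hinj : Function.Injective (fun x : f.range => (⟨x.1, by
        obtain ⟨y, hy⟩ := x.2
        rw [← hy, hfa]
        exact hfixN _⟩ : {x : A // τ x = x})) := by
      intro x y hxy
      apply Subtype.ext
      have h4 := congrArg Subtype.val hxy
      exact h4
    haveI : Finite {x : A // τ x = x} := inferInstance
    have hbij := hinj.bijective_of_nat_card_le (by rw [hrange4]; exact hfix)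
    intro c hc
    obtain ⟨⟨x, ⟨e, he⟩⟩, hx⟩ := hbij.2 ⟨c, hc⟩
    have h4 : x = c := congrArg Subtype.val hx
    refine ⟨e.1, (hmemΩ _).mp e.2, ?_⟩
    rw [← h4, ← he, hfa]
  have hfixΩ : ∀ c : A, τ c = c → c * c = 1 := by
    intro c hc
    obtain ⟨e, he2, hec⟩ := hsurj c hc
    rw [← hec]
    calc e * τ e * (e * τ e) = e * (τ e * e) * τ e := by group
      _ = e * (e * τ e) * τ e := by rw [hab (τ e) e]
      _ = (e * e) * τ (e * e) := by rw [map_mul]; group
      _ = 1 := by rw [he2, map_one, one_mul]
  -- the kernel of the norm lies in `Ω`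
  have hI : ∀ y : A, y * τ y = 1 → y * y = 1 := by
    intro y hy
    by_contra hy2
    obtain ⟨k, hk⟩ := (IsPGroup.iff_orderOf.mp hA) y
    have hk2 : 2 ≤ k := by
      by_contra hk2
      have hk1 : k ≤ 1 := by omega
      have : orderOf y ∣ 2 := by
        rw [hk]
        calc 2 ^ k ∣ 2 ^ 1 := pow_dvd_pow 2 hk1
          _ = 2 := by norm_num
      apply hy2
      rw [← pow_two]
      exact orderOf_dvd_iff_pow_eq_one.mp this
    obtain ⟨j, rfl⟩ : ∃ j, k = j + 2 := ⟨k - 2, by omega⟩
    set y' := y ^ 2 ^ j with hy'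
    have hy'τ : y' * τ y' = 1 := by
      have hc : Commute y (τ y) := hab y (τ y)
      have : y' * τ y' = (y * τ y) ^ 2 ^ j := by
        rw [hy', map_pow]
        exact (hc.mul_pow _).symm
      rw [this, hy, one_pow]
    set v := y' * y' with hv
    have hv1 : v ≠ 1 := by
      have : v = y ^ 2 ^ (j + 1) := by
        rw [hv, hy', ← pow_two, ← pow_mul, ← pow_succ]
      rw [this]
      apply pow_ne_one_of_lt_orderOf (by positivity)
      rw [hk]
      exact Nat.pow_lt_pow_right (by norm_num) (by omega)
    have hv2 : v * v = 1 := by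
      have : v * v = y ^ 2 ^ (j + 2) := by
        rw [hv, hy', ← pow_two, ← pow_two, ← pow_mul, ← pow_mul]
        congr 1
        ring
      rw [this, ← hk]
      exact pow_orderOf_eq_one y
    have hτy' : τ y' = y'⁻¹ := eq_inv_of_mul_eq_one_right hy'τ
    have hτv : τ v = v := by
      rw [hv, map_mul, hτy', ← mul_inv_rev, ← hv]
      exact inv_eq_of_mul_eq_one_left hv2
    obtain ⟨e, he2, hev⟩ := hsurj v hτv
    have hτe : τ e = e * v := by
      have : e * τ e = e * (e * v) := by rw [hev, ← mul_assoc, he2, one_mul]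
      exact mul_left_cancel this
    have hg : τ (e * y') = e * y' := by
      rw [map_mul, hτe, hτy', hv]
      group
    have hg2 := hfixΩ _ hg
    have : v = 1 := by
      rw [← hg2]
      calc v = (e * e) * (y' * y') := by rw [he2, one_mul]
        _ = e * (e * y') * y' := by group
        _ = e * (y' * e) * y' := by rw [hab e y']
        _ = e * y' * (e * y') := by group
    exact hv1 this
  -- the order of `A`
  have hA16 : Nat.card A ≤ 16 := by
    apply card_le_of_ker_range (nHom hab τ) (a := 4) (b := 4)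
    · refine le_trans ?_ hfix
      apply Nat.card_le_card_of_injective
        (fun x : (nHom hab τ).ker => (⟨x.1, by
          have h3 : x.1 * τ x.1 = 1 := x.2
          have h4 : x.1 * x.1 = 1 := hI _ h3
          have h5 : x.1 * τ x.1 = x.1 * x.1 := by rw [h3, h4]
          exact mul_left_cancel h5⟩ : {x : A // τ x = x}))
      intro x y hxy
      apply Subtype.ext
      have h4 := congrArg Subtype.val hxy
      exact h4
    · refine le_trans ?_ hfix
      apply Nat.card_le_card_of_injective
        (fun x : (nHom hab τ).range => (⟨x.1, by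
          obtain ⟨y, hy⟩ := x.2
          rw [← hy, nHom_apply]
          exact hfixN _⟩ : {x : A // τ x = x}))
      intro x y hxy
      apply Subtype.ext
      have h4 := congrArg Subtype.val hxy
      exact h4
  have hΩtop : Ω = ⊤ := by
    rw [← Subgroup.card_eq_iff_eq_top, h1]
    have := Subgroup.card_le_card_group Ω
    omega
  constructor
  · rw [← Subgroup.card_top (G := A), ← hΩtop, h1]
  · intro x
    rw [← hmemΩ, hΩtop]
    exact Subgroup.mem_top x

end Cfsg.Agent.Helper65.T2933
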