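import Cfsg.Agent.Helper65.T2933F
import Cfsg.Agent.Helper65.Ord64D

/-!
# Four-groups spanned by an orbit, and the dichotomy for a central quotient
-/

set_option autoImplicit false

namespace Cfsg.Agent.Helper65.T2933

open Cfsg.Agent.Helper65.Suz Cfsg.Agent.Helper65.Ord64 Cfsg.Agent.Helper27

variable {T : Type*} [Group T] {ρ : MulAut T}

/-- the four-group `{1, u, ρ u, ρ² u}`. -/
def quadSub [Finite T] (h : Fpf3 ρ) (u : T) (hu : u * u = 1) : Subgroup T where
  carrier := Set.range (quad ρ u)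
  one_mem' := ⟨0, rfl⟩
  mul_mem' := by
    rintro _ _ ⟨x, rfl⟩ ⟨y, rfl⟩
    exact ⟨x + y, quad_add h hu x y⟩
  inv_mem' := by
    rintro _ ⟨x, rfl⟩
    refine ⟨x, ?_⟩
    have h1 : quad ρ u x * quad ρ u x = 1 := by
      rw [← quad_add h hu]
      have : x + x = 0 := by cases x <;> rfl
      rw [this]
      rfl
    exact (inv_eq_of_mul_eq_one_left h1).symm

theorem mem_quadSub [Finite T] (h : Fpf3 ρ) (u : T) (hu : u * u = 1) (g : T) :
    g ∈ quadSub h u hu ↔ ∃ x, quad ρ u x = g := Iff.rfl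

theorem rho_quad (h : Fpf3 ρ) (u : T) (x : GF4) : ρ (quad ρ u x) = quad ρ u (GF4.w * x) := by
  cases x
  · exact map_one ρ
  · rfl
  · rfl
  · exact h.h3 u

theorem quadSub_inv [Finite T] (h : Fpf3 ρ) (u : T) (hu : u * u = 1) :
    ∀ g ∈ quadSub h u hu, ρ g ∈ quadSub h u hu := by
  rintro _ ⟨x, rfl⟩
  exact ⟨GF4.w * x, (rho_quad h u x).symm⟩

theorem quad_injective (h : Fpf3 ρ) {u : T} (hu : u ≠ 1) : Function.Injective (quad ρ u) := by
  have e1 := h.ne_one hu
  have e2 := h.ne_one e1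
  have e3 := h.ne_self hu
  have e4 := h.ne_self e1
  have e5 := h.rr_ne_self hu
  intro x y hxy
  cases x <;> cases y <;> simp only [quad] at hxy <;> first
    | rfl
    | exact absurd hxy hu
    | exact absurd hxy.symm hu
    | exact absurd hxy e1
    | exact absurd hxy.symm e1
    | exact absurd hxy e2
    | exact absurd hxy.symm e2
    | exact absurd hxy e3
    | exact absurd hxy.symm e3
    | exact absurd hxy e4
    | exact absurd hxy.symm e4
    | exact absurd hxy e5
    | exact absurd hxy.symm e5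

theorem card_quadSub [Finite T] (h : Fpf3 ρ) {u : T} (hu : u * u = 1) (hu1 : u ≠ 1) :
    Nat.card (quadSub h u hu) = 4 := by
  have : Nat.card (quadSub h u hu) = Nat.card GF4 := by
    symm
    apply Nat.card_congr
    refine Equiv.ofBijective (fun x => ⟨quad ρ u x, ⟨x, rfl⟩⟩) ⟨?_, ?_⟩
    · intro x y hxy
      exact quad_injective h hu1 (congrArg Subtype.val hxy)
    · rintro ⟨_, ⟨x, rfl⟩⟩
      exact ⟨x, rfl⟩
  rw [this, Nat.card_eq_fintype_card, GF4.card_eq]

/-- an invariant subgroup of order four has exponent two. -/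
theorem sq_eq_one_of_card_four [Finite T] (h : Fpf3 ρ) (V : Subgroup T)
    (hVρ : ∀ g ∈ V, ρ g ∈ V) (hV4 : Nat.card V = 4) : ∀ v ∈ V, v * v = 1 := by
  intro v hv
  by_cases hv1 : v = 1
  · rw [hv1, one_mul]
  -- the four elements `1, v, ρ v, ρ² v`
  have hinj : Function.Injective (fun x : GF4 => (⟨quad ρ v x, by
      cases x
      · exact V.one_mem
      · exact hv
      · exact hVρ _ hv
      · exact hVρ _ (hVρ _ hv)⟩ : V)) := by
    intro x y hxy
    exact quad_injective h hv1 (congrArg Subtype.val hxy)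
  have hbij := hinj.bijective_of_nat_card_le (by
    rw [hV4, Nat.card_eq_fintype_card, GF4.card_eq])
  obtain ⟨x, hx⟩ := hbij.2 ⟨v * ρ v, V.mul_mem hv (hVρ _ hv)⟩
  have hx' : quad ρ v x = v * ρ v := congrArg Subtype.val hx
  have hrr : ρ (ρ v) * ρ (ρ v) = 1 := by
    cases x
    · exfalso
      have h1 : v * ρ v = 1 := hx'.symm
      have h2 := h.rr_eq v
      rw [h1, inv_one] at h2
      exact h.ne_one (h.ne_one hv1) h2
    · exfalso
      have h1 : v = v * ρ v := hx'
      have h2 : ρ v = 1 := by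
        have : v * 1 = v * ρ v := by rw [mul_one]; exact h1
        exact (mul_left_cancel this).symm
      exact h.ne_one hv1 h2
    · exfalso
      have h1 : ρ v = v * ρ v := hx'
      have h2 : v = 1 := by
        have : 1 * ρ v = v * ρ v := by rw [one_mul]; exact h1
        exact (mul_right_cancel this).symm
      exact hv1 h2
    · have h1 : ρ (ρ v) = v * ρ v := hx'
      have h2 := h.rr_eq v
      rw [← h1] at h2
      calc ρ (ρ v) * ρ (ρ v) = (ρ (ρ v))⁻¹ * ρ (ρ v) := by rw [← h2]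
        _ = 1 := inv_mul_cancel _
  have : ρ (ρ (v * v)) = ρ (ρ 1) := by
    rw [map_mul, map_mul, hrr, map_one, map_one]
  exact ρ.injective (ρ.injective this)

/-- an invariant subgroup of order four is spanned by the orbit of any nonidentity element. -/
theorem eq_quadSub [Finite T] (h : Fpf3 ρ) (V : Subgroup T)
    (hVρ : ∀ g ∈ V, ρ g ∈ V) (hV4 : Nat.card V = 4) {u : T} (hu : u ∈ V) (hu2 : u * u = 1)
    (hu1 : u ≠ 1) : quadSub h u hu2 = V := by
  apply Subgroup.eq_of_le_of_card_ge
  · rintro _ ⟨x, rfl⟩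
    cases x
    · exact V.one_mem
    · exact hu
    · exact hVρ _ hu
    · exact hVρ _ (hVρ _ hu)
  · rw [hV4, card_quadSub h hu2 hu1]

/-- **the dichotomy for the quotient by a central invariant subgroup containing all
commutators**: a nonabelian group has index sixteen over it, with all squares in it. -/
theorem quot_dichotomy [Finite T] (hT : IsPGroup 2 T) (h : Fpf3 ρ) (τ : MulAut T)
    (hτ2 : ∀ x, τ (τ x) = x) (hfix4 : Nat.card {x : T // τ x = x} ≤ 4)
    (N : Subgroup T) [N.Normal] (hNc : N ≤ Subgroup.center T) (hNρ : ∀ g ∈ N, ρ g ∈ N)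
    (hNτ : ∀ g ∈ N, τ g ∈ N) (hcmN : ∀ a b : T, cm a b ∈ N)
    (hna : ¬ ∀ a b : T, a * b = b * a) :
    Nat.card T = 16 * Nat.card N ∧ ∀ x : T, x * x ∈ N := by
  have hab : ∀ a b : T ⧸ N, a * b = b * a := by
    intro a b
    obtain ⟨a, rfl⟩ := QuotientGroup.mk_surjective a
    obtain ⟨b, rfl⟩ := QuotientGroup.mk_surjective b
    rw [← QuotientGroup.mk_mul, ← QuotientGroup.mk_mul, QuotientGroup.eq]
    have : (a * b)⁻¹ * (b * a) = cm b a := by unfold cm; group
    rw [this]
    exact hcmN b a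
  have hq := fpf3_quot h N hNρ
  have hτq2 : ∀ x : T ⧸ N, qAut N τ hNτ (qAut N τ hNτ x) = x := by
    intro x
    obtain ⟨x, rfl⟩ := QuotientGroup.mk_surjective x
    rw [qAut_mk, qAut_mk, hτ2]
  have hfixq : Nat.card {x : T ⧸ N // qAut N τ hNτ x = x} ≤ 4 :=
    le_trans (card_fix_quot N hNc τ hNτ) hfix4
  rcases abelian_cases hab hq (hT.to_quotient N) (qAut N τ hNτ) hτq2 hfixq with ⟨h16, hexp⟩ | hR
  · constructor
    · rw [← Subgroup.card_mul_index N, Subgroup.index_eq_card, h16, mul_comm]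
    · intro x
      rw [← QuotientGroup.eq_one_iff, QuotientGroup.mk_mul]
      exact hexp _
  · exfalso
    obtain ⟨n, x, -, hgen, -⟩ := homocyclic hab hq (hT.to_quotient N) hR
    exact hna (comm_of_quot_gen h N hNc hNρ x hgen)

end Cfsg.Agent.Helper65.T2933
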