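import Cfsg.Agent.Helper65.T2933H

/-!
# Order sixty-four: noncommuting involutions, or all involutions central
-/

set_option autoImplicit false

namespace Cfsg.Agent.Helper65.T2933

open Cfsg.Agent.Helper65.Suz Cfsg.Agent.Helper65.Ord64 Cfsg.Agent.Helper27
  Cfsg.Agent.Helper14.AutPSL

variable {T : Type*} [Group T] {ρ : MulAut T}

/-- any two Sylow subgroups are isomorphic. -/
theorem sylow_equiv_all {G : Type*} [Group G] [Finite G] {p : ℕ} [Fact p.Prime]
    (P Q : Sylow p G) : Nonempty (↥(P : Subgroup G) ≃* ↥(Q : Subgroup G)) := by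
  obtain ⟨g, hg⟩ := MulAction.exists_smul_eq G P Q
  have h1 : ((g • P : Sylow p G) : Subgroup G) = (Q : Subgroup G) := by rw [hg]
  exact ⟨(Sylow.equivSMul P g).trans (MulEquiv.subgroupCongr h1)⟩

/-- **the dichotomy.** -/
theorem plus_or_minus [Finite T] (h : Fpf3 ρ) (hC : Cl2 T)
    (hZ : Nat.card (Subgroup.center T) = 4) :
    (∃ a b : T, a * a = 1 ∧ b * b = 1 ∧ cm a b ≠ 1) ∨
      (∀ x : T, x * x = 1 → x ∈ Subgroup.center T) := by
  by_contra hcon
  push Not at hcon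
  obtain ⟨hP, x, hx2, hxZ⟩ := hcon
  have hcm := hC.hcm
  -- an element not commuting with `x`
  have hy : ∃ y, cm x y ≠ 1 := by
    by_contra hall
    push Not at hall
    apply hxZ
    rw [Subgroup.mem_center_iff]
    intro g
    exact (cm_eq_one_iff.mp (hall g)).symm
  obtain ⟨y, hxy⟩ := hy
  set u := cm x y with hu
  have hu2 : u * u = 1 := hC.cm_sq x y
  have huZ : u ∈ Subgroup.center T := hcm x y
  have hZq : quadSub h u hu2 = Subgroup.center T :=
    eq_quadSub h _ (center_inv h) hZ huZ hu2 hxy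
  have hw : y * y ∈ quadSub h u hu2 := by rw [hZq]; exact hC.hsq y
  obtain ⟨k, hk⟩ := hw
  have hρx2 : ρ x * ρ x = 1 := by rw [← map_mul, hx2, map_one]
  have hρρx2 : ρ (ρ x) * ρ (ρ x) = 1 := by rw [← map_mul, hρx2, map_one]
  -- the correcting element
  have key : ∃ s : T, s * s = 1 ∧ cm x s = 1 ∧ cm s y = y * y := by
    cases k
    · exact ⟨1, one_mul 1, cm_one_right' x, by rw [cm_one_left']; exact hk⟩
    · refine ⟨x, hx2, cm_self x, ?_⟩
      rw [← hk]; rfl
    · refine ⟨ρ (ρ x), hρρx2, cm_eq_one_iff.mpr (h.comm2 x), ?_⟩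
      rw [k1' hcm h, ← hk]; rfl
    · refine ⟨ρ x, hρx2, cm_eq_one_iff.mpr (h.comm x), ?_⟩
      rw [k2' hcm h, ← hk]; rfl
  obtain ⟨s, hs2, hxs, hsy⟩ := key
  have hb2 : (s * y) * (s * y) = 1 := by
    rw [sq_mul' hcm, hs2, one_mul, hC.cm_swap, hsy]
    exact hC.hcsq _ (hC.hsq y)
  have hab : cm x (s * y) ≠ 1 := by
    rw [cmR hcm, hxs, one_mul]
    exact hxy
  exact hab (hP x (s * y) hx2 hb2)

/-- **the first case**: noncommuting involutions. -/
theorem plus_case [Finite T] (h : Fpf3 ρ) (hC : Cl2 T) (hT : Nat.card T = 64) {a b : T}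
    (ha : a * a = 1) (hb : b * b = 1) (hab : cm a b ≠ 1) :
    ∃ (F : Type) (_ : Field F) (_ : Fintype F), Fintype.card F = 4 ∧
      ∀ P : Sylow 2 (Matrix.ProjectiveSpecialLinearGroup (Fin 3) F),
        Nonempty (T ≃* ↥(P : Subgroup (Matrix.ProjectiveSpecialLinearGroup (Fin 3) F))) := by
  haveI : Fact (Nat.Prime 2) := ⟨Nat.prime_two⟩
  obtain ⟨e1⟩ := core_equiv h hC hT ha hb hab
  obtain ⟨e2⟩ := ut_equiv_sylow
  refine ⟨GF4, inferInstance, inferInstance, GF4.card_eq, ?_⟩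
  intro P
  obtain ⟨e3⟩ := sylow_equiv_all
    (sylUT (p := 2) (f := 2) gf4_card' (by norm_num) 3 (by norm_num)) P
  exact ⟨(e1.trans e2).trans e3⟩

end Cfsg.Agent.Helper65.T2933
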