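import Cfsg.Agent.Helper65.T2933I
import Cfsg.Agent.Helper65.GraphIso
import Cfsg.Agent.Helper19.SU3.Sylow

/-!
# The second case: the model side (the Heisenberg group over the field of order sixteen)
-/

set_option autoImplicit false

namespace Cfsg.Agent.Helper65.T2933

open Cfsg.Agent.Helper65.Suz Cfsg.Agent.Helper65.Ord64 Cfsg.Agent.Helper27
  Cfsg.Agent.Helper19.SU3

section field

variable {F : Type*} [Field F] {bar : F →+* F} [BarField F bar]

/-- an element of trace one, with the conjugation the fourth power. -/
structure BData (bar : F →+* F) (B : F) : Prop where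
  hB : B + bar B = 1
  h4 : bar B = B ^ 4

/-- its norm: a primitive cube root of unity. -/
def om (bar : F →+* F) (B : F) : F := B * bar B

theorem om_fixed (B : F) : bar (om bar B) = om bar B := Heis.norm_fixed B

theorem om_sq {B : F} (hD : BData bar B) : om bar B * om bar B = om bar B + 1 := by
  have h2 : (2 : F) = 0 := BarField.two bar
  have hb1 : bar B = 1 - B := by linear_combination hD.hB
  have h4 := hD.h4
  rw [hb1] at h4
  unfold om
  rw [hb1]
  linear_combination (-1 : F) * h4 + (-(B ^ 3) + B ^ 2 - B) * h2

theorem om_ne_zero {B : F} (hD : BData bar B) : om bar B ≠ 0 := by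
  intro h0
  have := om_sq hD
  rw [h0, mul_zero, zero_add] at this
  exact zero_ne_one this

theorem om_cube {B : F} (hD : BData bar B) : om bar B * om bar B * om bar B = 1 := by
  have h2 : (2 : F) = 0 := BarField.two bar
  have h1 := om_sq hD
  linear_combination (om bar B + 1) * h1 + (om bar B) * h2

/-- the embedding of the field of order four. -/
def iota (ω : F) : GF4 → F
  | .z => 0
  | .o => 1
  | .w => ω * ω
  | .w2 => ω

theorem iota_add {B : F} (hD : BData bar B) (k k' : GF4) :
    iota (om bar B) (k + k') = iota (om bar B) k + iota (om bar B) k' := by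
  have h2 : (2 : F) = 0 := BarField.two bar
  have h1 := om_sq hD
  set ω := om bar B
  cases k <;> cases k'
  · show (0 : F) = 0 + 0
    rw [add_zero]
  · show (1 : F) = 0 + 1
    rw [zero_add]
  · show ω * ω = 0 + ω * ω
    rw [zero_add]
  · show ω = 0 + ω
    rw [zero_add]
  · show (1 : F) = 1 + 0
    rw [add_zero]
  · show (0 : F) = 1 + 1
    linear_combination (-1 : F) * h2
  · show ω = 1 + ω * ω
    linear_combination (-1 : F) * h1 + (-1 : F) * h2
  · show ω * ω = 1 + ω
    linear_combination h1
  · show ω * ω = ω * ω + 0
    rw [add_zero]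
  · show ω = ω * ω + 1
    linear_combination (-1 : F) * h1 + (-1 : F) * h2
  · show (0 : F) = ω * ω + ω * ω
    linear_combination (-(ω * ω)) * h2
  · show (1 : F) = ω * ω + ω
    linear_combination (-1 : F) * h1 + (-ω) * h2
  · show ω = ω + 0
    rw [add_zero]
  · show ω * ω = ω + 1
    linear_combination h1
  · show (1 : F) = ω + ω * ω
    linear_combination (-1 : F) * h1 + (-ω) * h2
  · show (0 : F) = ω + ω
    linear_combination (-ω) * h2

theorem iota_fixed (B : F) (k : GF4) : bar (iota (om bar B) k) = iota (om bar B) k := by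
  cases k
  · exact map_zero bar
  · exact map_one bar
  · show bar (om bar B * om bar B) = om bar B * om bar B
    rw [map_mul, om_fixed]
  · exact om_fixed B

theorem iota_eq_zero {B : F} (hD : BData bar B) {k : GF4} (hk : iota (om bar B) k = 0) :
    k = 0 := by
  cases k
  · rfl
  · exact absurd hk one_ne_zero
  · exact absurd hk (mul_ne_zero (om_ne_zero hD) (om_ne_zero hD))
  · exact absurd hk (om_ne_zero hD)

/-- the central elements of the model. -/
def zf (B : F) (k : GF4) : Heis bar := Heis.zc (iota (om bar B) k) (iota_fixed B k)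

theorem zf_a (B : F) (k : GF4) : (zf (bar := bar) B k).a = 0 := rfl

theorem zf_b (B : F) (k : GF4) : (zf (bar := bar) B k).b = iota (om bar B) k := rfl

theorem zf_add {B : F} (hD : BData bar B) (k k' : GF4) :
    zf (bar := bar) B (k + k') = zf B k * zf B k' := by
  ext
  · simp [zf_a]
  · simp only [Heis.mul_b, zf_a, zf_b, zero_mul, add_zero]
    exact iota_add hD k k'

theorem zf_zero (B : F) : zf (bar := bar) B 0 = 1 := by
  ext
  · rfl
  · rfl

theorem zf_central (B : F) (k : GF4) (y : Heis bar) : zf B k * y = y * zf B k := by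
  rw [Heis.comm_iff, zf_a]
  simp

theorem zf_eq_one {B : F} (hD : BData bar B) {k : GF4} (hk : zf (bar := bar) B k = 1) :
    k = 0 := by
  have := congrArg Heis.b hk
  rw [zf_b, Heis.one_b] at this
  exact iota_eq_zero hD this

/-- squares in the model. -/
theorem heis_sq (B : F) (x : Heis bar) (k : GF4) (h : x.a * bar x.a = iota (om bar B) k) :
    x * x = zf B k := by
  ext
  · rw [Heis.sq_a, zf_a]
  · rw [Heis.sq_b, zf_b, h]

/-- commutation in the model. -/
theorem heis_comm (B : F) (x y : Heis bar) (k : GF4)
    (h : x.a * bar y.a + y.a * bar x.a = iota (om bar B) k) : x * y = y * x * zf B k := by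
  have h2 : (2 : F) = 0 := BarField.two bar
  ext
  · simp only [Heis.mul_a, zf_a, add_zero]
    exact add_comm _ _
  · simp only [Heis.mul_b, Heis.mul_a, zf_a, zf_b, map_zero, mul_zero, add_zero]
    linear_combination h + (-(y.a * bar x.a)) * h2

/-- the four generators of the model. -/
def Y1 {B : F} (hD : BData bar B) : Heis bar := ⟨1, B, by rw [map_one, mul_one]; exact hD.hB⟩

def Y2 {B : F} (hD : BData bar B) : Heis bar :=
  ⟨om bar B, om bar B * om bar B * B, by
    rw [map_mul, map_mul, om_fixed]
    linear_combination (om bar B * om bar B) * hD.hB⟩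

def Y3 {B : F} (hD : BData bar B) : Heis bar :=
  ⟨B, om bar B * B, by
    rw [map_mul, om_fixed]
    unfold om
    linear_combination (B * bar B) * hD.hB⟩

def Y4 {B : F} (hD : BData bar B) : Heis bar :=
  ⟨om bar B * B, B, by
    rw [map_mul, om_fixed]
    have h1 := om_cube hD
    have h3 : om bar B * B * (om bar B * bar B) = om bar B * om bar B * om bar B := by
      unfold om; ring
    rw [h3, h1]
    exact hD.hB⟩

end field

end Cfsg.Agent.Helper65.T2933
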