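import Cfsg.Agent.Helper65.T2933K

/-!
# The second case: normalising the generators
-/

set_option autoImplicit false

namespace Cfsg.Agent.Helper65.T2933

open Cfsg.Agent.Helper65.Suz Cfsg.Agent.Helper65.Ord64 Cfsg.Agent.Helper27

variable {T : Type*} [Group T] {ρ : MulAut T}

/-- the product of the orbit of a central involution. -/
theorem prod_orbit [Finite T] (h : Fpf3 ρ) {p : T} (hp : p * p = 1) :
    ρ p * ρ (ρ p) = p := by
  have h1 : ρ p * ρ p = 1 := by rw [← map_mul, hp, map_one]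
  have h2 := h.mul_r h1
  rw [h.h3] at h2
  exact h2

theorem exists_xy [Finite T] (h : Fpf3 ρ) (hC : Cl2 T) (hT : Nat.card T = 64)
    (hZ : Nat.card (Subgroup.center T) = 4)
    (hM : ∀ x : T, x * x = 1 → x ∈ Subgroup.center T) :
    ∃ x y : T, x * x ≠ 1 ∧ y * y = ρ (ρ (x * x)) ∧ cm x y = x * x := by
  have hcm := hC.hcm
  -- a noncentral element
  have hx : ∃ x : T, x ∉ Subgroup.center T := by
    by_contra hall
    push Not at hall
    have : Subgroup.center T = ⊤ := by
      rw [eq_top_iff]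
      intro x _
      exact hall x
    rw [this, Subgroup.card_top, hT] at hZ
    omega
  obtain ⟨x, hxZ⟩ := hx
  set p := x * x with hp
  have hpZ : p ∈ Subgroup.center T := hC.hsq x
  have hp1 : p ≠ 1 := fun e => hxZ (hM x e)
  have hp2 : p * p = 1 := hC.hcsq _ hpZ
  have hZq : quadSub h p hp2 = Subgroup.center T :=
    eq_quadSub h _ (center_inv h) hZ hpZ hp2 hp1
  have hy0 : ∃ y, cm x y ≠ 1 := by
    by_contra hall
    push Not at hall
    apply hxZ
    rw [Subgroup.mem_center_iff]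
    intro g
    exact (cm_eq_one_iff.mp (hall g)).symm
  obtain ⟨y0, hxy0⟩ := hy0
  -- normalise the commutator
  have hy1 : ∃ y1, cm x y1 = p := by
    have hu : cm x y0 ∈ quadSub h p hp2 := by rw [hZq]; exact hcm x y0
    obtain ⟨k, hk⟩ := hu
    cases k
    · exact absurd hk.symm hxy0
    · exact ⟨y0, hk.symm⟩
    · refine ⟨ρ y0, ?_⟩
      have hk' : ρ p = cm x y0 := hk
      rw [k2 hcm h, ← hk', h.h3]
    · refine ⟨ρ (ρ y0), ?_⟩
      have hk' : ρ (ρ p) = cm x y0 := hk
      rw [k1 hcm h, ← hk', h.h3]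
  obtain ⟨y1, hxy1⟩ := hy1
  have hy1Z : y1 ∉ Subgroup.center T := by
    intro hy
    apply hp1
    rw [← hxy1, cm_eq_one_iff]
    exact Subgroup.mem_center_iff.mp hy x
  have hρp2 : ρ p * ρ p = 1 := by rw [← map_mul, hp2, map_one]
  have hρx2 : ρ x * ρ x = ρ p := by rw [← map_mul]
  have hc1 : cm y1 (ρ x) = ρ (ρ p) := by
    rw [hC.cm_swap, k2' hcm h, hxy1]
  have hc2 : cm x (ρ x * y1) = p := by
    rw [cmR hcm, cm_self_rho h, one_mul, hxy1]
  have hr : y1 * y1 ∈ quadSub h p hp2 := by rw [hZq]; exact hC.hsq y1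
  obtain ⟨k, hk⟩ := hr
  cases k
  · exfalso
    exact hy1Z (hM y1 hk.symm)
  · exfalso
    have hk' : p = y1 * y1 := hk
    have hb : (ρ x * y1) * (ρ x * y1) = 1 := by
      rw [sq_mul' hcm, hρx2, ← hk', hc1]
      have := h.prod p
      rw [h.comm p] at this
      exact this
    have := hM _ hb
    apply hp1
    rw [← hc2, cm_eq_one_iff]
    exact Subgroup.mem_center_iff.mp this x
  · have hk' : ρ p = y1 * y1 := hk
    refine ⟨x, ρ x * y1, hp1, ?_, hc2⟩
    rw [sq_mul' hcm, hρx2, ← hk', hc1, hρp2, one_mul]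
  · have hk' : ρ (ρ p) = y1 * y1 := hk
    exact ⟨x, y1, hp1, hk'.symm, hxy1⟩

end Cfsg.Agent.Helper65.T2933
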