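import Cfsg.Agent.Helper65.T2933L

/-!
# The second case: the isomorphism with the Heisenberg group over the field of order sixteen
-/

set_option autoImplicit false

namespace Cfsg.Agent.Helper65.T2933

open Cfsg.Agent.Helper65.Suz Cfsg.Agent.Helper65.Ord64 Cfsg.Agent.Helper27
  Cfsg.Agent.Helper19.SU3 Cfsg.Agent.Helper65.GraphIso

variable {T : Type*} [Group T] {ρ : MulAut T}

/-- commutation relations need only be checked for `i < j`. -/
theorem hc_of_lt {G : Type*} [Group G] (Γ : Subgroup G) (hΓc : ∀ γ ∈ Γ, ∀ x : G, γ * x = x * γ)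
    {n : ℕ} (g : Fin n → G)
    (hlt : ∀ i j, i < j → ∃ γ ∈ Γ, g i * g j = g j * g i * γ) :
    ∀ i j, ∃ γ ∈ Γ, g i * g j = g j * g i * γ := by
  intro i j
  rcases lt_trichotomy i j with hij | hij | hij
  · exact hlt i j hij
  · exact ⟨1, Γ.one_mem, by rw [hij, mul_one]⟩
  · obtain ⟨γ, hγ, he⟩ := hlt j i hij
    refine ⟨γ⁻¹, Γ.inv_mem hγ, ?_⟩
    rw [he, mul_assoc, mul_inv_cancel, mul_one]

section field

variable {F : Type*} [Field F] {bar : F →+* F} [BarField F bar]

/-- the graph of the identification of the centres. -/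
def gamSub [Finite T] (h : Fpf3 ρ) {p : T} (hp2 : p * p = 1) {B : F} (hD : BData bar B) :
    Subgroup (T × Heis bar) where
  carrier := Set.range (fun k : GF4 => ((quad ρ p k, zf B k) : T × Heis bar))
  one_mem' := ⟨0, by
    show ((quad ρ p 0, zf B 0) : T × Heis bar) = 1
    rw [quad_zero, zf_zero]; rfl⟩
  mul_mem' := by
    rintro _ _ ⟨k, rfl⟩ ⟨k', rfl⟩
    exact ⟨k + k', by
      show ((quad ρ p (k + k'), zf B (k + k')) : T × Heis bar)
        = (quad ρ p k, zf B k) * (quad ρ p k', zf B k')
      rw [quad_add h hp2, zf_add hD]; rfl⟩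
  inv_mem' := by
    rintro _ ⟨k, rfl⟩
    refine ⟨k, ?_⟩
    have hkk : k + k = 0 := by cases k <;> rfl
    have h1 : ((quad ρ p k, zf B k) : T × Heis bar) * (quad ρ p k, zf B k) = 1 := by
      rw [Prod.mk_mul_mk, ← quad_add h hp2, ← zf_add hD, hkk, quad_zero, zf_zero]
      rfl
    exact (inv_eq_of_mul_eq_one_left h1).symm

theorem mem_gamSub [Finite T] (h : Fpf3 ρ) {p : T} (hp2 : p * p = 1) {B : F} (hD : BData bar B)
    (k : GF4) : ((quad ρ p k, zf B k) : T × Heis bar) ∈ gamSub h hp2 hD := ⟨k, rfl⟩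

theorem card_gamSub [Finite T] (h : Fpf3 ρ) {p : T} (hp2 : p * p = 1) (hp1 : p ≠ 1) {B : F}
    (hD : BData bar B) : Nat.card (gamSub (bar := bar) h hp2 hD) = 4 := by
  have : Nat.card (gamSub (bar := bar) h hp2 hD) = Nat.card GF4 := by
    symm
    apply Nat.card_congr
    refine Equiv.ofBijective (fun k => ⟨(quad ρ p k, zf B k), ⟨k, rfl⟩⟩) ⟨?_, ?_⟩
    · intro k k' hkk
      have h1 := congrArg (fun z : gamSub (bar := bar) h hp2 hD => z.1.1) hkk
      exact quad_injective h hp1 h1
    · rintro ⟨_, ⟨k, rfl⟩⟩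
      exact ⟨k, rfl⟩
  rw [this, Nat.card_eq_fintype_card, GF4.card_eq]

end field

/-- **the second case**: `T` is the Heisenberg group over the field of order sixteen. -/
theorem minus_equiv [Finite T] (h : Fpf3 ρ) (hC : Cl2 T) (hT : Nat.card T = 64)
    (hZ : Nat.card (Subgroup.center T) = 4)
    (hM : ∀ x : T, x * x = 1 → x ∈ Subgroup.center T)
    {F : Type*} [Field F] [Fintype F] (hF : Fintype.card F = (2 ^ 2) ^ 2) (bar : F →+* F)
    (hbar : ∀ x, bar x = x ^ (2 ^ 2)) [BarField F bar] : Nonempty (T ≃* Heis bar) := by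
  have hcm := hC.hcm
  obtain ⟨x, y, hp1, hy2, hxy⟩ := exists_xy h hC hT hZ hM
  set p := x * x with hp
  have hpZ : p ∈ Subgroup.center T := hC.hsq x
  have hp2 : p * p = 1 := hC.hcsq _ hpZ
  have hZq : quadSub h p hp2 = Subgroup.center T :=
    eq_quadSub h _ (center_inv h) hZ hpZ hp2 hp1
  have hTr := Cfsg.Agent.Helper19.SU3.hTr bar hF (by norm_num) hbar
  obtain ⟨B, hB⟩ := hTr 1 (map_one bar)
  have hD : BData bar B := ⟨hB, by rw [hbar]; norm_num⟩
  set ω := om bar B with hω
  have hωf : bar ω = ω := om_fixed B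
  set Γ := gamSub (bar := bar) h hp2 hD with hΓ
  set g : Fin 4 → T × Heis bar := ![(x, Y1 hD), (ρ x, Y2 hD), (y, Y3 hD), (ρ y, Y4 hD)] with hg
  have hΓc : ∀ γ ∈ Γ, ∀ z : T × Heis bar, γ * z = z * γ := by
    rintro _ ⟨k, rfl⟩ z
    apply Prod.ext
    · exact (Subgroup.mem_center_iff.mp (quad_mem_center h hpZ k) z.1).symm
    · exact zf_central B k z.2
  have hsq : ∀ i, g i * g i ∈ Γ := by
    intro i
    fin_cases i
    · refine ⟨GF4.o, ?_⟩
      apply Prod.ext
      · rfl
      · symm
        apply heis_sq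
        show (1 : F) * bar 1 = 1
        rw [map_one, mul_one]
    · refine ⟨GF4.w, ?_⟩
      apply Prod.ext
      · show ρ p = ρ x * ρ x
        rw [← map_mul]
      · symm
        apply heis_sq
        show ω * bar ω = ω * ω
        rw [hωf]
    · refine ⟨GF4.w2, ?_⟩
      apply Prod.ext
      · exact hy2.symm
      · symm
        apply heis_sq
        rfl
    · refine ⟨GF4.o, ?_⟩
      apply Prod.ext
      · show p = ρ y * ρ y
        rw [← map_mul, hy2, h.h3]
      · symm
        apply heis_sq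
        show ω * B * bar (ω * B) = 1
        rw [map_mul, hωf]
        have h1 := om_cube hD
        have h3 : ω * B * (ω * bar B) = om bar B * om bar B * om bar B := by
          rw [hω]; unfold om; ring
        rw [h3, h1]
  have hc : ∀ i j, ∃ γ ∈ Γ, g i * g j = g j * g i * γ := by
    apply hc_of_lt Γ hΓc
    intro i j hij
    fin_cases i <;> fin_cases j <;> first | exact absurd hij (by decide) | skip
    · -- (0, 1)
      refine ⟨_, mem_gamSub h hp2 hD GF4.z, ?_⟩
      apply Prod.ext
      · show x * ρ x = ρ x * x * 1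
        rw [mul_one]
        exact h.comm x
      · apply heis_comm
        show (1 : F) * bar ω + ω * bar 1 = 0
        rw [map_one, hωf]
        have h2 : (2 : F) = 0 := BarField.two bar
        linear_combination ω * h2
    · -- (0, 2)
      refine ⟨_, mem_gamSub h hp2 hD GF4.o, ?_⟩
      apply Prod.ext
      · show x * y = y * x * p
        rw [← hxy]
        exact mul_eq_mul_cm x y
      · apply heis_comm
        show (1 : F) * bar B + B * bar 1 = 1
        rw [map_one]
        linear_combination hB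
    · -- (0, 3)
      refine ⟨_, mem_gamSub h hp2 hD GF4.w2, ?_⟩
      apply Prod.ext
      · show x * ρ y = ρ y * x * ρ (ρ p)
        rw [← hxy, ← k2 hcm h]
        exact mul_eq_mul_cm x (ρ y)
      · apply heis_comm
        show (1 : F) * bar (ω * B) + ω * B * bar 1 = ω
        rw [map_one, map_mul, hωf]
        linear_combination ω * hB
    · -- (1, 2)
      refine ⟨_, mem_gamSub h hp2 hD GF4.w2, ?_⟩
      apply Prod.ext
      · show ρ x * y = y * ρ x * ρ (ρ p)
        rw [← hxy, ← k2' hcm h]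
        exact mul_eq_mul_cm (ρ x) y
      · apply heis_comm
        show ω * bar B + B * bar ω = ω
        rw [hωf]
        linear_combination ω * hB
    · -- (1, 3)
      refine ⟨_, mem_gamSub h hp2 hD GF4.w, ?_⟩
      apply Prod.ext
      · show ρ x * ρ y = ρ y * ρ x * ρ p
        rw [← hxy, map_cm]
        exact mul_eq_mul_cm (ρ x) (ρ y)
      · apply heis_comm
        show ω * bar (ω * B) + ω * B * bar ω = ω * ω
        rw [map_mul, hωf]
        linear_combination (ω * ω) * hB
    · -- (2, 3)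
      refine ⟨_, mem_gamSub h hp2 hD GF4.z, ?_⟩
      apply Prod.ext
      · show y * ρ y = ρ y * y * 1
        rw [mul_one]
        exact h.comm y
      · apply heis_comm
        show B * bar (ω * B) + ω * B * bar B = 0
        rw [map_mul, hωf]
        have h2 : (2 : F) = 0 := BarField.two bar
        linear_combination (ω * B * bar B) * h2
  have hΓ4 : Nat.card Γ = 4 := card_gamSub h hp2 hp1 hD
  have hcard1 : Nat.card T = 2 ^ 4 * Nat.card Γ := by rw [hΓ4, hT]; norm_num
  have hcard2 : Nat.card (Heis bar) = Nat.card T := by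
    rw [Heis.card_eq hTr, Cfsg.Agent.Helper19.SU3.card_fixed bar hF (by norm_num) hbar,
      Nat.card_eq_fintype_card, hF, hT]
    norm_num
  have hinj : ∀ γ ∈ Γ, γ.2 = 1 → γ = 1 := by
    rintro _ ⟨k, rfl⟩ hk
    have hk0 : k = 0 := zf_eq_one hD hk
    rw [hk0]
    show ((quad ρ p 0, zf B 0) : T × Heis bar) = 1
    rw [quad_zero, zf_zero]
    rfl
  have hZ' : ∀ z ∈ Subgroup.center T, ∃ γ ∈ Γ, γ.1 = z := by
    intro z hz
    rw [← hZq] at hz
    obtain ⟨k, hk⟩ := hz
    exact ⟨_, mem_gamSub h hp2 hD k, hk⟩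
  have hgen : Subgroup.closure (Prod.fst '' ((Γ : Set (T × Heis bar)) ∪ Set.range g)) = ⊤ := by
    set K := Subgroup.closure (Prod.fst '' ((Γ : Set (T × Heis bar)) ∪ Set.range g)) with hK
    have hgK : ∀ i, (g i).1 ∈ K := fun i =>
      Subgroup.subset_closure ⟨g i, Or.inr ⟨i, rfl⟩, rfl⟩
    have hxK : x ∈ K := hgK 0
    have hρxK : ρ x ∈ K := hgK 1
    have hyK : y ∈ K := hgK 2
    have hρyK : ρ y ∈ K := hgK 3
    have hZK : Subgroup.center T ≤ K := by
      intro z hz
      obtain ⟨γ, hγ, rfl⟩ := hZ' z hz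
      exact Subgroup.subset_closure ⟨γ, Or.inl hγ, rfl⟩
    have hKρ : ∀ t ∈ K, ρ t ∈ K := by
      intro t ht
      induction ht using Subgroup.closure_induction with
      | mem s hs =>
        obtain ⟨γ, hγ, rfl⟩ := hs
        rcases hγ with hγ | ⟨i, rfl⟩
        · obtain ⟨k, rfl⟩ := hγ
          apply hZK
          exact center_inv h _ (quad_mem_center h hpZ k)
        · fin_cases i
          · exact hρxK
          · show ρ (ρ x) ∈ K
            rw [h.rr_eq]
            exact K.inv_mem (K.mul_mem hxK hρxK)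
          · exact hρyK
          · show ρ (ρ y) ∈ K
            rw [h.rr_eq]
            exact K.inv_mem (K.mul_mem hyK hρyK)
      | one => rw [map_one]; exact K.one_mem
      | mul a b _ _ ha hb => rw [map_mul]; exact K.mul_mem ha hb
      | inv a _ ha => rw [map_inv]; exact K.inv_mem ha
    have hT2 : IsPGroup 2 T := IsPGroup.of_card (n := 6) (by rw [hT]; norm_num)
    have hab : x * y ≠ y * x := by
      intro e
      apply hp1
      rw [← hxy]
      exact cm_eq_one_iff.mpr e
    exact gen_top hcm hT2 h (by rw [hT, hZ]) hab K hKρ hZK hxK hyK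
  exact graph_equiv Γ hΓc g hsq hc hcard1 hcard2 hgen hinj hZ' hcm

end Cfsg.Agent.Helper65.T2933
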