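import Cfsg.Agent.Helper65.T2933N

/-!
# Transfer: conjugation by normalising elements as automorphisms of a subgroup
-/

set_option autoImplicit false

namespace Cfsg.Agent.Helper65.T2933

open Cfsg.Agent.Helper65.Suz Cfsg.Agent.Helper65.Ord64

variable {G : Type*} [Group G]

/-- conjugation by an element of the normaliser. -/
def conjAut (T : Subgroup G) (g : G) (hg : g ∈ Subgroup.normalizer (T : Set G)) : MulAut T where
  toFun x := ⟨g * x.1 * g⁻¹, (Subgroup.mem_normalizer_iff.mp hg x.1).mp x.2⟩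
  invFun x := ⟨g⁻¹ * x.1 * g, by
    apply (Subgroup.mem_normalizer_iff.mp hg _).mpr
    have : g * (g⁻¹ * x.1 * g) * g⁻¹ = x.1 := by group
    rw [this]
    exact x.2⟩
  left_inv x := by
    apply Subtype.ext
    show g⁻¹ * (g * x.1 * g⁻¹) * g = x.1
    group
  right_inv x := by
    apply Subtype.ext
    show g * (g⁻¹ * x.1 * g) * g⁻¹ = x.1
    group
  map_mul' x y := by
    apply Subtype.ext
    show g * (x.1 * y.1) * g⁻¹ = (g * x.1 * g⁻¹) * (g * y.1 * g⁻¹)
    group

theorem conjAut_apply (T : Subgroup G) (g : G) (hg : g ∈ Subgroup.normalizer (T : Set G))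
    (x : T) : ((conjAut T g hg x : T) : G) = g * x.1 * g⁻¹ := rfl

/-- fixed points of a map of order dividing three, modulo three. -/
theorem card_fix_mod_three {A : Type*} [Finite A] (k : A → A) (hk : ∀ x, k (k (k x)) = x) :
    Nat.card {x : A // k x = x} % 3 = Nat.card A % 3 := by
  classical
  haveI : Fact (Nat.Prime 3) := ⟨Nat.prime_three⟩
  haveI : Fintype A := Fintype.ofFinite A
  let f : Function.End A := k
  have hf : f ^ 3 ^ 1 = 1 := by
    funext g
    show k (k (k g)) = g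
    exact hk g
  have h1 := Equiv.Perm.card_fixedPoints_modEq (p := 3) (n := 1) hf
  have h2 : Nat.card {x : A // k x = x} = Fintype.card (Function.fixedPoints f) := by
    rw [← Nat.card_eq_fintype_card]
    rfl
  rw [h2, Nat.card_eq_fintype_card]
  exact h1.symm

/-- an element of order three normalising a four-group `V` with `[V, ρ] = V` fixes no
nonidentity element of `V`. -/
theorem fix_trivial_of_commutator_eq [Finite G] (V : Subgroup G) (hV4 : Nat.card V = 4) (ρ : G)
    (hρ3 : ρ ^ 3 = 1) (hρV : ρ ∈ Subgroup.normalizer (V : Set G))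
    (hVρ : ⁅V, Subgroup.zpowers ρ⁆ = V) : ∀ v ∈ V, ρ * v * ρ⁻¹ = v → v = 1 := by
  intro v hv hfix
  by_contra hv1
  -- the fixed points form a subgroup of `V`
  let K : Subgroup V :=
    { carrier := {x | ρ * x.1 * ρ⁻¹ = x.1}
      one_mem' := by
        show ρ * (1 : G) * ρ⁻¹ = 1
        group
      mul_mem' := by
        intro a b ha hb
        show ρ * (a.1 * b.1) * ρ⁻¹ = a.1 * b.1
        have : ρ * (a.1 * b.1) * ρ⁻¹ = (ρ * a.1 * ρ⁻¹) * (ρ * b.1 * ρ⁻¹) := by group
        rw [this, ha, hb]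
      inv_mem' := by
        intro a ha
        show ρ * (a.1)⁻¹ * ρ⁻¹ = (a.1)⁻¹
        have : ρ * (a.1)⁻¹ * ρ⁻¹ = (ρ * a.1 * ρ⁻¹)⁻¹ := by group
        rw [this, ha] }
  have hk3 : ∀ x : V, conjAut V ρ hρV (conjAut V ρ hρV (conjAut V ρ hρV x)) = x := by
    intro x
    apply Subtype.ext
    show ρ * (ρ * (ρ * x.1 * ρ⁻¹) * ρ⁻¹) * ρ⁻¹ = x.1
    have : ρ * (ρ * (ρ * x.1 * ρ⁻¹) * ρ⁻¹) * ρ⁻¹ = ρ ^ 3 * x.1 * (ρ ^ 3)⁻¹ := by
      rw [pow_succ, pow_succ, pow_one]
      group
    rw [this, hρ3]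
    group
  have h1 := card_fix_mod_three (fun x : V => conjAut V ρ hρV x) hk3
  have h2 : Nat.card {x : V // conjAut V ρ hρV x = x} = Nat.card K := by
    apply Nat.card_congr
    refine Equiv.subtypeEquivRight (fun x => ?_)
    constructor
    · intro hx
      exact congrArg Subtype.val hx
    · intro hx
      exact Subtype.ext hx
  rw [h2, hV4] at h1
  have h3 : Nat.card K ∣ 4 := by
    rw [← hV4]
    exact Subgroup.card_subgroup_dvd_card K
  have h4 : Nat.card K ≠ 1 := by
    intro h4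
    have hbot : K = ⊥ := Subgroup.eq_bot_of_card_eq K h4
    have hvK : (⟨v, hv⟩ : V) ∈ K := hfix
    rw [hbot, Subgroup.mem_bot] at hvK
    exact hv1 (congrArg Subtype.val hvK)
  have h5 : Nat.card K = 4 := by
    have h6 : Nat.card K ≤ 4 := Nat.le_of_dvd (by norm_num) h3
    have h7 : 0 < Nat.card K := Nat.card_pos
    interval_cases (Nat.card K) <;> simp_all
  -- so `ρ` centralises `V`
  have hKtop : K = ⊤ := by
    rw [← Subgroup.card_eq_iff_eq_top, h5, hV4]
  have hcen : ∀ x ∈ V, ρ * x * ρ⁻¹ = x := by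
    intro x hx
    have : (⟨x, hx⟩ : V) ∈ K := by rw [hKtop]; exact Subgroup.mem_top _
    exact this
  have hbot : ⁅V, Subgroup.zpowers ρ⁆ = ⊥ := by
    rw [Subgroup.commutator_eq_bot_iff_le_centralizer, Subgroup.le_centralizer_iff,
      Subgroup.zpowers_le, Subgroup.mem_centralizer_iff]
    intro x hx
    have := hcen x hx
    calc x * ρ = (ρ * x * ρ⁻¹) * ρ := by rw [this]
      _ = ρ * x := by group
  rw [hVρ] at hbot
  rw [hbot, Subgroup.card_bot] at hV4
  omega

end Cfsg.Agent.Helper65.T2933
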