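import Mathlib
import Cfsg.Agent.Helper95.TIC.Defs

/-!
# S4064 (helper95), piece (F1): a proper normal block has a complement, which is a Frobenius complement.
-/

set_option autoImplicit false

namespace Cfsg.Agent.Helper65.TICent

open Subgroup Cfsg.Agent.Helper95.TICent

variable {G : Type*} [Group G]

/-- blocks are Hall subgroups (this is (B6), proved here to keep the file self-contained) -/
theorem f1_coprime [Finite G] {M : Subgroup G} (hM : IsBlock M) :
    (Nat.card M).Coprime M.index := by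
  apply Nat.coprime_of_dvd
  intro r hr hrM hrI
  haveI : Fact r.Prime := ⟨hr⟩
  obtain ⟨⟨y, hyM⟩, hy⟩ := exists_prime_orderOf_dvd_card' r hrM
  have hyo : orderOf y = r := by
    rw [← hy]
    exact (Subgroup.orderOf_coe (⟨y, hyM⟩ : M))
  have hy1 : y ≠ 1 := by
    intro h1
    rw [h1, orderOf_one] at hyo
    exact hr.one_lt.ne hyo
  have hpg : IsPGroup r (zpowers y) := by
    apply IsPGroup.of_card (n := 1)
    rw [Nat.card_zpowers, hyo, pow_one]
  obtain ⟨R, hR⟩ := hpg.exists_le_sylow
  have hyR : y ∈ (R : Subgroup G) := hR (mem_zpowers y)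
  haveI : Nontrivial (R : Subgroup G) := ⟨⟨⟨y, hyR⟩, 1, fun h => hy1 (congrArg Subtype.val h)⟩⟩
  haveI := R.isPGroup'.center_nontrivial
  obtain ⟨⟨w', hw'c⟩, hw'1⟩ := exists_ne (1 : center (R : Subgroup G))
  have hw1 : (w' : G) ≠ 1 := by
    intro h1
    apply hw'1
    apply Subtype.ext
    apply Subtype.ext
    exact h1
  have hwc : ∀ u : G, u ∈ (R : Subgroup G) → u * (w' : G) = (w' : G) * u := by
    intro u hu
    have := (mem_center_iff.1 hw'c) ⟨u, hu⟩
    exact congrArg Subtype.val this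
  have hwM : (w' : G) ∈ M := hM.mem_of_commute hyM hy1 (hwc y hyR).symm
  have hRM : (R : Subgroup G) ≤ M := fun u hu => hM.mem_of_commute hwM hw1 (hwc u hu)
  exact R.not_dvd_index (dvd_trans hrI (index_dvd_of_le hRM))

/-- (F1) A proper normal block has a complement, which is a Frobenius complement. -/
theorem exists_frobeniusComplement_of_normal_block [Finite G] {M : Subgroup G} (hM : IsBlock M)
    (hMn : M.Normal) (hMtop : M ≠ ⊤) : ∃ E : Subgroup G, Cfsg.IsFrobeniusComplement E := by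
  haveI := hMn
  obtain ⟨E, hE⟩ := exists_left_complement'_of_coprime (f1_coprime hM)
  have hdisj : ∀ y, y ∈ M → y ∈ E → y = 1 := by
    intro y hyM hyE
    exact (disjoint_def.1 hE.disjoint) hyE hyM
  refine ⟨E, ?_, ?_, ?_⟩
  · intro hbot
    apply hMtop
    rw [hbot] at hE
    exact isComplement'_bot_left.1 hE
  · intro htop
    apply hM.ne_bot
    rw [htop] at hE
    exact isComplement'_top_left.1 hE
  · intro g hg
    obtain ⟨⟨⟨e, he⟩, ⟨m₀, hm₀⟩⟩, hem, -⟩ := hE.existsUnique g
    have hem' : e * m₀ = g := hem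
    -- `g = m * e` with `m = e m₀ e⁻¹ ∈ M`
    obtain ⟨m, hm⟩ : ∃ m : G, m = e * m₀ * e⁻¹ := ⟨_, rfl⟩
    have hmM : m ∈ M := by
      rw [hm]
      exact hMn.conj_mem m₀ hm₀ e
    have hg' : g = m * e := by
      rw [hm, ← hem']
      group
    have hm1 : m ≠ 1 := by
      intro h1
      apply hg
      rw [hg', h1, one_mul]
      exact he
    rw [eq_bot_iff]
    intro y hy
    rw [mem_bot]
    obtain ⟨hyE, hy2⟩ := mem_inf.1 hy
    obtain ⟨y₀, hy₀E, hy₀⟩ := (mem_smul_pointwise_iff_exists _ _ _).1 hy2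
    rw [MulAut.smul_def, MulAut.conj_apply] at hy₀
    obtain ⟨y', hy'⟩ : ∃ y' : G, y' = e * y₀ * e⁻¹ := ⟨_, rfl⟩
    have hy'E : y' ∈ E := by
      rw [hy']
      exact E.mul_mem (E.mul_mem he hy₀E) (E.inv_mem he)
    have hyy : y = m * y' * m⁻¹ := by
      rw [← hy₀, hg', hy']
      group
    have h1 : y'⁻¹ * y = 1 := by
      apply hdisj
      · have e1 : y'⁻¹ * y = (y'⁻¹ * m * y'⁻¹⁻¹) * m⁻¹ := by
          rw [hyy]
          group
        rw [e1]
        exact M.mul_mem (hMn.conj_mem m hmM y'⁻¹) (M.inv_mem hmM)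
      · exact E.mul_mem (E.inv_mem hy'E) hyE
    have hyy' : y = y' := by
      rw [inv_mul_eq_one] at h1
      exact h1.symm
    apply hdisj y _ hyE
    apply hM.mem_of_commute hmM hm1
    rw [← hyy'] at hyy
    calc y * m = m * y * m⁻¹ * m := by rw [← hyy]
      _ = m * y := by group

end Cfsg.Agent.Helper65.TICent
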