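import Mathlib
import Cfsg.Agent.Helper95.TIC.Defs

/-!
# S4064 (helper95), piece (FCQ): a `TIC`-group contains no generalized quaternion group of order `≥ 16`.
-/

set_option autoImplicit false

namespace Cfsg.Agent.Helper65.TICent

open Subgroup Cfsg.Agent.Helper95.TICent

/-- (FCQ) A `TIC`-group contains no generalized quaternion group of order `≥ 16`. -/
theorem no_big_quaternion {H : Type*} [Group H] (h : TIC H) {n : ℕ} (hn : 2 ≤ n)
    (f : QuaternionGroup (2 ^ n) →* H) (hf : Function.Injective f) : False := by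
  have h4 : 4 ≤ 2 ^ n := by
    calc 4 = 2 ^ 2 := by norm_num
      _ ≤ 2 ^ n := Nat.pow_le_pow_right (by norm_num) hn
  -- arithmetic in `ZMod (2 * 2 ^ n)`
  have hN0 : ((2 ^ n : ℕ) : ZMod (2 * 2 ^ n)) ≠ 0 := by
    intro h0
    rw [ZMod.natCast_eq_zero_iff] at h0
    have := Nat.le_of_dvd (by positivity) h0
    omega
  have h40 : ((4 : ℕ) : ZMod (2 * 2 ^ n)) ≠ 0 := by
    intro h0
    rw [ZMod.natCast_eq_zero_iff] at h0
    have := Nat.le_of_dvd (by norm_num) h0
    omega
  obtain ⟨A, hA⟩ : ∃ A : QuaternionGroup (2 ^ n), A = QuaternionGroup.a 1 := ⟨_, rfl⟩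
  obtain ⟨B, hB⟩ : ∃ B : QuaternionGroup (2 ^ n), B = QuaternionGroup.xa 0 := ⟨_, rfl⟩
  have hBB : B * B = QuaternionGroup.a ((2 ^ n : ℕ) : ZMod (2 * 2 ^ n)) := by
    rw [hB, QuaternionGroup.xa_mul_xa, add_zero, sub_zero]
  have hBB1 : B * B ≠ 1 := by
    rw [hBB, QuaternionGroup.one_def]
    intro h0
    exact hN0 (QuaternionGroup.a.inj h0)
  have hAY : A * (B * B) = (B * B) * A := by
    rw [hBB, hA, QuaternionGroup.a_mul_a, QuaternionGroup.a_mul_a, add_comm]
  -- in `H`
  have hy : f B * f B ∈ centralizer ({f B} : Set H) := by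
    rw [mem_centralizer_singleton_iff]
    exact mul_assoc _ _ _
  have hy1 : f B * f B ≠ 1 := by
    rw [← map_mul, ← map_one f]
    intro h0
    exact hBB1 (hf h0)
  have hg : f A * (f B * f B) * (f A)⁻¹ ∈ centralizer ({f B} : Set H) := by
    have e : f A * (f B * f B) * (f A)⁻¹ = f B * f B := by
      rw [mul_inv_eq_iff_eq_mul, ← map_mul, ← map_mul, ← map_mul, hAY]
    rw [e]
    exact hy
  have hnorm := h.mem_normalizer hy hy1 hg
  rw [mem_normalizer_iff] at hnorm
  have hb : f B ∈ centralizer ({f B} : Set H) := by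
    rw [mem_centralizer_singleton_iff]
  have hc := (hnorm (f B)).1 hb
  have e2 : f A * f B * (f A)⁻¹ = f (QuaternionGroup.xa (-2)) := by
    rw [mul_inv_eq_iff_eq_mul, ← map_mul, ← map_mul, hA, hB, QuaternionGroup.a_mul_xa,
      QuaternionGroup.xa_mul_a]
    congr 2
    ring
  rw [e2, mem_centralizer_singleton_iff, hB, ← map_mul, ← map_mul, QuaternionGroup.xa_mul_xa,
    QuaternionGroup.xa_mul_xa] at hc
  have h5 := QuaternionGroup.a.inj (hf hc)
  apply h40
  have : ((4 : ℕ) : ZMod (2 * 2 ^ n)) = 4 := by norm_num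
  rw [this]
  linear_combination h5

end Cfsg.Agent.Helper65.TICent
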