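import Mathlib
import Cfsg.Agent.Helper95.TIC.Defs
import Cfsg.Agent.Helper95.TIC.SE5

/-!
# S4064 (helper95), piece (ZAS): assembly of the Zassenhaus property of `G` on `G ⧸ N`.
-/

set_option autoImplicit false

namespace Cfsg.Agent.Helper65.TICent

open Subgroup Cfsg Cfsg.Agent.Helper75 Cfsg.Agent.Helper21 Cfsg.Agent.Helper4
open Cfsg.Agent.Helper95.TICent

universe u

variable {G : Type u} [Group G]

/-- (ZAS) Assembly of the Zassenhaus property. -/
theorem BData.isZassenhaus (c : BData G) [Finite G] (hw : 2 ≤ caE c.A)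
    (h2 : MulAction.IsMultiplyPretransitive G (G ⧸ c.N) 2)
    (h3 : ∀ g : G, ∀ p q r : G ⧸ c.N, p ≠ q → q ≠ r → p ≠ r → g • p = p → g • q = q →
      g • r = r → g = 1)
    (hK : ∀ K : Subgroup G, K.Normal → K ⊓ c.A = ⊥ → K = ⊥) :
    Cfsg.IsZassenhausGroup G (G ⧸ c.N) := by
  classical
  obtain ⟨u, hu, huN⟩ := c.exists_u
  have hne : ((1 : G) : G ⧸ c.N) ≠ ((u : G) : G ⧸ c.N) := by
    intro h
    have h1 : (1 : G)⁻¹ * u ∈ c.N := QuotientGroup.eq.mp h
    rw [inv_one, one_mul] at h1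
    exact huN h1
  -- three distinct points
  have h3pts : ∃ p q r : G ⧸ c.N, p ≠ q ∧ p ≠ r ∧ q ≠ r := by
    let _ : Fintype (G ⧸ c.N) := Fintype.ofFinite _
    rw [← Fintype.two_lt_card_iff, ← Nat.card_eq_fintype_card]
    have h1 : Nat.card (G ⧸ c.N) = Nat.card c.A + 1 := c.index_N hw
    have h4 : 1 < Nat.card c.A := (Subgroup.one_lt_card_iff_ne_bot c.A).2 c.A_ne_bot
    omega
  refine ⟨⟨?_⟩, h2, h3, ?_, ?_⟩
  · -- faithful
    intro g₁ g₂ h
    obtain ⟨p, q, r, hpq, hpr, hqr⟩ := h3pts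
    have hfix : ∀ a : G ⧸ c.N, (g₂⁻¹ * g₁) • a = a := by
      intro a
      rw [mul_smul, h a, ← mul_smul, inv_mul_cancel, one_smul]
    have := h3 (g₂⁻¹ * g₁) p q r hpq hqr hpr (hfix p) (hfix q) (hfix r)
    exact (inv_mul_eq_one.mp this).symm
  · -- a non-identity element fixing two points
    obtain ⟨d, hd, hd1⟩ := c.exists_ne_one_Dsub hu huN hw
    refine ⟨d, hd1, ((1 : G) : G ⧸ c.N), ((u : G) : G ⧸ c.N), hne, ?_, ?_⟩
    · rw [MulAction.Quotient.smul_coe, smul_eq_mul, mul_one]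
      apply QuotientGroup.eq.mpr
      rw [mul_one]
      exact c.N.inv_mem (c.mem_Dsub.mp hd).1
    · rw [MulAction.Quotient.smul_coe, smul_eq_mul]
      apply QuotientGroup.eq.mpr
      have h1 := (c.mem_Dsub.mp ((c.Dsub u).inv_mem hd)).2
      have : (d * u)⁻¹ * u = u⁻¹ * d⁻¹ * u := by group
      rw [this]
      exact h1
  · -- no regular normal subgroup
    intro K hKn hKt
    by_contra hstab
    rw [not_exists] at hstab
    have hKA : K ⊓ c.A = ⊥ := by
      rw [eq_bot_iff]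
      intro k hk
      rw [mem_bot]
      obtain ⟨hkK, hkA⟩ := mem_inf.1 hk
      have hs : MulAction.stabilizer K ((1 : G) : G ⧸ c.N) = ⊥ := not_not.1 (hstab _)
      have hmem : (⟨k, hkK⟩ : K) ∈ MulAction.stabilizer K ((1 : G) : G ⧸ c.N) := by
        rw [MulAction.mem_stabilizer_iff]
        show k • ((1 : G) : G ⧸ c.N) = ((1 : G) : G ⧸ c.N)
        rw [MulAction.Quotient.smul_coe, smul_eq_mul, mul_one]
        apply QuotientGroup.eq.mpr
        rw [mul_one]
        exact c.N.inv_mem (c.A_le_N hkA)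
      rw [hs, mem_bot] at hmem
      exact congrArg Subtype.val hmem
    have hKbot := hK K hKn hKA
    obtain ⟨k, hk⟩ := hKt.exists_smul_eq ((1 : G) : G ⧸ c.N) ((u : G) : G ⧸ c.N)
    have hk1 : (k : G) = 1 := by
      have hle : K ≤ ⊥ := le_of_eq hKbot
      exact mem_bot.1 (hle k.2)
    have hk' : (k : G) • ((1 : G) : G ⧸ c.N) = ((u : G) : G ⧸ c.N) := hk
    rw [hk1, one_smul] at hk'
    exact hne hk'

end Cfsg.Agent.Helper65.TICent
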