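import Mathlib
import Cfsg.Agent.Helper95.TIC.Defs
import Cfsg.Agent.Helper95.TIC.SE5

/-!
# S4064 (helper95), piece (ZR): `A` acts regularly on the cosets different from `N`.
-/

set_option autoImplicit false

namespace Cfsg.Agent.Helper65.TICent

open Subgroup Cfsg Cfsg.Agent.Helper75 Cfsg.Agent.Helper21 Cfsg.Agent.Helper4
open Cfsg.Agent.Helper95.TICent

universe u

variable {G : Type u} [Group G]

/-- every coset different from `N` contains an involution outside `N` -/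
theorem zr_exists_invol (c : BData G) [Finite G] (y : G ⧸ c.N)
    (hy : y ≠ ((1 : G) : G ⧸ c.N)) :
    ∃ v : G, orderOf v = 2 ∧ v ∉ c.N ∧ y = ((v : G) : G ⧸ c.N) := by
  obtain ⟨g, rfl⟩ := QuotientGroup.mk_surjective y
  have hgN : g ∉ c.N := by
    intro h
    apply hy
    exact (QuotientGroup.eq.mpr (by simpa using c.N.inv_mem h))
  obtain ⟨v, hv2, hvg, hvN⟩ := IsStronglyEmbedded.exists_invol_coset c.stronglyEmbedded hgN
  exact ⟨v, hv2, hvN, QuotientGroup.eq.mpr hvg⟩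

/-- (ZR) `A` acts regularly on the cosets different from `N`. -/
theorem BData.regular (c : BData G) [Finite G] (hw : 2 ≤ caE c.A) :
    ∀ y z : G ⧸ c.N, y ≠ ((1 : G) : G ⧸ c.N) → z ≠ ((1 : G) : G ⧸ c.N) →
      ∃! x : c.A, (x : G) • y = z := by
  intro y z hy hz
  obtain ⟨v, hv2, hvN, rfl⟩ := zr_exists_invol c y hy
  obtain ⟨v', hv'2, hv'N, rfl⟩ := zr_exists_invol c z hz
  obtain ⟨x, hx, hxv⟩ := c.exists_coset hv2 hvN hv'2 hv'N hw
  have hx1 : (x : G) • ((v : G) : G ⧸ c.N) = ((v' : G) : G ⧸ c.N) := by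
    rw [MulAction.Quotient.smul_coe, smul_eq_mul]
    exact QuotientGroup.eq.mpr hxv
  refine ⟨⟨x, hx⟩, hx1, ?_⟩
  rintro ⟨x₂, hx₂⟩ h
  have h' : (x₂ : G) • ((v : G) : G ⧸ c.N) = ((v' : G) : G ⧸ c.N) := h
  rw [← hx1, MulAction.Quotient.smul_coe, MulAction.Quotient.smul_coe, smul_eq_mul,
    smul_eq_mul] at h'
  have h2 : (x₂ * v)⁻¹ * (x * v) ∈ c.N := QuotientGroup.eq.mp h'
  have h3 : x₂⁻¹ * x ∈ c.A := c.A.mul_mem (c.A.inv_mem hx₂) hx
  have h4 : x₂⁻¹ * x ∈ c.Dsub v := by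
    rw [c.mem_Dsub]
    refine ⟨c.A_le_N h3, ?_⟩
    have : v⁻¹ * (x₂⁻¹ * x) * v = (x₂ * v)⁻¹ * (x * v) := by group
    rw [this]
    exact h2
  have h5 := c.Dsub_inf_A hv2 hvN h4 h3
  apply Subtype.ext
  show x₂ = x
  exact (inv_mul_eq_one.mp h5)

end Cfsg.Agent.Helper65.TICent
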