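import Cfsg.Agent.Helper36.TorD.Defs
import Cfsg.Agent.Helper65.TorD_CENTCore
import Cfsg.Agent.Helper37.TorD_REG
import Cfsg.Agent.Helper10.TorD_CU

/-!
helper65, piece (CENT) of helper36's farm #13741 (TorData for `F₄`, `E₈`; S2372/S2375): a torus element with
`Stab_N(t) = H` has `C_G(t) = H`.
-/

set_option autoImplicit false

namespace Cfsg.Agent.Helper65.TorD

open Cfsg Cfsg.Lie Cfsg.Agent.Helper18 Cfsg.Agent.Helper19.Cox Cfsg.Agent.Helper19.Poinc
  Cfsg.Agent.Helper80.Tor Cfsg.Agent.Helper36.TorD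

section Fields

variable {F K : Type*} [Field F] [Fintype F] [Field K] [Fintype K] [Algebra F K]

variable (D : ChevalleyDatum)
  (hD : D ∈ [chevG2, chevB2, chevD4, chevF4, chevE6, chevE7, chevE8])
include hD

/-- (CENT) a torus element with `Stab_N(t) = H` has `C_G(t) = H`. -/
theorem cent_G_t (hneg : cartanNegOK D = true) (t : GL D.Idx K) (ht : t ∈ D.diagonalSubgroup K)
    (hst : ∀ n ∈ D.monomialSubgroup K, n * t * n⁻¹ = t → n ∈ D.diagonalSubgroup K)
    (g : GL D.Idx K) (hg : g ∈ D.group K) (hgt : g * t * g⁻¹ = t) : g ∈ D.diagonalSubgroup K :=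
  cent_G_t_core D hD
    (fun c hst s hs => Cfsg.Agent.Helper37.TorD.regular_of_stab D hD hneg c hst s hs)
    (fun c hreg u hu hcu => Cfsg.Agent.Helper10.TorD.cent_U_trivial D hD c hreg u hu hcu)
    t ht hst g hg hgt

end Fields

end Cfsg.Agent.Helper65.TorD
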