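import Mathlib
import Cfsg.Agent.Helper70.PCount6
import Cfsg.Agent.Helper2.MaxClass
import Cfsg.Agent.Helper73.PGroupCyclic

/-!
# 2-groups with a cyclic subgroup of index 2: the three maximal subgroups

Setting: `c` of order `2 ^ (k + 2)`, `zpowers c` of index 2 in `Q`, `x ∉ zpowers c`,
`x * c * x⁻¹ = c ^ r`, `x * x = c ^ s`.
-/

set_option autoImplicit false

namespace Cfsg.Agent.Helper65.TwoCount

open Subgroup
open Cfsg.Agent.Helper70.PCount
open scoped commutatorElement

section basic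
variable {Q : Type*} [Group Q]

/-- parity of an exponent from membership. -/
theorem even_of_pow_mem {c : Q} (M : Subgroup Q) (h2 : c ^ 2 ∈ M) (h1 : c ∉ M) (j : ℕ)
    (hj : c ^ j ∈ M) : Even j := by
  by_contra hodd
  rw [Nat.not_even_iff_odd] at hodd
  obtain ⟨i, rfl⟩ := hodd
  apply h1
  have h3 : c = ((c ^ 2) ^ i)⁻¹ * c ^ (2 * i + 1) := by
    rw [← pow_mul, pow_succ]; group
  rw [h3]
  exact M.mul_mem (M.inv_mem (M.pow_mem h2 i)) hj

/-- the square of `c ^ j * x`. -/
theorem sq_pow_mul {c x : Q} {r s : ℕ} (hr : x * c * x⁻¹ = c ^ r) (hs : x * x = c ^ s) (j : ℕ) :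
    (c ^ j * x) * (c ^ j * x) = c ^ (j * (1 + r) + s) := by
  have h1 := Cfsg.Agent.Helper73.conj_pow_of_conj hr j
  have h2 : (c ^ j * x) * (c ^ j * x) = c ^ j * (x * c ^ j * x⁻¹) * (x * x) := by group
  rw [h2, h1, hs, ← pow_add, ← pow_add]
  congr 1
  ring

/-- the order of `c ^ m` is `2 ^ (k + 1)` iff `m ≡ 2 mod 4`. -/
theorem orderOf_pow_eq_iff {c : Q} {k : ℕ} (hc : orderOf c = 2 ^ (k + 2)) (m : ℕ) :
    orderOf (c ^ m) = 2 ^ (k + 1) ↔ m % 4 = 2 := by
  have : Fact (Nat.Prime 2) := ⟨Nat.prime_two⟩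
  constructor
  · intro h
    have h1 : (c ^ m) ^ (2 ^ (k + 1)) = 1 := by rw [← h]; exact pow_orderOf_eq_one _
    have h2 : (c ^ m) ^ (2 ^ k) ≠ 1 := by
      intro h3
      have h4 := orderOf_dvd_of_pow_eq_one h3
      rw [h] at h4
      have := (Nat.pow_dvd_pow_iff_le_right (by norm_num : 1 < 2)).mp h4
      omega
    rw [← pow_mul] at h1 h2
    have h3 := orderOf_dvd_of_pow_eq_one h1
    rw [hc] at h3
    have h4 : ¬ (2 ^ (k + 2) ∣ m * 2 ^ k) := by
      intro h5
      apply h2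
      rw [← hc] at h5
      exact orderOf_dvd_iff_pow_eq_one.mp h5
    have e1 : 2 ^ (k + 2) = 2 ^ (k + 1) * 2 := by ring
    have e2 : 2 ^ (k + 2) = 2 ^ k * 4 := by ring
    rw [e1, mul_comm m] at h3
    rw [e2, mul_comm m] at h4
    have h5 : 2 ∣ m := Nat.dvd_of_mul_dvd_mul_left (by positivity) h3
    have h6 : ¬ 4 ∣ m := fun h7 => h4 (Nat.mul_dvd_mul_left _ h7)
    omega
  · intro h
    apply orderOf_eq_prime_pow
    · intro h1
      rw [← pow_mul] at h1
      have h3 := orderOf_dvd_of_pow_eq_one h1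
      rw [hc] at h3
      obtain ⟨q, hq⟩ : ∃ q, m = 4 * q + 2 := ⟨m / 4, by omega⟩
      rw [hq] at h3
      have e2 : 2 ^ (k + 2) = 2 ^ k * 4 := by ring
      have e3 : (4 * q + 2) * 2 ^ k = 2 ^ k * (4 * q + 2) := by ring
      rw [e2, e3] at h3
      have := Nat.dvd_of_mul_dvd_mul_left (by positivity) h3
      omega
    · rw [← pow_mul]
      apply orderOf_dvd_iff_pow_eq_one.mp
      rw [hc]
      obtain ⟨q, hq⟩ : ∃ q, m = 2 * q := ⟨m / 2, by omega⟩
      rw [hq]
      exact ⟨q, by ring⟩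

end basic

/-- the setting: a noncyclic group of order `2 ^ (k + 3)` with a cyclic subgroup `⟨c⟩` of index 2. -/
structure CycMax (Q : Type*) [Group Q] (c x : Q) (k r s : ℕ) : Prop where
  ord : orderOf c = 2 ^ (k + 2)
  idx : (zpowers c).index = 2
  hx : x ∉ zpowers c
  hr : x * c * x⁻¹ = c ^ r
  hs : x * x = c ^ s
  card : Nat.card Q = 2 ^ (k + 3)
  nc : ¬ IsCyclic Q

section setting
variable {Q : Type*} [Group Q] [Finite Q] {c x : Q} {k r s : ℕ}

theorem CycMax.r_odd (h : CycMax Q c x k r s) : r % 2 = 1 := by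
  have h1 : orderOf (x * c * x⁻¹) = orderOf c := by
    have := orderOf_injective (MulAut.conj x).toMonoidHom (MulAut.conj x).injective c
    simpa using this
  rw [h.hr] at h1
  by_contra hcon
  have hr2 : 2 ∣ r := by omega
  obtain ⟨q, rfl⟩ := hr2
  have h2 : (c ^ (2 * q)) ^ (2 ^ (k + 1)) = 1 := by
    rw [← pow_mul]
    apply orderOf_dvd_iff_pow_eq_one.mp
    rw [h.ord]
    exact ⟨q, by ring⟩
  have h3 := orderOf_dvd_of_pow_eq_one h2
  rw [h1, h.ord] at h3
  have := (Nat.pow_dvd_pow_iff_le_right (by norm_num : 1 < 2)).mp h3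
  omega

theorem CycMax.orderOf_eq_two_mul (h : CycMax Q c x k r s) (y : Q) (hy : y ≠ 1) :
    orderOf y = 2 * orderOf (y * y) := by
  have h1 : orderOf y ∣ 2 ^ (k + 3) := h.card ▸ orderOf_dvd_natCard y
  obtain ⟨e, -, he⟩ := (Nat.dvd_prime_pow Nat.prime_two).mp h1
  have he0 : e ≠ 0 := by
    rintro rfl
    rw [pow_zero, orderOf_eq_one_iff] at he
    exact hy he
  have h2 : 2 ∣ orderOf y := by rw [he]; exact dvd_pow_self 2 he0
  have h3 : orderOf (y ^ 2) = orderOf y / 2 := orderOf_pow_of_dvd (by norm_num) h2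
  rw [← sq, h3]
  omega

theorem CycMax.orderOf_eq_iff (h : CycMax Q c x k r s) (j : ℕ) :
    orderOf (c ^ j * x) = 2 ^ (k + 2) ↔ (j * (1 + r) + s) % 4 = 2 := by
  have hy : c ^ j * x ≠ 1 := by
    intro h1
    apply h.hx
    have : x = (c ^ j)⁻¹ := by rw [eq_inv_iff_mul_eq_one, mul_eq_one_iff_eq_inv.mp h1]; group
    rw [this]
    exact (zpowers c).inv_mem (pow_mem (mem_zpowers c) j)
  rw [h.orderOf_eq_two_mul _ hy, sq_pow_mul h.hr h.hs, ← orderOf_pow_eq_iff h.ord]
  constructor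
  · intro h1
    have e : 2 ^ (k + 2) = 2 * 2 ^ (k + 1) := by ring
    rw [e] at h1
    exact Nat.eq_of_mul_eq_mul_left (by norm_num) h1
  · intro h1
    rw [h1]; ring

theorem CycMax.isPGroup (h : CycMax Q c x k r s) : IsPGroup 2 Q :=
  IsPGroup.of_card h.card

theorem CycMax.ord_pos (h : CycMax Q c x k r s) : 0 < orderOf c := by
  rw [h.ord]; positivity

theorem CycMax.card_of_index (h : CycMax Q c x k r s) (M : Subgroup Q) (hM : M.index = 2) :
    Nat.card M = 2 ^ (k + 2) := by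
  have : Fact (Nat.Prime 2) := ⟨Nat.prime_two⟩
  have := (card_eq_of_index_eq h.card M hM).1
  simpa using this

theorem CycMax.not_mem (h : CycMax Q c x k r s) (M : Subgroup Q) (hM : M.index = 2)
    (hne : zpowers c ≠ M) : c ∉ M := by
  have : Fact (Nat.Prime 2) := ⟨Nat.prime_two⟩
  intro hc
  exact hne (eq_of_le_of_index_eq (zpowers c) M h.idx hM (zpowers_le.mpr hc))

theorem CycMax.inf_eq (h : CycMax Q c x k r s) (M M' : Subgroup Q) (hM : M.index = 2)
    (hM' : M'.index = 2) (hne : M ≠ M') : M ⊓ M' = zpowers (c ^ 2) := by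
  have : Fact (Nat.Prime 2) := ⟨Nat.prime_two⟩
  symm
  apply Subgroup.eq_of_le_of_card_ge
  · rw [zpowers_le]
    exact ⟨sq_mem_of_index_two hM c, sq_mem_of_index_two hM' c⟩
  · have h1 := index_inf_of_ne h.isPGroup M M' hM hM' hne
    have h2 := (M ⊓ M').card_mul_index
    rw [h1, h.card] at h2
    have h3 : Nat.card (zpowers (c ^ 2)) = 2 ^ (k + 1) := by
      rw [Nat.card_zpowers, orderOf_pow_of_dvd (by norm_num) (by rw [h.ord]; exact dvd_pow_self 2 (by omega)),
        h.ord]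
      rw [pow_succ]; simp
    rw [h3]
    have e : 2 ^ (k + 3) = 2 ^ (k + 1) * 2 ^ 2 := by ring
    rw [e] at h2
    exact le_of_eq (Nat.eq_of_mul_eq_mul_right (by norm_num) h2)

theorem CycMax.x_not_mem_sq (h : CycMax Q c x k r s) : x ∉ zpowers (c ^ 2) := fun hx =>
  h.hx ((zpowers_le.mpr (pow_mem (mem_zpowers c) 2)) hx)

theorem CycMax.cx_not_mem_sq (h : CycMax Q c x k r s) : c * x ∉ zpowers (c ^ 2) := by
  intro hx
  have h1 : c * x ∈ zpowers c := (zpowers_le.mpr (pow_mem (mem_zpowers c) 2)) hx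
  apply h.hx
  have : x = c⁻¹ * (c * x) := by group
  rw [this]
  exact (zpowers c).mul_mem ((zpowers c).inv_mem (mem_zpowers c)) h1

open scoped Classical in
theorem CycMax.three_max (h : CycMax Q c x k r s) :
    ∃ M₂ M₃ : Subgroup Q, gam1 Q 2 = {zpowers c, M₂, M₃} ∧ M₂.index = 2 ∧ M₃.index = 2 ∧
      zpowers c ≠ M₂ ∧ zpowers c ≠ M₃ ∧ M₂ ≠ M₃ ∧ x ∈ M₂ ∧ c * x ∈ M₃ ∧ c ∉ M₂ ∧ c ∉ M₃ := by
  have : Fact (Nat.Prime 2) := ⟨Nat.prime_two⟩
  have hg1 := card_gam1_modEq h.isPGroup h.nc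
  have hC : zpowers c ∈ gam1 Q 2 := mem_gam1.mpr h.idx
  have h2 : 1 < ((gam1 Q 2).erase (zpowers c)).card := by
    rw [Finset.card_erase_of_mem hC]
    have : (gam1 Q 2).card % 4 = 3 := hg1
    omega
  obtain ⟨M, hM, M', hM', hne⟩ := Finset.one_lt_card.mp h2
  rw [Finset.mem_erase, mem_gam1] at hM hM'
  have key : ∀ N : Subgroup Q, N.index = 2 → c ∉ N → (c * x ∈ N ↔ x ∉ N) := by
    intro N hN hcN
    rw [mul_mem_iff_of_index_two hN]
    tauto
  have hcM := h.not_mem M hM.2 hM.1.symm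
  have hcM' := h.not_mem M' hM'.2 hM'.1.symm
  have hinf := h.inf_eq M M' hM.2 hM'.2 hne
  -- general: the final verification
  have fin : ∀ M₂ M₃ : Subgroup Q, M₂.index = 2 → M₃.index = 2 → zpowers c ≠ M₂ → zpowers c ≠ M₃ →
      M₂ ≠ M₃ → x ∈ M₂ → c * x ∈ M₃ → gam1 Q 2 = {zpowers c, M₂, M₃} := by
    intro M₂ M₃ h2 h3 hn2 hn3 hn23 hx2 hx3
    ext N
    rw [mem_gam1]
    simp only [Finset.mem_insert, Finset.mem_singleton]
    constructor
    · intro hN
      by_cases hcN : c ∈ N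
      · left
        exact (eq_of_le_of_index_eq (zpowers c) N h.idx hN (zpowers_le.mpr hcN)).symm
      · by_cases hxN : x ∈ N
        · right; left
          by_contra hne2
          have := h.inf_eq N M₂ hN h2 hne2
          exact h.x_not_mem_sq (this ▸ ⟨hxN, hx2⟩)
        · right; right
          have hcx := (key N hN hcN).mpr hxN
          by_contra hne3
          have := h.inf_eq N M₃ hN h3 hne3
          exact h.cx_not_mem_sq (this ▸ ⟨hcx, hx3⟩)
    · rintro (rfl | rfl | rfl)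
      · exact h.idx
      · exact h2
      · exact h3
  by_cases hxM : x ∈ M
  · have hxM' : x ∉ M' := fun hx' => h.x_not_mem_sq (hinf ▸ ⟨hxM, hx'⟩)
    have hcx := (key M' hM'.2 hcM').mpr hxM'
    exact ⟨M, M', fin M M' hM.2 hM'.2 hM.1.symm hM'.1.symm hne hxM hcx, hM.2, hM'.2, hM.1.symm,
      hM'.1.symm, hne, hxM, hcx, hcM, hcM'⟩
  · have hcx := (key M hM.2 hcM).mpr hxM
    have hxM' : x ∈ M' := by
      by_contra hx'
      have hcx' := (key M' hM'.2 hcM').mpr hx'
      exact h.cx_not_mem_sq (hinf ▸ ⟨hcx, hcx'⟩)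
    exact ⟨M', M, fin M' M hM'.2 hM.2 hM'.1.symm hM.1.symm hne.symm hxM' hcx, hM'.2, hM.2, hM'.1.symm,
      hM.1.symm, hne.symm, hxM', hcx, hcM', hcM⟩

theorem CycMax.s_even (h : CycMax Q c x k r s) (M : Subgroup Q) (hM : M.index = 2)
    (hc : c ∉ M) : s % 2 = 0 := by
  have h1 : c ^ s ∈ M := by
    rw [← h.hs, ← sq]; exact sq_mem_of_index_two hM x
  have := even_of_pow_mem M (sq_mem_of_index_two hM c) hc s h1
  exact Nat.even_iff.mp this

/-- cyclicity of a maximal subgroup other than `⟨c⟩`, in terms of a representative `c ^ j0 * x`. -/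
theorem CycMax.isCyclic_iff (h : CycMax Q c x k r s) (M : Subgroup Q) (hM : M.index = 2)
    (hc : c ∉ M) (j0 : ℕ) (hu : c ^ j0 * x ∈ M) :
    IsCyclic M ↔ (j0 * (1 + r) + s) % 4 = 2 := by
  have hcard := h.card_of_index M hM
  constructor
  · intro hcyc
    obtain ⟨g, hg⟩ := (Subgroup.isCyclic_iff_exists_zpowers_eq_top M).mp hcyc
    have hgo : orderOf g = 2 ^ (k + 2) := by rw [← Nat.card_zpowers, hg, hcard]
    have hgM : g ∈ M := hg ▸ mem_zpowers g
    have hgC : g ∉ zpowers c := by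
      intro hgc
      apply hc
      have : zpowers g = zpowers c := by
        apply Subgroup.eq_of_le_of_card_ge (zpowers_le.mpr hgc)
        rw [Nat.card_zpowers, Nat.card_zpowers, hgo, h.ord]
      rw [← hg, this]
      exact mem_zpowers c
    have h1 : g * x⁻¹ ∈ zpowers c := by
      rw [mul_mem_iff_of_index_two h.idx, inv_mem_iff]
      exact iff_of_false hgC h.hx
    obtain ⟨j, hj⟩ := Cfsg.Agent.Helper73.exists_pow_eq_of_mem_zpowers h.ord_pos h1
    have hgj : g = c ^ j * x := by rw [← hj]; group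
    -- parity of j + j0
    have h2 : c ^ (j + j0) ∈ M := by
      have h3 : c ^ (j + j0) = g * (c ^ j0 * x)⁻¹ * (c ^ 2) ^ j0 := by
        rw [hgj, ← pow_mul, pow_add]
        have : c ^ (2 * j0) = c ^ j0 * c ^ j0 := by rw [← pow_add]; congr 1; ring
        rw [this]; group
      rw [h3]
      exact M.mul_mem (M.mul_mem hgM (M.inv_mem hu)) (M.pow_mem (sq_mem_of_index_two hM c) j0)
    have h4 := even_of_pow_mem M (sq_mem_of_index_two hM c) hc _ h2
    obtain ⟨w, hw⟩ := h4
    have h5 := (h.orderOf_eq_iff j).mp (hgj ▸ hgo)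
    have hr := h.r_odd
    obtain ⟨t, ht⟩ : ∃ t, 1 + r = 2 * t := ⟨(1 + r) / 2, by omega⟩
    rw [ht] at h5 ⊢
    have e1 : t * j + t * j0 = 2 * (t * w) := by rw [← mul_add, hw]; ring
    have e2 : j * (2 * t) = 2 * (t * j) := by ring
    have e3 : j0 * (2 * t) = 2 * (t * j0) := by ring
    rw [e2] at h5
    rw [e3]
    omega
  · intro h1
    have h2 := (h.orderOf_eq_iff j0).mpr h1
    apply isCyclic_of_orderOf_eq_card (⟨c ^ j0 * x, hu⟩ : M)
    rw [Subgroup.orderOf_mk, h2, hcard]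

/-- the commutator quotient has order 4 exactly when `x` acts on `⟨c⟩` by `r ≡ 3 mod 4`. -/
theorem CycMax.index_commutator (h : CycMax Q c x k r s) :
    (r % 4 = 3 → (commutator Q).index = 4) ∧ (r % 4 = 1 → (commutator Q).index ≠ 4) := by
  have : Fact (Nat.Prime 2) := ⟨Nat.prime_two⟩
  constructor
  · intro hr4
    -- 4 ∣ index
    have h4 : 4 ∣ (commutator Q).index := by
      have h2 : ∃ M M' : Subgroup Q, M.index = 2 ∧ M'.index = 2 ∧ M ≠ M' := by
        by_contra hcon
        push Not at hcon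
        exact h.nc (isCyclic_of_gam1_subsingleton h.isPGroup (fun M M' h h' => hcon M M' h h'))
      obtain ⟨M, M', hM, hM', hne⟩ := h2
      have h3 : commutator Q ≤ M ⊓ M' :=
        le_inf (commutator_le_of_index_eq h.isPGroup M hM) (commutator_le_of_index_eq h.isPGroup M' hM')
      have := Subgroup.index_dvd_of_le h3
      rwa [index_inf_of_ne h.isPGroup M M' hM hM' hne] at this
    -- the commutator of x and c
    have h5 : c ^ (r - 1) ∈ commutator Q := by
      have h6 : c ^ (r - 1) = ⁅x, c⁆ := by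
        rw [commutatorElement_def, h.hr]
        have : r = (r - 1) + 1 := by omega
        conv_rhs => rw [this, pow_succ]
        group
      rw [h6, _root_.commutator_def]
      exact Subgroup.commutator_mem_commutator (mem_top x) (mem_top c)
    have h7 : orderOf (c ^ (r - 1)) = 2 ^ (k + 1) := (orderOf_pow_eq_iff h.ord _).mpr (by omega)
    have h8 : 2 ^ (k + 1) ∣ Nat.card (commutator Q) := by
      rw [← h7]
      have := Subgroup.orderOf_dvd_natCard (commutator Q) h5
      exact this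
    have h9 := (commutator Q).card_mul_index
    rw [h.card] at h9
    obtain ⟨u, hu⟩ := h8
    obtain ⟨v, hv⟩ := h4
    rw [hu, hv] at h9
    have e : 2 ^ (k + 3) = 2 ^ (k + 1) * 4 := by ring
    rw [e, mul_assoc] at h9
    have h10 := Nat.eq_of_mul_eq_mul_left (by positivity) h9
    have hv1 : v = 1 := by
      rcases Nat.eq_zero_or_pos v with rfl | hvpos
      · omega
      · have : u * (4 * v) = 4 * (u * v) := by ring
        rw [this] at h10
        have h11 : u * v = 1 := by omega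
        exact Nat.eq_one_of_mul_eq_one_left h11
    rw [hv, hv1]
  · intro hr1 hidx
    have hcen := (Cfsg.Agent.Helper2.card_center_of_index_commutator_eq_four k h.card hidx).1
    -- c ^ (2 ^ k) is central of order 4
    have hz : c ^ (2 ^ k) ∈ Subgroup.center Q := by
      apply Cfsg.Agent.Helper2.mem_center_of_commute_of_index_two (zpowers c) h.idx _ x h.hx _
        (pow_mem (mem_zpowers c) _)
      · have h1 := Cfsg.Agent.Helper73.conj_pow_of_conj h.hr (2 ^ k)
        have h2 : c ^ (r * 2 ^ k) = c ^ (2 ^ k) := by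
          obtain ⟨q, hq⟩ : ∃ q, r = 4 * q + 1 := ⟨r / 4, by omega⟩
          rw [hq]
          have e : (4 * q + 1) * 2 ^ k = 2 ^ (k + 2) * q + 2 ^ k := by ring
          rw [e, pow_add, pow_mul, ← h.ord, pow_orderOf_eq_one, one_pow, one_mul]
        rw [h2] at h1
        calc x * c ^ (2 ^ k) = (x * c ^ (2 ^ k) * x⁻¹) * x := by group
          _ = c ^ (2 ^ k) * x := by rw [h1]
      · intro a ha b hb
        obtain ⟨i, rfl⟩ := mem_zpowers_iff.mp ha
        obtain ⟨j, rfl⟩ := mem_zpowers_iff.mp hb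
        rw [← zpow_add, ← zpow_add, add_comm]
    have hzo : orderOf (c ^ (2 ^ k)) = 4 := by
      rw [orderOf_pow_of_dvd (by positivity) (by rw [h.ord]; exact pow_dvd_pow 2 (by omega)), h.ord]
      rw [pow_add]; simp
    have h3 := Subgroup.orderOf_dvd_natCard (Subgroup.center Q) hz
    rw [hzo, hcen] at h3
    omega

end setting

end Cfsg.Agent.Helper65.TwoCount
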