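import Cfsg.Agent.Helper65.TwoCount1

/-!
# Parity of the number of cyclic maximal subgroups of a noncyclic 2-group
-/

set_option autoImplicit false

namespace Cfsg.Agent.Helper65.TwoCount

open Subgroup
open Cfsg.Agent.Helper70.PCount
open scoped Classical

universe u

theorem card_filter_three {α : Type*} (P : α → Prop) (a b c : α) (hab : a ≠ b) (hac : a ≠ c)
    (hbc : b ≠ c) :
    (({a, b, c} : Finset α).filter P).card =
      (if P a then 1 else 0) + (if P b then 1 else 0) + (if P c then 1 else 0) := by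
  rw [Finset.card_filter, Finset.sum_insert (by simp [hab, hac]), Finset.sum_insert (by simp [hbc]),
    Finset.sum_singleton, add_assoc]

/-- existence of the setting. -/
theorem exists_cycMax {Q : Type u} [Group Q] [Finite Q] (k : ℕ) (hQ : Nat.card Q = 2 ^ (k + 3))
    (hnc : ¬ IsCyclic Q) (C : Subgroup Q) (hC : C.index = 2) (hCc : IsCyclic C) :
    ∃ c x : Q, ∃ r s : ℕ, zpowers c = C ∧ CycMax Q c x k r s := by
  have : Fact (Nat.Prime 2) := ⟨Nat.prime_two⟩
  obtain ⟨c, hc⟩ := (Subgroup.isCyclic_iff_exists_zpowers_eq_top C).mp hCc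
  have hCcard : Nat.card C = 2 ^ (k + 2) := by
    have := (card_eq_of_index_eq hQ C hC).1
    simpa using this
  have hord : orderOf c = 2 ^ (k + 2) := by rw [← Nat.card_zpowers, hc, hCcard]
  have hpos : 0 < orderOf c := by rw [hord]; positivity
  have hCn : C.Normal := normal_of_index_eq_two hC
  have hne : C ≠ ⊤ := by
    intro h
    rw [h, index_top] at hC
    omega
  obtain ⟨x, -, hx⟩ := SetLike.exists_of_lt (lt_top_iff_ne_top.mpr hne)
  have h1 : x * c * x⁻¹ ∈ zpowers c := by
    rw [hc]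
    exact hCn.conj_mem c (hc ▸ mem_zpowers c) x
  obtain ⟨r, hr⟩ := Cfsg.Agent.Helper73.exists_pow_eq_of_mem_zpowers hpos h1
  have h2 : x * x ∈ zpowers c := by
    rw [hc, ← sq]
    exact sq_mem_of_index_two hC x
  obtain ⟨s, hs⟩ := Cfsg.Agent.Helper73.exists_pow_eq_of_mem_zpowers hpos h2
  exact ⟨c, x, r, s, hc, ⟨hord, hc ▸ hC, hc ▸ hx, hr, hs, hQ, hnc⟩⟩

/-- **(i)** in a noncyclic group of order `2 ^ n`, `n ≥ 3`, the number of cyclic maximal subgroups is
odd iff the commutator quotient has order 4. -/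
theorem odd_card_cyclic_max_iff {Q : Type u} [Group Q] [Finite Q] (n : ℕ) (hn : 3 ≤ n)
    (hQ : Nat.card Q = 2 ^ n) (hnc : ¬ IsCyclic Q) :
    Odd ((gam1 Q 2).filter (fun M : Subgroup Q => IsCyclic M)).card ↔
      (commutator Q).index = 4 := by
  obtain ⟨k, rfl⟩ : ∃ k, n = k + 3 := ⟨n - 3, by omega⟩
  by_cases hex : ∃ C ∈ gam1 Q 2, IsCyclic C
  · obtain ⟨C, hC, hCc⟩ := hex
    rw [mem_gam1] at hC
    obtain ⟨c, x, r, s, hcC, h⟩ := exists_cycMax k hQ hnc C hC hCc
    obtain ⟨M₂, M₃, hgam, h2, h3, hn2, hn3, hn23, hx2, hx3, hc2, hc3⟩ := h.three_max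
    have hs := h.s_even M₂ h2 hc2
    have hr := h.r_odd
    have hcyc2 := h.isCyclic_iff M₂ h2 hc2 0 (by rwa [pow_zero, one_mul])
    have hcyc3 := h.isCyclic_iff M₃ h3 hc3 1 (by rwa [pow_one])
    have hidx := h.index_commutator
    have hcycC : IsCyclic (zpowers c) := hcC ▸ hCc
    rw [hgam, card_filter_three _ _ _ _ hn2 hn3 hn23, if_pos hcycC]
    rw [zero_mul, zero_add] at hcyc2
    rw [one_mul] at hcyc3
    have hr4 : r % 4 = 1 ∨ r % 4 = 3 := by omega
    rcases hr4 with hr4 | hr4
    · have hi := hidx.2 hr4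
      have h23 : IsCyclic M₃ ↔ ¬ IsCyclic M₂ := by
        rw [hcyc2, hcyc3]; omega
      constructor
      · intro hodd
        exfalso
        by_cases hM2 : IsCyclic M₂
        · rw [if_pos hM2, if_neg (fun h => (h23.mp h) hM2)] at hodd
          revert hodd; decide
        · rw [if_neg hM2, if_pos (h23.mpr hM2)] at hodd
          revert hodd; decide
      · intro h4; exact absurd h4 hi
    · have hi := hidx.1 hr4
      have h23 : IsCyclic M₃ ↔ IsCyclic M₂ := by
        rw [hcyc2, hcyc3]; omega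
      constructor
      · intro _; exact hi
      · intro _
        by_cases hM2 : IsCyclic M₂
        · rw [if_pos hM2, if_pos (h23.mpr hM2)]; decide
        · rw [if_neg hM2, if_neg (fun h => hM2 (h23.mp h))]; decide
  · push Not at hex
    have hempty : (gam1 Q 2).filter (fun M : Subgroup Q => IsCyclic M) = ∅ := by
      rw [Finset.filter_eq_empty_iff]
      exact hex
    rw [hempty, Finset.card_empty]
    constructor
    · intro h; exact absurd h (by decide)
    · intro hidx
      exfalso
      obtain ⟨C, hCc, hC⟩ := Cfsg.Agent.Helper2.exists_cyclic_index_two (k + 3) Q hQ hidx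
      exact hex C (mem_gam1.mpr hC) hCc

end Cfsg.Agent.Helper65.TwoCount
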