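import Cfsg.Agent.Helper65.TwoCount2

/-!
# The number of nonabelian maximal subgroups of a nonabelian 2-group with an abelian maximal
subgroup is even
-/

set_option autoImplicit false

namespace Cfsg.Agent.Helper65.TwoCount

open Subgroup
open Cfsg.Agent.Helper70.PCount
open scoped Classical

universe u

/-- commutativity of a subgroup, elementwise -/
def SubComm {Q : Type*} [Group Q] (M : Subgroup Q) : Prop := ∀ a ∈ M, ∀ b ∈ M, a * b = b * a

theorem even_card_nonabelian_max {Q : Type u} [Group Q] [Finite Q] (hQ : IsPGroup 2 Q)
    (hna : ¬ ∀ a b : Q, a * b = b * a)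
    (A : Subgroup Q) (hA : A.index = 2) (hAc : SubComm A) :
    Even ((gam1 Q 2).filter (fun M : Subgroup Q => ¬ SubComm M)).card := by
  have : Fact (Nat.Prime 2) := ⟨Nat.prime_two⟩
  have hnc : ¬ IsCyclic Q := by
    intro hc
    apply hna
    intro a b
    obtain ⟨g, hg⟩ := hc.exists_generator
    obtain ⟨i, rfl⟩ := mem_zpowers_iff.mp (hg a)
    obtain ⟨j, rfl⟩ := mem_zpowers_iff.mp (hg b)
    rw [← zpow_add, ← zpow_add, add_comm]
  have hg1 : (gam1 Q 2).card % 4 = 3 := card_gam1_modEq hQ hnc
  have hsum := Finset.card_filter_add_card_filter_not (s := gam1 Q 2) (fun M : Subgroup Q => SubComm M)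
  have hodd : ((gam1 Q 2).filter (fun M : Subgroup Q => SubComm M)).card % 2 = 1 := by
    have hAmem : A ∈ (gam1 Q 2).filter (fun M : Subgroup Q => SubComm M) := by
      rw [Finset.mem_filter, mem_gam1]; exact ⟨hA, hAc⟩
    by_cases hB : ∃ B ∈ (gam1 Q 2).filter (fun M : Subgroup Q => SubComm M), B ≠ A
    · obtain ⟨B, hBmem, hBA⟩ := hB
      rw [Finset.mem_filter, mem_gam1] at hBmem
      obtain ⟨hB, hBc⟩ := hBmem
      have hAn : A.Normal := normal_of_index_eq_two hA
      have hBn : B.Normal := normal_of_index_eq_two hB
      have hZi : (A ⊓ B).index = 2 ^ 2 := index_inf_of_ne hQ A B hA hB (Ne.symm hBA)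
      -- an element of B outside A
      obtain ⟨b₀, hb₀B, hb₀A⟩ : ∃ b₀ ∈ B, b₀ ∉ A := by
        by_contra hcon
        push Not at hcon
        exact hBA (eq_of_le_of_index_eq B A hB hA hcon)
      -- A ⊓ B is central
      have hcen : ∀ z ∈ A ⊓ B, ∀ g : Q, z * g = g * z := by
        intro z hz g
        by_cases hgA : g ∈ A
        · exact hAc z hz.1 g hgA
        · have h1 : g * b₀⁻¹ ∈ A := by
            rw [mul_mem_iff_of_index_two hA, inv_mem_iff]
            exact iff_of_false hgA hb₀A
          obtain ⟨u, hu, hgu⟩ : ∃ u ∈ A, g = u * b₀ := ⟨g * b₀⁻¹, h1, by group⟩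
          have h3 := hAc z hz.1 u hu
          have h4 := hBc z hz.2 b₀ hb₀B
          calc z * g = (z * u) * b₀ := by rw [hgu]; group
            _ = (u * z) * b₀ := by rw [h3]
            _ = u * (z * b₀) := by group
            _ = u * (b₀ * z) := by rw [h4]
            _ = g * z := by rw [hgu]; group
      have hfilter : (gam1 Q 2).filter (fun M : Subgroup Q => SubComm M) =
          (gam1 Q 2).filter (fun M => A ⊓ B ≤ M) := by
        ext N
        rw [Finset.mem_filter, Finset.mem_filter, mem_gam1]
        constructor
        · rintro ⟨hN, hNc⟩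
          refine ⟨hN, ?_⟩
          by_contra hle
          obtain ⟨z, hz, hzN⟩ := SetLike.not_le_iff_exists.mp hle
          apply hna
          -- every element is n or n * z
          have hdec : ∀ g : Q, ∃ n ∈ N, g = n ∨ g = n * z := by
            intro g
            by_cases hgN : g ∈ N
            · exact ⟨g, hgN, Or.inl rfl⟩
            · refine ⟨g * z⁻¹, ?_, Or.inr (by group)⟩
              rw [mul_mem_iff_of_index_two hN, inv_mem_iff]
              exact iff_of_false hgN hzN
          intro a b
          obtain ⟨n₁, hn₁, ha⟩ := hdec a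
          obtain ⟨n₂, hn₂, hb⟩ := hdec b
          have e := hNc n₁ hn₁ n₂ hn₂
          have z1 := hcen z hz n₁
          have z2 := hcen z hz n₂
          rcases ha with rfl | rfl <;> rcases hb with rfl | rfl
          · exact e
          · rw [← mul_assoc, e, mul_assoc, mul_assoc, z1]
          · rw [mul_assoc, z2, ← mul_assoc, e, mul_assoc]
          · calc n₁ * z * (n₂ * z) = n₁ * (z * n₂) * z := by group
              _ = n₁ * (n₂ * z) * z := by rw [z2]
              _ = (n₁ * n₂) * z * z := by group
              _ = (n₂ * n₁) * z * z := by rw [e]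
              _ = n₂ * (n₁ * z) * z := by group
              _ = n₂ * (z * n₁) * z := by rw [z1]
              _ = n₂ * z * (n₁ * z) := by group
        · rintro ⟨hN, hle⟩
          refine ⟨hN, ?_⟩
          -- A ⊓ B has index 2 in N
          have hrel : (A ⊓ B).relIndex N = 2 := by
            have := Subgroup.relIndex_mul_index hle
            rw [hN, hZi] at this
            omega
          intro a ha b hb
          by_cases haZ : a ∈ A ⊓ B
          · exact hcen a haZ b
          · by_cases hbZ : b ∈ A ⊓ B
            · exact (hcen b hbZ a).symm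
            · -- a⁻¹ * b ∈ A ⊓ B
              have h1 : (⟨a, ha⟩ : N)⁻¹ * ⟨b, hb⟩ ∈ (A ⊓ B).subgroupOf N := by
                rw [mul_mem_iff_of_index_two hrel, inv_mem_iff]
                exact iff_of_false (fun h => haZ (mem_subgroupOf.mp h))
                  (fun h => hbZ (mem_subgroupOf.mp h))
              rw [mem_subgroupOf] at h1
              have h2 : a⁻¹ * b ∈ A ⊓ B := h1
              have h3 := hcen _ h2 a
              calc a * b = a * (a * (a⁻¹ * b)) := by group
                _ = a * ((a⁻¹ * b) * a) := by rw [h3]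
                _ = b * a := by group
      rw [hfilter, card_filter_gam1]
      have hZn : (A ⊓ B).Normal := inferInstance
      have := card_index_eq_ge_of_sq (A ⊓ B) hZi
        (fun x => ⟨sq_mem_of_index_two hA x, sq_mem_of_index_two hB x⟩)
      rw [this]
    · push Not at hB
      have : (gam1 Q 2).filter (fun M : Subgroup Q => SubComm M) = {A} := by
        ext N
        rw [Finset.mem_singleton]
        exact ⟨fun h => hB N h, fun h => h ▸ hAmem⟩
      rw [this, Finset.card_singleton]
  rw [Nat.even_iff]
  omega

end Cfsg.Agent.Helper65.TwoCount
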