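import Cfsg.Agent.Helper65.TwoCount3

/-!
# A group of order 16 with commutator subgroup of order 2 has an abelian maximal subgroup
-/

set_option autoImplicit false

namespace Cfsg.Agent.Helper65.TwoCount

open Subgroup
open Cfsg.Agent.Helper70.PCount
open scoped Classical
open scoped commutatorElement

universe u

theorem eq_of_card_eq_two {G : Type*} [Group G] (h : Nat.card G = 2) (u v : G) (hu : u ≠ 1)
    (hv : v ≠ 1) : u = v := by
  obtain ⟨a, b, hab, huniv⟩ := Nat.card_eq_two_iff.mp h
  have mem : ∀ g : G, g = a ∨ g = b := by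
    intro g
    have : g ∈ ({a, b} : Set G) := huniv ▸ Set.mem_univ g
    simpa using this
  rcases mem 1 with h1 | h1 <;> rcases mem u with h2 | h2 <;> rcases mem v with h3 | h3
  all_goals first
    | exact (hu (h2.trans h1.symm)).elim
    | exact (hv (h3.trans h1.symm)).elim
    | exact h2.trans h3.symm

theorem exists_abelian_max_of_card_commutator {Q : Type u} [Group Q] [Finite Q]
    (hQ : Nat.card Q = 2 ^ 4) (hc : Nat.card (commutator Q) = 2) :
    ∃ A : Subgroup Q, A.index = 2 ∧ SubComm A := by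
  have : Fact (Nat.Prime 2) := ⟨Nat.prime_two⟩
  have hQp : IsPGroup 2 Q := IsPGroup.of_card hQ
  -- uniqueness of the nontrivial commutator
  have huniq : ∀ u ∈ commutator Q, ∀ v ∈ commutator Q, u ≠ 1 → v ≠ 1 → u = v := by
    intro u hu v hv hu1 hv1
    have := eq_of_card_eq_two hc ⟨u, hu⟩ ⟨v, hv⟩ (fun h => hu1 (congrArg Subtype.val h))
      (fun h => hv1 (congrArg Subtype.val h))
    exact congrArg Subtype.val this
  have hcomm_mem : ∀ g h : Q, ⁅g, h⁆ ∈ commutator Q := fun g h => by
    rw [_root_.commutator_def]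
    exact Subgroup.commutator_mem_commutator (mem_top g) (mem_top h)
  -- a non-central element
  obtain ⟨x, g₀, hxg⟩ : ∃ x g₀ : Q, g₀ * x ≠ x * g₀ := by
    by_contra hcon
    push Not at hcon
    have : commutator Q = ⊥ := by
      rw [_root_.commutator_def, Subgroup.commutator_eq_bot_iff_le_centralizer]
      intro a _
      rw [mem_centralizer_iff]
      intro b _
      exact hcon a b
    rw [this] at hc
    simp at hc
  let A : Subgroup Q := centralizer {x}
  have hmemA : ∀ g : Q, g ∈ A ↔ g * x = x * g := fun g => mem_centralizer_singleton_iff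
  have hg₀ : g₀ ∉ A := fun h => hxg ((hmemA g₀).mp h)
  have hne1 : ∀ g : Q, g ∉ A → ⁅g, x⁆ ≠ 1 := by
    intro g hg h1
    rw [commutatorElement_eq_one_iff_commute] at h1
    exact hg ((hmemA g).mpr h1.eq)
  have hcoset : ∀ g h : Q, g ∉ A → h ∉ A → h⁻¹ * g ∈ A := by
    intro g h hg hh
    have h1 := huniq _ (hcomm_mem g x) _ (hcomm_mem h x) (hne1 g hg) (hne1 h hh)
    rw [commutatorElement_def, commutatorElement_def] at h1
    have h2 : g * x * g⁻¹ = h * x * h⁻¹ := mul_right_cancel h1
    rw [hmemA]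
    calc h⁻¹ * g * x = h⁻¹ * (g * x * g⁻¹) * g := by group
      _ = h⁻¹ * (h * x * h⁻¹) * g := by rw [h2]
      _ = x * (h⁻¹ * g) := by group
  have hAi : A.index = 2 := by
    rw [index_eq_two_iff]
    refine ⟨g₀⁻¹, fun b => ?_⟩
    by_cases hb : b ∈ A
    · refine Or.inr ⟨hb, fun h => hg₀ ?_⟩
      have : g₀⁻¹ ∈ A := by
        have h3 : g₀⁻¹ = b⁻¹ * (b * g₀⁻¹) := by group
        rw [h3]; exact A.mul_mem (A.inv_mem hb) h
      exact inv_mem_iff.mp this
    · refine Or.inl ⟨?_, hb⟩
      have h3 := hcoset b⁻¹ g₀⁻¹ (fun h => hb (inv_mem_iff.mp h)) (fun h => hg₀ (inv_mem_iff.mp h))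
      have h4 : b * g₀⁻¹ = ((g₀⁻¹)⁻¹ * b⁻¹)⁻¹ := by group
      rw [h4]; exact A.inv_mem h3
  refine ⟨A, hAi, ?_⟩
  -- A is abelian: its centre has order at least 4
  have hAcard : Nat.card A = 2 ^ 3 := by
    have := (card_eq_of_index_eq hQ A hAi).1
    simpa using this
  have hxA : x ∈ A := (hmemA x).mpr rfl
  -- the nontrivial commutator z is central in Q
  have hz1 : ⁅g₀, x⁆ ≠ 1 := hne1 g₀ hg₀
  set z := ⁅g₀, x⁆ with hz
  have hzc : ∀ g : Q, g * z = z * g := by
    intro g
    have hn : (commutator Q).Normal := inferInstance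
    have h1 : g * z * g⁻¹ ∈ commutator Q := hn.conj_mem z (hcomm_mem g₀ x) g
    have h2 : g * z * g⁻¹ ≠ 1 := by
      intro h3
      apply hz1
      have : z = g⁻¹ * (g * z * g⁻¹) * g := by group
      rw [this, h3]; group
    have h3 := huniq _ h1 _ (hcomm_mem g₀ x) h2 hz1
    calc g * z = (g * z * g⁻¹) * g := by group
      _ = z * g := by rw [h3]
  have hzA : z ∈ A := (hmemA z).mpr (hzc x).symm
  have hxz : x ≠ z := by
    intro h
    apply hxg
    rw [h]; exact hzc g₀
  have hx1 : x ≠ 1 := by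
    intro h
    apply hxg
    rw [h]; simp
  have hxcen : (⟨x, hxA⟩ : A) ∈ center A := by
    rw [mem_center_iff]
    intro g
    apply Subtype.ext
    exact (hmemA g.1).mp g.2
  have hzcen : (⟨z, hzA⟩ : A) ∈ center A := by
    rw [mem_center_iff]
    intro g
    apply Subtype.ext
    exact hzc g.1
  obtain ⟨e, he3, he⟩ : ∃ e, e ≤ 3 ∧ Nat.card (center A) = 2 ^ e := by
    have h1 : Nat.card (center A) ∣ 2 ^ 3 := hAcard ▸ Subgroup.card_subgroup_dvd_card (center A)
    exact (Nat.dvd_prime_pow Nat.prime_two).mp h1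
  have he2 : 2 ≤ e := by
    by_contra hlt
    have he01 : e = 0 ∨ e = 1 := by omega
    rcases he01 with rfl | rfl
    · rw [pow_zero, Subgroup.card_eq_one] at he
      have : (⟨x, hxA⟩ : A) ∈ (⊥ : Subgroup A) := he ▸ hxcen
      rw [mem_bot] at this
      exact hx1 (congrArg Subtype.val this)
    · rw [pow_one] at he
      have := eq_of_card_eq_two he ⟨⟨x, hxA⟩, hxcen⟩ ⟨⟨z, hzA⟩, hzcen⟩
        (fun h => hx1 (congrArg (fun t : center A => (t.1.1 : Q)) h))
        (fun h => hz1 (congrArg (fun t : center A => (t.1.1 : Q)) h))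
      exact hxz (congrArg (fun t : center A => (t.1.1 : Q)) this)
  have hquot : Nat.card (A ⧸ center A) = 2 ^ (3 - e) := by
    have h1 := Subgroup.card_eq_card_quotient_mul_card_subgroup (center A)
    rw [hAcard, he] at h1
    have h2 : 2 ^ 3 = 2 ^ (3 - e) * 2 ^ e := by rw [← pow_add]; congr 1; omega
    rw [h2] at h1
    exact (Nat.eq_of_mul_eq_mul_right (by positivity) h1).symm
  have hcyc : IsCyclic (A ⧸ center A) := by
    have he23 : e = 2 ∨ e = 3 := by omega
    rcases he23 with rfl | rfl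
    · exact isCyclic_of_prime_card (p := 2) (by simpa using hquot)
    · have h1 : Nat.card (A ⧸ center A) = 1 := by simpa using hquot
      have : Subsingleton (A ⧸ center A) := (Nat.card_eq_one_iff_unique.mp h1).1
      exact isCyclic_of_subsingleton
  have hAcomm : IsMulCommutative A :=
    MonoidHom.isMulCommutative_of_isCyclic_of_ker_le_center (QuotientGroup.mk' (center A))
      (by rw [QuotientGroup.ker_mk'])
  intro a ha b hb
  have := mul_comm' (⟨a, ha⟩ : A) ⟨b, hb⟩
  exact congrArg Subtype.val this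

end Cfsg.Agent.Helper65.TwoCount
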