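import Cfsg.Agent.Helper65.TwoCount4

/-!
# The number of maximal subgroups of maximal class of a 2-group is even
-/

set_option autoImplicit false

namespace Cfsg.Agent.Helper65.TwoCount

open Subgroup
open Cfsg.Agent.Helper70.PCount
open scoped Classical
open scoped commutatorElement

universe u

section pieces
variable {Q : Type u} [Group Q] [Finite Q]

/-- the commutator subgroup of a maximal subgroup `H` with `|H : H'| = 4` is cyclic. -/
theorem exists_generator_commutator (m : ℕ) (hQ : Nat.card Q = 2 ^ (m + 4)) (H : Subgroup Q)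
    (hH : H.index = 2) (hidx : (commutator H).index = 4) :
    ∃ g : Q, zpowers g = ⁅H, H⁆ ∧ orderOf g = 2 ^ (m + 1) := by
  have : Fact (Nat.Prime 2) := ⟨Nat.prime_two⟩
  have hHcard : Nat.card H = 2 ^ (m + 3) := by
    have := (card_eq_of_index_eq hQ H hH).1
    simpa using this
  have hHp : IsPGroup 2 H := IsPGroup.of_card hHcard
  obtain ⟨C₁, hC₁c, hC₁i⟩ := Cfsg.Agent.Helper2.exists_cyclic_index_two (m + 3) H hHcard hidx
  have hle : commutator H ≤ C₁ := commutator_le_of_index_eq hHp C₁ hC₁i
  have hcyc : IsCyclic (commutator H) := Subgroup.isCyclic_of_le hle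
  obtain ⟨g', hg'⟩ := (Subgroup.isCyclic_iff_exists_zpowers_eq_top (commutator H)).mp hcyc
  have hcard : Nat.card (commutator H) = 2 ^ (m + 1) := by
    have h1 := (commutator H).card_mul_index
    rw [hidx, hHcard] at h1
    have e : 2 ^ (m + 3) = 2 ^ (m + 1) * 4 := by ring
    rw [e] at h1
    exact Nat.eq_of_mul_eq_mul_right (by norm_num) h1
  refine ⟨(g' : Q), ?_, ?_⟩
  · rw [← map_subtype_commutator, ← hg', MonoidHom.map_zpowers]
    rfl
  · rw [Subgroup.orderOf_coe, ← Nat.card_zpowers, hg', hcard]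

/-- the subgroup of squares of a cyclic normal subgroup is normal. -/
theorem zpowers_sq_normal (g : Q) (hn : (zpowers g).Normal) : (zpowers (g ^ 2)).Normal := by
  constructor
  intro n hn' q
  obtain ⟨i, rfl⟩ := mem_zpowers_iff.mp hn'
  have h1 : q * g * q⁻¹ ∈ zpowers g := hn.conj_mem g (mem_zpowers g) q
  obtain ⟨j, hj⟩ := mem_zpowers_iff.mp h1
  have h2 : q * (g ^ 2) ^ i * q⁻¹ = ((q * g * q⁻¹) ^ 2) ^ i := by
    rw [conj_pow, conj_zpow]
  rw [h2, ← hj]
  have h3 : ((g ^ j) ^ 2) ^ i = (g ^ 2) ^ (j * i) := by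
    rw [← zpow_natCast, ← zpow_mul, ← zpow_mul, ← zpow_natCast, ← zpow_mul]
    congr 1
    push_cast
    ring
  rw [h3]
  exact zpow_mem (mem_zpowers _) _

/-- for a maximal subgroup `M`: `|M : M'| = 4` iff `M'` is not inside the squares of the cyclic
normal subgroup `K = ⟨g⟩` of index 8. -/
theorem comm_index_iff (m : ℕ) (hQ : Nat.card Q = 2 ^ (m + 4)) (g : Q)
    (hgo : orderOf g = 2 ^ (m + 1)) (hKn : (zpowers g).Normal) (hK : zpowers g ≤ commutator Q)
    (M : Subgroup Q) (hM : M.index = 2) :
    ⁅M, M⁆ ≤ zpowers g ∧ ((commutator M).index = 4 ↔ ¬ ⁅M, M⁆ ≤ zpowers (g ^ 2)) := by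
  have : Fact (Nat.Prime 2) := ⟨Nat.prime_two⟩
  have hQp : IsPGroup 2 Q := IsPGroup.of_card hQ
  have hMcard : Nat.card M = 2 ^ (m + 3) := by
    have := (card_eq_of_index_eq hQ M hM).1
    simpa using this
  have hKcard : Nat.card (zpowers g) = 2 ^ (m + 1) := by rw [Nat.card_zpowers, hgo]
  have hKM : zpowers g ≤ M := hK.trans (commutator_le_of_index_eq hQp M hM)
  have hKi : (zpowers g).index = 8 := by
    have h1 := (zpowers g).card_mul_index
    rw [hKcard, hQ] at h1
    have e : 2 ^ (m + 4) = 2 ^ (m + 1) * 8 := by ring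
    rw [e] at h1
    exact Nat.eq_of_mul_eq_mul_left (by positivity) h1
  have hrel : ((zpowers g).subgroupOf M).index = 2 ^ 2 := by
    have := Subgroup.relIndex_mul_index hKM
    rw [hM, hKi] at this
    show (zpowers g).relIndex M = 2 ^ 2
    omega
  have hsubn : ((zpowers g).subgroupOf M).Normal := hKn.subgroupOf M
  have hqc : IsMulCommutative (M ⧸ (zpowers g).subgroupOf M) :=
    IsPGroup.isMulCommutative_of_card_eq_prime_sq (p := 2) (by rw [← Subgroup.index_eq_card, hrel])
  have hle : ⁅M, M⁆ ≤ zpowers g := by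
    rw [Subgroup.commutator_le]
    intro a ha b hb
    have h1 : (QuotientGroup.mk' ((zpowers g).subgroupOf M)) ⁅(⟨a, ha⟩ : M), ⟨b, hb⟩⁆ = 1 := by
      rw [map_commutatorElement, commutatorElement_eq_one_iff_commute]
      exact mul_comm' _ _
    rw [QuotientGroup.mk'_apply, QuotientGroup.eq_one_iff, mem_subgroupOf] at h1
    exact h1
  refine ⟨hle, ?_⟩
  have hcc : Nat.card (⁅M, M⁆ : Subgroup Q) = Nat.card (commutator M) := by
    rw [← map_subtype_commutator]
    exact Subgroup.card_map_of_injective M.subtype_injective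
  have hRcard : Nat.card (zpowers (g ^ 2)) = 2 ^ m := by
    rw [Nat.card_zpowers, orderOf_pow_of_dvd (by norm_num) (by rw [hgo]; exact dvd_pow_self 2 (by omega)),
      hgo, pow_succ]
    simp
  constructor
  · intro hidx hR
    have h1 := (commutator M).card_mul_index
    rw [hidx, hMcard] at h1
    have e : 2 ^ (m + 3) = 2 ^ (m + 1) * 4 := by ring
    rw [e] at h1
    have h2 : Nat.card (commutator M) = 2 ^ (m + 1) := Nat.eq_of_mul_eq_mul_right (by norm_num) h1
    have h3 := Subgroup.card_le_of_le hR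
    rw [hcc, h2, hRcard] at h3
    have : 2 ^ m < 2 ^ (m + 1) := Nat.pow_lt_pow_right (by norm_num) (by omega)
    omega
  · intro hR
    obtain ⟨u, hu, huR⟩ := SetLike.not_le_iff_exists.mp hR
    have huK := hle hu
    obtain ⟨i, hi⟩ := Cfsg.Agent.Helper73.exists_pow_eq_of_mem_zpowers (by rw [hgo]; positivity) huK
    have hodd : i % 2 = 1 := by
      by_contra hcon
      obtain ⟨t, ht⟩ : ∃ t, i = 2 * t := ⟨i / 2, by omega⟩
      apply huR
      rw [hi, ht, pow_mul]
      exact pow_mem (mem_zpowers _) t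
    have hcop : (orderOf g).Coprime i := by
      rw [hgo]
      apply Nat.Coprime.pow_left
      rw [Nat.coprime_two_left, Nat.odd_iff]
      exact hodd
    have huo : orderOf u = 2 ^ (m + 1) := by rw [hi, hcop.orderOf_pow, hgo]
    have h1 : 2 ^ (m + 1) ∣ Nat.card (commutator M) := by
      rw [← hcc, ← huo]
      exact Subgroup.orderOf_dvd_natCard _ hu
    have h2 : Nat.card (commutator M) ∣ 2 ^ (m + 1) := by
      rw [← hcc, ← hKcard]
      exact Subgroup.card_dvd_of_le hle
    have h3 := Nat.dvd_antisymm h2 h1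
    have h4 := (commutator M).card_mul_index
    rw [h3, hMcard] at h4
    have e : 2 ^ (m + 3) = 2 ^ (m + 1) * 4 := by ring
    rw [e] at h4
    exact Nat.eq_of_mul_eq_mul_left (by positivity) h4

theorem four_dvd_index_commutator (hQp : IsPGroup 2 Q) (hnc : ¬ IsCyclic Q) :
    4 ∣ (commutator Q).index := by
  have : Fact (Nat.Prime 2) := ⟨Nat.prime_two⟩
  have h2 : ∃ M M' : Subgroup Q, M.index = 2 ∧ M'.index = 2 ∧ M ≠ M' := by
    by_contra hcon
    push Not at hcon
    exact hnc (isCyclic_of_gam1_subsingleton hQp (fun M M' h h' => hcon M M' h h'))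
  obtain ⟨M, M', hM, hM', hne⟩ := h2
  have h3 : commutator Q ≤ M ⊓ M' :=
    le_inf (commutator_le_of_index_eq hQp M hM) (commutator_le_of_index_eq hQp M' hM')
  have := Subgroup.index_dvd_of_le h3
  rwa [index_inf_of_ne hQp M M' hM hM' hne] at this

/-- commutativity of the image in a quotient. -/
theorem subComm_map_iff (R : Subgroup Q) [R.Normal] (M : Subgroup Q) :
    SubComm (M.map (QuotientGroup.mk' R)) ↔ ⁅M, M⁆ ≤ R := by
  constructor
  · intro h
    rw [Subgroup.commutator_le]
    intro a ha b hb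
    have h1 := h _ (mem_map_of_mem _ ha) _ (mem_map_of_mem _ hb)
    have h2 : (QuotientGroup.mk' R) ⁅a, b⁆ = 1 := by
      rw [map_commutatorElement, commutatorElement_eq_one_iff_commute]
      exact h1
    rwa [QuotientGroup.mk'_apply, QuotientGroup.eq_one_iff] at h2
  · intro h a' ha' b' hb'
    obtain ⟨a, ha, rfl⟩ := mem_map.mp ha'
    obtain ⟨b, hb, rfl⟩ := mem_map.mp hb'
    have h1 : ⁅a, b⁆ ∈ R := h (Subgroup.commutator_mem_commutator ha hb)
    have h2 : (QuotientGroup.mk' R) ⁅a, b⁆ = 1 := by
      rwa [QuotientGroup.mk'_apply, QuotientGroup.eq_one_iff]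
    rw [map_commutatorElement, commutatorElement_eq_one_iff_commute] at h2
    exact h2

end pieces

/-- **(ii)** in a noncyclic group of order `2 ^ n`, `n ≥ 4`, the number of maximal subgroups `M` with
`|M : M'| = 4` is even. -/
theorem even_card_maxClass_max {Q : Type u} [Group Q] [Finite Q] (n : ℕ) (hn : 4 ≤ n)
    (hQ : Nat.card Q = 2 ^ n) (hnc : ¬ IsCyclic Q) :
    Even ((gam1 Q 2).filter (fun M : Subgroup Q => (commutator M).index = 4)).card := by
  have : Fact (Nat.Prime 2) := ⟨Nat.prime_two⟩
  obtain ⟨m, rfl⟩ : ∃ m, n = m + 4 := ⟨n - 4, by omega⟩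
  have hQp : IsPGroup 2 Q := IsPGroup.of_card hQ
  by_cases hex : ∃ H ∈ gam1 Q 2, (commutator H).index = 4
  swap
  · push Not at hex
    have hempty : (gam1 Q 2).filter (fun M : Subgroup Q => (commutator M).index = 4) = ∅ := by
      rw [Finset.filter_eq_empty_iff]
      exact hex
    rw [hempty, Finset.card_empty]
    exact Even.zero
  obtain ⟨H, hH, hHidx⟩ := hex
  rw [mem_gam1] at hH
  obtain ⟨g, hgK, hgo⟩ := exists_generator_commutator m hQ H hH hHidx
  have hHn : H.Normal := normal_of_index_eq_two hH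
  have hKn : (zpowers g).Normal := by rw [hgK]; infer_instance
  have hK : zpowers g ≤ commutator Q := by
    rw [hgK, _root_.commutator_def]; exact Subgroup.commutator_mono le_top le_top
  have hRn : (zpowers (g ^ 2)).Normal := zpowers_sq_normal g hKn
  have hRK : zpowers (g ^ 2) ≤ zpowers g := zpowers_le.mpr (pow_mem (mem_zpowers g) 2)
  have hπ : Function.Surjective (QuotientGroup.mk' (zpowers (g ^ 2))) :=
    QuotientGroup.mk'_surjective _
  have hker : (QuotientGroup.mk' (zpowers (g ^ 2))).ker = zpowers (g ^ 2) := QuotientGroup.ker_mk' _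
  have hRM : ∀ M : Subgroup Q, M.index = 2 → zpowers (g ^ 2) ≤ M := fun M hM =>
    hRK.trans (hK.trans (commutator_le_of_index_eq hQp M hM))
  have hRcard : Nat.card (zpowers (g ^ 2)) = 2 ^ m := by
    rw [Nat.card_zpowers, orderOf_pow_of_dvd (by norm_num) (by rw [hgo]; exact dvd_pow_self 2 (by omega)),
      hgo, pow_succ]
    simp
  have hcardq : Nat.card (Q ⧸ zpowers (g ^ 2)) = 2 ^ 4 := by
    have h1 := Subgroup.card_eq_card_quotient_mul_card_subgroup (zpowers (g ^ 2))
    rw [hQ, hRcard] at h1
    have e : 2 ^ (m + 4) = 2 ^ 4 * 2 ^ m := by ring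
    rw [e] at h1
    exact (Nat.eq_of_mul_eq_mul_right (by positivity) h1).symm
  have hfil : (gam1 Q 2).filter (fun M : Subgroup Q => (commutator M).index = 4) =
      (gam1 Q 2).filter (fun M : Subgroup Q =>
        ¬ SubComm (M.map (QuotientGroup.mk' (zpowers (g ^ 2))))) := by
    apply Finset.filter_congr
    intro M hM
    rw [mem_gam1] at hM
    rw [subComm_map_iff]
    exact (comm_index_iff m hQ g hgo hKn hK M hM).2
  have hbij : ((gam1 Q 2).filter (fun M : Subgroup Q =>
        ¬ SubComm (M.map (QuotientGroup.mk' (zpowers (g ^ 2)))))).card =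
      ((gam1 (Q ⧸ zpowers (g ^ 2)) 2).filter (fun N => ¬ SubComm N)).card := by
    apply Finset.card_bij (fun M _ => M.map (QuotientGroup.mk' (zpowers (g ^ 2))))
    · intro M hM
      rw [Finset.mem_filter, mem_gam1] at hM ⊢
      refine ⟨?_, hM.2⟩
      rw [Subgroup.index_map_eq M hπ (hker.le.trans (hRM M hM.1))]
      exact hM.1
    · intro M hM M' hM' heq
      rw [Finset.mem_filter, mem_gam1] at hM hM'
      have h1 := congrArg (Subgroup.comap (QuotientGroup.mk' (zpowers (g ^ 2)))) heq
      rw [Subgroup.comap_map_eq, Subgroup.comap_map_eq, hker, sup_of_le_left (hRM M hM.1),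
        sup_of_le_left (hRM M' hM'.1)] at h1
      exact h1
    · intro N hN
      rw [Finset.mem_filter, mem_gam1] at hN
      refine ⟨N.comap (QuotientGroup.mk' (zpowers (g ^ 2))), ?_, ?_⟩
      · rw [Finset.mem_filter, mem_gam1, Subgroup.index_comap_of_surjective _ hπ,
          Subgroup.map_comap_eq_self_of_surjective hπ]
        exact hN
      · exact Subgroup.map_comap_eq_self_of_surjective hπ N
  rw [hfil, hbij]
  have hqp : IsPGroup 2 (Q ⧸ zpowers (g ^ 2)) := IsPGroup.of_card hcardq
  have hHR : ¬ ⁅H, H⁆ ≤ zpowers (g ^ 2) := (comm_index_iff m hQ g hgo hKn hK H hH).2.mp hHidx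
  have hna : ¬ ∀ a b : Q ⧸ zpowers (g ^ 2), a * b = b * a := by
    intro hcomm
    apply hHR
    rw [← subComm_map_iff]
    intro a _ b _
    exact hcomm a b
  -- an abelian maximal subgroup of the quotient
  obtain ⟨A, hA, hAc⟩ : ∃ A : Subgroup (Q ⧸ zpowers (g ^ 2)), A.index = 2 ∧ SubComm A := by
    by_cases hidx : (commutator Q).index = 4
    · obtain ⟨C, hCc, hC⟩ := Cfsg.Agent.Helper2.exists_cyclic_index_two (m + 4) Q hQ hidx
      refine ⟨C.map (QuotientGroup.mk' (zpowers (g ^ 2))), ?_, ?_⟩
      · rw [Subgroup.index_map_eq C hπ (hker.le.trans (hRM C hC))]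
        exact hC
      · rw [subComm_map_iff]
        rw [Subgroup.commutator_le]
        intro a ha b hb
        obtain ⟨c, hc⟩ := (Subgroup.isCyclic_iff_exists_zpowers_eq_top C).mp hCc
        rw [← hc] at ha hb
        obtain ⟨i, rfl⟩ := mem_zpowers_iff.mp ha
        obtain ⟨j, rfl⟩ := mem_zpowers_iff.mp hb
        have : ⁅c ^ i, c ^ j⁆ = 1 := by
          rw [commutatorElement_eq_one_iff_commute]
          exact (Commute.refl c).zpow_zpow i j
        rw [this]
        exact one_mem _
    · -- the commutator subgroup of `Q` is `⟨g⟩`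
      have hKcard : Nat.card (zpowers g) = 2 ^ (m + 1) := by rw [Nat.card_zpowers, hgo]
      have hKi : (zpowers g).index = 8 := by
        have h1 := (zpowers g).card_mul_index
        rw [hKcard, hQ] at h1
        have e : 2 ^ (m + 4) = 2 ^ (m + 1) * 8 := by ring
        rw [e] at h1
        exact Nat.eq_of_mul_eq_mul_left (by positivity) h1
      have h4 := four_dvd_index_commutator hQp hnc
      have h8 := Subgroup.index_dvd_of_le hK
      rw [hKi] at h8
      have hci : (commutator Q).index = 8 := by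
        obtain ⟨v, hv⟩ := h4
        obtain ⟨w, hw⟩ := h8
        rw [hv] at hw hidx ⊢
        have : v = 1 ∨ v = 2 := by
          rcases Nat.eq_zero_or_pos w with rfl | hwpos
          · omega
          · have h5 : v * w = 2 := by nlinarith
            have h6 : v ∣ 2 := ⟨w, h5.symm⟩
            have h7 := Nat.le_of_dvd (by norm_num) h6
            rcases Nat.eq_zero_or_pos v with rfl | hvpos
            · omega
            · omega
        rcases this with rfl | rfl
        · exact absurd rfl hidx
        · rfl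
      have hKeq : zpowers g = commutator Q := by
        apply Subgroup.eq_of_le_of_card_ge hK
        have h1 := (commutator Q).card_mul_index
        rw [hci, hQ] at h1
        have e : 2 ^ (m + 4) = 2 ^ (m + 1) * 8 := by ring
        rw [e] at h1
        rw [hKcard, Nat.eq_of_mul_eq_mul_right (by norm_num) h1]
      have hcq : commutator (Q ⧸ zpowers (g ^ 2)) =
          (zpowers g).map (QuotientGroup.mk' (zpowers (g ^ 2))) := by
        rw [hKeq, _root_.commutator_def, _root_.commutator_def, Subgroup.map_commutator,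
          Subgroup.map_top_of_surjective _ hπ]
      have hc2 : Nat.card (commutator (Q ⧸ zpowers (g ^ 2))) = 2 := by
        rw [hcq]
        have h1 := ((zpowers g).map (QuotientGroup.mk' (zpowers (g ^ 2)))).card_mul_index
        rw [Subgroup.index_map_eq _ hπ (hker.le.trans hRK), hKi, hcardq] at h1
        omega
      exact exists_abelian_max_of_card_commutator hcardq hc2
  exact even_card_nonabelian_max hqp hna A hA hAc


end Cfsg.Agent.Helper65.TwoCount
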