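import Cfsg.Agent.Helper65.TwoCount5

/-!
# Counting subgroups of a 2-group modulo 4 (Berkovich)
-/

set_option autoImplicit false

namespace Cfsg.Agent.Helper65.TwoCount

open Subgroup
open Cfsg.Agent.Helper70.PCount
open scoped Classical

universe u

/-- In a noncyclic group `Q` of order `2 ^ n`, the number of subgroups of order `2 ^ a`
(`1 ≤ a < n`) is `≡ 3 mod 4` if `|Q : Q'| ≠ 4` (or `a = n - 1`), and `≡ 1 mod 4` if
`|Q : Q'| = 4` and `a ≤ n - 2`. -/
theorem two_count : ∀ (n : ℕ) (Q : Type u) [Group Q] [Finite Q], Nat.card Q = 2 ^ n →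
    ¬ IsCyclic Q → ∀ a : ℕ, 1 ≤ a → a + 1 ≤ n →
      ((a + 1 = n ∨ (commutator Q).index ≠ 4) →
        (subsOfCard (2 ^ a) (⊤ : Subgroup Q)).card % 4 = 3) ∧
      ((commutator Q).index = 4 → a + 2 ≤ n →
        (subsOfCard (2 ^ a) (⊤ : Subgroup Q)).card % 4 = 1) := by
  have hp : Fact (Nat.Prime 2) := ⟨Nat.prime_two⟩
  intro n
  induction n using Nat.strong_induction_on with
  | _ n ih =>
  intro Q _ _ hn hnc a ha han
  have hQ : IsPGroup 2 Q := IsPGroup.of_card hn
  have hg1 : (gam1 Q 2).card % 4 = 3 := card_gam1_modEq hQ hnc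
  rcases Nat.eq_or_lt_of_le han with hcase | hcase
  · -- a = n - 1
    have : subsOfCard (2 ^ a) (⊤ : Subgroup Q) = gam1 Q 2 := by
      ext H
      rw [mem_subsOfCard, mem_gam1]
      have h1 := Subgroup.card_mul_index H
      rw [hn, ← hcase, pow_succ] at h1
      constructor
      · rintro ⟨h, -⟩
        rw [h] at h1
        exact Nat.eq_of_mul_eq_mul_left (by positivity) h1
      · intro h
        rw [h] at h1
        exact ⟨Nat.eq_of_mul_eq_mul_right (by norm_num) h1, le_top⟩
    rw [this]
    exact ⟨fun _ => hg1, fun _ h => by omega⟩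
  · -- a ≤ n - 2
    have hne : 2 ^ a ≠ Nat.card Q := by
      rw [hn]
      intro h
      have := Nat.pow_right_injective (le_refl 2) h
      omega
    have henum := enumeration hQ (2 ^ a) hne
    -- the gam2 part
    have hT : 2 * ∑ T ∈ gam2 Q 2, (subsOfCard (2 ^ a) T).card ≡ 2 [MOD 2 ^ 2] := by
      have h1 : ∑ T ∈ gam2 Q 2, (subsOfCard (2 ^ a) T).card ≡ ∑ _T ∈ gam2 Q 2, 1 [MOD 2] := by
        apply sum_modEq
        intro T hT
        rw [mem_gam2_iff hQ] at hT
        apply card_subsOfCard_modEq_one
        have h2 := Subgroup.card_mul_index T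
        rw [hT.2, hn] at h2
        have h3 : 2 ^ n = 2 ^ (n - 2) * 2 ^ 2 := by rw [← pow_add]; congr 1; omega
        rw [h3] at h2
        rw [Nat.eq_of_mul_eq_mul_right (by norm_num) h2]
        exact pow_dvd_pow 2 (by omega)
      rw [Finset.sum_const, smul_eq_mul, mul_one] at h1
      have h2 := h1.trans (card_gam2_modEq_one hQ hnc)
      have h3 := Nat.ModEq.mul_left' 2 h2
      rw [mul_one, ← sq] at h3
      exact h3
    -- the gam1 part
    have hMcard : ∀ M ∈ gam1 Q 2, Nat.card M = 2 ^ (n - 1) := by
      intro M hM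
      rw [mem_gam1] at hM
      exact (card_eq_of_index_eq hn M hM).1
    let bad : Subgroup Q → Prop := fun M => IsCyclic M ∨ ((commutator M).index = 4 ∧ a + 3 ≤ n)
    have hval : ∀ M ∈ gam1 Q 2, (subsOfCard (2 ^ a) M).card % 4 = if bad M then 1 else 3 := by
      intro M hM
      rw [card_subsOfCard_eq]
      by_cases hcyc : IsCyclic M
      · rw [if_pos (Or.inl hcyc)]
        have : (subsOfCard (2 ^ a) (⊤ : Subgroup M)).card = 1 := by
          apply card_subsOfCard_of_isCyclic
          rw [hMcard M hM]
          exact pow_dvd_pow 2 (by omega)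
        rw [this]
      · have hih := ih (n - 1) (by omega) M (hMcard M hM) hcyc a ha (by omega)
        by_cases hidx : (commutator M).index = 4
        · by_cases ha3 : a + 3 ≤ n
          · rw [if_pos (Or.inr ⟨hidx, ha3⟩)]
            exact hih.2 hidx (by omega)
          · rw [if_neg (by rintro (h | ⟨-, h⟩); exacts [hcyc h, ha3 h])]
            exact hih.1 (Or.inl (by omega))
        · rw [if_neg (by rintro (h | ⟨h, -⟩); exacts [hcyc h, hidx h])]
          exact hih.1 (Or.inr hidx)
    -- the sum over gam1 modulo 4
    have hsum : (∑ M ∈ gam1 Q 2, (subsOfCard (2 ^ a) M).card) % 4 =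
        (((gam1 Q 2).filter bad).card + 3 * ((gam1 Q 2).filter (fun M => ¬ bad M)).card) % 4 := by
      rw [Finset.sum_nat_mod, Finset.sum_congr rfl hval, Finset.sum_ite, Finset.sum_const,
        Finset.sum_const, smul_eq_mul, smul_eq_mul, mul_one, mul_comm _ 3]
    have hcards := Finset.card_filter_add_card_filter_not (s := gam1 Q 2) bad
    -- parity of the number of bad maximal subgroups
    have hn3 : 3 ≤ n := by omega
    have hi := odd_card_cyclic_max_iff n hn3 hn hnc
    have hB : ((gam1 Q 2).filter bad).card % 2 = 1 ↔ (commutator Q).index = 4 := by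
      rw [← hi, Nat.odd_iff]
      by_cases ha3 : a + 3 ≤ n
      · have hii := even_card_maxClass_max n (by omega) hn hnc
        have hunion : (gam1 Q 2).filter bad =
            (gam1 Q 2).filter (fun M : Subgroup Q => IsCyclic M) ∪
              (gam1 Q 2).filter (fun M : Subgroup Q => (commutator M).index = 4) := by
          ext M
          simp only [Finset.mem_filter, Finset.mem_union, bad]
          tauto
        have hdisj : Disjoint ((gam1 Q 2).filter (fun M : Subgroup Q => IsCyclic M))
            ((gam1 Q 2).filter (fun M : Subgroup Q => (commutator M).index = 4)) := by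
          rw [Finset.disjoint_filter]
          intro M hM hcyc hidx
          -- a cyclic group of order ≥ 8 has trivial commutator subgroup
          have hcomm : commutator M = ⊥ := by
            rw [_root_.commutator_def, Subgroup.commutator_eq_bot_iff_le_centralizer]
            intro x _
            rw [mem_centralizer_iff]
            intro y _
            obtain ⟨g, hg⟩ := hcyc.exists_generator
            obtain ⟨i, rfl⟩ := mem_zpowers_iff.mp (hg x)
            obtain ⟨j, rfl⟩ := mem_zpowers_iff.mp (hg y)
            rw [← zpow_add, ← zpow_add, add_comm]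
          rw [hcomm, index_bot, hMcard M hM] at hidx
          have h8 : 2 ^ 3 ≤ 2 ^ (n - 1) := Nat.pow_le_pow_right (by norm_num) (by omega)
          omega
        rw [hunion, Finset.card_union_of_disjoint hdisj]
        rw [Nat.even_iff] at hii
        omega
      · have : (gam1 Q 2).filter bad = (gam1 Q 2).filter (fun M : Subgroup Q => IsCyclic M) := by
          apply Finset.filter_congr
          intro M _
          simp only [bad]
          constructor
          · rintro (h | ⟨-, h⟩)
            · exact h
            · exact absurd h ha3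
          · intro h; exact Or.inl h
        rw [this]
    have e1 : (∑ M ∈ gam1 Q 2, (subsOfCard (2 ^ a) M).card) % 4 =
        ((subsOfCard (2 ^ a) (⊤ : Subgroup Q)).card +
          2 * ∑ T ∈ gam2 Q 2, (subsOfCard (2 ^ a) T).card) % 4 := henum
    have e2 : (2 * ∑ T ∈ gam2 Q 2, (subsOfCard (2 ^ a) T).card) % 4 = 2 % 4 := hT
    constructor
    · rintro (h | h)
      · omega
      · have hB' : ((gam1 Q 2).filter bad).card % 2 ≠ 1 := fun h' => h (hB.mp h')
        omega
    · intro h _
      have hB' : ((gam1 Q 2).filter bad).card % 2 = 1 := hB.mpr h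
      omega

end Cfsg.Agent.Helper65.TwoCount
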