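import Cfsg.Agent.Helper56.U35.Defs

set_option autoImplicit false

/-!
# S2149 (helper56's U35 farm), piece (KER) by helper65: the kernel of an action that kills the centre of a group with
simple central quotient.
-/

namespace Cfsg.Agent.Helper65.U35

open MulAction Cfsg.Agent.Helper56.U35

variable {G : Type*} [Group G] {Ω : Type*} [MulAction G Ω]

/-- (KER) the kernel of an action that kills the centre of a group with simple central quotient -/
theorem ker_eq_center {S : Type*} [Group S] {Ω' : Type*} (θ : S →* Equiv.Perm Ω')
    (hsimple : IsSimpleGroup (S ⧸ Subgroup.center S)) (hcen : Subgroup.center S ≤ θ.ker)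
    (hnontriv : ∃ g : S, θ g ≠ 1) : θ.ker = Subgroup.center S := by
  have hn : (θ.ker.map (QuotientGroup.mk' (Subgroup.center S))).Normal :=
    Subgroup.Normal.map inferInstance _ (QuotientGroup.mk'_surjective _)
  rcases hsimple.eq_bot_or_eq_top_of_normal _ hn with h | h
  · apply le_antisymm _ hcen
    have h1 := (Subgroup.map_eq_bot_iff _).mp h
    rwa [QuotientGroup.ker_mk'] at h1
  · exfalso
    obtain ⟨g, hg⟩ := hnontriv
    apply hg
    have h2 : (θ.ker.map (QuotientGroup.mk' (Subgroup.center S))).comap
        (QuotientGroup.mk' (Subgroup.center S)) = ⊤ := by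
      rw [h]; exact Subgroup.comap_top _
    rw [Subgroup.comap_map_eq, QuotientGroup.ker_mk', sup_eq_left.mpr hcen] at h2
    have h3 : g ∈ θ.ker := by rw [h2]; exact Subgroup.mem_top g
    exact MonoidHom.mem_ker.mp h3

end Cfsg.Agent.Helper65.U35
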