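import Mathlib
import Cfsg.Agent.Helper88.U3O.Defs

set_option autoImplicit false

/-!
# S2786 (helper88's U3O farm), leaf (ISO) by helper65: a non-zero isotropic vector of the standard hermitian form.
-/

namespace Cfsg.Agent.Helper65.U3O

open Matrix Polynomial Cfsg.Agent.Helper84.RU3 Cfsg.Agent.Helper86.RU3 Cfsg.Agent.Helper45.GU
  Cfsg.Agent.S2587 Cfsg.Agent.Helper38.Cov2 Cfsg.Agent.Helper97.U3E Cfsg.Agent.Helper88.U3O

variable {F : Type*} [Field F]

/-- (ISO) a non-zero isotropic vector of the standard hermitian form (any `q`). -/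
theorem exists_isotropic [Fintype F] (q : ℕ) (hF : Fintype.card F = q ^ 2)
    (bar : F →+* F) (hbar : ∀ x, bar x = x ^ q) :
    ∃ w : Fin 3 → F, w ≠ 0 ∧ herm bar w w = 0 := by
  obtain ⟨η, hη⟩ := norm_surj' hF bar hbar (-1) (by rw [map_neg, map_one])
  refine ⟨![1, η, 0], ?_, ?_⟩
  · intro h
    have h0 := congrFun h 0
    simp at h0
  · unfold herm
    rw [Fin.sum_univ_three]
    simp only [Matrix.cons_val_zero, Matrix.cons_val_one, Matrix.cons_val_two, Matrix.head_cons,
      Matrix.tail_cons, map_one, map_zero, mul_one, mul_zero, add_zero]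
    rw [hη]
    ring

end Cfsg.Agent.Helper65.U3O
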