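import Mathlib
import Cfsg.Agent.Helper88.U3O.Defs
import Cfsg.Agent.Helper13.UnitaryLines

set_option autoImplicit false

/-!
# S2786 (helper88's U3O farm), leaf (UC) by helper65: the upper unitriangular subgroup of the hyperbolic model of
`SU₃(q)` has `q³` elements.
-/

namespace Cfsg.Agent.Helper65.U3O

open Matrix Polynomial Cfsg.Agent.Helper84.RU3 Cfsg.Agent.Helper86.RU3 Cfsg.Agent.Helper45.GU
  Cfsg.Agent.S2587 Cfsg.Agent.Helper38.Cov2 Cfsg.Agent.Helper97.U3E Cfsg.Agent.Helper88.U3O

variable {F : Type*} [Field F]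

/-- the entries of `uM` -/
theorem UC_uM_entries (bar : F →+* F) (a b : F) : uM bar a b 1 2 = a ∧ uM bar a b 0 2 = b := by
  constructor <;> simp [uM]

/-- the unitarity condition on `uM a b` -/
theorem UC_cond_of_isUn (bar : F →+* F) (a b : F) (h : IsUn bar (uM bar a b)) :
    b + bar b + a * bar a = 0 := by
  unfold IsUn at h
  have h22 := congrFun (congrFun h 2) 2
  simp [uM, Jm, Matrix.mul_apply, Fin.sum_univ_three] at h22
  linear_combination h22

/-- (UC) the upper unitriangular subgroup of the model has `q³` elements (any `q`). -/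
theorem card_UJ [Fintype F] (q : ℕ) (hF : Fintype.card F = q ^ 2)
    (bar : F →+* F) (hbar : ∀ x, bar x = x ^ q) : Nat.card ↥(UJ bar) = q ^ 3 := by
  classical
  have hb : ∀ x, bar (bar x) = x := by
    intro x
    rw [hbar, hbar]
    exact Cfsg.Agent.Helper13.frob_frob hF x
  -- the parametrisation
  let f : ↥(UJ bar) → {p : F × F // p.2 + bar p.2 + p.1 * bar p.1 = 0} := fun g =>
    ⟨(mt bar g.1 1 2, mt bar g.1 0 2), by
      obtain ⟨a, b, hab⟩ := g.2
      have hun := isUn_mt bar g.1
      rw [hab] at hun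
      have hc := UC_cond_of_isUn bar a b hun
      show mt bar g.1 0 2 + bar (mt bar g.1 0 2) + mt bar g.1 1 2 * bar (mt bar g.1 1 2) = 0
      rw [hab, (UC_uM_entries bar a b).1, (UC_uM_entries bar a b).2]
      exact hc⟩
  have hf : Function.Bijective f := by
    constructor
    · intro g g' hgg'
      obtain ⟨a, b, hab⟩ := g.2
      obtain ⟨a', b', hab'⟩ := g'.2
      have h1 : mt bar g.1 1 2 = mt bar g'.1 1 2 := congrArg (fun p => p.1.1) hgg'
      have h2 : mt bar g.1 0 2 = mt bar g'.1 0 2 := congrArg (fun p => p.1.2) hgg'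
      rw [hab, hab', (UC_uM_entries bar a b).1, (UC_uM_entries bar a' b').1] at h1
      rw [hab, hab', (UC_uM_entries bar a b).2, (UC_uM_entries bar a' b').2] at h2
      apply Subtype.ext
      apply mt_injective bar
      rw [hab, hab', h1, h2]
    · rintro ⟨⟨a, b⟩, h⟩
      refine ⟨⟨uE bar hb a b h, ⟨a, b, rfl⟩⟩, ?_⟩
      apply Subtype.ext
      show (mt bar (uE bar hb a b h) 1 2, mt bar (uE bar hb a b h) 0 2) = (a, b)
      rw [mt_uE, (UC_uM_entries bar a b).1, (UC_uM_entries bar a b).2]
  rw [Nat.card_congr (Equiv.ofBijective f hf)]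
  -- count the pairs
  rw [Nat.card_congr (Equiv.subtypeProdEquivSigmaSubtype
    (fun a b : F => b + bar b + a * bar a = 0))]
  rw [Nat.card_sigma]
  have hfib : ∀ a : F, Nat.card {b : F // b + bar b + a * bar a = 0} = q := by
    intro a
    have hfix : (-(a * bar a)) ^ q = -(a * bar a) := by
      rw [← hbar, map_neg, map_mul, hb, mul_comm]
    have h := Cfsg.Agent.Helper13.card_trace_fiber hF (one_ne_zero (α := F)) hfix
    rw [← h]
    apply Nat.card_congr
    refine Equiv.subtypeEquivRight ?_
    intro t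
    rw [hbar t, one_pow, mul_one, mul_one]
    constructor
    · intro h'
      linear_combination h'
    · intro h'
      linear_combination h'
  rw [Finset.sum_congr rfl (fun a _ => hfib a), Finset.sum_const, Finset.card_univ, hF, smul_eq_mul]
  ring

end Cfsg.Agent.Helper65.U3O
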