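import Mathlib
import Cfsg.Agent.Helper99.UNdDefs
import Cfsg.Agent.Helper43.SSPrime

/-!
# (V2) for helper99 (S5954): the characteristic polynomial when `X ^ r - z` is irreducible
-/

set_option autoImplicit false

namespace Cfsg.Agent.Helper65.UNdV2

open Matrix Polynomial
open Cfsg.Agent.Helper99.UNd
open Cfsg.Agent.Helper43.GUPrime (utilde)

variable {F : Type*} [Field F]

/-- a monic polynomial all of whose monic irreducible factors divide the monic irreducible `h`
is a power of `h` -/
theorem eq_pow_of_forall_factor (h : F[X]) (hh : Irreducible h) (hhm : h.Monic) :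
    ∀ (d : ℕ) (f : F[X]), f.natDegree = d → f.Monic →
      (∀ P : F[X], P.Monic → Irreducible P → P ∣ f → P ∣ h) → ∃ k : ℕ, f = h ^ k := by
  intro d
  induction d using Nat.strong_induction_on with
  | _ d ih =>
    intro f hfd hfm hfac
    by_cases h1 : f = 1
    · exact ⟨0, by rw [h1, pow_zero]⟩
    have hnu : ¬ IsUnit f := fun hu => h1 (hfm.eq_one_of_isUnit hu)
    obtain ⟨P, hPm, hPi, hPf⟩ := Polynomial.exists_monic_irreducible_factor f hnu
    have hPh : P = h :=
      eq_of_monic_of_associated hPm hhm (hPi.associated_of_dvd hh (hfac P hPm hPi hPf))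
    rw [hPh] at hPf
    obtain ⟨g, rfl⟩ := hPf
    have hgm : g.Monic := hhm.of_mul_monic_left hfm
    have hhd : 0 < h.natDegree := hh.natDegree_pos
    have hlt : g.natDegree < d := by
      rw [← hfd, hhm.natDegree_mul hgm]
      omega
    obtain ⟨k, hk⟩ := ih g.natDegree hlt g rfl hgm (fun P hPm hPi hPg =>
      hfac P hPm hPi (hPg.trans (dvd_mul_left g h)))
    exact ⟨k + 1, by rw [hk, pow_succ']⟩

/-- (V2) -/
theorem charpoly_of_irreducible {n r : ℕ} (z : F) (hz : z ≠ 0) (hrF : (r : F) ≠ 0)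
    (hirr : Irreducible (X ^ r - C z : F[X])) (A : Matrix (Fin n) (Fin n) F)
    (hA : A ^ r = z • (1 : Matrix (Fin n) (Fin n) F)) :
    ∃ k : ℕ, n = r * k ∧ A.charpoly = (X ^ r - C z : F[X]) ^ k := by
  have hr0 : r ≠ 0 := by
    rintro rfl
    exact hrF Nat.cast_zero
  have hhm : (X ^ r - C z : F[X]).Monic := monic_X_pow_sub_C z hr0
  have haev : aeval A (X ^ r - C z : F[X]) = 0 := by
    rw [map_sub, map_pow, aeval_X, aeval_C, hA, Algebra.algebraMap_eq_smul_one, sub_self]
  obtain ⟨k, hk⟩ := eq_pow_of_forall_factor (X ^ r - C z : F[X]) hirr hhm _ A.charpoly rfl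
    (Matrix.charpoly_monic A)
    (fun P hPm hPi hP => Cfsg.Agent.Helper43.SS.dvd_of_dvd_charpoly A _ hirr.squarefree haev
      P hPm hPi hP)
  refine ⟨k, ?_, hk⟩
  have h1 := congrArg Polynomial.natDegree hk
  rw [Matrix.charpoly_natDegree_eq_dim, Fintype.card_fin, hhm.natDegree_pow,
    natDegree_X_pow_sub_C] at h1
  rw [h1, mul_comm]

end Cfsg.Agent.Helper65.UNdV2
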