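import Mathlib
import Cfsg.Agent.Helper99.UNdDefs

/-!
# (V6) for helper99 (S5954): monic factors of a power of an irreducible polynomial
-/

set_option autoImplicit false

namespace Cfsg.Agent.Helper65.UNdV6

open Matrix Polynomial
open Cfsg.Agent.Helper99.UNd
open Cfsg.Agent.Helper43.GUPrime (utilde)

variable {F : Type*} [Field F]

/-- (V6) monic factors of a power of an irreducible polynomial -/
theorem natDegree_dvd_of_usplit_pow (bar : F →+* F) (g : F[X]) (hg : Irreducible g)
    (hgm : g.Monic) (k m : ℕ) (h : USplit bar m (g ^ k)) : g.natDegree ∣ m := by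
  obtain ⟨f₁, f₂, hf₁, hf₂, hdeg, -, -, hfac⟩ := h
  have hdvd : f₁ ∣ g ^ k := ⟨f₂, hfac⟩
  obtain ⟨i, -, hass⟩ := (dvd_prime_pow hg.prime k).1 hdvd
  have h1 : f₁ = g ^ i := eq_of_monic_of_associated hf₁ (hgm.pow i) hass
  rw [← hdeg, h1, hgm.natDegree_pow]
  exact dvd_mul_left _ _

end Cfsg.Agent.Helper65.UNdV6
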