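import Cfsg.Agent.Helper39.X648.Defs
import Cfsg.Prelude.Def_Transfer
import Cfsg.Prelude.Def_CaseTheorems

/-!
# S3366 (helper39), piece (A0b): `O_2(X) = 1` in the pointwise form.
-/

set_option autoImplicit false

namespace Cfsg.Agent.Helper65.X648

open Cfsg.Agent.Helper39.X648

section A0
variable {X : Type*} [Group X] [Finite X]

/-- (A0b) -/
theorem base_O2 (hO2 : Cfsg.pCore 2 X = ⊥) :
    ∀ N : Subgroup X, N.Normal → IsPGroup 2 N → N = ⊥ := by
  intro N hN hp
  rw [eq_bot_iff, ← hO2]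
  exact le_sSup ⟨hN, hp⟩

end A0

end Cfsg.Agent.Helper65.X648
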